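import Mathlib
import Groth.Agent.Helper6.HyperUniq

/-!
# Pure algebra for the uniqueness of the hyperelliptic involution
-/

set_option autoImplicit false
set_option linter.unusedSectionVars false
set_option linter.style.haveILetI false
universe u v

open IntermediateField

namespace Groth.Agent.Helper4.SN653

/-- the nontrivial automorphism of a quadratic extension is unique -/
theorem eq_of_fix_of_finrank_two {F K : Type*} [Field F] [Field K] (φ₁ φ₂ : F →+* K)
    (hr : Set.range φ₁ = Set.range φ₂)
    (h2 : @Module.finrank F K _ _ φ₁.toAlgebra.toModule = 2)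
    (s t : K →+* K) (hs : ∀ x, s (φ₁ x) = φ₁ x) (ht : ∀ x, t (φ₂ x) = φ₂ x)
    (hs1 : s ≠ RingHom.id K) (ht1 : t ≠ RingHom.id K) : s = t := by
  letI alg : Algebra F K := φ₁.toAlgebra
  haveI : FiniteDimensional F K := Module.finite_of_finrank_pos (by rw [h2]; norm_num)
  have ht' : ∀ x, t (φ₁ x) = φ₁ x := by
    intro x
    have : φ₁ x ∈ Set.range φ₂ := hr ▸ Set.mem_range_self x
    obtain ⟨x', hx'⟩ := this
    rw [← hx', ht]
  let sA : K →ₐ[F] K := { s with commutes' := hs }
  let tA : K →ₐ[F] K := { t with commutes' := ht' }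
  let sE : K ≃ₐ[F] K := AlgEquiv.ofBijective sA (Algebra.IsAlgebraic.algHom_bijective sA)
  let tE : K ≃ₐ[F] K := AlgEquiv.ofBijective tA (Algebra.IsAlgebraic.algHom_bijective tA)
  have hcard : Fintype.card (K ≃ₐ[F] K) ≤ 2 := by
    have := AlgEquiv.card_le (F := F) (K := K)
    rwa [h2] at this
  by_contra hne
  have h3 : 2 < Fintype.card (K ≃ₐ[F] K) := by
    rw [Fintype.two_lt_card_iff]
    refine ⟨1, sE, tE, ?_, ?_, ?_⟩
    · intro h
      apply hs1
      ext x
      have := congrArg (fun e : K ≃ₐ[F] K => e x) h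
      exact this.symm
    · intro h
      apply ht1
      ext x
      have := congrArg (fun e : K ≃ₐ[F] K => e x) h
      exact this.symm
    · intro h
      apply hne
      ext x
      have := congrArg (fun e : K ≃ₐ[F] K => e x) h
      exact this
  omega

/-- two index-two rational subfields of a function field of genus at least two coincide -/
theorem range_eq_of_finrank_two {k : Type u} {F K : Type v} [Field k] [Field F] [Field K]
    [Algebra k F] [Algebra k K]
    (hK : FunFld.IsFunctionField k K) (hg : 2 ≤ FunFld.genus k K)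
    (Φ : F ≃ₐ[k] RatFunc k) (φ₁ φ₂ : F →ₐ[k] K)
    (h₁ : @Module.finrank F K _ _ φ₁.toRingHom.toAlgebra.toModule = 2)
    (h₂ : @Module.finrank F K _ _ φ₂.toRingHom.toAlgebra.toModule = 2) :
    Set.range φ₁ = Set.range φ₂ := by
  set t : F := Φ.symm RatFunc.X with ht
  have htop : (⊤ : IntermediateField k F) = k⟮t⟯ := by
    have h1 : (⊤ : IntermediateField k (RatFunc k)) = k⟮(RatFunc.X : RatFunc k)⟯ :=
      RatFunc.adjoin_X.symm
    have h2 := congrArg (IntermediateField.map (Φ.symm : RatFunc k →ₐ[k] F)) h1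
    rw [IntermediateField.adjoin_map, Set.image_singleton] at h2
    have h3 : k⟮t⟯ = IntermediateField.map (Φ.symm : RatFunc k →ₐ[k] F) ⊤ := h2.symm
    rw [h3]
    ext x
    simp only [IntermediateField.mem_top, IntermediateField.mem_map, true_and, true_iff]
    exact ⟨Φ x, Φ.symm_apply_apply x⟩
  have hrange : ∀ φ : F →ₐ[k] K, φ.fieldRange = k⟮φ t⟯ := by
    intro φ
    rw [AlgHom.fieldRange_eq_map, htop, IntermediateField.adjoin_map, Set.image_singleton]
  have hfin : ∀ φ : F →ₐ[k] K, @Module.finrank F K _ _ φ.toRingHom.toAlgebra.toModule = 2 →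
      Module.finrank k⟮φ t⟯ K = 2 := by
    intro φ h
    rw [← hrange φ, ← h]
    letI alg : Algebra F K := φ.toRingHom.toAlgebra
    symm
    let i : F ≃+* φ.fieldRange := (AlgEquiv.ofInjectiveField φ).toRingEquiv
    refine Algebra.finrank_eq_of_equiv_equiv i (RingEquiv.refl K) ?_
    ext x
    rfl
  have h := Groth.Agent.Helper6.HyperUniq.adjoin_eq_of_finrank_two hK hg (φ₁ t) (φ₂ t)
    (hfin φ₁ h₁) (hfin φ₂ h₂)
  rw [← hrange φ₁, ← hrange φ₂] at h
  have := congrArg (fun E : IntermediateField k K => (E : Set K)) h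
  simpa using this

end Groth.Agent.Helper4.SN653
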