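import Mathlib
import Groth.Agent.Helper4.SN653
import Groth.Agent.Helper4.SN650
import Groth.Agent.Helper4.SN649
import Groth.Agent.Helper4.SN641
import Groth.Agent.Helper4.SN585
import Groth.Agent.Helper4.SN568
import Groth.Agent.Helper4.SN632
import Groth.Agent.Helper4.SN42

/-!
# Uniqueness of the hyperelliptic involution
-/

set_option autoImplicit false
set_option linter.unusedSectionVars false
set_option linter.style.haveILetI false
universe u

open CategoryTheory CategoryTheory.Limits AlgebraicGeometry TopologicalSpace Opposite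

namespace Groth.Agent.Helper4.SN654

open Groth.Agent.Helper4.SN Groth.Agent.Helper4.SN637 Groth.Agent.Helper4.SN641

attribute [local instance] Curv2.stalkAlgebra

section General

variable (k : Type u) [Field k]

/-- the map of function fields induced by a dominant `k`-morphism is `k`-linear -/
theorem ffMap_stalkMap {P C : Scheme.{u}} [P.Over (Spec (CommRingCat.of k))]
    [C.Over (Spec (CommRingCat.of k))] [IsIntegral P] [IsIntegral C]
    (g : P ⟶ C) (hg : g ≫ (C ↘ Spec (CommRingCat.of k)) = P ↘ Spec (CommRingCat.of k))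
    (hdom : g (genericPoint P) = genericPoint C) (c : k) :
    (ffMap g hdom).hom (Curv2.stalkMap k C (genericPoint C) c) =
      Curv2.stalkMap k P (genericPoint P) c := by
  unfold ffMap
  show (g.stalkMap (genericPoint P)) ((C.presheaf.stalkSpecializes (specializes_of_eq hdom))
      (Curv2.stalkMap k C (genericPoint C) c)) = _
  unfold Curv2.stalkMap
  rw [RingHom.comp_apply, RingHom.comp_apply]
  erw [TopCat.Presheaf.germ_stalkSpecializes_apply]
  erw [Scheme.Hom.germ_stalkMap_apply]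
  unfold Coh.toGlobal
  rw [RingHom.comp_apply, RingHom.comp_apply]
  have h2 : g.app ⊤ ((C ↘ Spec (CommRingCat.of k)).appTop.hom
      ((Scheme.ΓSpecIso (CommRingCat.of k)).inv.hom c)) =
      (P ↘ Spec (CommRingCat.of k)).appTop.hom
        ((Scheme.ΓSpecIso (CommRingCat.of k)).inv.hom c) := by
    have h3 : (C ↘ Spec (CommRingCat.of k)).appTop ≫ g.appTop =
        (P ↘ Spec (CommRingCat.of k)).appTop := by
      rw [← Scheme.Hom.comp_appTop, hg]
    exact congrArg (fun φ => φ.hom ((Scheme.ΓSpecIso (CommRingCat.of k)).inv.hom c)) h3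
  erw [h2]
  rfl

/-- a morphism over a separated base is determined by its action on the function field -/
theorem eq_of_ffMap_eq {S C : Scheme.{u}} [IsIntegral C] (p : C ⟶ S) [IsSeparated p]
    (σ τ : C ⟶ C) (hσ : σ ≫ p = p) (hτ : τ ≫ p = p)
    (hση : σ (genericPoint C) = genericPoint C) (hτη : τ (genericPoint C) = genericPoint C)
    (h : ffMap σ hση = ffMap τ hτη) : σ = τ := by
  haveI := Groth.Agent.Helper4.SN639.isDominant_fromSpecStalk_genericPoint C
  apply ext_of_isDominant_of_isSeparated p (by rw [hσ, hτ]) (C.fromSpecStalk (genericPoint C))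
  rw [← SpecMap_ffMap σ hση, ← SpecMap_ffMap τ hτη, h]

end General

variable (k : Type u) [Field k] [IsAlgClosed k] {X : Scheme.{u}} [X.Over (Spec (CommRingCat.of k))]
  [IsIntegral X] [IsProper (X ↘ (Spec (CommRingCat.of k)))]

include k in
/-- an endomorphism of a curve preserving a finite map to the projective line is dominant -/
theorem map_genericPoint_of_comp_eq (hdim : topologicalKrullDim X = 1)
    (h : X ⟶ CohB1.ProjSpace 1 k) [IsFinite h] (σ : X ⟶ X) (hσ : σ ≫ h = h) :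
    σ (genericPoint X) = genericPoint X := by
  haveI := Groth.Agent.Helper4.NApx82.isNoetherian_of_proper k X
  have hξ := Groth.Agent.Helper4.SN649.map_genericPoint_of_isFinite k hdim h
  apply eq_genericPoint_of_map_eq hdim.le (dim_P1 k) h h.isClosedMap
  have := congrArg (fun φ : X ⟶ CohB1.ProjSpace 1 k => φ (genericPoint X)) hσ
  simp only [Scheme.Hom.comp_apply] at this
  rw [← hξ]
  exact this

include k in
/-- **uniqueness of the hyperelliptic involution** -/
theorem main18892 (hdim : topologicalKrullDim X = 1)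
    (hreg : ∀ x : X, IsRegularLocalRing (X.presheaf.stalk x)) (hg : 2 ≤ Curv2.genus k X)
    (h₁ h₂ : X ⟶ CohB1.ProjSpace 1 k)
    (hh₁ : h₁ ≫ CohB1.ProjSpace.toSpec 1 k = X ↘ Spec (CommRingCat.of k))
    (hh₂ : h₂ ≫ CohB1.ProjSpace.toSpec 1 k = X ↘ Spec (CommRingCat.of k))
    [IsFinite h₁] [Flat h₁] (hr₁ : ∀ y : ↥(CohB1.ProjSpace 1 k), h₁.finrank y = 2)
    [IsFinite h₂] [Flat h₂] (hr₂ : ∀ y : ↥(CohB1.ProjSpace 1 k), h₂.finrank y = 2)
    (σ τ : X ⟶ X) (hσ : σ ≫ h₁ = h₁) (hσ₁ : σ ≠ 𝟙 X) (hτ : τ ≫ h₂ = h₂) (hτ₁ : τ ≠ 𝟙 X) :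
    σ = τ := by
  haveI := Groth.Agent.Helper4.NApx82.isNoetherian_of_proper k X
  obtain ⟨pd⟩ := Groth.Agent.Helper4.SN568.nonempty_placeData k X hdim hreg
  have hK := Groth.Agent.Helper4.SN568.isFunctionField k X hdim
  have hgen := Groth.Agent.Helper4.SN560.genus_eq pd
  have hξ₁ := Groth.Agent.Helper4.SN649.map_genericPoint_of_isFinite k hdim h₁
  have hξ₂ := Groth.Agent.Helper4.SN649.map_genericPoint_of_isFinite k hdim h₂
  have hd₁ := Groth.Agent.Helper4.SN649.residueDegree_eq_of_rank k hdim h₁ hξ₁ 2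
    (Groth.Agent.Helper4.SN585.rank_push k h₁ 2 hr₁)
  have hd₂ := Groth.Agent.Helper4.SN649.residueDegree_eq_of_rank k hdim h₂ hξ₂ 2
    (Groth.Agent.Helper4.SN585.rank_push k h₂ 2 hr₂)
  have hf₁ := finrank_ffMap h₁ hξ₁
  have hf₂ := finrank_ffMap h₂ hξ₂
  rw [hd₁] at hf₁
  rw [hd₂] at hf₂
  have hση := map_genericPoint_of_comp_eq k hdim h₁ σ hσ
  have hτη := map_genericPoint_of_comp_eq k hdim h₂ τ hτ
  have hσp : σ ≫ (X ↘ Spec (CommRingCat.of k)) = X ↘ Spec (CommRingCat.of k) := by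
    rw [← hh₁, ← Category.assoc, hσ]
  have hτp : τ ≫ (X ↘ Spec (CommRingCat.of k)) = X ↘ Spec (CommRingCat.of k) := by
    rw [← hh₂, ← Category.assoc, hτ]
  obtain ⟨Φ, hΦ⟩ := Groth.Agent.Helper4.SN632.functionField_P1 k
  let eF : (CohB1.ProjSpace 1 k).functionField ≃ₐ[k] RatFunc k :=
    { Φ with commutes' := fun c => hΦ c }
  let φ₁ : (CohB1.ProjSpace 1 k).functionField →ₐ[k] X.functionField :=
    { (ffMap h₁ hξ₁).hom with commutes' := fun c => ffMap_stalkMap k h₁ hh₁ hξ₁ c }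
  let φ₂ : (CohB1.ProjSpace 1 k).functionField →ₐ[k] X.functionField :=
    { (ffMap h₂ hξ₂).hom with commutes' := fun c => ffMap_stalkMap k h₂ hh₂ hξ₂ c }
  have hrange : Set.range (ffMap h₁ hξ₁).hom = Set.range (ffMap h₂ hξ₂).hom :=
    Groth.Agent.Helper4.SN653.range_eq_of_finrank_two hK (hgen ▸ hg) eF φ₁ φ₂ hf₁ hf₂
  have hσfix : ∀ x, (ffMap σ hση).hom ((ffMap h₁ hξ₁).hom x) = (ffMap h₁ hξ₁).hom x := by
    intro x
    have hc := Groth.Agent.Helper4.SN650.ffMap_comp σ h₁ hση hξ₁ (by rw [hσ]; exact hξ₁)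
    have hc2 := Groth.Agent.Helper4.SN650.ffMap_congr hσ (by rw [hσ]; exact hξ₁) hξ₁
    rw [hc2] at hc
    have := congrArg (fun φ : (CohB1.ProjSpace 1 k).functionField ⟶ X.functionField => φ.hom x) hc
    exact this.symm
  have hτfix : ∀ x, (ffMap τ hτη).hom ((ffMap h₂ hξ₂).hom x) = (ffMap h₂ hξ₂).hom x := by
    intro x
    have hc := Groth.Agent.Helper4.SN650.ffMap_comp τ h₂ hτη hξ₂ (by rw [hτ]; exact hξ₂)
    have hc2 := Groth.Agent.Helper4.SN650.ffMap_congr hτ (by rw [hτ]; exact hξ₂) hξ₂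
    rw [hc2] at hc
    have := congrArg (fun φ : (CohB1.ProjSpace 1 k).functionField ⟶ X.functionField => φ.hom x) hc
    exact this.symm
  have hid : ∀ (ρ : X ⟶ X) (hρp : ρ ≫ (X ↘ Spec (CommRingCat.of k)) = X ↘ Spec (CommRingCat.of k))
      (hρη : ρ (genericPoint X) = genericPoint X), ρ ≠ 𝟙 X →
      (ffMap ρ hρη).hom ≠ RingHom.id X.functionField := by
    intro ρ hρp hρη hρ1 hcontra
    apply hρ1
    have h1η : (𝟙 X : X ⟶ X) (genericPoint X) = genericPoint X := rfl
    apply eq_of_ffMap_eq (X ↘ Spec (CommRingCat.of k)) ρ (𝟙 X) hρp (Category.id_comp _) hρη h1η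
    have h2 : ffMap (𝟙 X) h1η = 𝟙 _ := by
      have h3 : Spec.map (𝟙 X.functionField) ≫ X.fromSpecStalk (genericPoint X) =
          X.fromSpecStalk (genericPoint X) ≫ 𝟙 X := by
        rw [Spec.map_id, Category.id_comp, Category.comp_id]
      obtain ⟨_, h4⟩ := ffMap_unique (𝟙 X) (𝟙 X.functionField) h3
      exact h4.symm
    rw [h2]
    ext x
    exact congrArg (fun φ : X.functionField →+* X.functionField => φ x) hcontra
  have hst : (ffMap σ hση).hom = (ffMap τ hτη).hom :=
    Groth.Agent.Helper4.SN653.eq_of_fix_of_finrank_two (ffMap h₁ hξ₁).hom (ffMap h₂ hξ₂).hom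
      hrange hf₁ _ _ hσfix hτfix (hid σ hσp hση hσ₁) (hid τ hτp hτη hτ₁)
  apply eq_of_ffMap_eq (X ↘ Spec (CommRingCat.of k)) σ τ hσp hτp hση hτη
  ext x
  exact congrArg (fun φ : X.functionField →+* X.functionField => φ x) hst

end Groth.Agent.Helper4.SN654
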