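import Mathlib
import Groth.Agent.Helper5.FGConorm2
import Groth.Agent.Helper5.FFRR
import Groth.Agent.Helper5.FFGeom3
import Groth.Agent.Helper5.FFGaps2
import Groth.Agent.Helper6.SepPlaces

/-!
# Castelnuovo's inequality for two quadratic subfields of a function field
-/

set_option autoImplicit false
set_option linter.unusedSectionVars false
set_option linter.style.haveILetI false
universe u

open FunFld
open Groth.Agent.Helper5

namespace Groth.Agent.Helper4.SN655

section Conorm

variable {k K₁ K : Type*} [Field k] [Field K₁] [Field K] [Algebra k K₁] [Algebra k K]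
  [Algebra K₁ K] [IsScalarTower k K₁ K] [FiniteDimensional K₁ K]

theorem conorm_nonneg (hK₁ : IsFunctionField k K₁) {C : Divisor k K₁} (hC : 0 ≤ C) :
    0 ≤ conorm K C := by
  intro Q
  obtain ⟨P, e, he⟩ := FG.exists_isOverWith hK₁.1 Q
  rw [FG.conorm_apply hK₁ C he]
  exact mul_nonneg (Int.natCast_nonneg e) (hC P)

theorem algebraMap_mem_L_conorm (hK₁ : IsFunctionField k K₁) (C : Divisor k K₁) {a : K₁}
    (ha : a ∈ L C) : algebraMap K₁ K a ∈ L (conorm K C) := by
  intro Q
  obtain ⟨P, e, he⟩ := FG.exists_isOverWith hK₁.1 Q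
  rw [FG.conorm_apply hK₁ C he, he a]
  have h1 := ha P
  calc P.1 a ^ e ≤ (WithZero.exp (C P)) ^ e := pow_le_pow_left₀ zero_le h1 e
    _ = WithZero.exp ((e : ℤ) * C P) := by
      rw [← WithZero.exp_nsmul]
      simp

end Conorm

section Count

variable {k K₁ K : Type*} [Field k] [Field K₁] [Field K] [Algebra k K₁] [Algebra k K]
  [Algebra K₁ K] [IsScalarTower k K₁ K]

/-- the Riemann--Roch count behind Castelnuovo's inequality, for a subfield of index two -/
theorem genus_le_of_basis (hK₁ : IsFunctionField k K₁) (hK : IsFunctionField k K)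
    (h2 : Module.finrank K₁ K = 2) (y : K) (hy : y ∉ Set.range (algebraMap K₁ K))
    (D : Divisor k K) (hD : 0 ≤ D) (hyD : y ∈ L D) :
    (genus k K : ℤ) ≤ 2 * genus k K₁ + D.deg - 1 := by
  haveI : FiniteDimensional K₁ K := Module.finite_of_finrank_pos (by rw [h2]; norm_num)
  obtain ⟨P₀⟩ := FF.nonempty_place hK₁
  have hP₀ : 0 < P₀.deg := FF.deg_pos_place hK₁ P₀
  set N : ℕ := 2 * genus k K with hN
  set A : Divisor k K₁ := Finsupp.single P₀ (N : ℤ) with hA
  have hA0 : 0 ≤ A := by
    classical
    intro P
    rw [hA, Finsupp.single_apply]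
    split_ifs
    · exact Int.natCast_nonneg N
    · exact le_refl _
  have hdegA : A.deg = N * P₀.deg := by rw [hA, FF.deg_single]
  set E : Divisor k K := conorm K A + D with hE
  have hdegE : E.deg = 2 * A.deg + D.deg := by
    rw [hE, FF.deg_add, FG.conorm_deg hK₁, h2]
    push_cast
    ring
  have hDdeg : 0 ≤ D.deg := FF.deg_nonneg hD
  have hAN : (N : ℤ) ≤ A.deg := by
    rw [hdegA]
    have : (1 : ℤ) ≤ P₀.deg := by exact_mod_cast hP₀
    nlinarith [Int.natCast_nonneg N]
  have hbig : 2 * (genus k K : ℤ) - 1 ≤ E.deg := by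
    rw [hdegE]
    have : (N : ℤ) = 2 * genus k K := by rw [hN]; push_cast; ring
    linarith
  have hellE := FF.ell_eq_of_deg_ge hK E hbig
  have hellA := (FF.riemann_inequality hK₁).1 A
  -- the injective map
  haveI := FF.finiteDimensional_L hK₁ A
  haveI := FF.finiteDimensional_L hK E
  have hmem : ∀ u v : K₁, u ∈ L A → v ∈ L A → algebraMap K₁ K u + algebraMap K₁ K v * y ∈ L E := by
    intro u v hu hv
    apply Submodule.add_mem
    · have h1 := algebraMap_mem_L_conorm (K := K) hK₁ A hu
      exact FF.L_mono (by rw [hE]; exact le_add_of_nonneg_right hD) h1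
    · have h1 := algebraMap_mem_L_conorm (K := K) hK₁ A hv
      intro Q
      rw [map_mul, Finsupp.add_apply, WithZero.exp_add]
      exact mul_le_mul' (h1 Q) (hyD Q)
  let ψ : (L A × L A) →ₗ[k] L E :=
    { toFun := fun p => ⟨algebraMap K₁ K p.1.1 + algebraMap K₁ K p.2.1 * y,
        hmem p.1.1 p.2.1 p.1.2 p.2.2⟩
      map_add' := by
        intro p q
        apply Subtype.ext
        simp only [Prod.fst_add, Prod.snd_add, Submodule.coe_add, map_add]
        ring
      map_smul' := by
        intro c p
        apply Subtype.ext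
        simp only [Prod.smul_fst, Prod.smul_snd, Submodule.coe_smul, RingHom.id_apply]
        rw [Algebra.smul_def, Algebra.smul_def, map_mul, map_mul,
          ← IsScalarTower.algebraMap_apply k K₁ K, Algebra.smul_def]
        ring }
  have hψ : Function.Injective ψ := by
    rw [← LinearMap.ker_eq_bot, LinearMap.ker_eq_bot']
    rintro ⟨⟨u, hu⟩, ⟨v, hv⟩⟩ h
    have h1 : algebraMap K₁ K u + algebraMap K₁ K v * y = 0 := congrArg Subtype.val h
    have hv0 : v = 0 := by
      by_contra hv0
      apply hy
      refine ⟨-u / v, ?_⟩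
      have hv' : algebraMap K₁ K v ≠ 0 := by
        rwa [Ne, map_eq_zero]
      rw [map_div₀, map_neg]
      exact (eq_div_of_mul_eq hv' (by linear_combination h1)).symm
    have hu0 : u = 0 := by
      rw [hv0, map_zero, zero_mul, add_zero, map_eq_zero] at h1
      exact h1
    subst hv0
    subst hu0
    rfl
  have hdim := LinearMap.finrank_le_finrank_of_injective hψ
  rw [Module.finrank_prod] at hdim
  have hdim' : 2 * (ell A : ℤ) ≤ ell E := by
    unfold ell
    exact_mod_cast (by omega : 2 * Module.finrank k (L A) ≤ Module.finrank k (L E))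
  rw [hellE, hdegE] at hdim'
  linarith

end Count


section LemmaB

variable {k : Type u} {K : Type u} [Field k] [IsAlgClosed k] [Field K] [Algebra k K]

theorem exists_mem_L_not_const (hK : IsFunctionField k K) (C : Divisor k K)
    (hC : (genus k K : ℤ) + 1 ≤ C.deg) :
    ∃ y ∈ L C, y ∉ Set.range (algebraMap k K) := by
  by_contra hcon
  push Not at hcon
  have hle : L C ≤ LinearMap.range (Algebra.linearMap k K) := fun y hy => hcon y hy
  haveI := FF.finiteDimensional_L hK C
  have h1 : ell C ≤ 1 := by
    unfold ell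
    calc Module.finrank k (L C)
        ≤ Module.finrank k (LinearMap.range (Algebra.linearMap k K)) := Submodule.finrank_mono hle
      _ ≤ Module.finrank k k := LinearMap.finrank_range_le _
      _ = 1 := Module.finrank_self k
  have h2 := (FF.riemann_inequality hK).1 C
  have h3 : (ell C : ℤ) ≤ 1 := by exact_mod_cast h1
  linarith

theorem infinite_places (hK : IsFunctionField k K) : (Set.univ : Set (Place k K)).Infinite := by
  have hg := FF.isGeometric_of_perfectField k K hK
  exact (Groth.Agent.Helper6.SepPlaces.s11004 k K hK hg).mono (Set.subset_univ _)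

theorem one_lt_val_imp (P : Place k K) {x : K} (hx : 1 < P.1 x) : WithZero.exp (1 : ℤ) ≤ P.1 x := by
  have hx0 : x ≠ 0 := by
    rintro rfl
    simp at hx
  rw [FF.val_eq_exp_neg_ord P hx0] at hx ⊢
  rw [← WithZero.exp_zero, WithZero.exp_lt_exp] at hx
  rw [WithZero.exp_le_exp]
  omega

/-- elements of small pole degree are not all contained in a proper subfield -/
theorem exists_mem_L_not_mem (hK : IsFunctionField k K) (F : IntermediateField k K) (hF : F ≠ ⊤) :
    ∃ (C : Divisor k K) (y : K), 0 ≤ C ∧ C.deg = genus k K + 1 ∧ y ∈ L C ∧ y ∉ F := by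
  classical
  by_cases htr : ∃ x ∈ F, Transcendental k x
  · have hF' := FF.isFunctionField_intermediateField hK F htr
    obtain ⟨x, hxF, hx⟩ := htr
    haveI hfdx := FF.finiteDimensional_adjoin hK hx
    have hle : IntermediateField.adjoin k ({x} : Set K) ≤ F :=
      IntermediateField.adjoin_simple_le_iff.mpr hxF
    letI : Algebra (IntermediateField.adjoin k ({x} : Set K)) F :=
      (IntermediateField.inclusion hle).toRingHom.toAlgebra
    haveI : IsScalarTower (IntermediateField.adjoin k ({x} : Set K)) F K :=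
      IsScalarTower.of_algebraMap_eq (fun _ => rfl)
    haveI : FiniteDimensional F K :=
      Module.Finite.of_restrictScalars_finite (IntermediateField.adjoin k ({x} : Set K)) F K
    have hd : 2 ≤ Module.finrank F K := by
      have h0 : 0 < Module.finrank F K := Module.finrank_pos
      have h1 : Module.finrank F K ≠ 1 := by
        intro h1
        apply hF
        rw [eq_top_iff]
        intro y _
        obtain ⟨c, hc⟩ := (finrank_eq_one_iff_of_nonzero' (1 : K) one_ne_zero).mp h1 y
        have : (c : K) = y := by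
          rw [← hc, Algebra.smul_def, mul_one]
          rfl
        rw [← this]
        exact c.2
      omega
    choose below eb hb using fun Q : Place k K => FG.exists_isOverWith hF'.1 Q
    have himg : (Set.range below).Infinite := by
      intro hfin
      apply infinite_places hK
      have hcover : (Set.univ : Set (Place k K)) ⊆ ⋃ p ∈ Set.range below, {Q | IsOver Q p} := by
        intro Q _
        simp only [Set.mem_iUnion]
        exact ⟨below Q, Set.mem_range_self Q, eb Q, hb Q⟩
      refine Set.Finite.subset (hfin.biUnion (fun p _ => ?_)) hcover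
      exact (FG.finite_isOver_and_sum (K' := K) hF' p).1
    obtain ⟨T, hT, hcard⟩ := himg.exists_subset_card_eq (genus k K + 1)
    have hpre : ∀ p ∈ T, ∃ Q, below Q = p := fun p hp => hT hp
    haveI : Nonempty (Place k K) := FF.nonempty_place hK
    choose! q hq using hpre
    have hqinj : ∀ p ∈ T, ∀ p' ∈ T, q p = q p' → p = p' := by
      intro p hp p' hp' h
      rw [← hq p hp, ← hq p' hp', h]
    set C : Divisor k K := ∑ p ∈ T, Finsupp.single (q p) 1 with hCdef
    have hCapp : ∀ Q, C Q = ((T.filter (fun p => q p = Q)).card : ℤ) := by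
      intro Q
      rw [hCdef, Finsupp.finsetSum_apply]
      simp only [Finsupp.single_apply]
      rw [Finset.sum_ite, Finset.sum_const_zero, add_zero, Finset.sum_const]
      simp
    have hCle : ∀ Q, C Q ≤ 1 := by
      intro Q
      rw [hCapp]
      have : (T.filter (fun p => q p = Q)).card ≤ 1 := by
        rw [Finset.card_le_one]
        intro a ha b hb
        rw [Finset.mem_filter] at ha hb
        exact hqinj a ha.1 b hb.1 (ha.2.trans hb.2.symm)
      exact_mod_cast this
    have hC0 : 0 ≤ C := by
      intro Q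
      rw [hCapp]
      exact Int.natCast_nonneg _
    have hCpos : ∀ Q, 0 < C Q → ∃ p ∈ T, q p = Q := by
      intro Q hQ
      rw [hCapp] at hQ
      have : 0 < (T.filter (fun p => q p = Q)).card := by exact_mod_cast hQ
      obtain ⟨p, hp⟩ := Finset.card_pos.mp this
      rw [Finset.mem_filter] at hp
      exact ⟨p, hp.1, hp.2⟩
    have hdegC : C.deg = genus k K + 1 := by
      rw [hCdef, ← FF.degHom_apply, map_sum]
      have : ∀ p ∈ T, FF.degHom (Finsupp.single (q p) 1 : Divisor k K) = 1 := by
        intro p _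
        rw [FF.degHom_apply, FF.deg_single, FF.deg_eq_one_of_isAlgClosed hK]
        simp
      rw [Finset.sum_congr rfl this, Finset.sum_const, hcard]
      simp
    obtain ⟨y, hyC, hyk⟩ := exists_mem_L_not_const hK C (by rw [hdegC])
    refine ⟨C, y, hC0, hdegC, hyC, fun hyF => ?_⟩
    set z : F := ⟨y, hyF⟩ with hz
    have hzk : z ∉ Set.range (algebraMap k F) := by
      rintro ⟨c, hc⟩
      apply hyk
      refine ⟨c, ?_⟩
      have := congrArg (fun w : F => (w : K)) hc
      exact this
    have hz0 : z ≠ 0 := by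
      rintro h0
      apply hzk
      exact ⟨0, by rw [map_zero, h0]⟩
    obtain ⟨p₀, hp₀⟩ := (FF.exists_zero_and_exists_pole hF' z hzk).2
    rw [FF.ord_neg_iff p₀ hz0] at hp₀
    have hp₀' := one_lt_val_imp p₀ hp₀
    obtain ⟨hfin, hsum⟩ := FG.finite_isOver_and_sum (K' := K) hF' p₀
    have hsum' := hsum hfin.toFinset (fun Q' => by rw [Set.Finite.mem_toFinset]; rfl)
    have hkey : ∀ Q ∈ hfin.toFinset, ramIdx Q p₀ = 1 ∧ Q = q p₀ ∧ p₀ ∈ T := by
      intro Q hQ
      rw [Set.Finite.mem_toFinset] at hQ
      obtain ⟨e, he⟩ := hQ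
      have he0 := FG.isOverWith_pos he
      have h1 : Q.1 y = p₀.1 z ^ e := he z
      have h2 : (WithZero.exp (1 : ℤ)) ^ e ≤ Q.1 y := by
        rw [h1]
        exact pow_le_pow_left₀ zero_le hp₀' e
      have h3 := hyC Q
      have h4 : (WithZero.exp (1 : ℤ) : WithZero (Multiplicative ℤ)) ^ e = WithZero.exp (e : ℤ) := by
        rw [← WithZero.exp_nsmul]
        simp
      rw [h4] at h2
      have h5 := h2.trans h3
      rw [WithZero.exp_le_exp] at h5
      have h6 := hCle Q
      have he1 : e = 1 := by omega
      have hCQ : 0 < C Q := by omega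
      obtain ⟨p, hpT, hpQ⟩ := hCpos Q hCQ
      have hp : p = p₀ := by
        have hb' : IsOver Q (below Q) := ⟨eb Q, hb Q⟩
        have := FG.isOver_unique hb' ⟨e, he⟩
        rw [← this, ← hpQ, hq p hpT]
      refine ⟨?_, ?_, ?_⟩
      · rw [FG.ramIdx_eq he, he1]
      · rw [← hpQ, hp]
      · rw [← hp]; exact hpT
    have hle1 : ∑ Q ∈ hfin.toFinset, ramIdx Q p₀ * Q.deg ≤ 1 := by
      have hsub : hfin.toFinset ⊆ {q p₀} := by
        intro Q hQ
        rw [Finset.mem_singleton]
        exact (hkey Q hQ).2.1
      calc ∑ Q ∈ hfin.toFinset, ramIdx Q p₀ * Q.deg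
          = ∑ Q ∈ hfin.toFinset, 1 := by
            apply Finset.sum_congr rfl
            intro Q hQ
            rw [(hkey Q hQ).1, FF.deg_eq_one_of_isAlgClosed hK]
        _ = hfin.toFinset.card := by simp
        _ ≤ ({q p₀} : Finset (Place k K)).card := Finset.card_le_card hsub
        _ = 1 := Finset.card_singleton _
    rw [hsum', FF.deg_eq_one_of_isAlgClosed hF'] at hle1
    omega
  · push Not at htr
    obtain ⟨P⟩ := FF.nonempty_place hK
    set C : Divisor k K := Finsupp.single P ((genus k K : ℤ) + 1) with hCdef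
    have hdegC : C.deg = genus k K + 1 := by
      rw [hCdef, FF.deg_single, FF.deg_eq_one_of_isAlgClosed hK]
      simp
    have hC0 : 0 ≤ C := by
      intro Q
      rw [hCdef, Finsupp.single_apply]
      split_ifs
      · positivity
      · exact le_refl _
    obtain ⟨y, hyC, hyk⟩ := exists_mem_L_not_const hK C (by rw [hdegC])
    refine ⟨C, y, hC0, hdegC, hyC, fun hyF => ?_⟩
    apply hyk
    have h1 := htr y hyF
    rw [Transcendental, not_not] at h1
    exact hK.2 y h1

end LemmaB

section Main

variable {k : Type u} {K₁ K₂ K : Type u} [Field k] [IsAlgClosed k] [Field K₁] [Field K₂] [Field K]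
  [Algebra k K₁] [Algebra k K₂] [Algebra k K] [Algebra K₁ K] [Algebra K₂ K]
  [IsScalarTower k K₁ K] [IsScalarTower k K₂ K]

/-- **Castelnuovo's inequality for two distinct subfields of index two** -/
theorem castelnuovo_two (hK₁ : IsFunctionField k K₁) (hK₂ : IsFunctionField k K₂)
    (hK : IsFunctionField k K)
    (h₁ : Module.finrank K₁ K = 2) (h₂ : Module.finrank K₂ K = 2)
    (hne : ¬ Set.range (algebraMap K₂ K) ⊆ Set.range (algebraMap K₁ K)) :
    genus k K ≤ 2 * genus k K₁ + 2 * genus k K₂ + 1 := by
  haveI : FiniteDimensional K₂ K := Module.finite_of_finrank_pos (by rw [h₂]; norm_num)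
  set F : IntermediateField k K₂ :=
    (IsScalarTower.toAlgHom k K₁ K).fieldRange.comap (IsScalarTower.toAlgHom k K₂ K) with hFdef
  have hmemF : ∀ w : K₂, w ∈ F ↔ algebraMap K₂ K w ∈ Set.range (algebraMap K₁ K) := by
    intro w
    rfl
  have hF : F ≠ ⊤ := by
    intro hF
    apply hne
    rintro _ ⟨w, rfl⟩
    rw [← hmemF, hF]
    trivial
  obtain ⟨C, y₂, hC0, hdegC, hyC, hyF⟩ := exists_mem_L_not_mem hK₂ F hF
  have hy : algebraMap K₂ K y₂ ∉ Set.range (algebraMap K₁ K) := fun h => hyF ((hmemF y₂).mpr h)
  have hD0 := conorm_nonneg (K := K) hK₂ hC0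
  have hyD := algebraMap_mem_L_conorm (K := K) hK₂ C hyC
  have hkey := genus_le_of_basis hK₁ hK h₁ (algebraMap K₂ K y₂) hy (conorm K C) hD0 hyD
  rw [FG.conorm_deg hK₂, h₂, hdegC] at hkey
  push_cast at hkey
  have : (genus k K : ℤ) ≤ 2 * genus k K₁ + 2 * genus k K₂ + 1 := by linarith
  exact_mod_cast this

end Main

end Groth.Agent.Helper4.SN655
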