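import Mathlib
import Groth.Agent.Helper4.SN655
import Groth.Agent.Helper4.SN654

/-!
# Double covers of curves of small genus by a curve of large genus are unique
-/

set_option autoImplicit false
set_option linter.unusedSectionVars false
set_option linter.style.haveILetI false
universe u

open CategoryTheory CategoryTheory.Limits AlgebraicGeometry TopologicalSpace Opposite

namespace Groth.Agent.Helper4.SN656

open Groth.Agent.Helper4.SN Groth.Agent.Helper4.SN637 Groth.Agent.Helper4.SN641
  Groth.Agent.Helper4.SN638 Groth.Agent.Helper4.SN639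

attribute [local instance] Curv2.stalkAlgebra

section Alg

/-- two subfields of the same finite index, one contained in the other, are related by an
isomorphism -/
theorem exists_ringEquiv_of_range_le' {K₁ K₂ K : Type*} [Field K₁] [Field K₂] [Field K]
    (φ₁ : K₁ →+* K) (φ₂ : K₂ →+* K) (d : ℕ) (hd : 0 < d)
    (h₁ : @Module.finrank K₁ K _ _ φ₁.toAlgebra.toModule = d)
    (h₂ : @Module.finrank K₂ K _ _ φ₂.toAlgebra.toModule = d)
    (hle : ∀ z, φ₂ z ∈ Set.range φ₁) :
    ∃ θ : K₂ ≃+* K₁, ∀ z, φ₁ (θ z) = φ₂ z := by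
  choose w hw using hle
  let θ₀ : K₂ →+* K₁ :=
    { toFun := w
      map_one' := φ₁.injective (by rw [hw, map_one, map_one])
      map_mul' := fun a b => φ₁.injective (by rw [hw, map_mul, map_mul, hw, hw])
      map_zero' := φ₁.injective (by rw [hw, map_zero, map_zero])
      map_add' := fun a b => φ₁.injective (by rw [hw, map_add, map_add, hw, hw]) }
  have hθ₀ : φ₁.comp θ₀ = φ₂ := RingHom.ext (fun z => hw z)
  have hsurj : Function.Surjective θ₀ := by
    letI a₁ : Algebra K₁ K := φ₁.toAlgebra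
    letI a₂ : Algebra K₂ K := φ₂.toAlgebra
    letI a₂₁ : Algebra K₂ K₁ := θ₀.toAlgebra
    haveI : IsScalarTower K₂ K₁ K := IsScalarTower.of_algebraMap_eq (fun z => (hw z).symm)
    haveI : FiniteDimensional K₁ K := Module.finite_of_finrank_pos (by rw [h₁]; exact hd)
    haveI : FiniteDimensional K₂ K := Module.finite_of_finrank_pos (by rw [h₂]; exact hd)
    haveI : FiniteDimensional K₂ K₁ :=
      Module.Finite.of_injective (IsScalarTower.toAlgHom K₂ K₁ K).toLinearMap
        (IsScalarTower.toAlgHom K₂ K₁ K).injective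
    have hmul := Module.finrank_mul_finrank K₂ K₁ K
    rw [h₁, h₂] at hmul
    have h1 : Module.finrank K₂ K₁ = 1 := by
      have : Module.finrank K₂ K₁ * d = 1 * d := by rw [hmul, one_mul]
      exact Nat.eq_of_mul_eq_mul_right hd this
    intro y
    obtain ⟨c, hc⟩ := (finrank_eq_one_iff_of_nonzero' (1 : K₁) one_ne_zero).mp h1 y
    refine ⟨c, ?_⟩
    rw [← hc, Algebra.smul_def, mul_one]
    rfl
  exact ⟨RingEquiv.ofBijective θ₀ ⟨θ₀.injective, hsurj⟩, fun z => hw z⟩

end Alg

section Ext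

/-- a ring homomorphism between the function fields of regular proper curves over `S`, compatible
with the structure morphisms, is induced by a morphism of the curves -/
theorem exists_hom_of_functionField_hom' {S C D : Scheme.{u}} [IsIntegral C] [IsIntegral D]
    [IsLocallyNoetherian C]
    (p : C ⟶ S) [IsProper p] (q : D ⟶ S) [IsProper q]
    (hreg : ∀ y : C, IsRegularLocalRing (C.presheaf.stalk y))
    (hdim1 : ∀ y : C, ringKrullDim (C.presheaf.stalk y) ≤ 1)
    (τ : D.functionField ⟶ C.functionField)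
    (hτ : Spec.map τ ≫ D.fromSpecStalk (genericPoint D) ≫ q =
      C.fromSpecStalk (genericPoint C) ≫ p) :
    ∃ σ : C ⟶ D, σ ≫ q = p ∧
      C.fromSpecStalk (genericPoint C) ≫ σ = Spec.map τ ≫ D.fromSpecStalk (genericPoint D) := by
  set η := genericPoint C with hη
  let φ₀ : Spec (C.presheaf.stalk η) ⟶ D := Spec.map τ ≫ D.fromSpecStalk (genericPoint D)
  have hφ₀ : φ₀ ≫ q = C.fromSpecStalk η ≫ p := by
    show (Spec.map τ ≫ D.fromSpecStalk (genericPoint D)) ≫ q = _
    rw [Category.assoc]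
    exact hτ
  obtain ⟨U₀, hηU₀, a, ha1, ha2⟩ := spread_out_of_isGermInjective' p q φ₀ hφ₀
  have hd : Dense (U₀ : Set C) := U₀.isOpen.dense ⟨η, hηU₀⟩
  obtain ⟨U, hVU, g', hg', hres, hU⟩ := Groth.Agent.Helper3.DimOneExt.s4440 q p
    (fun y _ => hreg y) U₀ hd a ha2
  have hUtop : U = ⊤ := by
    rw [eq_top_iff]
    intro y _
    exact hU y (hdim1 y)
  subst hUtop
  refine ⟨(Scheme.topIso _).inv ≫ g', ?_, ?_⟩
  · rw [Category.assoc, hg']
    simp
  · have h1 : U₀.ι ≫ (Scheme.topIso C).inv ≫ g' = a := by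
      rw [← hres, ← Category.assoc]
      congr 1
      rw [← cancel_mono (Scheme.topIso C).hom]
      simp
    calc C.fromSpecStalk η ≫ (Scheme.topIso C).inv ≫ g'
        = (U₀.fromSpecStalkOfMem η hηU₀ ≫ U₀.ι) ≫ (Scheme.topIso C).inv ≫ g' := by
          rw [Scheme.Opens.fromSpecStalkOfMem_ι]
      _ = U₀.fromSpecStalkOfMem η hηU₀ ≫ a := by rw [Category.assoc, h1]
      _ = φ₀ := ha1.symm

end Ext


section Curves

variable (k : Type u) [Field k] [IsAlgClosed k] {X : Scheme.{u}} [X.Over (Spec (CommRingCat.of k))]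
  [IsIntegral X] [IsProper (X ↘ (Spec (CommRingCat.of k)))]
  {Y : Scheme.{u}} [Y.Over (Spec (CommRingCat.of k))] [IsIntegral Y]
  [IsProper (Y ↘ (Spec (CommRingCat.of k)))]

include k in
/-- a finite morphism of curves is dominant -/
theorem map_genericPoint_of_isFinite' (hdim : topologicalKrullDim X = 1)
    (hdimY : topologicalKrullDim Y = 1) (f : X ⟶ Y) [IsFinite f] :
    f (genericPoint X) = genericPoint Y := by
  haveI := Groth.Agent.Helper4.NApx82.isNoetherian_of_proper k Y
  by_contra h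
  have hcl := isClosed_singleton_of_ne_genericPoint hdimY.le _ h
  have h2 : (Set.univ : Set X) ⊆ f ⁻¹' {f (genericPoint X)} := by
    intro x _
    have h1 : genericPoint X ⤳ x := genericPoint_specializes x
    have h2 : f (genericPoint X) ⤳ f x := h1.map f.continuous
    have h3 := h2.mem_closure
    rw [hcl.closure_eq] at h3
    exact h3
  have h1 := IsFinite.finite_preimage_singleton f (f (genericPoint X))
  exact Groth.Agent.Helper4.SN642.infinite_closedPoints k hdim
    ((h1.subset h2).subset (Set.subset_univ _))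

include k in
theorem rank_push' (f : X ⟶ Y) [IsFinite f] [Flat f] (d : ℕ)
    (hrk : ∀ y : Y, Scheme.Hom.finrank f y = d) :
    FlatMod.IsFinLocFreeOfRank d
      ((Scheme.Modules.pushforward f).obj (Coh.structureModule X)) := by
  haveI := Groth.Agent.Helper4.NApx82.isNoetherian_of_proper k Y
  haveI : IsLocallyNoetherian Y := inferInstance
  haveI : LocallyOfFinitePresentation f :=
    LocallyOfFinitePresentation.iff_locallyOfFiniteType.mpr inferInstance
  exact (Groth.Agent.Helper1.FC.push_of_isCover f d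
    ⟨⟨inferInstance, inferInstance, inferInstance⟩, hrk⟩).2

include k in
/-- the degree of a finite morphism of curves whose direct image of the structure module is
locally free of rank `n` -/
theorem residueDegree_eq_of_rank' (hdim : topologicalKrullDim X = 1)
    (hdimY : topologicalKrullDim Y = 1)
    (f : X ⟶ Y) [IsFinite f]
    (hξ : f (genericPoint X) = genericPoint Y) (n : ℕ)
    (hd : FlatMod.IsFinLocFreeOfRank n
      ((Scheme.Modules.pushforward f).obj (Coh.structureModule X))) :
    EGA4loc.residueDegree f (genericPoint X) = n := by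
  haveI := Groth.Agent.Helper4.NApx82.isNoetherian_of_proper k X
  have hcl : IsClosedMap f.base := f.isClosedMap
  have hS : IsLocalRing.maximalIdeal (X.presheaf.stalk (genericPoint X)) = ⊥ := by
    rw [← IsLocalRing.isField_iff_maximalIdeal_eq]
    exact isField_stalk_of_closure_mem_irreducibleComponents X _
      (by simp [irreducibleComponents_eq_singleton])
  have h2 := len_push_toNat f hcl (genericPoint X)
    (fun x' hx' => eq_genericPoint_of_map_eq hdim.le hdimY f hcl x' (hx'.trans hξ)) hS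
  rw [hξ] at h2
  have hlen : (len ((Scheme.Modules.pushforward f).obj (Coh.structureModule X))
      (genericPoint Y)).toNat =
      Module.finrank (Y.presheaf.stalk (genericPoint Y))
        (((Scheme.Modules.pushforward f).obj (Coh.structureModule X)).presheaf.stalk
          (genericPoint Y)) := by
    unfold len
    rw [Module.length_eq_rank (Y.presheaf.stalk (genericPoint Y))]
    rfl
  obtain ⟨bas⟩ := nonempty_basis_stalk_of_rank _ hd (genericPoint Y)
  rw [Module.finrank_eq_card_basis bas, Fintype.card_fin] at hlen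
  have h3 : f.residueDegree (genericPoint X) = n := by rw [← h2, hlen]
  exact h3

end Curves


section Main

variable (k : Type u) [Field k] [IsAlgClosed k] {X : Scheme.{u}} [X.Over (Spec (CommRingCat.of k))]
  [IsIntegral X] [IsProper (X ↘ (Spec (CommRingCat.of k)))]

include k in
/-- **two double covers of curves of genus at most `γ` by a curve of genus greater than
`4 γ + 1` are isomorphic** -/
theorem main16973 (hdim : topologicalKrullDim X = 1)
    (hreg : ∀ x : X, IsRegularLocalRing (X.presheaf.stalk x))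
    (γ : ℕ) (hg : 4 * γ + 1 < Curv2.genus k X)
    (P₁ : Scheme.{u}) [P₁.Over (Spec (CommRingCat.of k))] [IsIntegral P₁]
    [IsProper (P₁ ↘ (Spec (CommRingCat.of k)))]
    (hdim₁ : topologicalKrullDim P₁ = 1)
    (hreg₁ : ∀ y : P₁, IsRegularLocalRing (P₁.presheaf.stalk y)) (hγ₁ : Curv2.genus k P₁ ≤ γ)
    (P₂ : Scheme.{u}) [P₂.Over (Spec (CommRingCat.of k))] [IsIntegral P₂]
    [IsProper (P₂ ↘ (Spec (CommRingCat.of k)))]
    (hdim₂ : topologicalKrullDim P₂ = 1)
    (hreg₂ : ∀ y : P₂, IsRegularLocalRing (P₂.presheaf.stalk y)) (hγ₂ : Curv2.genus k P₂ ≤ γ)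
    (f₁ : X ⟶ P₁) (hf₁ : f₁ ≫ (P₁ ↘ Spec (CommRingCat.of k)) = X ↘ Spec (CommRingCat.of k))
    [IsFinite f₁] [Flat f₁] (hr₁ : ∀ y : P₁, Scheme.Hom.finrank f₁ y = 2)
    (f₂ : X ⟶ P₂) (hf₂ : f₂ ≫ (P₂ ↘ Spec (CommRingCat.of k)) = X ↘ Spec (CommRingCat.of k))
    [IsFinite f₂] [Flat f₂] (hr₂ : ∀ y : P₂, Scheme.Hom.finrank f₂ y = 2) :
    ∃ e : P₁ ≅ P₂, e.hom ≫ (P₂ ↘ Spec (CommRingCat.of k)) = (P₁ ↘ Spec (CommRingCat.of k)) ∧
      f₁ ≫ e.hom = f₂ := by
  haveI := Groth.Agent.Helper4.NApx82.isNoetherian_of_proper k X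
  haveI := Groth.Agent.Helper4.NApx82.isNoetherian_of_proper k P₁
  haveI := Groth.Agent.Helper4.NApx82.isNoetherian_of_proper k P₂
  obtain ⟨pd⟩ := Groth.Agent.Helper4.SN568.nonempty_placeData k X hdim hreg
  obtain ⟨pd₁⟩ := Groth.Agent.Helper4.SN568.nonempty_placeData k P₁ hdim₁ hreg₁
  obtain ⟨pd₂⟩ := Groth.Agent.Helper4.SN568.nonempty_placeData k P₂ hdim₂ hreg₂
  have hK := Groth.Agent.Helper4.SN568.isFunctionField k X hdim
  have hK₁ := Groth.Agent.Helper4.SN568.isFunctionField k P₁ hdim₁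
  have hK₂ := Groth.Agent.Helper4.SN568.isFunctionField k P₂ hdim₂
  have hgen := Groth.Agent.Helper4.SN560.genus_eq pd
  have hgen₁ := Groth.Agent.Helper4.SN560.genus_eq pd₁
  have hgen₂ := Groth.Agent.Helper4.SN560.genus_eq pd₂
  have hξ₁ := map_genericPoint_of_isFinite' k hdim hdim₁ f₁
  have hξ₂ := map_genericPoint_of_isFinite' k hdim hdim₂ f₂
  have hd₁ := residueDegree_eq_of_rank' k hdim hdim₁ f₁ hξ₁ 2 (rank_push' k f₁ 2 hr₁)
  have hd₂ := residueDegree_eq_of_rank' k hdim hdim₂ f₂ hξ₂ 2 (rank_push' k f₂ 2 hr₂)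
  have hfr₁ := finrank_ffMap f₁ hξ₁
  have hfr₂ := finrank_ffMap f₂ hξ₂
  rw [hd₁] at hfr₁
  rw [hd₂] at hfr₂
  set q₁ := P₁ ↘ Spec (CommRingCat.of k) with hq₁
  set q₂ := P₂ ↘ Spec (CommRingCat.of k) with hq₂
  set p := X ↘ Spec (CommRingCat.of k) with hp
  -- the range inclusions from Castelnuovo's inequality
  have hle : ∀ z, (ffMap f₂ hξ₂).hom z ∈ Set.range (ffMap f₁ hξ₁).hom := by
    by_contra hcon
    letI a₁ : Algebra P₁.functionField X.functionField := (ffMap f₁ hξ₁).hom.toAlgebra
    letI a₂ : Algebra P₂.functionField X.functionField := (ffMap f₂ hξ₂).hom.toAlgebra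
    haveI : IsScalarTower k P₁.functionField X.functionField :=
      IsScalarTower.of_algebraMap_eq
        (fun c => (Groth.Agent.Helper4.SN654.ffMap_stalkMap k f₁ hf₁ hξ₁ c).symm)
    haveI : IsScalarTower k P₂.functionField X.functionField :=
      IsScalarTower.of_algebraMap_eq
        (fun c => (Groth.Agent.Helper4.SN654.ffMap_stalkMap k f₂ hf₂ hξ₂ c).symm)
    have hne : ¬ Set.range (algebraMap P₂.functionField X.functionField) ⊆
        Set.range (algebraMap P₁.functionField X.functionField) := by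
      intro hsub
      apply hcon
      intro z
      exact hsub ⟨z, rfl⟩
    have hcast := Groth.Agent.Helper4.SN655.castelnuovo_two hK₁ hK₂ hK hfr₁ hfr₂ hne
    rw [← hgen, ← hgen₁, ← hgen₂] at hcast
    omega
  obtain ⟨θ, hθ⟩ := exists_ringEquiv_of_range_le' (ffMap f₁ hξ₁).hom (ffMap f₂ hξ₂).hom 2
    (by norm_num) hfr₁ hfr₂ hle
  let θc : P₂.functionField ⟶ P₁.functionField := CommRingCat.ofHom θ.toRingHom
  let θc' : P₁.functionField ⟶ P₂.functionField := CommRingCat.ofHom θ.symm.toRingHom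
  have hθc : θc ≫ ffMap f₁ hξ₁ = ffMap f₂ hξ₂ := by
    ext z
    exact hθ z
  have hθc' : θc' ≫ ffMap f₂ hξ₂ = ffMap f₁ hξ₁ := by
    ext z
    show (ffMap f₂ hξ₂).hom (θ.symm z) = (ffMap f₁ hξ₁).hom z
    rw [← hθ (θ.symm z), θ.apply_symm_apply]
  have hθθ' : θc' ≫ θc = 𝟙 _ := by
    ext z
    exact θ.apply_symm_apply z
  have hθ'θ : θc ≫ θc' = 𝟙 _ := by
    ext z
    exact θ.symm_apply_apply z
  have hepi : ∀ {Y : Scheme.{u}} [IsIntegral Y] (f : X ⟶ Y) (hξ : f (genericPoint X) = genericPoint Y),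
      Epi (Spec.map (ffMap f hξ)) := by
    intro Y _ f hξ
    haveI hss : Subsingleton (Spec (Y.functionField)) :=
      inferInstanceAs (Subsingleton (PrimeSpectrum Y.functionField))
    haveI : Surjective (Spec.map (ffMap f hξ)) :=
      ⟨fun y => ⟨IsLocalRing.closedPoint X.functionField, Subsingleton.elim _ _⟩⟩
    haveI : Flat (Spec.map (ffMap f hξ)) := by
      rw [Flat.SpecMap_iff]
      letI := (ffMap f hξ).hom.toAlgebra
      exact (inferInstance : Module.Flat Y.functionField X.functionField)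
    exact Flat.epi_of_flat_of_surjective _
  have hτθ : Spec.map θc ≫ P₂.fromSpecStalk (genericPoint P₂) ≫ q₂ =
      P₁.fromSpecStalk (genericPoint P₁) ≫ q₁ := by
    haveI := hepi f₁ hξ₁
    rw [← cancel_epi (Spec.map (ffMap f₁ hξ₁))]
    rw [← Category.assoc, ← Spec.map_comp, hθc, ← Category.assoc, ← Category.assoc,
      SpecMap_ffMap f₂ hξ₂, SpecMap_ffMap f₁ hξ₁, Category.assoc, Category.assoc, hf₁, hf₂]
  have hτθ' : Spec.map θc' ≫ P₁.fromSpecStalk (genericPoint P₁) ≫ q₁ =
      P₂.fromSpecStalk (genericPoint P₂) ≫ q₂ := by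
    haveI := hepi f₂ hξ₂
    rw [← cancel_epi (Spec.map (ffMap f₂ hξ₂))]
    rw [← Category.assoc, ← Spec.map_comp, hθc', ← Category.assoc, ← Category.assoc,
      SpecMap_ffMap f₂ hξ₂, SpecMap_ffMap f₁ hξ₁, Category.assoc, Category.assoc, hf₁, hf₂]
  have hdim1₁ : ∀ y : P₁, ringKrullDim (P₁.presheaf.stalk y) ≤ 1 := by
    intro y
    have := Groth.Agent.Helper5.DimIneq.ringKrullDim_stalk_le_dim P₁ y
    rw [hdim₁] at this
    exact this
  have hdim1₂ : ∀ y : P₂, ringKrullDim (P₂.presheaf.stalk y) ≤ 1 := by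
    intro y
    have := Groth.Agent.Helper5.DimIneq.ringKrullDim_stalk_le_dim P₂ y
    rw [hdim₂] at this
    exact this
  obtain ⟨a, haq, haη⟩ := exists_hom_of_functionField_hom' q₁ q₂ hreg₁ hdim1₁ θc hτθ
  obtain ⟨b, hbq, hbη⟩ := exists_hom_of_functionField_hom' q₂ q₁ hreg₂ hdim1₂ θc' hτθ'
  haveI := Groth.Agent.Helper4.SN639.isDominant_fromSpecStalk_genericPoint P₁
  haveI := Groth.Agent.Helper4.SN639.isDominant_fromSpecStalk_genericPoint P₂
  haveI := Groth.Agent.Helper4.SN639.isDominant_fromSpecStalk_genericPoint X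
  haveI : IsSeparated q₁ := inferInstance
  haveI : IsSeparated q₂ := inferInstance
  have hab : a ≫ b = 𝟙 _ := by
    apply ext_of_isDominant_of_isSeparated q₁
      (by rw [Category.assoc, hbq, haq, Category.id_comp])
      (P₁.fromSpecStalk (genericPoint P₁))
    rw [← Category.assoc, haη, Category.assoc, hbη, ← Category.assoc, ← Spec.map_comp, hθθ',
      Spec.map_id, Category.id_comp, Category.comp_id]
  have hba : b ≫ a = 𝟙 _ := by
    apply ext_of_isDominant_of_isSeparated q₂
      (by rw [Category.assoc, haq, hbq, Category.id_comp])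
      (P₂.fromSpecStalk (genericPoint P₂))
    rw [← Category.assoc, hbη, Category.assoc, haη, ← Category.assoc, ← Spec.map_comp, hθ'θ,
      Spec.map_id, Category.id_comp, Category.comp_id]
  have hfa : f₁ ≫ a = f₂ := by
    apply ext_of_isDominant_of_isSeparated q₂
      (by rw [Category.assoc, haq, hf₁, hf₂])
      (X.fromSpecStalk (genericPoint X))
    rw [← Category.assoc, ← SpecMap_ffMap f₁ hξ₁, Category.assoc, haη, ← Category.assoc,
      ← Spec.map_comp, hθc, SpecMap_ffMap f₂ hξ₂]
  exact ⟨⟨a, b, hab, hba⟩, haq, hfa⟩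

end Main

end Groth.Agent.Helper4.SN656
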