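import Mathlib
import Groth.Agent.Helper4.SN595
import Groth.Agent.Helper4.SN586
import Groth.Agent.Helper4.SN579
import Groth.Agent.Helper4.SN267
import Groth.Agent.Helper4.PullTensor

/-!
# S13461: a canonical curve of genus four lies on a quadric
-/

set_option autoImplicit false
set_option linter.style.haveILetI false
set_option linter.unusedSectionVars false
universe u
open CategoryTheory CategoryTheory.Limits AlgebraicGeometry TopologicalSpace Opposite

namespace Groth.Agent.Helper4.SN657

open Groth.Agent.Helper4.SN Groth.Agent.Helper1.Dev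

variable (k : Type u) [Field k]
  (X : Scheme.{u}) [X.Over (Spec (CommRingCat.of k))]
  [IsProper (X ↘ (Spec (CommRingCat.of k)))] [Smooth (X ↘ (Spec (CommRingCat.of k)))]
  [GeometricallyConnected (X ↘ (Spec (CommRingCat.of k)))]

theorem main13461 (hdim : topologicalKrullDim X = 1) (hg : Curv2.genus k X = 4)
    (i : X ⟶ CohB1.ProjSpace 3 k)
    (hi : i ≫ CohB1.ProjSpace.toSpec 3 k = X ↘ (Spec (CommRingCat.of k)))
    (hcan : Nonempty ((Scheme.Modules.pullback i).obj (Twist.twistProjSpace 3 k 1) ≅
      Omega.sheaf (X ↘ (Spec (CommRingCat.of k))))) :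
    ∃ Q : Γ(Twist.twistProjSpace 3 k 2, ⊤), Q ≠ 0 ∧
      OmegaSh.pullSect i (Twist.twistProjSpace 3 k 2) ⊤ Q = 0 := by
  haveI : IsIntegral X := isIntegral_of_smooth_of_geometricallyConnected k X
  haveI := Groth.Agent.Helper4.NApx82.isNoetherian_of_proper k X
  have h0 := Groth.Agent.Helper4.SN578.h0_structure k X
  obtain ⟨ecan⟩ := hcan
  have hO1 : PicF.IsInvertible (Twist.twistProjSpace 3 k 1) :=
    Groth.Agent.Helper1.SerreVan.isInvertible_twist 3 k 1
  have hO2 : PicF.IsInvertible (Twist.twistProjSpace 3 k 2) :=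
    Groth.Agent.Helper1.SerreVan.isInvertible_twist 3 k 2
  have hL1 := Groth.Agent.Helper4.PullSec.isInvertible_pullback i hO1
  have hL2 := Groth.Agent.Helper4.PullSec.isInvertible_pullback i hO2
  -- the degree of `i^* O(2)`
  obtain ⟨e1⟩ := Groth.Agent.Helper4.SN267.nonempty_tensorPow_iso k 3 1 2
  have e2 : CohB1.tensorPow (Twist.twistProjSpace 3 k 1) 2 ≅ Twist.twistProjSpace 3 k 2 :=
    e1 ≪≫ eqToIso (by norm_num)
  have e3 : (Scheme.Modules.pullback i).obj (Twist.twistProjSpace 3 k 2) ≅
      CohB1.tensorPow ((Scheme.Modules.pullback i).obj (Twist.twistProjSpace 3 k 1)) 2 :=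
    (Scheme.Modules.pullback i).mapIso e2.symm ≪≫
      Groth.Agent.Helper4.PullTensor.pullPowIso i hO1 2
  obtain ⟨-, hdΩ⟩ := Groth.Agent.Helper4.SN577.main1612 k X hdim h0
  have hdeg : Curv2.deg k X ((Scheme.Modules.pullback i).obj (Twist.twistProjSpace 3 k 2)) 1 =
      12 := by
    rw [deg_iso k e3 1, deg_tensorPow k hdim _ hL1, deg_iso k ecan 1, hdΩ, hg]
    norm_num
  -- the bound on sections
  have hχM := chi_eq_h0_sub_h1 k hdim.le
    ((Scheme.Modules.pullback i).obj (Twist.twistProjSpace 3 k 2))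
  have hχO := chi_eq_h0_sub_h1 k hdim.le (Coh.structureModule X)
  have hgen : Module.finrank k (Coh.HH X (Coh.structureModule X) 1) = Curv2.genus k X := rfl
  have hle : Module.finrank k (Coh.HH X
      ((Scheme.Modules.pullback i).obj (Twist.twistProjSpace 3 k 2)) 0) ≤ 9 := by
    by_cases h1 : Module.finrank k (Coh.HH X
        ((Scheme.Modules.pullback i).obj (Twist.twistProjSpace 3 k 2)) 1) = 0
    · unfold Curv2.deg at hdeg
      unfold chi at hχM hχO
      rw [hχM, hχO, h0, hgen, hg, h1] at hdeg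
      push_cast at hdeg
      omega
    · by_cases h00 : Module.finrank k (Coh.HH X
          ((Scheme.Modules.pullback i).obj (Twist.twistProjSpace 3 k 2)) 0) = 0
      · omega
      · have hcl := Groth.Agent.Helper4.SN586.clifford_any_field k hdim h0 _ hL2
          (Nat.pos_of_ne_zero h00) (Nat.pos_of_ne_zero h1)
        rw [hdeg] at hcl
        omega
  -- the dimension of the space of quadrics
  have h10 : Module.finrank k (Coh.HH (CohB1.ProjSpace 3 k) (Twist.twistProjSpace 3 k 2) 0) =
      10 := by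
    obtain ⟨e⟩ := Groth.Agent.Helper1.ProjTop.nonempty_H0 3 k 2
    have h := e.finrank_eq
    rw [Groth.Agent.Helper6.HomogRank.finrank_homogeneousSubmodule] at h
    refine Eq.trans ?_ (h.trans ?_)
    · rfl
    · decide
  have hcL := Groth.Agent.Helper1.SerreFin.isCoh_of_isInvertible _ hL2
  haveI : Module.Finite k (Coh.HH X
      ((Scheme.Modules.pullback i).obj (Twist.twistProjSpace 3 k 2)) 0) :=
    Groth.Agent.S0002.result k X _ hcL 0
  letI := sectModule k (Twist.twistProjSpace 3 k 2)
  letI := sectModule k ((Scheme.Modules.pullback i).obj (Twist.twistProjSpace 3 k 2))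
  let φ : Coh.HH (CohB1.ProjSpace 3 k) (Twist.twistProjSpace 3 k 2) 0 →ₗ[k]
      Coh.HH X ((Scheme.Modules.pullback i).obj (Twist.twistProjSpace 3 k 2)) 0 :=
    (h0LinEquiv k ((Scheme.Modules.pullback i).obj (Twist.twistProjSpace 3 k 2))).symm.toLinearMap ∘ₗ
      pullSectLin k i hi (Twist.twistProjSpace 3 k 2) ∘ₗ
      (h0LinEquiv k (Twist.twistProjSpace 3 k 2)).toLinearMap
  have hφ : ¬ Function.Injective φ := by
    intro hinj
    have := LinearMap.finrank_le_finrank_of_injective hinj
    omega
  rw [injective_iff_map_eq_zero] at hφ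
  push Not at hφ
  obtain ⟨x, hx, hx0⟩ := hφ
  refine ⟨h0LinEquiv k (Twist.twistProjSpace 3 k 2) x, ?_, ?_⟩
  · intro h
    exact hx0 ((h0LinEquiv k (Twist.twistProjSpace 3 k 2)).injective (h.trans (map_zero _).symm))
  · have := (h0LinEquiv k
      ((Scheme.Modules.pullback i).obj (Twist.twistProjSpace 3 k 2))).symm.injective
      (hx.trans (map_zero _).symm)
    exact this

end Groth.Agent.Helper4.SN657
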