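import Mathlib

/-!
# Tame ramification: the module of differentials of a tamely ramified extension with trivial
residue extension is killed by the `(e-1)`-st power of a uniformizer
-/

set_option autoImplicit false
open scoped KaehlerDifferential

namespace Groth.Agent.Helper4.SN658

variable {R S : Type*} [CommRing R] [CommRing S] [Algebra R S] [IsLocalRing S]

/-- if the maximal ideal of the local ring `S` is generated by `s` and the residue field of `S`
is covered by `R`, then `Ω[S/R]` is generated by `ds` as soon as it is finitely generated -/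
theorem span_D_eq_top [Module.Finite S Ω[S⁄R]] (s : S)
    (hs : IsLocalRing.maximalIdeal S = Ideal.span {s})
    (hres : ∀ b : S, ∃ r : R, b - algebraMap R S r ∈ IsLocalRing.maximalIdeal S) :
    Submodule.span S {KaehlerDifferential.D R S s} = ⊤ := by
  have hfg : (⊤ : Submodule S Ω[S⁄R]).FG := Module.Finite.fg_top
  rw [eq_top_iff]
  apply Submodule.le_of_le_smul_of_le_jacobson_bot (I := IsLocalRing.maximalIdeal S) hfg
    (IsLocalRing.maximalIdeal_le_jacobson ⊥)
  rw [← KaehlerDifferential.span_range_derivation, Submodule.span_le]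
  rintro _ ⟨b, rfl⟩
  obtain ⟨r, hr⟩ := hres b
  rw [hs, Ideal.mem_span_singleton'] at hr
  obtain ⟨b', hb'⟩ := hr
  have hb : b = algebraMap R S r + b' * s := by rw [hb']; ring
  rw [hb, map_add, Derivation.map_algebraMap, zero_add, Derivation.leibniz]
  refine Submodule.add_mem _ (Submodule.mem_sup_left ?_) (Submodule.mem_sup_right ?_)
  · exact Submodule.smul_mem _ _ (Submodule.mem_span_singleton_self _)
  · refine Submodule.smul_mem_smul ?_ ?_
    · rw [hs]; exact Ideal.mem_span_singleton_self s
    · rw [KaehlerDifferential.span_range_derivation]; trivial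

/-- **tame ramification**: if `t ∈ R` maps to `u s ^ e` with `u` and `e` units of `S`, then
`s ^ (e - 1)` kills `Ω[S/R]` -/
theorem pow_smul_eq_zero [Module.Finite S Ω[S⁄R]] (s : S)
    (hs : IsLocalRing.maximalIdeal S = Ideal.span {s})
    (hres : ∀ b : S, ∃ r : R, b - algebraMap R S r ∈ IsLocalRing.maximalIdeal S)
    (t : R) (u : S) (hu : IsUnit u) (e : ℕ) (he : IsUnit (e : S))
    (ht : algebraMap R S t = u * s ^ e) (ω : Ω[S⁄R]) : s ^ (e - 1) • ω = 0 := by
  have hspan := span_D_eq_top (R := R) s hs hres
  have he1 : 1 ≤ e := by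
    rcases Nat.eq_zero_or_pos e with h | h
    · subst h
      simp at he
    · exact h
  -- `du = a ds`
  have hu' : KaehlerDifferential.D R S u ∈ Submodule.span S {KaehlerDifferential.D R S s} := by
    rw [hspan]; trivial
  obtain ⟨a, ha⟩ := Submodule.mem_span_singleton.1 hu'
  have h0 : KaehlerDifferential.D R S (u * s ^ e) = 0 := by
    rw [← ht, Derivation.map_algebraMap]
  rw [Derivation.leibniz, Derivation.leibniz_pow, ← ha] at h0
  have h1 : (s ^ (e - 1) * (u * e + s * a)) • KaehlerDifferential.D R S s = 0 := by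
    rw [← h0]
    have hpow : s ^ e = s ^ (e - 1) * s := by rw [← pow_succ, Nat.sub_add_cancel he1]
    rw [hpow, ← Nat.cast_smul_eq_nsmul S e, smul_smul, smul_smul, smul_smul, ← add_smul]
    congr 1
    ring
  have hunit : IsUnit (u * e + s * a) := by
    have hm : s * a ∈ IsLocalRing.maximalIdeal S := by
      rw [hs]; exact Ideal.mul_mem_right _ _ (Ideal.mem_span_singleton_self s)
    have hue : IsUnit (u * (e : S)) := hu.mul he
    by_contra hnu
    have h2 : u * (e : S) + s * a ∈ IsLocalRing.maximalIdeal S := hnu
    have h3 : u * (e : S) ∈ IsLocalRing.maximalIdeal S := by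
      have := Ideal.sub_mem _ h2 hm
      simpa using this
    exact h3 hue
  have h2 : s ^ (e - 1) • KaehlerDifferential.D R S s = 0 := by
    obtain ⟨v, hv⟩ := hunit
    have : (↑v⁻¹ : S) • ((s ^ (e - 1) * (u * e + s * a)) • KaehlerDifferential.D R S s) = 0 := by
      rw [h1, smul_zero]
    rw [smul_smul, ← hv] at this
    have h4 : (↑v⁻¹ : S) * (s ^ (e - 1) * ↑v) = s ^ (e - 1) := by
      rw [mul_comm (s ^ (e - 1)), ← mul_assoc, Units.inv_mul, one_mul]
    rwa [h4] at this
  have hω : ω ∈ Submodule.span S {KaehlerDifferential.D R S s} := by rw [hspan]; trivial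
  obtain ⟨b, rfl⟩ := Submodule.mem_span_singleton.1 hω
  rw [smul_comm, h2, smul_zero]

end Groth.Agent.Helper4.SN658
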