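import Mathlib
import Groth.Prelude.Def_Omega4
import Groth.Agent.Lead.UnrStalkB
import Groth.Agent.Helper4.SN658

/-!
# The stalk of the sheaf of relative differentials is the module of differentials of the
stalk map
-/

set_option autoImplicit false
set_option linter.style.haveILetI false
universe u
open CategoryTheory AlgebraicGeometry Opposite TopologicalSpace
open scoped KaehlerDifferential

namespace Groth.Agent.Helper4.SN659

open Groth.Agent.Helper4 Groth.Agent.Lead

section Alg

variable (A B Ap Bq : Type u) [CommRing A] [CommRing B] [CommRing Ap] [CommRing Bq]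
  [Algebra A B] [Algebra A Ap] [Algebra B Bq] [Algebra Ap Bq] [Algebra A Bq]
  [IsScalarTower A B Bq] [IsScalarTower A Ap Bq]
  (p : Ideal A) [p.IsPrime] (q : Ideal B) [q.IsPrime]
  [IsLocalization.AtPrime Ap p] [IsLocalization.AtPrime Bq q]

include p in
theorem map_bijective : Function.Bijective (KaehlerDifferential.map A Ap Bq Bq) := by
  haveI : Algebra.FormallyUnramified A Ap :=
    Algebra.FormallyUnramified.of_isLocalization p.primeCompl
  refine ⟨?_, KaehlerDifferential.map_surjective A Ap Bq⟩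
  rw [injective_iff_map_eq_zero]
  intro ω hω
  obtain ⟨z, rfl⟩ := (KaehlerDifferential.exact_mapBaseChange_map A Ap Bq ω).1 hω
  rw [Subsingleton.elim z 0, map_zero]

include p q in
theorem nonempty_equiv {N : Type u} [AddCommGroup N] [Module B N] [Module Bq N]
    [IsScalarTower B Bq N] (g : Ω[B⁄A] →ₗ[B] N) [IsLocalizedModule q.primeCompl g] :
    Nonempty (N ≃ₗ[Bq] Ω[Bq⁄Ap]) := by
  let e1 : N ≃ₗ[B] Ω[Bq⁄A] :=
    IsLocalizedModule.linearEquiv q.primeCompl g (KaehlerDifferential.map A A B Bq)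
  let e2 : N ≃ₗ[Bq] Ω[Bq⁄A] := e1.extendScalarsOfIsLocalization q.primeCompl Bq
  exact ⟨e2.trans (LinearEquiv.ofBijective (KaehlerDifferential.map A Ap Bq Bq)
    (map_bijective A Ap Bq p))⟩

end Alg

set_option backward.isDefEq.respectTransparency false in
/-- the stalk of `Ω_f` at `x` is `Ω[O_{X,x} / O_{S,f(x)}]` -/
theorem nonempty_stalk_equiv {X S : Scheme.{u}} (f : X ⟶ S) [QuasiSeparated f] (x : X) :
    letI := (f.stalkMap x).hom.toAlgebra
    Nonempty ((Omega.sheaf f).presheaf.stalk x ≃ₗ[X.presheaf.stalk x]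
      Ω[X.presheaf.stalk x⁄S.presheaf.stalk (f.base x)]) := by
  obtain ⟨U, V, hU, hV, hxU, e⟩ := OmegaSecB.exists_affine_pair f x
  have hsV : f.base x ∈ V := e hxU
  letI algAB := (f.appLE V U e).hom.toAlgebra
  letI algBq := X.presheaf.algebra_section_stalk ⟨x, hxU⟩
  letI algAp := S.presheaf.algebra_section_stalk ⟨f.base x, hsV⟩
  letI algApBq := (f.stalkMap x).hom.toAlgebra
  letI algABq : Algebra Γ(S, V) (X.presheaf.stalk x) :=
    ((algebraMap Γ(X, U) (X.presheaf.stalk x)).comp (algebraMap Γ(S, V) Γ(X, U))).toAlgebra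
  haveI : IsScalarTower Γ(S, V) Γ(X, U) (X.presheaf.stalk x) :=
    IsScalarTower.of_algebraMap_eq (fun _ => rfl)
  haveI : IsScalarTower Γ(S, V) (S.presheaf.stalk (f.base x)) (X.presheaf.stalk x) := by
    refine IsScalarTower.of_algebraMap_eq (fun a => ?_)
    change X.presheaf.germ U x hxU (f.appLE V U e a) =
      f.stalkMap x (S.presheaf.germ V (f.base x) hsV a)
    rw [Scheme.Hom.germ_stalkMap_apply, Scheme.Hom.appLE]
    simp only [CommRingCat.comp_apply]
    exact X.presheaf.germ_res_apply (homOfLE e) x hxU _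
  haveI := hU.isLocalization_stalk ⟨x, hxU⟩
  haveI := hV.isLocalization_stalk ⟨f.base x, hsV⟩
  obtain ⟨ε, -⟩ := OmegaSecA.exists_sectionsEquiv f hU hV e
  letI := StalkDict.sectionModStalk (Omega.sheaf f) x hxU
  haveI := StalkDict.isLocalizedModule_germ hU (Omega.sheaf f) x hxU
  let g : Ω[Γ(X, U)⁄Γ(S, V)] →ₗ[Γ(X, U)] (Omega.sheaf f).presheaf.stalk x :=
    (StalkDict.germLin (Omega.sheaf f) x hxU).comp ε.symm.toLinearMap
  haveI : IsLocalizedModule (hU.primeIdealOf ⟨x, hxU⟩).asIdeal.primeCompl g :=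
    IsLocalizedModule.of_linearEquiv_right _ _ ε.symm
  haveI : IsScalarTower Γ(X, U) (X.presheaf.stalk x) ((Omega.sheaf f).presheaf.stalk x) :=
    ⟨fun a b m => by
      change (X.presheaf.germ U x hxU a * b) • m = X.presheaf.germ U x hxU a • b • m
      rw [mul_smul]⟩
  exact nonempty_equiv Γ(S, V) Γ(X, U) (S.presheaf.stalk (f.base x))
    (X.presheaf.stalk x) (hV.primeIdealOf ⟨_, hsV⟩).asIdeal (hU.primeIdealOf ⟨x, hxU⟩).asIdeal g

/-- **tame ramification, sheaf form**: if the maximal ideal of `O_{X,x}` is generated by `s`, the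
residue field of `x` is covered by `O_{S,f(x)}`, and some `t` downstairs maps to `u s ^ e` with
`u` and `e` units, then `s ^ (e - 1)` kills the stalk of `Ω_f` at `x` -/
theorem pow_smul_stalk_eq_zero {X S : Scheme.{u}} (f : X ⟶ S) [LocallyOfFiniteType f]
    [QuasiSeparated f] (x : X) (s : X.presheaf.stalk x)
    (hs : IsLocalRing.maximalIdeal (X.presheaf.stalk x) = Ideal.span {s})
    (hres : ∀ b : X.presheaf.stalk x, ∃ r : S.presheaf.stalk (f.base x),
      b - (f.stalkMap x).hom r ∈ IsLocalRing.maximalIdeal (X.presheaf.stalk x))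
    (t : S.presheaf.stalk (f.base x)) (u : X.presheaf.stalk x) (hu : IsUnit u) (e : ℕ)
    (he : IsUnit (e : X.presheaf.stalk x)) (ht : (f.stalkMap x).hom t = u * s ^ e)
    (ω : (Omega.sheaf f).presheaf.stalk x) : s ^ (e - 1) • ω = 0 := by
  letI := (f.stalkMap x).hom.toAlgebra
  obtain ⟨ε⟩ := nonempty_stalk_equiv f x
  haveI : Algebra.EssFiniteType (S.presheaf.stalk (f.base x)) (X.presheaf.stalk x) := by
    rw [← RingHom.essFiniteType_algebraMap, RingHom.algebraMap_toAlgebra]
    exact LocallyOfFiniteType.stalkMap f x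
  apply ε.injective
  rw [map_smul, map_zero]
  exact SN658.pow_smul_eq_zero (R := S.presheaf.stalk (f.base x)) s hs hres t u hu e he ht _

end Groth.Agent.Helper4.SN659
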