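import Mathlib
import Groth.Agent.Helper4.SN555
import Groth.Agent.Helper4.SN552
import Groth.Agent.Helper4.StalkExact

/-!
# A bound for the degree of an invertible module in terms of a submodule with controlled cokernel
-/

set_option autoImplicit false
set_option linter.style.haveILetI false
set_option linter.unusedSectionVars false
universe u
open CategoryTheory CategoryTheory.Limits AlgebraicGeometry TopologicalSpace Opposite FunFld

namespace Groth.Agent.Helper4.SN660

open Groth.Agent.Helper4.StalkDict Groth.Agent.Helper4.SN549 Groth.Agent.Helper4.SN550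

attribute [local instance] Curv2.stalkAlgebra Curv2.resAlgebra

variable {k : Type u} [Field k] {X : Scheme.{u}} [X.Over (Spec (CommRingCat.of k))]
  [IsIntegral X] (pd : PlaceData k X)

/-- if `c : M → N` is an injective map of invertible modules on a curve such that
`m_x ^ E(x) N_x` lies in the image of `M_x` for all closed points `x`, then
`deg N ≤ deg M + deg E` -/
theorem deg_le_of_pow_smul_mem {M N : X.Modules} (hM : PicF.IsInvertible M)
    (hN : PicF.IsInvertible N) (c : M ⟶ N) [Mono c] (E : Divisor k X.functionField)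
    (hE0 : 0 ≤ E)
    (hE : ∀ (x : {x : X // IsClosed ({x} : Set X)}) (n : N.presheaf.stalk x.1)
      (a : X.presheaf.stalk x.1),
      a ∈ IsLocalRing.maximalIdeal (X.presheaf.stalk x.1) ^ (E (pd.pl x)).toNat →
        a • n ∈ Set.range (stalkLin c x.1)) :
    Curv2.deg k X N 1 ≤ Curv2.deg k X M 1 + E.deg := by
  obtain ⟨t, ht0, -⟩ := Groth.Agent.Helper4.SN555.exists_gen M hM
  obtain ⟨DM, hDM⟩ := exists_isDiv pd M hM t ht0
  have hinj := Groth.Agent.Helper4.StalkExact.stalkLin_injective c (genericPoint X)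
  have hu0 : stalkLin c (genericPoint X) t ≠ 0 := by
    intro h0
    apply ht0
    apply hinj
    rw [h0, map_zero]
  obtain ⟨DN, hDN⟩ := exists_isDiv pd N hN _ hu0
  rw [Groth.Agent.Helper4.SN552.deg_eq_of_isDiv pd N hN _ DN hDN,
    Groth.Agent.Helper4.SN552.deg_eq_of_isDiv pd M hM t DM hDM]
  have hle : DN ≤ DM + E := by
    intro P
    obtain ⟨x, rfl⟩ := pd.pl.surjective P
    obtain ⟨f, hf⟩ := (pd.pl x).2.2 (WithZero.exp (DN (pd.pl x)))
    obtain ⟨n, hn⟩ := (hDN x f).2 (le_of_eq hf)
    obtain ⟨π, hπv, hπ⟩ := pd.exists_uniformizer x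
    have hmem : π ^ (E (pd.pl x)).toNat ∈
        IsLocalRing.maximalIdeal (X.presheaf.stalk x.1) ^ (E (pd.pl x)).toNat := by
      apply Ideal.pow_mem_pow
      rw [hπ]
      exact Ideal.mem_span_singleton_self π
    obtain ⟨m, hm⟩ := hE x n _ hmem
    have h1 : sp M x.1 m = (algebraMap (X.presheaf.stalk x.1) X.functionField
        (π ^ (E (pd.pl x)).toNat) * f) • t := by
      apply hinj
      rw [← sp_stalkLin, hm, sp_smul, hn, map_smul, smul_smul]
    have h2 := (hDM x _).1 ⟨m, h1⟩
    rw [map_mul, map_pow, map_pow, hπv, hf, ← WithZero.exp_nsmul, ← WithZero.exp_add,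
      WithZero.exp_le_exp] at h2
    have h3 : 0 ≤ E (pd.pl x) := hE0 (pd.pl x)
    rw [Finsupp.add_apply]
    have h4 : ((E (pd.pl x)).toNat : ℤ) = E (pd.pl x) := Int.toNat_of_nonneg h3
    simp only [nsmul_eq_mul] at h2
    rw [h4] at h2
    linarith
  have h5 : 0 ≤ (DM + E - DN).deg := Groth.Agent.Helper5.FF.deg_nonneg (sub_nonneg.2 hle)
  rw [Groth.Agent.Helper4.SN552.deg_sub, Groth.Agent.Helper4.SN552.deg_add] at h5
  linarith

end Groth.Agent.Helper4.SN660
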