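import Mathlib
import Groth.Agent.Helper4.SN568
import Groth.Agent.Helper4.SN654
import Groth.Agent.Helper4.SN641
import Groth.Agent.Helper5.FGExt2
import Groth.Agent.Helper5.FGConorm
import Groth.Agent.Helper5.FFApprox
import Groth.Agent.Helper5.FFGaps2

/-!
# The dictionary between ramification of a finite morphism of curves and extensions of places
-/

set_option autoImplicit false
set_option linter.style.haveILetI false
set_option linter.unusedSectionVars false
universe u
open CategoryTheory CategoryTheory.Limits AlgebraicGeometry TopologicalSpace Opposite FunFld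
open scoped IntermediateField

namespace Groth.Agent.Helper4.SN661

open Groth.Agent.Helper4.StalkDict Groth.Agent.Helper4.SN549 Groth.Agent.Helper4.SN550
  Groth.Agent.Helper4.SN637 Groth.Agent.Helper5

section Alg

variable {k K K' : Type*} [Field k] [Field K] [Field K'] [Algebra k K] [Algebra K K']
  [Algebra k K'] [IsScalarTower k K K']

/-- an extension of function fields of one variable over `k` is finite -/
theorem finiteDimensional_of_isFunctionField (hK : IsFunctionField k K)
    (hK' : IsFunctionField k K') : FiniteDimensional K K' := by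
  obtain ⟨x, hx, -⟩ := hK.1
  haveI := FF.finiteDimensional_adjoin hK' (FG.transcendental_algebraMap (K' := K') hx)
  have h1 := FG.finrank_adjoin_algebraMap (k := k) (K' := K') x
  have h2 : 0 < Module.finrank k⟮algebraMap K K' x⟯ K' := Module.finrank_pos
  apply Module.finite_of_finrank_pos
  rw [h1] at h2
  exact Nat.pos_of_mul_pos_left h2

end Alg

section Stalk

variable {X Y : Scheme.{u}} [IsIntegral X] [IsIntegral Y] (f : X ⟶ Y)
  (hξ : f (genericPoint X) = genericPoint Y)

/-- the map of function fields is compatible with the stalk maps -/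
theorem ffMap_algebraMap (x : X) (a : Y.presheaf.stalk (f x)) :
    (ffMap f hξ).hom (algebraMap (Y.presheaf.stalk (f x)) Y.functionField a) =
      algebraMap (X.presheaf.stalk x) X.functionField ((f.stalkMap x).hom a) := by
  obtain ⟨V, hV, s, rfl⟩ := TopCat.Presheaf.exists_germ_eq Y.presheaf a
  rw [SN549.algebraMap_germ]
  erw [ffMap_germ f hξ V (gen_mem V hV) s]
  erw [Scheme.Hom.germ_stalkMap_apply f V x hV s]
  exact (SN549.algebraMap_germ x (f ⁻¹ᵁ V) hV _).symm

end Stalk

section Dict

attribute [local instance] Curv2.stalkAlgebra Curv2.resAlgebra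

variable {k : Type u} [Field k] {X Y : Scheme.{u}} [X.Over (Spec (CommRingCat.of k))]
  [Y.Over (Spec (CommRingCat.of k))] [IsIntegral X] [IsIntegral Y]
  (pdX : PlaceData k X) (pdY : PlaceData k Y) (f : X ⟶ Y)
  (hξ : f (genericPoint X) = genericPoint Y)
  [Algebra Y.functionField X.functionField]
  (halg : algebraMap Y.functionField X.functionField = (ffMap f hξ).hom)
  [IsScalarTower k Y.functionField X.functionField]
  [FiniteDimensional Y.functionField X.functionField]

include halg in
theorem algebraMap_algebraMap (x : X) (a : Y.presheaf.stalk (f x)) :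
    algebraMap Y.functionField X.functionField
        (algebraMap (Y.presheaf.stalk (f x)) Y.functionField a) =
      algebraMap (X.presheaf.stalk x) X.functionField ((f.stalkMap x).hom a) := by
  rw [halg]
  exact ffMap_algebraMap f hξ x a

include halg in
/-- the place of a closed point lies over the place of its image -/
theorem exists_isOverWith (x : {x : X // IsClosed ({x} : Set X)})
    (hfx : IsClosed ({f x.1} : Set Y)) :
    ∃ e : ℕ, IsOverWith (pdX.pl x) (pdY.pl ⟨f x.1, hfx⟩) e := by
  obtain ⟨P, e, he⟩ := FG.exists_isOverWith pdY.hK.1 (pdX.pl x)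
  have hP : pdY.pl ⟨f x.1, hfx⟩ = P := by
    apply FF.eq_of_O_le
    intro z hz
    obtain ⟨a, rfl⟩ := (pdY.spec ⟨f x.1, hfx⟩ z).1 hz
    have h1 := pdX.val_algebraMap_le x ((f.stalkMap x.1).hom a)
    rw [← algebraMap_algebraMap f hξ halg x.1 a, he] at h1
    exact (pow_le_one_iff_of_nonneg zero_le (FG.isOverWith_pos he)).1 h1
  rw [hP]
  exact ⟨e, he⟩

include halg in
/-- the stalk map in terms of uniformizers -/
theorem exists_unit_mul_pow (x : {x : X // IsClosed ({x} : Set X)})
    (hfx : IsClosed ({f x.1} : Set Y)) (e : ℕ)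
    (he : IsOverWith (pdX.pl x) (pdY.pl ⟨f x.1, hfx⟩) e)
    (s : X.presheaf.stalk x.1)
    (hs : (pdX.pl x).1 (algebraMap (X.presheaf.stalk x.1) X.functionField s) = WithZero.exp (-1))
    (t : Y.presheaf.stalk (f x.1))
    (ht : (pdY.pl ⟨f x.1, hfx⟩).1 (algebraMap (Y.presheaf.stalk (f x.1)) Y.functionField t) =
      WithZero.exp (-1)) :
    ∃ u : X.presheaf.stalk x.1, IsUnit u ∧ (f.stalkMap x.1).hom t = u * s ^ e := by
  have hs0 : algebraMap (X.presheaf.stalk x.1) X.functionField s ≠ 0 := by
    intro h0
    rw [h0, map_zero] at hs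
    exact WithZero.exp_ne_zero hs.symm
  have hv : (pdX.pl x).1 (algebraMap (X.presheaf.stalk x.1) X.functionField
      ((f.stalkMap x.1).hom t)) =
      (pdX.pl x).1 (algebraMap (X.presheaf.stalk x.1) X.functionField s) ^ e := by
    rw [← algebraMap_algebraMap f hξ halg x.1 t, he, ht, hs]
  set w : X.functionField := algebraMap (X.presheaf.stalk x.1) X.functionField
    ((f.stalkMap x.1).hom t) * (algebraMap (X.presheaf.stalk x.1) X.functionField s ^ e)⁻¹
    with hw
  have hw1 : (pdX.pl x).1 w = 1 := by
    rw [hw, map_mul, map_inv₀, map_pow, hv]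
    exact mul_inv_cancel₀ (pow_ne_zero _ ((Valuation.ne_zero_iff _).2 hs0))
  obtain ⟨u, hu⟩ := (pdX.spec x w).1 (le_of_eq hw1)
  refine ⟨u, pdX.isUnit_of_val_eq_one x u (by rw [hu]; exact hw1), ?_⟩
  apply IsFractionRing.injective (X.presheaf.stalk x.1) X.functionField
  rw [map_mul, map_pow, hu, hw, mul_assoc, inv_mul_cancel₀ (pow_ne_zero _ hs0), mul_one]

include halg in
/-- the fibre of a closed point, with ramification indices summing to the degree -/
theorem exists_finset_fibre [IsAlgClosed k] (y : {y : Y // IsClosed ({y} : Set Y)})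
    (hcl : ∀ x : X, IsClosed ({x} : Set X) → IsClosed ({f x} : Set Y)) :
    ∃ Qs : Finset (Place k X.functionField),
      (∀ x : {x : X // IsClosed ({x} : Set X)}, pdX.pl x ∈ Qs ↔ f x.1 = y.1) ∧
      (∀ Q ∈ Qs, IsOverWith Q (pdY.pl y) (ramIdx Q (pdY.pl y))) ∧
      (∑ Q ∈ Qs, (ramIdx Q (pdY.pl y) : ℤ)) =
        Module.finrank Y.functionField X.functionField := by
  classical
  obtain ⟨hfin, hsum⟩ := FG.finite_isOver_and_sum (K' := X.functionField) pdY.hK (pdY.pl y)
  have hmem : ∀ Q, Q ∈ hfin.toFinset ↔ IsOver Q (pdY.pl y) := by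
    intro Q
    rw [Set.Finite.mem_toFinset]
    rfl
  refine ⟨hfin.toFinset, fun x => ?_, fun Q hQ => ?_, ?_⟩
  · rw [hmem]
    constructor
    · intro h
      obtain ⟨e, he⟩ := exists_isOverWith pdX pdY f hξ halg x (hcl x.1 x.2)
      have h1 := FG.isOver_unique h ⟨e, he⟩
      have h2 := pdY.pl.injective h1
      exact (congrArg Subtype.val h2).symm
    · intro h
      obtain ⟨e, he⟩ := exists_isOverWith pdX pdY f hξ halg x (hcl x.1 x.2)
      have : (⟨f x.1, hcl x.1 x.2⟩ : {y : Y // IsClosed ({y} : Set Y)}) = y := Subtype.ext h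
      rw [this] at he
      exact ⟨e, he⟩
  · obtain ⟨e, he⟩ := (hmem Q).1 hQ
    rw [FG.ramIdx_eq he]
    exact he
  · have h1 := hsum hfin.toFinset hmem
    rw [FF.deg_eq_one_of_isAlgClosed pdY.hK, mul_one] at h1
    have h2 : ∀ Q ∈ hfin.toFinset, ramIdx Q (pdY.pl y) * Q.deg = ramIdx Q (pdY.pl y) := by
      intro Q _
      rw [FF.deg_eq_one_of_isAlgClosed pdX.hK, mul_one]
    rw [Finset.sum_congr rfl h2] at h1
    rw [← h1]
    push_cast
    rfl

end Dict

end Groth.Agent.Helper4.SN661
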