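import Mathlib
import Groth.Agent.Helper4.SN601
import Groth.Agent.Helper4.SN659
import Groth.Agent.Helper4.SN660
import Groth.Agent.Helper4.SN661
import Groth.Agent.Helper4.SN649
import Groth.Agent.Helper4.SN109

/-!
# The Hurwitz inequality for a tamely ramified finite morphism of curves (characteristic zero):
`2 g_X - 2 ≤ n (2 g_Y - 2) + ∑_{y ∈ T} (n - #f⁻¹(y))` if `f` is unramified outside `f⁻¹(T)`
-/

set_option autoImplicit false
set_option linter.style.haveILetI false
set_option linter.unusedSectionVars false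
universe u
open CategoryTheory CategoryTheory.Limits AlgebraicGeometry TopologicalSpace Opposite FunFld

namespace Groth.Agent.Helper4.SN662

open Groth.Agent.Helper4.SN Groth.Agent.Helper1.Dev OmegaSh Groth.Agent.Lead Scheme.Modules
  Groth.Agent.Helper4.StalkDict Groth.Agent.Helper4.SN549 Groth.Agent.Helper4.SN550
  Groth.Agent.Helper4.SN637 Groth.Agent.Helper5

attribute [local instance] Curv2.stalkAlgebra Curv2.resAlgebra

variable (k : Type u) [Field k] [IsAlgClosed k] [CharZero k]
  (X : Scheme.{u}) [X.Over (Spec (CommRingCat.of k))] [IsIntegral X]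
  [IsProper (X ↘ (Spec (CommRingCat.of k)))]
  (hdimX : topologicalKrullDim X = 1)
  (hregX : ∀ x : X, IsRegularLocalRing (X.presheaf.stalk x))
  (Y : Scheme.{u}) [Y.Over (Spec (CommRingCat.of k))] [IsIntegral Y]
  [IsProper (Y ↘ (Spec (CommRingCat.of k)))]
  (hdimY : topologicalKrullDim Y = 1)
  (hregY : ∀ y : Y, IsRegularLocalRing (Y.presheaf.stalk y))
  (f : X ⟶ Y) [IsFinite f]
  (hf : f ≫ (Y ↘ (Spec (CommRingCat.of k))) = (X ↘ (Spec (CommRingCat.of k))))
  (hξ : f (genericPoint X) = genericPoint Y)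

include hf in
/-- the residue field of a closed point upstairs is covered by the local ring downstairs -/
theorem exists_sub_mem (x : X) (hx : IsClosed ({x} : Set X)) (b : X.presheaf.stalk x) :
    ∃ r : Y.presheaf.stalk (f x),
      b - (f.stalkMap x).hom r ∈ IsLocalRing.maximalIdeal (X.presheaf.stalk x) := by
  have hsurj := Groth.Agent.Helper4.SN649.residueFieldMap_surjective k f hf x
    (resMap_surjective k x hx)
  obtain ⟨z, hz⟩ := hsurj (X.residue x b)
  obtain ⟨r, rfl⟩ := Scheme.residue_surjective Y (f x) z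
  refine ⟨r, ?_⟩
  have h1 : X.residue x ((f.stalkMap x).hom r) = (f.residueFieldMap x).hom (Y.residue (f x) r) :=
    congrArg (fun φ : Y.presheaf.stalk (f x) ⟶ X.residueField x => φ.hom r)
      (Scheme.residue_residueFieldMap f x).symm
  have h2 : X.residue x (b - (f.stalkMap x).hom r) = 0 := by
    rw [map_sub, h1, hz, sub_self]
  exact (IsLocalRing.residue_eq_zero_iff _).1 h2

section Kill

variable {k X Y}
variable (pdX : PlaceData k X) (pdY : PlaceData k Y)
  [Algebra Y.functionField X.functionField]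
  (halg : algebraMap Y.functionField X.functionField = (ffMap f hξ).hom)
  [IsScalarTower k Y.functionField X.functionField]
  [FiniteDimensional Y.functionField X.functionField]

include hf halg in
/-- **tame ramification**: the stalk of `Ω_f` at a closed point with ramification index `e` is
killed by the `(e-1)`-st power of the maximal ideal -/
theorem smul_stalk_omega_eq_zero (x : {x : X // IsClosed ({x} : Set X)})
    (hfx : IsClosed ({f x.1} : Set Y)) (e : ℕ)
    (he : IsOverWith (pdX.pl x) (pdY.pl ⟨f x.1, hfx⟩) e) (a : X.presheaf.stalk x.1)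
    (ha : a ∈ IsLocalRing.maximalIdeal (X.presheaf.stalk x.1) ^ (e - 1))
    (ω : (Omega.sheaf f).presheaf.stalk x.1) : a • ω = 0 := by
  obtain ⟨s, hsv, hs⟩ := pdX.exists_uniformizer x
  obtain ⟨t, htv, -⟩ := pdY.exists_uniformizer ⟨f x.1, hfx⟩
  obtain ⟨u, hu, hut⟩ := Groth.Agent.Helper4.SN661.exists_unit_mul_pow pdX pdY f hξ halg x hfx e he
    s hsv t htv
  have he0 : e ≠ 0 := FG.isOverWith_pos he
  have heu : IsUnit ((e : ℕ) : X.presheaf.stalk x.1) := by
    have h1 : ((e : ℕ) : X.presheaf.stalk x.1) =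
        algebraMap k (X.presheaf.stalk x.1) ((e : ℕ) : k) := (map_natCast _ e).symm
    rw [h1]
    exact (isUnit_iff_ne_zero.2 (Nat.cast_ne_zero.2 he0)).map _
  have hkill := Groth.Agent.Helper4.SN659.pow_smul_stalk_eq_zero f x.1 s hs
    (exists_sub_mem k X Y f hf x.1 x.2) t u hu e heu hut ω
  rw [hs, Ideal.span_singleton_pow, Ideal.mem_span_singleton'] at ha
  obtain ⟨b, rfl⟩ := ha
  rw [mul_smul, hkill, smul_zero]

end Kill

section Main

variable {k X Y}

include hdimX hregX hdimY hregY hf hξ in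
/-- **the Hurwitz inequality for tame covers**: if `f` is unramified outside the fibres over a
finite set `T` of closed points, then
`2 g_X - 2 ≤ n (2 g_Y - 2) + ∑_{y ∈ T} (n - #f⁻¹(y))` -/
theorem tame_hurwitz_le (pdX : PlaceData k X)
    (T : Finset {y : Y // IsClosed ({y} : Set Y)})
    (hT : ∀ x : X, IsClosed ({x} : Set X) → (∀ y ∈ T, f x ≠ y.1) →
      Subsingleton ((Omega.sheaf f).presheaf.stalk x)) :
    ∃ (Qs : {y : Y // IsClosed ({y} : Set Y)} → Finset (Place k X.functionField)) (n : ℕ),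
      0 < n ∧
      (∀ y (x : {x : X // IsClosed ({x} : Set X)}), pdX.pl x ∈ Qs y ↔ f x.1 = y.1) ∧
      2 * (Curv2.genus k X : ℤ) - 2 ≤
        n * (2 * (Curv2.genus k Y : ℤ) - 2) + ∑ y ∈ T, ((n : ℤ) - (Qs y).card) := by
  classical
  haveI := Groth.Agent.Helper4.NApx82.isNoetherian_of_proper k X
  obtain ⟨pdY⟩ := Groth.Agent.Helper4.SN568.nonempty_placeData k Y hdimY hregY
  letI alg : Algebra Y.functionField X.functionField := (ffMap f hξ).hom.toAlgebra
  have halg : algebraMap Y.functionField X.functionField = (ffMap f hξ).hom := rfl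
  haveI : IsScalarTower k Y.functionField X.functionField :=
    IsScalarTower.of_algebraMap_eq
      (fun c => (Groth.Agent.Helper4.SN654.ffMap_stalkMap k f hf hξ c).symm)
  haveI : FiniteDimensional Y.functionField X.functionField :=
    Groth.Agent.Helper4.SN661.finiteDimensional_of_isFunctionField pdY.hK pdX.hK
  have hcl : ∀ x : X, IsClosed ({x} : Set X) → IsClosed ({f x} : Set Y) := fun x hx => by
    have := f.isClosedMap _ hx
    rwa [Set.image_singleton] at this
  choose Qs hQs1 hQs2 hQs3 using fun y =>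
    Groth.Agent.Helper4.SN661.exists_finset_fibre pdX pdY f hξ halg y hcl
  refine ⟨Qs, Module.finrank Y.functionField X.functionField, Module.finrank_pos, hQs1, ?_⟩
  -- the canonical map `f^* Ω_Y → Ω_X`
  have hΩX := Groth.Agent.Helper4.SN568.isInvertible_omega k X hdimX hregX
  have hΩY := Groth.Agent.Helper4.SN568.isInvertible_omega k Y hdimY hregY
  have hsq : (X ↘ (Spec (CommRingCat.of k))) ≫ 𝟙 _ = f ≫ (Y ↘ (Spec (CommRingCat.of k))) := by
    rw [Category.comp_id, hf]
  obtain ⟨c, hc, -⟩ := DerA.existsUnique_diffCompat (Y ↘ (Spec (CommRingCat.of k)))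
    (X ↘ (Spec (CommRingCat.of k))) f (𝟙 _) hsq (Omega.sheaf _) (dOmega _)
    (OmegaUnivA.isUniversal _) (Omega.sheaf _) (dOmega _)
  have hsep : Algebra.IsSeparable Y.functionField X.functionField := by
    haveI : CharZero Y.functionField := charZero_of_injective_algebraMap
      (algebraMap k Y.functionField).injective
    infer_instance
  have hc0 : c ≠ 0 := Groth.Agent.Helper4.SN599.c_ne_zero (X ↘ (Spec (CommRingCat.of k)))
    (Y ↘ (Spec (CommRingCat.of k))) f c hc hΩX hξ hsep
  have hr1X := Groth.Agent.Helper4.QAffSec.isFinLocFreeOfRank_one_of_isInvertible _ hΩX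
  have hr1Y := Groth.Agent.Helper4.QAffSec.isFinLocFreeOfRank_one_of_isInvertible _ hΩY
  have hpi := Groth.Agent.Helper4.PullSec.isInvertible_pullback f hΩY
  haveI : Mono c := mono_of_ne_zero_of_invertible hpi 1 hr1X c hc0
  obtain ⟨ι⟩ := Groth.Agent.Helper4.SN601.nonempty_cokernel_iso' f (Y ↘ (Spec (CommRingCat.of k)))
    (X ↘ (Spec (CommRingCat.of k))) hf c hc
  -- the ramification divisor bound
  set E : Divisor k X.functionField :=
    ∑ y ∈ T, ∑ Q ∈ Qs y, Finsupp.single Q ((ramIdx Q (pdY.pl y) : ℤ) - 1) with hEdef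
  have hram : ∀ y, ∀ Q ∈ Qs y, (1 : ℤ) ≤ ramIdx Q (pdY.pl y) := fun y Q hQ => by
    have := Nat.one_le_iff_ne_zero.2 (FG.isOverWith_pos (hQs2 y Q hQ))
    exact_mod_cast this
  have hterm : ∀ y, ∀ Q ∈ Qs y, (0 : Divisor k X.functionField) ≤
      Finsupp.single Q ((ramIdx Q (pdY.pl y) : ℤ) - 1) := fun y Q hQ => by
    intro P
    rw [Finsupp.zero_apply, Finsupp.single_apply]
    split_ifs
    · have := hram y Q hQ
      linarith
    · exact le_refl _
  have hE0 : 0 ≤ E := Finset.sum_nonneg fun y _ => Finset.sum_nonneg fun Q hQ => hterm y Q hQ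
  have hkey : ∀ (x : {x : X // IsClosed ({x} : Set X)}) (n : (Omega.sheaf
      (X ↘ (Spec (CommRingCat.of k)))).presheaf.stalk x.1) (a : X.presheaf.stalk x.1),
      a ∈ IsLocalRing.maximalIdeal (X.presheaf.stalk x.1) ^ (E (pdX.pl x)).toNat →
        a • n ∈ Set.range (stalkLin c x.1) := by
    intro x n a ha
    have hex := Groth.Agent.Helper4.StalkExact.stalkLin_exact
      (ShortComplex.mk c (cokernel.π c) (cokernel.condition c))
      (ShortComplex.exact_cokernel c) x.1
    rw [← (hex (a • n))]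
    show stalkLin (cokernel.π c) x.1 (a • n) = 0
    rw [_root_.map_smul]
    apply (stalkLin_bijective_of_isIso ι.hom x.1).1
    rw [_root_.map_smul, map_zero]
    by_cases hx : ∀ y ∈ T, f x.1 ≠ y.1
    · haveI := hT x.1 x.2 hx
      exact Subsingleton.elim _ _
    · push Not at hx
      obtain ⟨y, hyT, hy⟩ := hx
      have hy' : y = ⟨f x.1, hcl x.1 x.2⟩ := Subtype.ext hy.symm
      subst hy'
      have hmem : pdX.pl x ∈ Qs ⟨f x.1, hcl x.1 x.2⟩ := (hQs1 _ x).2 rfl
      have he := hQs2 _ _ hmem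
      apply smul_stalk_omega_eq_zero f hf hξ pdX pdY halg x (hcl x.1 x.2) _ he
      refine Ideal.pow_le_pow_right ?_ ha
      have h1 : ((ramIdx (pdX.pl x) (pdY.pl ⟨f x.1, hcl x.1 x.2⟩) : ℤ) - 1) ≤ E (pdX.pl x) := by
        rw [hEdef, Finsupp.finset_sum_apply]
        have h2 : ∀ y ∈ T, (0 : ℤ) ≤ (∑ Q ∈ Qs y,
            Finsupp.single Q ((ramIdx Q (pdY.pl y) : ℤ) - 1)) (pdX.pl x) := fun y _ =>
          (Finset.sum_nonneg fun Q hQ => hterm y Q hQ) (pdX.pl x)
        refine le_trans ?_ (Finset.single_le_sum h2 hyT)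
        rw [Finsupp.finset_sum_apply]
        have h3 : ∀ Q ∈ Qs ⟨f x.1, hcl x.1 x.2⟩, (0 : ℤ) ≤
            (Finsupp.single Q ((ramIdx Q (pdY.pl ⟨f x.1, hcl x.1 x.2⟩) : ℤ) - 1)) (pdX.pl x) :=
          fun Q hQ => hterm _ Q hQ (pdX.pl x)
        refine le_trans ?_ (Finset.single_le_sum h3 hmem)
        rw [Finsupp.single_eq_same]
      omega
  have hdeg := Groth.Agent.Helper4.SN660.deg_le_of_pow_smul_mem pdX hpi hΩX c E hE0 hkey
  -- the degrees
  have hmain := main7640 k hdimX hdimY f hf hξ 1 _ hr1Y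
  have hdX := Groth.Agent.Helper4.SN568.deg_omega k X hdimX hregX
  have hdY := Groth.Agent.Helper4.SN568.deg_omega k Y hdimY hregY
  have hn : (EGA4loc.residueDegree f (genericPoint X)) =
      Module.finrank Y.functionField X.functionField :=
    (Groth.Agent.Helper4.SN641.finrank_ffMap f hξ).symm
  have hn' : f.residueDegree (genericPoint X) =
      Module.finrank Y.functionField X.functionField := hn
  have hEdeg : E.deg = ∑ y ∈ T,
      ((Module.finrank Y.functionField X.functionField : ℤ) - (Qs y).card) := by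
    rw [hEdef, ← FF.degHom_apply, map_sum]
    refine Finset.sum_congr rfl fun y _ => ?_
    rw [map_sum]
    have h1 : ∀ Q ∈ Qs y, FF.degHom (Finsupp.single Q ((ramIdx Q (pdY.pl y) : ℤ) - 1) :
        Divisor k X.functionField) = (ramIdx Q (pdY.pl y) : ℤ) - 1 := fun Q _ => by
      rw [FF.degHom_apply, Groth.Agent.Helper4.SN552.deg_single,
        FF.deg_eq_one_of_isAlgClosed pdX.hK Q]
      simp
    rw [Finset.sum_congr rfl h1, Finset.sum_sub_distrib, hQs3 y, Finset.sum_const, nsmul_eq_mul,
      mul_one]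
  rw [hdX] at hdeg
  rw [hmain, hdY, hn'] at hdeg
  rw [hEdeg] at hdeg
  exact hdeg

end Main

end Groth.Agent.Helper4.SN662
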