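import Mathlib
import Groth.Agent.Helper4.SN662
import Groth.Agent.Helper4.SN584
import Groth.Agent.Helper4.SN590
import Groth.Agent.Helper4.SN135
import Groth.Agent.Helper5.SmRelDim1
import Groth.Agent.Helper5.VarDim2
import Groth.Agent.Helper5.SubDim5
import Groth.Agent.Lead.OmegaSecC

/-!
# S17022: a cover of the projective line branched over at most two points
-/

set_option autoImplicit false
set_option linter.style.haveILetI false
set_option linter.unusedSectionVars false
universe u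
open CategoryTheory CategoryTheory.Limits AlgebraicGeometry TopologicalSpace Opposite FunFld

namespace Groth.Agent.Helper4.SN663

open Groth.Agent.Helper4.SN Groth.Agent.Helper4.SN550 Groth.Agent.Helper5

section Dim

/-- a connected smooth curve over a field has dimension one -/
theorem dim_eq_one (k : Type u) [Field k] {C : Scheme.{u}} (s : C ⟶ Spec (CommRingCat.of k))
    [SmoothOfRelativeDimension 1 s] [IrreducibleSpace C] : topologicalKrullDim C = 1 := by
  haveI : Smooth s := SmoothOfRelativeDimension.smooth 1 s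
  obtain ⟨x⟩ := (inferInstance : Nonempty C)
  have h1 := SmRelDim.s2768 1 s x
  rw [EtLoc.fibreDimAt_eq_localDim_preimage s x] at h1
  have huniv : s ⁻¹' {s x} = Set.univ := by
    ext z
    simp only [Set.mem_preimage, Set.mem_singleton_iff, Set.mem_univ, iff_true]
    haveI : Subsingleton (Spec (CommRingCat.of k)) :=
      inferInstanceAs (Subsingleton (PrimeSpectrum k))
    exact Subsingleton.elim _ _
  rw [SubDim.localDim_congr_set _ _ huniv x rfl trivial,
    SubDim.localDim_homeomorph (Homeomorph.Set.univ C) ⟨x, trivial⟩] at h1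
  rw [← VarDim.localDim_eq_dim_of_irreducible k s x]
  exact h1

end Dim

section Main

attribute [local instance] Curv2.stalkAlgebra Curv2.resAlgebra

variable (k : Type u) [Field k] [IsAlgClosed k] [CharZero k]

/-- **S17022** -/
theorem main17022 {C : Scheme.{u}} (s : C ⟶ Spec (CommRingCat.of k))
    [IsProper s] [SmoothOfRelativeDimension 1 s] [ConnectedSpace C]
    (f : C ⟶ CohB1.ProjSpace 1 k) (hf : f ≫ CohB1.ProjSpace.toSpec 1 k = s) [Surjective f]
    (p q : ↥(CohB1.ProjSpace 1 k)) (hp : IsClosed ({p} : Set ↥(CohB1.ProjSpace 1 k)))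
    (hq : IsClosed ({q} : Set ↥(CohB1.ProjSpace 1 k)))
    (W : (CohB1.ProjSpace 1 k).Opens) (hW : (W : Set ↥(CohB1.ProjSpace 1 k)) = {p, q}ᶜ)
    [Etale (f ∣_ W)] :
    (∃ e : C ≅ CohB1.ProjSpace 1 k, e.hom ≫ CohB1.ProjSpace.toSpec 1 k = s) ∧
      (∀ x y : C, f.base x = p → f.base y = p → x = y) ∧
      (∀ x y : C, f.base x = q → f.base y = q → x = y) := by
  classical
  letI : C.Over (Spec (CommRingCat.of k)) := ⟨s⟩
  haveI : IsProper (C ↘ Spec (CommRingCat.of k)) := ‹IsProper s›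
  haveI hsm : Smooth s := SmoothOfRelativeDimension.smooth 1 s
  haveI : Smooth (C ↘ Spec (CommRingCat.of k)) := hsm
  haveI := Groth.Agent.Helper4.NApx82.isNoetherian_of_proper k C
  have hregC : ∀ x : C, IsRegularLocalRing (C.presheaf.stalk x) := fun x => regular_of_smooth k x
  haveI : IsIntegral C := isIntegral_of_connected_of_isDomain_stalk C (fun x => by
    haveI := hregC x
    exact Groth.Agent.Lead.RegLocal.isDomain_of_isRegularLocalRing _)
  have hdimC : topologicalKrullDim C = 1 := dim_eq_one k s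
  -- the projective line
  haveI hpY : IsProper (CohB1.ProjSpace.toSpec 1 k) :=
    Groth.Agent.Helper6.HProj.isProper_toSpec 1 k
  haveI hsY : Smooth (CohB1.ProjSpace.toSpec 1 k) :=
    Groth.Agent.Helper3.ProjSmooth.smooth_toSpec 1 k
  haveI : IsProper ((CohB1.ProjSpace 1 k) ↘ Spec (CommRingCat.of k)) := hpY
  haveI : Smooth ((CohB1.ProjSpace 1 k) ↘ Spec (CommRingCat.of k)) := hsY
  have hregY : ∀ y : (CohB1.ProjSpace 1 k),
      IsRegularLocalRing ((CohB1.ProjSpace 1 k).presheaf.stalk y) :=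
    fun y => regular_of_smooth k y
  have hdimY := dim_P1 k
  have hf' : f ≫ ((CohB1.ProjSpace 1 k) ↘ Spec (CommRingCat.of k)) =
      C ↘ Spec (CommRingCat.of k) := hf
  have hξ : f (genericPoint C) = genericPoint (CohB1.ProjSpace 1 k) := by
    obtain ⟨c, hc⟩ := f.surjective (genericPoint (CohB1.ProjSpace 1 k))
    have h1 : f (genericPoint C) ⤳ genericPoint (CohB1.ProjSpace 1 k) := by
      rw [← hc]
      exact (genericPoint_specializes c).map f.continuous
    exact (h1.antisymm (genericPoint_specializes _)).eq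
  haveI : IsFinite f := isFinite_of_nonconstant k hdimC hdimY f hf' hξ
  obtain ⟨pdX⟩ := Groth.Agent.Helper4.SN568.nonempty_placeData k C hdimC hregC
  -- the branch locus
  set T : Finset {y : ↥(CohB1.ProjSpace 1 k) // IsClosed ({y} : Set ↥(CohB1.ProjSpace 1 k))} :=
    {⟨p, hp⟩, ⟨q, hq⟩} with hTdef
  have hT : ∀ x : C, IsClosed ({x} : Set C) → (∀ y ∈ T, f x ≠ y.1) →
      Subsingleton ((Omega.sheaf f).presheaf.stalk x) := by
    intro x _ hx
    have hxp : f x ≠ p := hx ⟨p, hp⟩ (by simp [hTdef])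
    have hxq : f x ≠ q := hx ⟨q, hq⟩ (by simp [hTdef])
    have hxW : x ∈ f ⁻¹ᵁ W := by
      show f x ∈ (W : Set ↥(CohB1.ProjSpace 1 k))
      rw [hW]
      simp [hxp, hxq]
    have hunr : FormallyUnramified ((f ⁻¹ᵁ W).ι ≫ f) := by
      rw [← morphismRestrict_ι]
      infer_instance
    have := (Groth.Agent.Lead.OmegaSecC.notMem_support_iff f x).2 ⟨_, hxW, hunr⟩
    exact not_not.1 this
  obtain ⟨Qs, n, hn, hQs, hineq⟩ := Groth.Agent.Helper4.SN662.tame_hurwitz_le hdimC hregC hdimY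
    hregY f hf' hξ pdX T hT
  rw [Groth.Agent.Helper4.SN584.genus_P1 k] at hineq
  -- closedness of the points of the fibres
  have hclosed : ∀ (y : ↥(CohB1.ProjSpace 1 k)), IsClosed ({y} : Set ↥(CohB1.ProjSpace 1 k)) →
      ∀ x : C, f x = y → IsClosed ({x} : Set C) := by
    intro y hy x hx
    apply pdX.closed
    rintro rfl
    rw [hξ] at hx
    exact ne_genericPoint_of_isClosed hdimY y hy hx.symm
  have hcard : ∀ (y : {y : ↥(CohB1.ProjSpace 1 k) // IsClosed ({y} : Set ↥(CohB1.ProjSpace 1 k))}),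
      1 ≤ (Qs y).card := by
    intro y
    obtain ⟨x, hx⟩ := f.surjective y.1
    have hmem : pdX.pl ⟨x, hclosed y.1 y.2 x hx⟩ ∈ Qs y := (hQs y _).2 hx
    exact Finset.card_pos.2 ⟨_, hmem⟩
  have huniq : ∀ (y : {y : ↥(CohB1.ProjSpace 1 k) // IsClosed ({y} : Set ↥(CohB1.ProjSpace 1 k))}),
      (Qs y).card = 1 → ∀ x x' : C, f x = y.1 → f x' = y.1 → x = x' := by
    intro y hy x x' hx hx'
    have hm : pdX.pl ⟨x, hclosed y.1 y.2 x hx⟩ ∈ Qs y := (hQs y _).2 hx
    have hm' : pdX.pl ⟨x', hclosed y.1 y.2 x' hx'⟩ ∈ Qs y := (hQs y _).2 hx'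
    have h1 := Finset.card_le_one.1 (le_of_eq hy) _ hm _ hm'
    exact congrArg Subtype.val (pdX.pl.injective h1)
  have hgen : (0 : ℤ) ≤ (Curv2.genus k C : ℤ) := Int.natCast_nonneg _
  have hp1 := hcard ⟨p, hp⟩
  have hq1 := hcard ⟨q, hq⟩
  have hn1 : (1 : ℤ) ≤ n := by exact_mod_cast hn
  have hkey : Curv2.genus k C = 0 ∧ (Qs ⟨p, hp⟩).card = 1 ∧ (Qs ⟨q, hq⟩).card = 1 := by
    by_cases hpq : p = q
    · subst hpq
      have hT1 : T = {⟨p, hp⟩} := by rw [hTdef]; exact Finset.pair_eq_singleton _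
      rw [hT1, Finset.sum_singleton] at hineq
      have hp1' : (1 : ℤ) ≤ ((Qs ⟨p, hp⟩).card : ℤ) := by exact_mod_cast hp1
      refine ⟨?_, ?_, ?_⟩ <;> omega
    · have hne : (⟨p, hp⟩ : {y : ↥(CohB1.ProjSpace 1 k) //
          IsClosed ({y} : Set ↥(CohB1.ProjSpace 1 k))}) ≠ ⟨q, hq⟩ := fun h =>
        hpq (congrArg Subtype.val h)
      rw [hTdef, Finset.sum_pair hne] at hineq
      have hp1' : (1 : ℤ) ≤ ((Qs ⟨p, hp⟩).card : ℤ) := by exact_mod_cast hp1
      have hq1' : (1 : ℤ) ≤ ((Qs ⟨q, hq⟩).card : ℤ) := by exact_mod_cast hq1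
      refine ⟨?_, ?_, ?_⟩ <;> omega
  obtain ⟨hg0, hcp, hcq⟩ := hkey
  refine ⟨?_, fun x y hx hy => huniq ⟨p, hp⟩ hcp x y hx hy,
    fun x y hx hy => huniq ⟨q, hq⟩ hcq x y hx hy⟩
  -- genus zero implies `P¹`
  obtain ⟨x₀, hx₀⟩ := f.surjective p
  have hx₀cl := hclosed p hp x₀ hx₀
  haveI := hregC x₀
  obtain ⟨hI, hdI⟩ := ideal_point_of_normal_algClosed k hdimC x₀ hx₀cl
    (Groth.Agent.Helper4.RegNormal.isIntegrallyClosed_of_isRegularLocalRing _)
  obtain ⟨J, hJ, ⟨ε₁⟩, -⟩ := Groth.Agent.Lead.InvDual.exists_inverse _ hI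
  have hdJ : Curv2.deg k C J 1 = 1 := by
    rw [deg_inverse k hdimC.le _ J hI hJ ε₁, hdI]
    norm_num
  have hOX : Coh.IsCoh (Coh.structureModule C) := Groth.Agent.Helper1.Dev.isCoh_structureModule C
  haveI : Module.Finite k (Coh.HH C (Coh.structureModule C) 1) :=
    Groth.Agent.S0002.result k C _ hOX 1
  have h1 : Subsingleton (Coh.HH C (Coh.structureModule C) 1) := by
    unfold Curv2.genus at hg0
    exact Module.finrank_zero_iff.1 hg0
  exact main6541 k hdimC h1 J hJ hdJ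

end Main

end Groth.Agent.Helper4.SN663
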