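import Mathlib

/-!
# Quadratic extensions in characteristic different from two: the anti-invariant generator
-/

set_option autoImplicit false
set_option linter.unusedSectionVars false
set_option linter.style.haveILetI false

namespace Groth.Agent.Helper4.SN664

variable {K₀ K : Type*} [Field K₀] [Field K] [Algebra K₀ K]

/-- an automorphism of a quadratic extension is an involution -/
theorem mul_self_eq_one (h2 : Module.finrank K₀ K = 2) (τ : K ≃ₐ[K₀] K) : τ * τ = 1 := by
  haveI : FiniteDimensional K₀ K := Module.finite_of_finrank_pos (by rw [h2]; norm_num)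
  have hcard : Nat.card (K ≃ₐ[K₀] K) ≤ 2 := by
    rw [← h2, Nat.card_eq_fintype_card]
    exact AlgEquiv.card_le (F := K₀) (K := K)
  have hpos : 0 < Nat.card (K ≃ₐ[K₀] K) := Nat.card_pos
  have h1 : τ ^ Nat.card (K ≃ₐ[K₀] K) = 1 := pow_card_eq_one'
  interval_cases hc : Nat.card (K ≃ₐ[K₀] K)
  · rw [pow_one] at h1
    rw [h1, mul_one]
  · rw [pow_two] at h1
    exact h1

/-- the elements fixed by a nontrivial automorphism of a quadratic extension lie in the base -/
theorem mem_range_of_fixed (h2 : Module.finrank K₀ K = 2) (τ : K ≃ₐ[K₀] K) (hτ : τ ≠ 1)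
    (u : K) (hu : τ u = u) : u ∈ Set.range (algebraMap K₀ K) := by
  haveI : FiniteDimensional K₀ K := Module.finite_of_finrank_pos (by rw [h2]; norm_num)
  let T : K →ₗ[K₀] K := τ.toLinearMap - LinearMap.id
  have hT : LinearMap.ker T ≠ ⊤ := by
    intro htop
    apply hτ
    ext z
    have : z ∈ LinearMap.ker T := by rw [htop]; trivial
    rw [LinearMap.mem_ker] at this
    have h3 : τ z - z = 0 := this
    rw [AlgEquiv.one_apply]
    exact sub_eq_zero.1 h3
  have hlt : Module.finrank K₀ (LinearMap.ker T) < 2 := by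
    rw [← h2]
    exact Submodule.finrank_lt hT
  have hle : Submodule.span K₀ {(1 : K)} ≤ LinearMap.ker T := by
    rw [Submodule.span_le]
    rintro _ rfl
    show τ 1 - 1 = 0
    rw [map_one, sub_self]
  have h1 : Module.finrank K₀ (Submodule.span K₀ {(1 : K)}) = 1 :=
    finrank_span_singleton one_ne_zero
  have heq : Submodule.span K₀ {(1 : K)} = LinearMap.ker T := by
    apply Submodule.eq_of_le_of_finrank_le hle
    rw [h1]
    omega
  have hmem : u ∈ LinearMap.ker T := by
    show τ u - u = 0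
    rw [hu, sub_self]
  rw [← heq, Submodule.mem_span_singleton] at hmem
  obtain ⟨a, ha⟩ := hmem
  exact ⟨a, by rw [← ha, Algebra.smul_def, mul_one]⟩

/-- an anti-invariant generator -/
theorem exists_anti (h2 : Module.finrank K₀ K = 2) (τ : K ≃ₐ[K₀] K) (hτ : τ ≠ 1) :
    ∃ (w : K) (h : K₀), w ≠ 0 ∧ τ w = -w ∧ w ^ 2 = algebraMap K₀ K h := by
  have hex : ∃ z : K, τ z ≠ z := by
    by_contra hcon
    push Not at hcon
    apply hτ
    ext z
    exact hcon z
  obtain ⟨z, hz⟩ := hex
  have hττ := mul_self_eq_one h2 τ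
  have hττz : τ (τ z) = z := by
    have := congrArg (fun σ : K ≃ₐ[K₀] K => σ z) hττ
    exact this
  have hw : τ (z - τ z) = -(z - τ z) := by
    rw [map_sub, hττz]
    ring
  have hfix : τ ((z - τ z) ^ 2) = (z - τ z) ^ 2 := by
    rw [map_pow, hw]
    ring
  obtain ⟨h, hh⟩ := mem_range_of_fixed h2 τ hτ _ hfix
  exact ⟨z - τ z, h, sub_ne_zero.2 (Ne.symm hz), hw, hh.symm⟩

/-- the decomposition into invariant and anti-invariant parts -/
theorem exists_decomp (h2 : Module.finrank K₀ K = 2) (h2' : (2 : K) ≠ 0) (τ : K ≃ₐ[K₀] K)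
    (hτ : τ ≠ 1) (w : K) (hw0 : w ≠ 0) (hw : τ w = -w) (z : K) :
    ∃ a b : K₀, z = algebraMap K₀ K a + algebraMap K₀ K b * w ∧
      τ z = algebraMap K₀ K a - algebraMap K₀ K b * w := by
  have hττ := mul_self_eq_one h2 τ
  have hττz : τ (τ z) = z := congrArg (fun σ : K ≃ₐ[K₀] K => σ z) hττ
  have h1 : τ ((z + τ z) / 2) = (z + τ z) / 2 := by
    rw [map_div₀, map_add, hττz, map_ofNat]
    ring
  have h3 : τ ((z - τ z) / (2 * w)) = (z - τ z) / (2 * w) := by
    rw [map_div₀, map_sub, hττz, map_mul, map_ofNat, hw]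
    field_simp
    ring
  obtain ⟨a, ha⟩ := mem_range_of_fixed h2 τ hτ _ h1
  obtain ⟨b, hb⟩ := mem_range_of_fixed h2 τ hτ _ h3
  refine ⟨a, b, ?_, ?_⟩
  · rw [ha, hb]
    field_simp
    ring
  · rw [ha, hb]
    field_simp
    ring

/-- the anti-invariant generator does not lie in the base -/
theorem eq_zero_of_add_mul_eq_zero (h2' : (2 : K) ≠ 0) (τ : K ≃ₐ[K₀] K) (w : K) (hw0 : w ≠ 0)
    (hw : τ w = -w) (a b : K₀) (h : algebraMap K₀ K a + algebraMap K₀ K b * w = 0) :
    a = 0 ∧ b = 0 := by
  have h1 : algebraMap K₀ K a - algebraMap K₀ K b * w = 0 := by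
    have := congrArg τ h
    rw [map_add, map_mul, AlgEquiv.commutes, AlgEquiv.commutes, hw, map_zero] at this
    rw [← this]
    ring
  have ha : algebraMap K₀ K a = 0 := by
    have h3 : (2 : K) * algebraMap K₀ K a = 0 := by linear_combination h + h1
    exact (mul_eq_zero.1 h3).resolve_left h2'
  have hb : algebraMap K₀ K b = 0 := by
    have h3 : (2 : K) * (algebraMap K₀ K b * w) = 0 := by linear_combination h - h1
    have h4 := (mul_eq_zero.1 h3).resolve_left h2'
    exact (mul_eq_zero.1 h4).resolve_right hw0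
  exact ⟨(map_eq_zero _).1 ha, (map_eq_zero _).1 hb⟩

end Groth.Agent.Helper4.SN664
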