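import Mathlib
import Groth.Agent.Helper4.SN664
import Groth.Agent.Helper4.SN655
import Groth.Agent.Helper5.FFGal2

/-!
# Quadratic extensions of function fields in characteristic different from two: the number of
places fixed by the involution is `2 g + 2 - 4 g₀`
-/

set_option autoImplicit false
set_option linter.unusedSectionVars false
set_option linter.style.haveILetI false

open FunFld
open Groth.Agent.Helper5

namespace Groth.Agent.Helper4.SN665

variable {k K₀ K : Type*} [Field k] [Field K₀] [Field K] [Algebra k K₀] [Algebra k K]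
  [Algebra K₀ K] [IsScalarTower k K₀ K]

section Basic

/-- every place has a place above it -/
theorem exists_isOverWith_over [FiniteDimensional K₀ K] (hK₀ : IsFunctionField k K₀)
    (P : Place k K₀) : ∃ (Q : Place k K) (e : ℕ), IsOverWith Q P e := by
  classical
  obtain ⟨hfin, hsum⟩ := FG.finite_isOver_and_sum (K' := K) hK₀ P
  have h1 := hsum hfin.toFinset (fun Q => by rw [Set.Finite.mem_toFinset]; rfl)
  have hpos : 0 < Module.finrank K₀ K * P.deg :=
    Nat.mul_pos Module.finrank_pos (FF.deg_pos_place hK₀ P)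
  rw [← h1] at hpos
  obtain ⟨Q, hQ, -⟩ := Finset.exists_ne_zero_of_sum_ne_zero (Nat.pos_iff_ne_zero.1 hpos)
  rw [Set.Finite.mem_toFinset] at hQ
  obtain ⟨e, he⟩ := hQ
  exact ⟨Q, e, he⟩

/-- an element of the base which lies in `L` of the conorm lies in `L` of the divisor -/
theorem mem_L_of_algebraMap_mem [FiniteDimensional K₀ K] (hK₀ : IsFunctionField k K₀)
    (D : Divisor k K₀) (a : K₀) (ha : algebraMap K₀ K a ∈ L (conorm K D)) : a ∈ L D := by
  intro P
  obtain ⟨Q, e, he⟩ := exists_isOverWith_over (K := K) hK₀ P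
  have h1 := ha Q
  rw [FG.conorm_apply hK₀ D he, he a] at h1
  have h2 : (WithZero.exp (D P)) ^ e = WithZero.exp ((e : ℤ) * D P) := by
    rw [← WithZero.exp_nsmul]
    simp
  rw [← h2] at h1
  exact (pow_le_pow_iff_left₀ zero_le zero_le (FG.isOverWith_pos he)).1 h1

end Basic

section Half

/-- the integral part of half a divisor -/
noncomputable def half (D : Divisor k K₀) : Divisor k K₀ :=
  D.mapRange (fun n => n / 2) (by simp)

theorem half_apply (D : Divisor k K₀) (P : Place k K₀) : half D P = D P / 2 :=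
  Finsupp.mapRange_apply (hf := by simp)

theorem exp_mul_eq_pow (n : ℤ) (e : ℕ) :
    WithZero.exp ((e : ℤ) * n) = (WithZero.exp n) ^ e := by
  rw [← WithZero.exp_nsmul]
  simp

theorem val_sq_mul_le_iff (hK₀ : IsFunctionField k K₀) (P : Place k K₀) (b h : K₀) (hb : b ≠ 0)
    (hh : h ≠ 0) (d : ℤ) :
    P.1 (b ^ 2 * h) ≤ WithZero.exp (2 * d) ↔
      P.1 b ≤ WithZero.exp (d + half (FunFld.div k h) P) := by
  have hbh : b ^ 2 * h ≠ 0 := mul_ne_zero (pow_ne_zero 2 hb) hh
  rw [FF.val_le_exp_iff P hbh, FF.val_le_exp_iff P hb, half_apply, FF.div_apply hK₀,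
    FF.ord_mul P (pow_ne_zero 2 hb) hh, FF.ord_pow]
  push_cast
  omega

/-- **the anti-invariant part of `L` of a conorm** -/
theorem mul_mem_L_conorm_iff [FiniteDimensional K₀ K] (hK₀ : IsFunctionField k K₀) (w : K)
    (h : K₀) (hh : h ≠ 0) (hw : w ^ 2 = algebraMap K₀ K h) (D : Divisor k K₀) (b : K₀) :
    algebraMap K₀ K b * w ∈ L (conorm K D) ↔ b ∈ L (D + half (FunFld.div k h)) := by
  by_cases hb : b = 0
  · subst hb
    rw [map_zero, zero_mul]
    exact ⟨fun _ => Submodule.zero_mem _, fun _ => Submodule.zero_mem _⟩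
  have key : ∀ (Q : Place k K) (P : Place k K₀) (e : ℕ), IsOverWith Q P e →
      Q.1 (algebraMap K₀ K b * w) ^ 2 = P.1 (b ^ 2 * h) ^ e := by
    intro Q P e he
    rw [← he, ← map_pow, mul_pow, hw, ← map_pow, ← map_mul]
  constructor
  · intro hmem P
    obtain ⟨Q, e, he⟩ := exists_isOverWith_over (K := K) hK₀ P
    have h1 := hmem Q
    rw [FG.conorm_apply hK₀ D he] at h1
    have h2 : Q.1 (algebraMap K₀ K b * w) ^ 2 ≤ (WithZero.exp ((e : ℤ) * D P)) ^ 2 :=
      pow_le_pow_left₀ zero_le h1 2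
    rw [key Q P e he, exp_mul_eq_pow, ← pow_mul, mul_comm e 2, pow_mul,
      pow_le_pow_iff_left₀ zero_le zero_le (FG.isOverWith_pos he), ← exp_mul_eq_pow] at h2
    rw [Finsupp.add_apply]
    exact (val_sq_mul_le_iff hK₀ P b h hb hh (D P)).1 (by exact_mod_cast h2)
  · intro hmem Q
    obtain ⟨P, e, he⟩ := FG.exists_isOverWith hK₀.1 Q
    rw [FG.conorm_apply hK₀ D he]
    have h1 := hmem P
    rw [Finsupp.add_apply] at h1
    have h2 := (val_sq_mul_le_iff hK₀ P b h hb hh (D P)).2 h1
    rw [← pow_le_pow_iff_left₀ zero_le zero_le (two_ne_zero), key Q P e he, exp_mul_eq_pow,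
      ← pow_mul, mul_comm e 2, pow_mul]
    refine pow_le_pow_left₀ zero_le ?_ e
    rw [← exp_mul_eq_pow]
    exact_mod_cast h2

end Half

section Count

/-- `L` of a conorm is stable under the Galois group -/
theorem galois_mem_L_conorm [FiniteDimensional K₀ K] (hK₀ : IsFunctionField k K₀)
    (τ : K ≃ₐ[K₀] K) (D : Divisor k K₀) (z : K) (hz : z ∈ L (conorm K D)) :
    τ z ∈ L (conorm K D) := by
  intro Q
  obtain ⟨P, e, he⟩ := FG.exists_isOverWith hK₀.1 Q
  have he' := FF.isOverWith_galPlace τ he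
  have h1 := hz (FF.galPlace τ Q)
  rw [FG.conorm_apply hK₀ D he', FF.galPlace_val] at h1
  rw [FG.conorm_apply hK₀ D he]
  exact h1

/-- **the dimension of `L` of a conorm** -/
theorem ell_conorm (hK₀ : IsFunctionField k K₀) (hK : IsFunctionField k K)
    (h2 : Module.finrank K₀ K = 2) (h2' : (2 : k) ≠ 0) (τ : K ≃ₐ[K₀] K) (hτ : τ ≠ 1)
    (w : K) (h : K₀) (hw0 : w ≠ 0) (hwτ : τ w = -w) (hw : w ^ 2 = algebraMap K₀ K h)
    (D : Divisor k K₀) :
    ell (conorm K D) = ell D + ell (D + half (FunFld.div k h)) := by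
  haveI : FiniteDimensional K₀ K := Module.finite_of_finrank_pos (by rw [h2]; norm_num)
  have h2K : (2 : K) ≠ 0 := by
    have : (2 : K) = algebraMap k K 2 := (map_ofNat _ 2).symm
    rw [this]
    exact (map_ne_zero _).2 h2'
  have hh0 : h ≠ 0 := by
    rintro rfl
    rw [map_zero] at hw
    exact hw0 ((pow_eq_zero_iff (two_ne_zero)).1 hw)
  haveI := FF.finiteDimensional_L hK₀ D
  haveI := FF.finiteDimensional_L hK₀ (D + half (FunFld.div k h))
  haveI := FF.finiteDimensional_L hK (conorm K D)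
  let ψ : (L D × L (D + half (FunFld.div k h))) →ₗ[k] L (conorm K D) :=
    { toFun := fun p => ⟨algebraMap K₀ K p.1.1 + algebraMap K₀ K p.2.1 * w,
        Submodule.add_mem _ (SN655.algebraMap_mem_L_conorm hK₀ D p.1.2)
          ((mul_mem_L_conorm_iff hK₀ w h hh0 hw D p.2.1).2 p.2.2)⟩
      map_add' := by
        intro p q
        apply Subtype.ext
        simp only [Prod.fst_add, Prod.snd_add, Submodule.coe_add, map_add]
        ring
      map_smul' := by
        intro c p
        apply Subtype.ext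
        simp only [Prod.smul_fst, Prod.smul_snd, Submodule.coe_smul, RingHom.id_apply]
        rw [Algebra.smul_def, Algebra.smul_def, map_mul, map_mul,
          ← IsScalarTower.algebraMap_apply k K₀ K, Algebra.smul_def]
        ring }
  have hinj : Function.Injective ψ := by
    rw [← LinearMap.ker_eq_bot, LinearMap.ker_eq_bot']
    rintro ⟨⟨a, ha⟩, ⟨b, hb⟩⟩ h0
    have h1 : algebraMap K₀ K a + algebraMap K₀ K b * w = 0 := congrArg Subtype.val h0
    obtain ⟨rfl, rfl⟩ := SN664.eq_zero_of_add_mul_eq_zero h2K τ w hw0 hwτ a b h1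
    rfl
  have hsurj : Function.Surjective ψ := by
    rintro ⟨z, hz⟩
    obtain ⟨a, b, hab, hab'⟩ := SN664.exists_decomp h2 h2K τ hτ w hw0 hwτ z
    have hτz := galois_mem_L_conorm hK₀ τ D z hz
    have h2inv : algebraMap k K (2 : k)⁻¹ * 2 = 1 := by
      have : (2 : K) = algebraMap k K 2 := (map_ofNat _ 2).symm
      rw [this, ← map_mul, inv_mul_cancel₀ h2', map_one]
    have ha : algebraMap K₀ K a ∈ L (conorm K D) := by
      have h3 : algebraMap K₀ K a = (2 : k)⁻¹ • (z + τ z) := by
        rw [Algebra.smul_def, hab', hab]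
        linear_combination (-(algebraMap K₀ K a)) * h2inv
      rw [h3]
      exact Submodule.smul_mem _ _ (Submodule.add_mem _ hz hτz)
    have hb : algebraMap K₀ K b * w ∈ L (conorm K D) := by
      have h3 : algebraMap K₀ K b * w = (2 : k)⁻¹ • (z - τ z) := by
        rw [Algebra.smul_def, hab', hab]
        linear_combination (-(algebraMap K₀ K b * w)) * h2inv
      rw [h3]
      exact Submodule.smul_mem _ _ (Submodule.sub_mem _ hz hτz)
    refine ⟨(⟨a, mem_L_of_algebraMap_mem hK₀ D a ha⟩,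
      ⟨b, (mul_mem_L_conorm_iff hK₀ w h hh0 hw D b).1 hb⟩), ?_⟩
    apply Subtype.ext
    exact hab.symm
  have heq := (LinearEquiv.ofBijective ψ ⟨hinj, hsurj⟩).finrank_eq
  rw [Module.finrank_prod] at heq
  unfold ell
  exact heq.symm

end Count

end Groth.Agent.Helper4.SN665
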