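import Mathlib
import Groth.Agent.Helper4.SN665

/-!
# Quadratic extensions of function fields, II: counting the odd places
-/

set_option autoImplicit false
set_option linter.unusedSectionVars false
set_option linter.style.haveILetI false

open FunFld
open Groth.Agent.Helper5

namespace Groth.Agent.Helper4.SN666

open Groth.Agent.Helper4.SN665

variable {k K₀ K : Type*} [Field k] [Field K₀] [Field K] [Algebra k K₀] [Algebra k K]
  [Algebra K₀ K] [IsScalarTower k K₀ K]

/-- the degree of half a divisor of degree zero counts the odd places -/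
theorem two_mul_deg_half [IsAlgClosed k] (hK₀ : IsFunctionField k K₀) (D : Divisor k K₀)
    (hD : D.deg = 0) :
    2 * (half D).deg = -(((D.support.filter (fun P => D P % 2 = 1)).card : ℕ) : ℤ) := by
  classical
  have h1 : (half D).deg = D.sum fun P n => (n / 2) * (P.deg : ℤ) := by
    unfold half Divisor.deg
    rw [Finsupp.sum_mapRange_index (by intro; simp)]
  have h2 : D.deg = D.sum fun P n => n * (P.deg : ℤ) := rfl
  rw [h1]
  rw [h2] at hD
  unfold Finsupp.sum at hD ⊢
  rw [Finset.card_filter, Finset.mul_sum]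
  push_cast
  rw [← Finset.sum_neg_distrib]
  have h3 : ∀ P ∈ D.support, 2 * (D P / 2 * (P.deg : ℤ)) =
      D P * (P.deg : ℤ) + -(if D P % 2 = 1 then (1 : ℤ) else 0) := by
    intro P _
    rw [FF.deg_eq_one_of_isAlgClosed hK₀ P]
    split_ifs with h <;> push_cast <;> omega
  rw [Finset.sum_congr rfl h3, Finset.sum_add_distrib, hD, zero_add]

/-- **the number of odd places of `h`** where `K = K₀(√h)` -/
theorem card_odd_eq [IsAlgClosed k] (hK₀ : IsFunctionField k K₀) (hK : IsFunctionField k K)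
    (h2 : Module.finrank K₀ K = 2) (h2' : (2 : k) ≠ 0) (τ : K ≃ₐ[K₀] K) (hτ : τ ≠ 1)
    (w : K) (h : K₀) (hw0 : w ≠ 0) (hwτ : τ w = -w) (hw : w ^ 2 = algebraMap K₀ K h) :
    ((((FunFld.div k h).support.filter (fun P => FunFld.div k h P % 2 = 1)).card : ℕ) : ℤ) =
      2 * (genus k K : ℤ) + 2 - 4 * (genus k K₀ : ℤ) := by
  classical
  haveI : FiniteDimensional K₀ K := Module.finite_of_finrank_pos (by rw [h2]; norm_num)
  obtain ⟨P₀⟩ := FF.nonempty_place hK₀
  have hhalf := two_mul_deg_half hK₀ (FunFld.div k h) (FF.deg_div hK₀ h)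
  set H := half (FunFld.div k h) with hH
  obtain ⟨N, hN⟩ : ∃ N : ℤ, 2 * (genus k K : ℤ) - 1 ≤ 2 * N ∧ 2 * (genus k K₀ : ℤ) - 1 ≤ N ∧
      2 * (genus k K₀ : ℤ) - 1 ≤ N + H.deg :=
    ⟨2 * (genus k K : ℤ) + 2 * (genus k K₀ : ℤ) + |H.deg|, by
      have := neg_abs_le H.deg
      have := abs_nonneg H.deg
      refine ⟨by omega, by omega, by omega⟩⟩
  let D : Divisor k K₀ := Finsupp.single P₀ N
  have hdegD : D.deg = N := by
    show Divisor.deg (Finsupp.single P₀ N : Divisor k K₀) = N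
    rw [FF.deg_single, FF.deg_eq_one_of_isAlgClosed hK₀ P₀]
    simp
  have e1 := ell_conorm hK₀ hK h2 h2' τ hτ w h hw0 hwτ hw D
  have hc : (conorm K D).deg = 2 * N := by
    rw [FG.conorm_deg hK₀ D, hdegD, h2]
    rfl
  have e2 := FF.ell_eq_of_deg_ge hK (conorm K D) (by rw [hc]; exact hN.1)
  have e3 := FF.ell_eq_of_deg_ge hK₀ D (by rw [hdegD]; exact hN.2.1)
  have e4 := FF.ell_eq_of_deg_ge hK₀ (D + H) (by rw [FF.deg_add, hdegD]; exact hN.2.2)
  rw [FF.deg_add, hdegD] at e4
  rw [hc] at e2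
  rw [hdegD] at e3
  have e1' : (ell (conorm K D) : ℤ) = ell D + ell (D + H) := by exact_mod_cast e1
  omega

section Fix

/-- a quadratic extension with a nontrivial automorphism is Galois -/
theorem isGalois_of_ne_one (h2 : Module.finrank K₀ K = 2) (τ : K ≃ₐ[K₀] K) (hτ : τ ≠ 1) :
    IsGalois K₀ K := by
  classical
  haveI : FiniteDimensional K₀ K := Module.finite_of_finrank_pos (by rw [h2]; norm_num)
  apply IsGalois.of_card_aut_eq_finrank
  apply le_antisymm
  · rw [Nat.card_eq_fintype_card]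
    exact AlgEquiv.card_le (F := K₀) (K := K)
  · rw [h2, Nat.card_eq_fintype_card]
    have : ({1, τ} : Finset (K ≃ₐ[K₀] K)).card = 2 := Finset.card_pair (Ne.symm hτ)
    rw [← this]
    exact Finset.card_le_univ _

/-- the only automorphisms of a quadratic extension are `1` and `τ` -/
theorem eq_one_or_eq (h2 : Module.finrank K₀ K = 2) (τ : K ≃ₐ[K₀] K) (hτ : τ ≠ 1)
    (σ : K ≃ₐ[K₀] K) : σ = 1 ∨ σ = τ := by
  classical
  haveI : FiniteDimensional K₀ K := Module.finite_of_finrank_pos (by rw [h2]; norm_num)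
  by_contra hcon
  push Not at hcon
  have h3 : ({1, τ, σ} : Finset (K ≃ₐ[K₀] K)).card = 3 := by
    rw [Finset.card_insert_of_notMem, Finset.card_pair (Ne.symm hcon.2)]
    simp only [Finset.mem_insert, Finset.mem_singleton, not_or]
    exact ⟨Ne.symm hτ, Ne.symm hcon.1⟩
  have h4 : ({1, τ, σ} : Finset (K ≃ₐ[K₀] K)).card ≤ Fintype.card (K ≃ₐ[K₀] K) :=
    Finset.card_le_univ _
  have h5 : Fintype.card (K ≃ₐ[K₀] K) ≤ 2 := by
    rw [← h2]
    exact AlgEquiv.card_le (F := K₀) (K := K)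
  omega

/-- the places over `P` are `Q` and its conjugate -/
theorem isOver_iff (hK₀ : IsFunctionField k K₀) (h2 : Module.finrank K₀ K = 2)
    (τ : K ≃ₐ[K₀] K) (hτ : τ ≠ 1) {Q : Place k K} {P : Place k K₀} {e : ℕ}
    (he : IsOverWith Q P e) (Q' : Place k K) :
    IsOver Q' P ↔ Q' = Q ∨ Q' = FF.galPlace τ Q := by
  haveI : FiniteDimensional K₀ K := Module.finite_of_finrank_pos (by rw [h2]; norm_num)
  haveI := isGalois_of_ne_one h2 τ hτ
  constructor
  · rintro ⟨e', he'⟩
    obtain ⟨σ, hσ⟩ := FF.galois_transitive Q Q' (FF.isEquiv_of_isOverWith he he')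
    rcases eq_one_or_eq h2 τ hτ σ with rfl | rfl
    · left
      rw [← hσ, FF.galPlace_one]
    · right
      exact hσ.symm
  · rintro (rfl | rfl)
    · exact ⟨e, he⟩
    · exact ⟨e, FF.isOverWith_galPlace τ he⟩

/-- the ramification index is two at the fixed places and one elsewhere -/
theorem ramIdx_cases [IsAlgClosed k] (hK₀ : IsFunctionField k K₀) (hK : IsFunctionField k K)
    (h2 : Module.finrank K₀ K = 2)
    (τ : K ≃ₐ[K₀] K) (hτ : τ ≠ 1) {Q : Place k K} {P : Place k K₀} {e : ℕ}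
    (he : IsOverWith Q P e) :
    (FF.galPlace τ Q = Q ∧ e = 2) ∨ (FF.galPlace τ Q ≠ Q ∧ e = 1) := by
  classical
  haveI : FiniteDimensional K₀ K := Module.finite_of_finrank_pos (by rw [h2]; norm_num)
  have hsum := (FG.finite_isOver_and_sum (K' := K) hK₀ P).2
  have he' := FF.isOverWith_galPlace τ he
  by_cases hfix : FF.galPlace τ Q = Q
  · left
    refine ⟨hfix, ?_⟩
    have h1 := hsum {Q} (fun Q' => by
      rw [isOver_iff hK₀ h2 τ hτ he Q', hfix, or_self, Finset.mem_singleton])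
    rw [Finset.sum_singleton, FG.ramIdx_eq he, FF.deg_eq_one_of_isAlgClosed hK Q,
      FF.deg_eq_one_of_isAlgClosed hK₀ P, h2] at h1
    omega
  · right
    refine ⟨hfix, ?_⟩
    have h1 := hsum {Q, FF.galPlace τ Q} (fun Q' => by
      rw [isOver_iff hK₀ h2 τ hτ he Q', Finset.mem_insert, Finset.mem_singleton])
    rw [Finset.sum_pair (Ne.symm hfix), FG.ramIdx_eq he, FG.ramIdx_eq he',
      FF.deg_eq_one_of_isAlgClosed hK Q, FF.deg_eq_one_of_isAlgClosed hK (FF.galPlace τ Q),
      FF.deg_eq_one_of_isAlgClosed hK₀ P, h2] at h1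
    omega

theorem ord_algebraMap_eq {Q : Place k K} {P : Place k K₀} {e : ℕ} (he : IsOverWith Q P e)
    (x : K₀) : Q.ord (algebraMap K₀ K x) = e * P.ord x := by
  by_cases hx0 : x = 0
  · rw [hx0, map_zero, FF.ord_zero, FF.ord_zero, mul_zero]
  · have h1 := he x
    rw [FF.val_eq_exp_neg_ord P hx0, ← WithZero.exp_nsmul] at h1
    rw [FF.ord_eq_of_val_eq Q h1]
    simp only [nsmul_eq_mul, mul_neg, neg_neg]

/-- `ord_Q w = e / 2 * ord_P h` in the form `2 * ord_Q w = e * ord_P h` -/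
theorem two_mul_ord (w : K) (h : K₀) (hw : w ^ 2 = algebraMap K₀ K h)
    {Q : Place k K} {P : Place k K₀} {e : ℕ} (he : IsOverWith Q P e) :
    2 * Q.ord w = e * P.ord h := by
  rw [← ord_algebraMap_eq he h, ← hw, FF.ord_pow]
  rfl

/-- at a fixed place, the order of `h` below is odd -/
theorem odd_of_fixed (hK₀ : IsFunctionField k K₀)
    (h2 : Module.finrank K₀ K = 2) (h2' : (2 : k) ≠ 0)
    (τ : K ≃ₐ[K₀] K) (hτ : τ ≠ 1) (w : K) (h : K₀) (hw0 : w ≠ 0) (hwτ : τ w = -w)
    (hw : w ^ 2 = algebraMap K₀ K h) {Q : Place k K} {P : Place k K₀}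
    (he : IsOverWith Q P 2) (hfix : FF.galPlace τ Q = Q) :
    FunFld.div k h P % 2 = 1 := by
  have h2K : (2 : K) ≠ 0 := by
    have : (2 : K) = algebraMap k K 2 := (map_ofNat _ 2).symm
    rw [this]
    exact (map_ne_zero _).2 h2'
  obtain ⟨s, hs⟩ := FF.exists_uniformizer Q
  obtain ⟨a, b, hab, hab'⟩ := SN664.exists_decomp h2 h2K τ hτ w hw0 hwτ s
  have hτs : Q.1 (τ s) = Q.1 s := by
    have := congrArg (fun R : Place k K => R.1 s) hfix
    simpa [FF.galPlace_val] using this
  have hv2 : Q.1 (2 : K) = 1 := by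
    have : (2 : K) = algebraMap k K 2 := (map_ofNat _ 2).symm
    rw [this]
    exact FF.val_algebraMap Q h2'
  have hA : Q.1 (algebraMap K₀ K a) ≤ WithZero.exp (-1 : ℤ) := by
    have h3 : (2 : K) * algebraMap K₀ K a = s + τ s := by
      rw [hab', hab]; ring
    have h4 : Q.1 ((2 : K) * algebraMap K₀ K a) ≤ WithZero.exp (-1 : ℤ) := by
      rw [h3]
      exact Valuation.map_add_le _ (le_of_eq hs) (le_of_eq (hτs.trans hs))
    rwa [map_mul, hv2, one_mul] at h4
  have hA' : Q.1 (algebraMap K₀ K a) < WithZero.exp (-1 : ℤ) := by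
    by_cases ha : a = 0
    · rw [ha, map_zero, map_zero]
      exact WithZero.exp_pos
    · have hA0 : algebraMap K₀ K a ≠ 0 := (map_ne_zero _).2 ha
      rw [FF.val_le_exp_iff Q hA0, ord_algebraMap_eq he a] at hA
      rw [FF.val_lt_exp_iff Q hA0, ord_algebraMap_eq he a]
      push_cast at hA ⊢
      omega
  have hB : Q.1 (algebraMap K₀ K b * w) = WithZero.exp (-1 : ℤ) := by
    have h3 : algebraMap K₀ K b * w = s - algebraMap K₀ K a := by rw [hab]; ring
    rw [h3, Valuation.map_sub_eq_of_lt_left _ (by rw [hs]; exact hA'), hs]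
  have hb : b ≠ 0 := by
    rintro rfl
    rw [map_zero, zero_mul, map_zero] at hB
    exact (WithZero.exp_ne_zero).symm hB
  have hB0 : algebraMap K₀ K b ≠ 0 := (map_ne_zero _).2 hb
  have h5 := FF.ord_eq_of_val_eq Q hB
  rw [FF.ord_mul Q hB0 hw0, ord_algebraMap_eq he b] at h5
  have h6 := two_mul_ord w h hw he
  rw [FF.div_apply hK₀]
  push_cast at h5 h6
  omega

/-- at a place below a non-fixed place, the order of `h` is even -/
theorem even_of_unramified (hK₀ : IsFunctionField k K₀)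
    (w : K) (h : K₀) (hw : w ^ 2 = algebraMap K₀ K h) {Q : Place k K} {P : Place k K₀}
    (he : IsOverWith Q P 1) :
    FunFld.div k h P % 2 = 0 := by
  have h6 := two_mul_ord w h hw he
  rw [FF.div_apply hK₀]
  push_cast at h6
  omega

/-- **the number of fixed places of the involution of a quadratic extension** -/
theorem card_fixed [IsAlgClosed k] (hK₀ : IsFunctionField k K₀) (hK : IsFunctionField k K)
    (h2 : Module.finrank K₀ K = 2) (h2' : (2 : k) ≠ 0) (τ : K ≃ₐ[K₀] K) (hτ : τ ≠ 1) :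
    Finite {Q : Place k K // FF.galPlace τ Q = Q} ∧
    (Nat.card {Q : Place k K // FF.galPlace τ Q = Q} : ℤ) =
      2 * (genus k K : ℤ) + 2 - 4 * (genus k K₀ : ℤ) := by
  classical
  haveI : FiniteDimensional K₀ K := Module.finite_of_finrank_pos (by rw [h2]; norm_num)
  obtain ⟨w, h, hw0, hwτ, hw⟩ := SN664.exists_anti h2 τ hτ
  have hcard := card_odd_eq hK₀ hK h2 h2' τ hτ w h hw0 hwτ hw
  set S := (FunFld.div k h).support.filter (fun P => FunFld.div k h P % 2 = 1) with hS
  have hmemS : ∀ P : Place k K₀, P ∈ S ↔ FunFld.div k h P % 2 = 1 := by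
    intro P
    rw [hS, Finset.mem_filter, Finsupp.mem_support_iff]
    constructor
    · exact fun h => h.2
    · intro h1
      refine ⟨?_, h1⟩
      intro h0
      rw [h0] at h1
      norm_num at h1
  -- the map from fixed places to odd places
  have key : ∀ Q : {Q : Place k K // FF.galPlace τ Q = Q}, ∃ P : Place k K₀,
      IsOverWith Q.1 P 2 ∧ P ∈ S := by
    rintro ⟨Q, hQ⟩
    obtain ⟨P, e, he⟩ := FG.exists_isOverWith hK₀.1 Q
    rcases ramIdx_cases hK₀ hK h2 τ hτ he with ⟨-, rfl⟩ | ⟨hne, -⟩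
    · exact ⟨P, he, (hmemS P).2 (odd_of_fixed hK₀ h2 h2' τ hτ w h hw0 hwτ hw he hQ)⟩
    · exact absurd hQ hne
  choose f hf using key
  let F : {Q : Place k K // FF.galPlace τ Q = Q} → S := fun Q => ⟨f Q, (hf Q).2⟩
  have hFbij : Function.Bijective F := by
    constructor
    · intro Q₁ Q₂ h12
      have h12' : f Q₁ = f Q₂ := congrArg Subtype.val h12
      have h3 : IsOver Q₂.1 (f Q₁) := ⟨2, h12' ▸ (hf Q₂).1⟩
      rw [isOver_iff hK₀ h2 τ hτ (hf Q₁).1, Q₁.2, or_self] at h3
      exact Subtype.ext h3.symm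
    · rintro ⟨P, hP⟩
      obtain ⟨Q, e, he⟩ := exists_isOverWith_over (K := K) hK₀ P
      rcases ramIdx_cases hK₀ hK h2 τ hτ he with ⟨hfix, rfl⟩ | ⟨-, rfl⟩
      · refine ⟨⟨Q, hfix⟩, ?_⟩
        apply Subtype.ext
        exact FG.isOver_unique ⟨2, (hf ⟨Q, hfix⟩).1⟩ ⟨2, he⟩
      · have h3 := even_of_unramified hK₀ w h hw he
        rw [(hmemS P).1 hP] at h3
        norm_num at h3
  have hfin : Finite {Q : Place k K // FF.galPlace τ Q = Q} :=
    Finite.of_injective F hFbij.1
  refine ⟨hfin, ?_⟩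
  rw [Nat.card_congr (Equiv.ofBijective F hFbij), Nat.card_eq_fintype_card, Fintype.card_coe]
  exact hcard

end Fix

end Groth.Agent.Helper4.SN666
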