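import Mathlib
import Groth.Agent.Helper4.SN666
import Groth.Agent.Helper4.SN663
import Groth.Agent.Helper4.SN656

/-!
# Hyperelliptic curves: the hyperelliptic involution has `2 g + 2` fixed points
-/

set_option autoImplicit false
set_option linter.style.haveILetI false
set_option linter.unusedSectionVars false
universe u
open CategoryTheory CategoryTheory.Limits AlgebraicGeometry TopologicalSpace Opposite FunFld

namespace Groth.Agent.Helper4.SN667

open Groth.Agent.Helper4.SN Groth.Agent.Helper4.SN550 Groth.Agent.Helper5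
  Groth.Agent.Helper4.SN637

section Alg

variable {K₀ K : Type*} [Field K₀] [Field K] [Algebra K₀ K]

/-- a quadratic extension in characteristic different from two is separable -/
theorem isSeparable_of_finrank_two (h2 : Module.finrank K₀ K = 2) (h2' : (2 : K₀) ≠ 0) :
    Algebra.IsSeparable K₀ K := by
  haveI : FiniteDimensional K₀ K := Module.finite_of_finrank_pos (by rw [h2]; norm_num)
  refine ⟨fun x => ?_⟩
  have hint : IsIntegral K₀ x := Algebra.IsIntegral.isIntegral x
  have hirr := minpoly.irreducible hint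
  show (minpoly K₀ x).Separable
  rw [Polynomial.separable_iff_derivative_ne_zero hirr]
  intro h0
  have hdeg : (minpoly K₀ x).natDegree ≤ 2 := h2 ▸ minpoly.natDegree_le x
  have hpos : 0 < (minpoly K₀ x).natDegree := minpoly.natDegree_pos hint
  have hmonic : (minpoly K₀ x).Monic := minpoly.monic hint
  have h1 := congrArg (fun p => p.coeff ((minpoly K₀ x).natDegree - 1)) h0
  simp only [Polynomial.coeff_derivative, Polynomial.coeff_zero] at h1
  rw [Nat.sub_add_cancel hpos, Polynomial.coeff_natDegree, hmonic.leadingCoeff, one_mul] at h1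
  have h3 : (minpoly K₀ x).natDegree = 1 ∨ (minpoly K₀ x).natDegree = 2 := by omega
  rcases h3 with h3 | h3
  · rw [h3] at h1
    norm_num at h1
  · rw [h3] at h1
    norm_num at h1
    exact h2' h1

end Alg

section Dict

attribute [local instance] Curv2.stalkAlgebra Curv2.resAlgebra

variable {k : Type u} [Field k] {X : Scheme.{u}} [X.Over (Spec (CommRingCat.of k))]
  [IsIntegral X] (pd : PlaceData k X) (σ : X ⟶ X)
  (hξ : σ (genericPoint X) = genericPoint X)
  (τe : X.functionField ≃ₐ[k] X.functionField) (hτ : ∀ z, τe z = (ffMap σ hξ).hom z)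

include hτ in
/-- the place of the image of a closed point under an automorphism -/
theorem pl_map_eq (x : {x : X // IsClosed ({x} : Set X)}) (hσx : IsClosed ({σ x.1} : Set X)) :
    pd.pl ⟨σ x.1, hσx⟩ = FF.comapPlace τe (pd.pl x) := by
  apply FF.eq_of_O_le
  intro z hz
  obtain ⟨a, rfl⟩ := (pd.spec ⟨σ x.1, hσx⟩ z).1 hz
  rw [FF.comapPlace_val, hτ, Groth.Agent.Helper4.SN661.ffMap_algebraMap σ hξ x.1 a]
  exact pd.val_algebraMap_le x _

include pd hτ in
/-- the fixed closed points of an automorphism correspond to the fixed places -/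
theorem card_fixed_eq (hcl : ∀ x : X, IsClosed ({x} : Set X) → IsClosed ({σ x} : Set X)) :
    Nat.card {x : X // IsClosed ({x} : Set X) ∧ σ x = x} =
      Nat.card {Q : Place k X.functionField // FF.comapPlace τe Q = Q} := by
  have key : ∀ x : {x : X // IsClosed ({x} : Set X)},
      FF.comapPlace τe (pd.pl x) = pd.pl x ↔ σ x.1 = x.1 := by
    intro x
    rw [← pl_map_eq pd σ hξ τe hτ x (hcl x.1 x.2)]
    constructor
    · intro h
      exact congrArg Subtype.val (pd.pl.injective h)
    · intro h
      congr 1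
      exact Subtype.ext h
  apply Nat.card_congr
  refine Equiv.ofBijective (fun x => ⟨pd.pl ⟨x.1, x.2.1⟩, (key ⟨x.1, x.2.1⟩).2 x.2.2⟩) ⟨?_, ?_⟩
  · intro x y hxy
    have h1 : pd.pl ⟨x.1, x.2.1⟩ = pd.pl ⟨y.1, y.2.1⟩ := congrArg Subtype.val hxy
    have h2 := congrArg Subtype.val (pd.pl.injective h1)
    exact Subtype.ext h2
  · rintro ⟨Q, hQ⟩
    obtain ⟨x, rfl⟩ := pd.pl.surjective Q
    exact ⟨⟨x.1, x.2, (key x).1 hQ⟩, rfl⟩

end Dict

section AB

attribute [local instance] Curv2.stalkAlgebra Curv2.resAlgebra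

variable (k : Type u) [Field k] [IsAlgClosed k] {C : Scheme.{u}}
  [C.Over (Spec (CommRingCat.of k))] [IsIntegral C] [IsProper (C ↘ (Spec (CommRingCat.of k)))]

theorem ffMap_id : ffMap (𝟙 C) (rfl : (𝟙 C : C ⟶ C) (genericPoint C) = genericPoint C) = 𝟙 _ := by
  have h3 : Spec.map (𝟙 C.functionField) ≫ C.fromSpecStalk (genericPoint C) =
      C.fromSpecStalk (genericPoint C) ≫ 𝟙 C := by
    rw [Spec.map_id, Category.id_comp, Category.comp_id]
  obtain ⟨_, h4⟩ := ffMap_unique (𝟙 C) (𝟙 C.functionField) h3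
  exact h4.symm

/-- **a double cover of the projective line has an involution with `2 g + 2` fixed points** -/
theorem a_to_b (h2 : (2 : k) ≠ 0) (hdim : topologicalKrullDim C = 1)
    (hreg : ∀ x : C, IsRegularLocalRing (C.presheaf.stalk x))
    (f : C ⟶ CohB1.ProjSpace 1 k)
    (hf : f ≫ CohB1.ProjSpace.toSpec 1 k = C ↘ Spec (CommRingCat.of k))
    [IsFinite f] [Flat f] (hr : ∀ y : ↥(CohB1.ProjSpace 1 k), Scheme.Hom.finrank f y = 2) :
    ∃ σ : C ⟶ C, σ ≫ (C ↘ Spec (CommRingCat.of k)) = C ↘ Spec (CommRingCat.of k) ∧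
      σ ≫ σ = 𝟙 C ∧
      Nat.card {x : C // IsClosed ({x} : Set C) ∧ σ x = x} = 2 * Curv2.genus k C + 2 := by
  haveI := Groth.Agent.Helper4.NApx82.isNoetherian_of_proper k C
  haveI hpY : IsProper (CohB1.ProjSpace.toSpec 1 k) :=
    Groth.Agent.Helper6.HProj.isProper_toSpec 1 k
  haveI hsY : Smooth (CohB1.ProjSpace.toSpec 1 k) :=
    Groth.Agent.Helper3.ProjSmooth.smooth_toSpec 1 k
  haveI : IsProper ((CohB1.ProjSpace 1 k) ↘ Spec (CommRingCat.of k)) := hpY
  haveI : Smooth ((CohB1.ProjSpace 1 k) ↘ Spec (CommRingCat.of k)) := hsY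
  have hregY : ∀ y : (CohB1.ProjSpace 1 k),
      IsRegularLocalRing ((CohB1.ProjSpace 1 k).presheaf.stalk y) :=
    fun y => regular_of_smooth k y
  have hdimY := dim_P1 k
  obtain ⟨pd⟩ := Groth.Agent.Helper4.SN568.nonempty_placeData k C hdim hreg
  obtain ⟨pdY⟩ := Groth.Agent.Helper4.SN568.nonempty_placeData k (CohB1.ProjSpace 1 k) hdimY hregY
  have hf' : f ≫ ((CohB1.ProjSpace 1 k) ↘ Spec (CommRingCat.of k)) =
      C ↘ Spec (CommRingCat.of k) := hf
  have hξ := Groth.Agent.Helper4.SN656.map_genericPoint_of_isFinite' k hdim hdimY f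
  have hd := Groth.Agent.Helper4.SN656.residueDegree_eq_of_rank' k hdim hdimY f hξ 2
    (Groth.Agent.Helper4.SN656.rank_push' k f 2 hr)
  have hfr := Groth.Agent.Helper4.SN641.finrank_ffMap f hξ
  rw [hd] at hfr
  letI alg : Algebra (CohB1.ProjSpace 1 k).functionField C.functionField :=
    (ffMap f hξ).hom.toAlgebra
  haveI : IsScalarTower k (CohB1.ProjSpace 1 k).functionField C.functionField :=
    IsScalarTower.of_algebraMap_eq
      (fun c => (Groth.Agent.Helper4.SN654.ffMap_stalkMap k f hf' hξ c).symm)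
  have h2Y : (2 : (CohB1.ProjSpace 1 k).functionField) ≠ 0 := by
    have : (2 : (CohB1.ProjSpace 1 k).functionField) =
        algebraMap k (CohB1.ProjSpace 1 k).functionField 2 := (map_ofNat _ 2).symm
    rw [this]
    exact (map_ne_zero _).2 h2
  have hsep : Algebra.IsSeparable (CohB1.ProjSpace 1 k).functionField C.functionField :=
    isSeparable_of_finrank_two hfr h2Y
  have hdim1 : ∀ y : C, ringKrullDim (C.presheaf.stalk y) ≤ 1 := by
    intro y
    have := Groth.Agent.Helper5.DimIneq.ringKrullDim_stalk_le_dim C y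
    rw [hdim] at this
    exact this
  have hN : ∀ y : (CohB1.ProjSpace 1 k),
      IsIntegrallyClosed ((CohB1.ProjSpace 1 k).presheaf.stalk y) := fun y =>
    haveI := hregY y
    Groth.Agent.Helper4.RegNormal.isIntegrallyClosed_of_isRegularLocalRing _
  obtain ⟨σ, hσp, hσσ, hσf, -, hση, hfix⟩ :=
    Groth.Agent.Helper4.SN650.exists_involution_of_double_cover'
      (C ↘ Spec (CommRingCat.of k)) (CohB1.ProjSpace.toSpec 1 k) hreg hdim1 hN f hf hξ hfr hsep
  refine ⟨σ.hom, hσp, hσσ, ?_⟩
  -- the action on the function field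
  have hττ : ∀ z, (ffMap σ.hom hση).hom ((ffMap σ.hom hση).hom z) = z := by
    intro z
    have hσση : (σ.hom ≫ σ.hom) (genericPoint C) = genericPoint C := by
      rw [hσσ]; rfl
    have hc := Groth.Agent.Helper4.SN650.ffMap_comp σ.hom σ.hom hση hση hσση
    have hc2 := Groth.Agent.Helper4.SN650.ffMap_congr hσσ hσση rfl
    rw [hc2, ffMap_id] at hc
    have := congrArg (fun φ : C.functionField ⟶ C.functionField => φ.hom z) hc
    exact this.symm
  have hτfix : ∀ z, (ffMap σ.hom hση).hom ((ffMap f hξ).hom z) = (ffMap f hξ).hom z := by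
    intro z
    have hc := Groth.Agent.Helper4.SN650.ffMap_comp σ.hom f hση hξ (by rw [hσf]; exact hξ)
    have hc2 := Groth.Agent.Helper4.SN650.ffMap_congr hσf (by rw [hσf]; exact hξ) hξ
    rw [hc2] at hc
    have := congrArg
      (fun φ : (CohB1.ProjSpace 1 k).functionField ⟶ C.functionField => φ.hom z) hc
    exact this.symm
  let τH : C.functionField →ₐ[(CohB1.ProjSpace 1 k).functionField] C.functionField :=
    { (ffMap σ.hom hση).hom with commutes' := fun z => hτfix z }
  let τA : C.functionField ≃ₐ[(CohB1.ProjSpace 1 k).functionField] C.functionField :=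
    AlgEquiv.ofAlgHom τH τH (by ext z; exact hττ z) (by ext z; exact hττ z)
  have hτA : ∀ z, τA z = (ffMap σ.hom hση).hom z := fun z => rfl
  have hτne : τA ≠ 1 := by
    intro h1
    have hall : ∀ x : C.functionField,
        x ∈ (⊥ : Subalgebra (CohB1.ProjSpace 1 k).functionField C.functionField) := by
      intro x
      rw [Algebra.mem_bot]
      apply hfix x
      rw [← hτA, h1]
      rfl
    have : (⊥ : Subalgebra (CohB1.ProjSpace 1 k).functionField C.functionField) = ⊤ :=
      eq_top_iff.2 fun x _ => hall x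
    rw [Subalgebra.bot_eq_top_iff_finrank_eq_one, hfr] at this
    norm_num at this
  have hcount := SN666.card_fixed pdY.hK pd.hK hfr h2 τA hτne
  have hcl : ∀ x : C, IsClosed ({x} : Set C) → IsClosed ({σ.hom x} : Set C) := by
    intro x hx
    have := (Scheme.Hom.homeomorph σ.hom).isClosedMap _ hx
    rwa [Set.image_singleton] at this
  have hcard := card_fixed_eq pd σ.hom hση (τA.restrictScalars k) (fun z => rfl) hcl
  have hg := Groth.Agent.Helper4.SN560.genus_eq pd
  have hgY := Groth.Agent.Helper4.SN560.genus_eq pdY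
  rw [Groth.Agent.Helper4.SN584.genus_P1 k] at hgY
  have h3 : (Nat.card {Q : Place k C.functionField //
      FF.comapPlace (τA.restrictScalars k) Q = Q} : ℤ) =
      2 * (genus k C.functionField : ℤ) + 2 - 4 * (genus k (CohB1.ProjSpace 1 k).functionField : ℤ) :=
    hcount.2
  rw [← hgY, ← hg, ← hcard] at h3
  have h4 : (Nat.card {x : C // IsClosed ({x} : Set C) ∧ σ.hom x = x} : ℤ) =
      ((2 * Curv2.genus k C + 2 : ℕ) : ℤ) := by
    rw [h3]
    push_cast
    ring
  exact_mod_cast h4

end AB

end Groth.Agent.Helper4.SN667
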