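import Mathlib
import Groth.Agent.Helper4.SN667
import Groth.Agent.Helper5.FFGeom3
import Groth.Agent.Helper5.FFRational
import Groth.Agent.Helper5.CurveHom
import Groth.Agent.Helper5.AssDed1

/-!
# Hyperelliptic curves: an involution with `2 g + 2` fixed points gives a double cover of the line
-/

set_option autoImplicit false
set_option linter.style.haveILetI false
set_option linter.unusedSectionVars false
universe u
open CategoryTheory CategoryTheory.Limits AlgebraicGeometry TopologicalSpace Opposite FunFld
open scoped IntermediateField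

namespace Groth.Agent.Helper4.SN668

open Groth.Agent.Helper4.SN Groth.Agent.Helper4.SN550 Groth.Agent.Helper5
  Groth.Agent.Helper4.SN637

section Alg

variable {k K : Type*} [Field k] [Field K] [Algebra k K]

/-- the fixed field of an involution of a function field -/
theorem exists_fixedField (hK : IsFunctionField k K) (τk : K ≃ₐ[k] K)
    (hττ : ∀ z, τk (τk z) = z) (hτ1 : τk ≠ 1) :
    ∃ K₀ : IntermediateField k K, Module.finrank K₀ K = 2 ∧ IsFunctionField k K₀ ∧
      ∃ τ' : K ≃ₐ[K₀] K, τ' ≠ 1 ∧ ∀ z, τ' z = τk z := by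
  classical
  have hsq : τk ^ 2 = 1 := by
    ext z
    rw [pow_two]
    exact hττ z
  haveI : Fact (Nat.Prime 2) := ⟨Nat.prime_two⟩
  have hord : orderOf τk = 2 := orderOf_eq_prime hsq hτ1
  have hcard : Nat.card (Subgroup.zpowers τk) = 2 := by rw [Nat.card_zpowers, hord]
  haveI : Finite (Subgroup.zpowers τk) := Nat.finite_of_card_ne_zero (by rw [hcard]; norm_num)
  letI : Fintype (Subgroup.zpowers τk) := Fintype.ofFinite _
  set K₀ : IntermediateField k K := IntermediateField.fixedField (Subgroup.zpowers τk) with hK₀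
  have hfr : Module.finrank K₀ K = 2 := by
    rw [← hcard, Nat.card_eq_fintype_card]
    exact FixedPoints.finrank_eq_card (Subgroup.zpowers τk) K
  have hmem : ∀ z : K, z ∈ K₀ ↔ τk z = z := by
    intro z
    rw [hK₀, IntermediateField.mem_fixedField_iff]
    constructor
    · intro h
      exact h τk (Subgroup.mem_zpowers τk)
    · intro h f hf
      obtain ⟨n, rfl⟩ := Subgroup.mem_zpowers_iff.1 hf
      have h2 : ∀ m : ℕ, (τk ^ m) z = z := by
        intro m
        induction m with
        | zero => rfl
        | succ m ih =>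
          rw [pow_succ, AlgEquiv.mul_apply, h, ih]
      rcases Int.emod_two_eq_zero_or_one n with h3 | h3
      · have : τk ^ n = 1 := by
          rw [← Int.emod_add_mul_ediv n 2, h3, zero_add, zpow_mul, zpow_ofNat, hsq, one_zpow]
        rw [this]
        rfl
      · have : τk ^ n = τk := by
          rw [← Int.emod_add_mul_ediv n 2, h3, zpow_add, zpow_one, zpow_mul, zpow_ofNat, hsq,
            one_zpow, mul_one]
        rw [this]
        exact h
  haveI : FiniteDimensional K₀ K := Module.finite_of_finrank_pos (by rw [hfr]; norm_num)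
  have htr : ∃ x ∈ K₀, Transcendental k x := by
    by_contra hcon
    push Not at hcon
    haveI : Algebra.IsAlgebraic k K₀ := by
      refine ⟨fun x => ?_⟩
      have h1 : IsAlgebraic k (x : K) := by
        by_contra h2
        exact hcon x.1 x.2 h2
      exact (isAlgebraic_algebraMap_iff (algebraMap K₀ K).injective).1 h1
    haveI : Algebra.IsAlgebraic K₀ K := Algebra.IsAlgebraic.of_finite K₀ K
    haveI : Algebra.IsAlgebraic k K := Algebra.IsAlgebraic.trans k K₀ K
    obtain ⟨x, hx, -⟩ := hK.1
    exact hx (Algebra.IsAlgebraic.isAlgebraic x)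
  refine ⟨K₀, hfr, FF.isFunctionField_intermediateField hK K₀ htr, ?_⟩
  let τ' : K ≃ₐ[K₀] K :=
    { τk.toRingEquiv with
      commutes' := fun z => (hmem z.1).1 z.2 }
  refine ⟨τ', ?_, fun z => rfl⟩
  intro h1
  apply hτ1
  ext z
  have := congrArg (fun f : K ≃ₐ[K₀] K => f z) h1
  exact this

/-- a function field of genus zero over an algebraically closed field is rational -/
theorem exists_adjoin_eq [IsAlgClosed k] (K₀ : IntermediateField k K)
    (hK₀ : IsFunctionField k K₀) (hg : genus k K₀ = 0) :
    ∃ t : K, Transcendental k t ∧ K₀ = k⟮t⟯ := by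
  obtain ⟨P⟩ := FF.nonempty_place hK₀
  obtain ⟨x, hx⟩ := (FF.genus_zero_iff hK₀).1 ⟨hg, P, FF.deg_eq_one_of_isAlgClosed hK₀ P⟩
  refine ⟨(x : K), ?_, ?_⟩
  · have h1 := FF.transcendental_of_adjoin_eq_top hK₀ hx
    intro h2
    exact h1 ((isAlgebraic_algebraMap_iff (algebraMap K₀ K).injective).1 h2)
  · have := congrArg (IntermediateField.map K₀.val) hx
    rw [IntermediateField.adjoin_map, Set.image_singleton, ← AlgHom.fieldRange_eq_map,
      IntermediateField.fieldRange_val] at this
    exact this.symm

end Alg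

section P1

variable (k : Type u) [Field k] (K : Type u) [Field K] [Algebra k K]

attribute [local instance] Curv2.stalkAlgebra

/-- the embedding of the function field of the projective line determined by a transcendental
element, as a homomorphism of `k`-algebras -/
noncomputable def phiA (t : K) (ht : Transcendental k t) :
    (CohB1.ProjSpace 1 k).functionField →ₐ[k] K :=
  { P1Sch.phi k K t ht with commutes' := fun c => P1Sch.phi_stalkMap k K t ht c }

/-- the coordinate function on the projective line -/
noncomputable def tau : (CohB1.ProjSpace 1 k).functionField := P1Sch.tauF k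

theorem phiA_tau (t : K) (ht : Transcendental k t) : phiA k K t ht (tau k) = t :=
  P1Sch.phi_tauF k K t ht

/-- the function field of the projective line is generated by the coordinate function -/
theorem adjoin_tau : k⟮tau k⟯ = ⊤ := by
  have htX : Transcendental k (RatFunc.X : RatFunc k) := RatFunc.transcendental_X
  let φ := phiA k (RatFunc k) RatFunc.X htX
  rw [eq_top_iff]
  intro z _
  have h1 : φ z ∈ (⊤ : IntermediateField k (RatFunc k)) := trivial
  rw [← RatFunc.adjoin_X, ← phiA_tau k (RatFunc k) RatFunc.X htX] at h1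
  have h2 : k⟮φ (tau k)⟯ = (k⟮tau k⟯).map φ := by
    rw [IntermediateField.adjoin_map, Set.image_singleton]
  rw [h2] at h1
  obtain ⟨y, hy, hyz⟩ := h1
  have h3 : y = z := φ.toRingHom.injective hyz
  rwa [← h3]

/-- the degree of `K` over the function field of the line embedded via `t` -/
theorem finrank_phi (t : K) (ht : Transcendental k t) :
    @Module.finrank (CohB1.ProjSpace 1 k).functionField K _ _
      (P1Sch.phi k K t ht).toAlgebra.toModule = Module.finrank k⟮t⟯ K := by
  letI : Algebra (CohB1.ProjSpace 1 k).functionField K := (P1Sch.phi k K t ht).toAlgebra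
  let φ := phiA k K t ht
  have hrange : φ.fieldRange = k⟮t⟯ := by
    rw [AlgHom.fieldRange_eq_map, ← adjoin_tau k, IntermediateField.adjoin_map,
      Set.image_singleton, phiA_tau]
  let e1 : (CohB1.ProjSpace 1 k).functionField ≃ₐ[k] φ.fieldRange := AlgEquiv.ofInjectiveField φ
  let e2 : φ.fieldRange ≃ₐ[k] k⟮t⟯ := IntermediateField.equivOfEq hrange
  exact Algebra.finrank_eq_of_equiv_equiv (e1.trans e2).toRingEquiv (RingEquiv.refl K)
    (by ext z; rfl)

end P1

section BA

attribute [local instance] Curv2.stalkAlgebra Curv2.resAlgebra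

variable (k : Type u) [Field k] [IsAlgClosed k] {C : Scheme.{u}}
  [C.Over (Spec (CommRingCat.of k))] [IsIntegral C] [IsProper (C ↘ (Spec (CommRingCat.of k)))]

/-- **an involution with `2 g + 2` fixed points is the involution of a double cover of the
projective line** -/
theorem b_to_a (h2 : (2 : k) ≠ 0) (hdim : topologicalKrullDim C = 1)
    (hreg : ∀ x : C, IsRegularLocalRing (C.presheaf.stalk x))
    (σ : C ⟶ C) (hσp : σ ≫ (C ↘ Spec (CommRingCat.of k)) = C ↘ Spec (CommRingCat.of k))
    (hσσ : σ ≫ σ = 𝟙 C)
    (hcard : Nat.card {x : C // IsClosed ({x} : Set C) ∧ σ x = x} = 2 * Curv2.genus k C + 2) :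
    ∃ f : C ⟶ CohB1.ProjSpace 1 k,
      f ≫ CohB1.ProjSpace.toSpec 1 k = C ↘ Spec (CommRingCat.of k) ∧
      IsFinite f ∧ Flat f ∧ (∀ y : ↥(CohB1.ProjSpace 1 k), Scheme.Hom.finrank f y = 2) ∧
      ∃ V : C.Opens, (V : Set C).Nonempty ∧ Etale (V.ι ≫ f) := by
  haveI := Groth.Agent.Helper4.NApx82.isNoetherian_of_proper k C
  haveI hpY : IsProper (CohB1.ProjSpace.toSpec 1 k) :=
    Groth.Agent.Helper6.HProj.isProper_toSpec 1 k
  haveI hsY : Smooth (CohB1.ProjSpace.toSpec 1 k) :=
    Groth.Agent.Helper3.ProjSmooth.smooth_toSpec 1 k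
  haveI : IsProper ((CohB1.ProjSpace 1 k) ↘ Spec (CommRingCat.of k)) := hpY
  haveI : Smooth ((CohB1.ProjSpace 1 k) ↘ Spec (CommRingCat.of k)) := hsY
  haveI := Groth.Agent.Helper4.NApx82.isNoetherian_of_proper k (CohB1.ProjSpace 1 k)
  have hregY : ∀ y : (CohB1.ProjSpace 1 k),
      IsRegularLocalRing ((CohB1.ProjSpace 1 k).presheaf.stalk y) :=
    fun y => regular_of_smooth k y
  have hdimY := dim_P1 k
  obtain ⟨pd⟩ := Groth.Agent.Helper4.SN568.nonempty_placeData k C hdim hreg
  have hσσx : ∀ x : C, σ (σ x) = x := by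
    intro x
    have := congrArg (fun φ : C ⟶ C => φ x) hσσ
    simpa using this
  have hση : σ (genericPoint C) = genericPoint C := by
    have h1 : σ (genericPoint C) ⤳ genericPoint C := by
      have := (genericPoint_specializes (σ (genericPoint C))).map σ.continuous
      rwa [hσσx] at this
    exact (h1.antisymm (genericPoint_specializes _)).eq
  have hττ : ∀ z, (ffMap σ hση).hom ((ffMap σ hση).hom z) = z := by
    intro z
    have hσση : (σ ≫ σ) (genericPoint C) = genericPoint C := by
      rw [hσσ]; rfl
    have hc := Groth.Agent.Helper4.SN650.ffMap_comp σ σ hση hση hσση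
    have hc2 := Groth.Agent.Helper4.SN650.ffMap_congr hσσ hσση rfl
    rw [hc2, SN667.ffMap_id] at hc
    have := congrArg (fun φ : C.functionField ⟶ C.functionField => φ.hom z) hc
    exact this.symm
  let τH : C.functionField →ₐ[k] C.functionField :=
    { (ffMap σ hση).hom with
      commutes' := fun c => Groth.Agent.Helper4.SN654.ffMap_stalkMap k σ hσp hση c }
  let τk : C.functionField ≃ₐ[k] C.functionField :=
    AlgEquiv.ofAlgHom τH τH (by ext z; exact hττ z) (by ext z; exact hττ z)
  have hτk : ∀ z, τk z = (ffMap σ hση).hom z := fun z => rfl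
  -- the involution is not the identity
  have hσ1 : σ ≠ 𝟙 C := by
    intro h1
    have hinf := Groth.Agent.Helper4.SN642.infinite_closedPoints k hdim (C := C)
    haveI : Infinite {Q : C | IsClosed ({Q} : Set C)} := Set.infinite_coe_iff.2 hinf
    haveI : Infinite {x : C // IsClosed ({x} : Set C) ∧ σ x = x} :=
      Infinite.of_injective
        (fun Q : {Q : C | IsClosed ({Q} : Set C)} =>
          (⟨Q.1, Q.2, by rw [h1]; rfl⟩ : {x : C // IsClosed ({x} : Set C) ∧ σ x = x}))
        (fun Q Q' h => by
          have h' : Q.1 = Q'.1 := congrArg (fun z : {x : C // IsClosed ({x} : Set C) ∧ σ x = x} => z.1) h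
          exact Subtype.ext h')
    rw [Nat.card_eq_zero_of_infinite] at hcard
    omega
  have hτk1 : τk ≠ 1 := by
    intro h1
    apply hσ1
    have h1η : (𝟙 C : C ⟶ C) (genericPoint C) = genericPoint C := rfl
    apply Groth.Agent.Helper4.SN654.eq_of_ffMap_eq (C ↘ Spec (CommRingCat.of k)) σ (𝟙 C) hσp
      (Category.id_comp _) hση h1η
    rw [SN667.ffMap_id]
    ext z
    have := congrArg (fun f : C.functionField ≃ₐ[k] C.functionField => f z) h1
    exact this
  obtain ⟨K₀, hfr, hK₀, τ', hτ'1, hτ'⟩ := exists_fixedField pd.hK τk (fun z => hττ z) hτk1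
  -- the genus of the fixed field is zero
  have hcount := SN666.card_fixed hK₀ pd.hK hfr h2 τ' hτ'1
  have hcl : ∀ x : C, IsClosed ({x} : Set C) → IsClosed ({σ x} : Set C) := by
    intro x hx
    haveI : IsIso σ := ⟨σ, hσσ, hσσ⟩
    have := (Scheme.Hom.homeomorph σ).isClosedMap _ hx
    rwa [Set.image_singleton] at this
  have hcard2 := SN667.card_fixed_eq pd σ hση (τ'.restrictScalars k) (fun z => hτ' z) hcl
  have hg := Groth.Agent.Helper4.SN560.genus_eq pd
  have hg₀ : genus k K₀ = 0 := by
    have h3 : (Nat.card {Q : Place k C.functionField //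
        FF.comapPlace (τ'.restrictScalars k) Q = Q} : ℤ) =
        2 * (genus k C.functionField : ℤ) + 2 - 4 * (genus k K₀ : ℤ) := hcount.2
    rw [← hcard2, hcard, ← hg] at h3
    push_cast at h3
    omega
  obtain ⟨t, ht, hK₀t⟩ := exists_adjoin_eq K₀ hK₀ hg₀
  subst hK₀t
  -- the morphism to the projective line
  have hnormC : ∀ x : C, IsIntegrallyClosed (C.presheaf.stalk x) := fun x =>
    haveI := hreg x
    Groth.Agent.Helper4.RegNormal.isIntegrallyClosed_of_isRegularLocalRing _
  have hX : ∀ x : C, IsClosed ({x} : Set C) → ringKrullDim (C.presheaf.stalk x) = 1 :=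
    fun x hx => Groth.Agent.Helper4.SN557.dim_stalk k C inferInstance hdim hnormC pd.hK x hx
  have hnorm : ∀ x : C, IsDomain (C.presheaf.stalk x) ∧ IsIntegrallyClosed (C.presheaf.stalk x) :=
    fun x => ⟨inferInstance, hnormC x⟩
  obtain ⟨f, ⟨hfp, hξ, hφf⟩, -⟩ := Groth.Agent.Helper5.CurveHom.s4445 k C (CohB1.ProjSpace 1 k)
    hX hnorm (P1Sch.phi k C.functionField t ht)
    (by ext c; exact P1Sch.phi_stalkMap k C.functionField t ht c)
  have hφf' : (ffMap f hξ).hom = P1Sch.phi k C.functionField t ht := hφf
  haveI : IsFinite f := isFinite_of_nonconstant k hdim hdimY f hfp hξ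
  have hfr2 : @Module.finrank (CohB1.ProjSpace 1 k).functionField C.functionField _ _
      (ffMap f hξ).hom.toAlgebra.toModule = 2 := by
    rw [hφf']
    exact (finrank_phi k C.functionField t ht).trans hfr
  -- flatness
  haveI hflat : Flat f := by
    rw [Groth.Agent.Helper5.AssDed.s10935 f hregY hdimY]
    intro x hx
    rw [Groth.Agent.Helper5.AssDed.isAssPoint_structureModule_iff] at hx
    have := Groth.Agent.Helper5.AssDed.eq_genericPoint_of_maximalIdeal_eq_bot x
      (Groth.Agent.Helper5.AssDed.eq_bot_of_isAssociatedPrime_domain hx)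
    rw [this]
    exact hξ
  haveI : LocallyOfFinitePresentation f :=
    LocallyOfFinitePresentation.iff_locallyOfFiniteType.mpr inferInstance
  -- the rank
  have hrk : ∀ y : ↥(CohB1.ProjSpace 1 k),
      Scheme.Hom.finrank f y = Scheme.Hom.finrank f (genericPoint (CohB1.ProjSpace 1 k)) :=
    fun y => (Scheme.Hom.isLocallyConstant_finrank f).apply_eq_of_preconnectedSpace _ _
  have hd := Groth.Agent.Helper4.SN656.residueDegree_eq_of_rank' k hdim hdimY f hξ _
    (Groth.Agent.Helper4.SN656.rank_push' k f _ hrk)
  have hfr3 := Groth.Agent.Helper4.SN641.finrank_ffMap f hξ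
  rw [hd, hfr2] at hfr3
  refine ⟨f, hfp, inferInstance, hflat, fun y => by rw [hrk y, ← hfr3], ?_⟩
  -- the étale locus
  letI algA'B : Algebra (CohB1.ProjSpace 1 k).functionField C.functionField :=
    (ffMap f hξ).hom.toAlgebra
  have h2Y : (2 : (CohB1.ProjSpace 1 k).functionField) ≠ 0 := by
    have : (2 : (CohB1.ProjSpace 1 k).functionField) =
        algebraMap k (CohB1.ProjSpace 1 k).functionField 2 := (map_ofNat _ 2).symm
    rw [this]
    exact (map_ne_zero _).2 h2
  haveI hsep : Algebra.IsSeparable (CohB1.ProjSpace 1 k).functionField C.functionField :=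
    SN667.isSeparable_of_finrank_two hfr2 h2Y
  haveI : Algebra.FormallyUnramified (CohB1.ProjSpace 1 k).functionField C.functionField :=
    Algebra.FormallyUnramified.of_isSeparable _ _
  have hsub : Subsingleton ((Omega.sheaf f).presheaf.stalk (genericPoint C)) := by
    obtain ⟨e⟩ := Groth.Agent.Helper4.SN659.nonempty_stalk_equiv f (genericPoint C)
    letI algAB : Algebra ((CohB1.ProjSpace 1 k).presheaf.stalk (f (genericPoint C)))
        (C.presheaf.stalk (genericPoint C)) := (f.stalkMap (genericPoint C)).hom.toAlgebra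
    letI algA'A : Algebra (CohB1.ProjSpace 1 k).functionField
        ((CohB1.ProjSpace 1 k).presheaf.stalk (f (genericPoint C))) :=
      ((CohB1.ProjSpace 1 k).presheaf.stalkSpecializes (specializes_of_eq hξ)).hom.toAlgebra
    haveI : IsScalarTower (CohB1.ProjSpace 1 k).functionField
        ((CohB1.ProjSpace 1 k).presheaf.stalk (f (genericPoint C)))
        (C.presheaf.stalk (genericPoint C)) := IsScalarTower.of_algebraMap_eq (fun a => rfl)
    have hsurj := KaehlerDifferential.map_surjective (CohB1.ProjSpace 1 k).functionField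
      ((CohB1.ProjSpace 1 k).presheaf.stalk (f (genericPoint C)))
      (C.presheaf.stalk (genericPoint C))
    haveI : Subsingleton (Ω[C.presheaf.stalk (genericPoint C)⁄
        (CohB1.ProjSpace 1 k).functionField]) :=
      Algebra.FormallyUnramified.subsingleton_kaehlerDifferential
    haveI : Subsingleton (Ω[C.presheaf.stalk (genericPoint C)⁄
        (CohB1.ProjSpace 1 k).presheaf.stalk (f (genericPoint C))]) := hsurj.subsingleton
    exact e.toEquiv.subsingleton
  have hns : genericPoint C ∉ CohB1.support (Omega.sheaf f) := fun h => h hsub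
  obtain ⟨U, hηU, hunr⟩ := (Groth.Agent.Lead.OmegaSecC.notMem_support_iff f (genericPoint C)).1 hns
  refine ⟨U, ⟨genericPoint C, hηU⟩, ?_⟩
  haveI := hunr
  exact Etale.of_formallyUnramified_of_flat (U.ι ≫ f)

end BA

end Groth.Agent.Helper4.SN668
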