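import Mathlib
import Groth.Agent.Helper4.SN618
import Groth.Agent.Helper4.SN603
import Groth.Agent.Helper4.SN604
import Groth.Agent.Helper4.SN595
import Groth.Agent.Helper4.SN592
import Groth.Agent.S11331

/-!
# S12432: a special non-degenerate space curve of degree six is a canonical curve of genus four
-/

set_option autoImplicit false
set_option linter.style.haveILetI false
set_option linter.unusedSectionVars false
universe u
open CategoryTheory CategoryTheory.Limits AlgebraicGeometry TopologicalSpace Opposite FunFld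

namespace Groth.Agent.Helper4.SN669

section FF

open Groth.Agent.Helper5.FF hiding degHom degHom_apply
open Groth.Agent.Helper4.SN615 Groth.Agent.Helper4.SN591 Groth.Agent.Helper4.SN618
  Groth.Agent.Helper4.SN603

variable {k K : Type*} [Field k] [IsAlgClosed k] [Field K] [Algebra k K]
  (hK : IsFunctionField k K)

include hK in
/-- a very ample special divisor attaining equality in Clifford's theorem is canonical -/
theorem sub_mem_prinDivs_of_veryAmple (C : Divisor k K) (hC : IsCanonical k K C)
    (hCl : ∀ D : Divisor k K, 0 < ell D → 0 < ell (C - D) → 2 * (ell D : ℤ) ≤ D.deg + 2)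
    (D : Divisor k K) (hpos : 0 < D.deg) (heq : 2 * (ell D : ℤ) = D.deg + 2)
    (hsp : 0 < ell (C - D))
    (hva : ∀ P Q : Place k K, ell (D - Finsupp.single P 1 - Finsupp.single Q 1) + 2 = ell D) :
    C - D ∈ prinDivs k K := by
  haveI : Infinite k := IsAlgClosed.instInfinite
  have hd1 : ∀ P : Place k K, P.deg = 1 := fun P => deg_eq_one_of_isAlgClosed hK P
  obtain ⟨hlC, hdC⟩ := ell_canonical hK hC
  have hlD : 0 < ell D := by
    have : (0 : ℤ) < ell D := by omega
    exact_mod_cast this
  have hD0 : D ∉ prinDivs k K := by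
    intro hp
    have hp' : D - 0 ∈ prinDivs k K := by rwa [sub_zero]
    have := Groth.Agent.Helper6.FFZeta.deg_eq_of_sub_mem hK hp'
    rw [deg_zero] at this
    omega
  by_contra hDC
  obtain ⟨F, hF, hlF, hprin⟩ := clifford_eq hK hd1 C hC hCl D hlD hsp heq hD0 hDC
  -- the genus is positive
  have hg : 0 < genus k K := by
    by_contra h0
    have h0' : genus k K = 0 := by omega
    have hneg : (C - D).deg < 0 := by
      rw [deg_sub, hdC, h0']
      push_cast
      omega
    have := L_eq_bot_of_deg_neg hK (C - D) hneg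
    exact L_ne_bot_of_ell_pos hsp this
  have hF2 : ell F = 2 := by
    apply le_antisymm _ hlF
    obtain ⟨P0⟩ := nonempty_place hK
    have h1 := ell_le_ell_sub_single_add_one hK F P0
    have h2 := ell_le_one_of_deg_one hK hd1 hg (F - Finsupp.single P0 1)
      (by rw [deg_sub, deg_single, hd1 P0, hF]; norm_num)
    omega
  have hbpf : ∀ P : Place k K, ell (F - Finsupp.single P 1) < ell F := by
    intro P
    have h2 := ell_le_one_of_deg_one hK hd1 hg (F - Finsupp.single P 1)
      (by rw [deg_sub, deg_single, hd1 P, hF]; norm_num)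
    omega
  -- `ℓ(nF) ≥ n + 1`
  have hind : ∀ n : ℕ, n + 1 ≤ ell (n • F) ∧ ell (n • F) + 1 ≤ ell ((n + 1) • F) := by
    intro n
    induction n with
    | zero =>
      rw [zero_smul, ell_zero hK, zero_add, one_smul, hF2]
      exact ⟨le_refl _, le_refl _⟩
    | succ n ih =>
      refine ⟨by omega, ?_⟩
      have hp := pencil_of_bpf hK F hF2 hbpf ((n + 1) • F)
      have e1 : (n + 1) • F - F = n • F := by
        rw [succ_nsmul]; abel
      have e2 : (n + 1) • F + F = (n + 1 + 1) • F := (succ_nsmul F (n + 1)).symm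
      rw [e1, e2] at hp
      omega
  -- write `F ~ P₀ + Q`
  obtain ⟨P0⟩ := nonempty_place hK
  have h1 := ell_le_ell_sub_single_add_one hK F P0
  obtain ⟨f, hf0, hE⟩ := exists_effective hK (F - Finsupp.single P0 1) (by omega)
  set E := F - Finsupp.single P0 1 + FunFld.div k f with hEdef
  have hdE : E.deg = 1 := by
    rw [hEdef, deg_add, deg_sub, deg_single, deg_div hK, hF, hd1 P0]
    norm_num
  have hE0 : E ≠ 0 := by
    intro h0
    rw [h0, deg_zero] at hdE
    exact zero_ne_one hdE
  obtain ⟨Q, hQ⟩ := Finsupp.ne_iff.mp hE0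
  have hQ1 : 1 ≤ E Q := by
    have := hE Q
    simp only [Finsupp.coe_zero, Pi.zero_apply] at this hQ
    omega
  have hle : (Finsupp.single Q 1 : Divisor k K) ≤ E := by
    intro R
    by_cases hR : R = Q
    · subst hR; rw [Finsupp.single_eq_same]; exact hQ1
    · rw [Finsupp.single_eq_of_ne hR]; exact hE R
  have h2 : D - Finsupp.single P0 1 - E ≤ D - Finsupp.single P0 1 - Finsupp.single Q 1 :=
    sub_le_sub_left hle _
  have h3 := Groth.Agent.Helper5.FF.ell_mono hK h2
  rw [Groth.Agent.Helper6.FFZeta.mem_prinDivs_iff hK] at hprin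
  obtain ⟨g, hg0, hg'⟩ := hprin
  have hva' := hva P0 Q
  have hl2 : 2 ≤ ell D := by
    have : (2 : ℤ) ≤ ell D := by omega
    exact_mod_cast this
  obtain ⟨r, hr⟩ : ∃ r : ℕ, ell D - 1 = r + 1 := ⟨ell D - 2, by omega⟩
  have h4 : D - Finsupp.single P0 1 - E =
      r • F + FunFld.div k g + FunFld.div k f⁻¹ := by
    have e3 : (r + 1) • F = r • F + F := succ_nsmul F r
    rw [hr, e3] at hg'
    rw [hEdef, div_inv hK, ← hg']
    abel
  rw [h4, ell_add_div hK _ (inv_ne_zero hf0), ell_add_div hK _ hg0] at h3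
  have h5 := (hind r).1
  omega

end FF

section Main

open Groth.Agent.Helper4.SN550 Groth.Agent.Helper4.SN Groth.Agent.Helper1.Dev

attribute [local instance] Curv2.stalkAlgebra Curv2.resAlgebra

variable (k : Type u) [Field k] [IsAlgClosed k] (X : Scheme.{u}) [X.Over (Spec (CommRingCat.of k))]
  [IsIntegral X] [IsProper (X ↘ Spec (CommRingCat.of k))]
  (hdim : topologicalKrullDim X = 1)
  (hreg : ∀ x : X, IsRegularLocalRing (X.presheaf.stalk x))

include hdim hreg in
/-- **S12432** -/
theorem main12432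
    (i : X ⟶ CohB1.ProjSpace 3 k) [IsClosedImmersion i]
    (hi : i ≫ CohB1.ProjSpace.toSpec 3 k = (X ↘ (Spec (CommRingCat.of k))))
    (hplane : ∀ s : LinSer.Sect (CohB1.ProjSpace 3 k) (Twist.twistProjSpace 3 k 1), s ≠ 0 →
      OmegaSh.pullSect i (Twist.twistProjSpace 3 k 1) ⊤ s ≠ 0)
    (hspecial : Nontrivial (Coh.HH X
      ((Scheme.Modules.pullback i).obj (Twist.twistProjSpace 3 k 1)) 1))
    (hdeg : Curv2.deg k X ((Scheme.Modules.pullback i).obj (Twist.twistProjSpace 3 k 1)) 1 = 6) :
    Nonempty (((Scheme.Modules.pullback i).obj (Twist.twistProjSpace 3 k 1)) ≅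
      Omega.sheaf (X ↘ (Spec (CommRingCat.of k)))) ∧ Curv2.genus k X = 4 := by
  haveI := Groth.Agent.Helper4.NApx82.isNoetherian_of_proper k X
  set L := (Scheme.Modules.pullback i).obj (Twist.twistProjSpace 3 k 1) with hLdef
  have hinvO1 : PicF.IsInvertible (Twist.twistProjSpace 3 k 1) :=
    Groth.Agent.Helper1.SerreVan.isInvertible_twist 3 k 1
  have hL : PicF.IsInvertible L := Groth.Agent.Helper4.PullSec.isInvertible_pullback i hinvO1
  have hΩ := Groth.Agent.Helper4.SN568.isInvertible_omega k X hdim hreg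
  obtain ⟨pd⟩ := Groth.Agent.Helper4.SN568.nonempty_placeData k X hdim hreg
  obtain ⟨ω, C, hC1, hC2⟩ := Groth.Agent.Helper4.SN568.exists_canon k X hdim hreg pd
  obtain ⟨t, ht0, -⟩ := Groth.Agent.Helper4.SN555.exists_gen L hL
  obtain ⟨D, hD⟩ := exists_isDiv pd L hL t ht0
  have hl := Groth.Agent.Helper4.SN559.finrank_h0_eq_ell pd L hL t D hD
  have hdeg' := Groth.Agent.Helper4.SN552.deg_eq_of_isDiv pd L hL t D hD
  have h1 := Groth.Agent.Helper4.SN575.finrank_h1_eq_ell pd C hC2 L hL t D hD
  have h4 : 4 ≤ ell D := by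
    rw [← hl]
    exact Groth.Agent.Helper4.SN595.le_h0_of_nondeg k 3 X i hi hplane
  have hcohL := Groth.Agent.Helper1.SerreFin.isCoh_of_isInvertible _ hL
  haveI : Module.Finite k (Coh.HH X L 1) := Groth.Agent.S0002.result k X _ hcohL 1
  have hsp : 0 < ell (C - D) := by
    rw [← h1]
    exact Module.finrank_pos
  have hCl : ∀ D' : Divisor k X.functionField, 0 < ell D' → 0 < ell (C - D') →
      2 * (ell D' : ℤ) ≤ D'.deg + 2 := by
    intro D' h1 h2
    obtain ⟨L', t', hL', hD'⟩ := Groth.Agent.Helper4.SN553.exists_isDiv_of_divisor pd D'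
    have a0 := Groth.Agent.Helper4.SN559.finrank_h0_eq_ell pd L' hL' t' D' hD'
    have a1 := Groth.Agent.Helper4.SN575.finrank_h1_eq_ell pd C hC2 L' hL' t' D' hD'
    have ad := Groth.Agent.Helper4.SN552.deg_eq_of_isDiv pd L' hL' t' D' hD'
    have n0 : Nontrivial (Coh.HH X L' 0) :=
      Module.nontrivial_of_finrank_pos (R := k) (by rw [a0]; exact h1)
    have n1 : Nontrivial (Coh.HH X L' 1) :=
      Module.nontrivial_of_finrank_pos (R := k) (by rw [a1]; exact h2)
    have := clifford_two_h0_le k hdim L' hL' n0 n1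
    rw [a0, ad] at this
    exact this
  have hDdeg : D.deg = 6 := by rw [← hdeg']; exact hdeg
  have hcl := hCl D (by omega) hsp
  have hlD4 : ell D = 4 := by
    have : (ell D : ℤ) ≤ 4 := by omega
    have : ell D ≤ 4 := by exact_mod_cast this
    omega
  have hva : ∀ P Q : Place k X.functionField,
      ell (D - Finsupp.single P 1 - Finsupp.single Q 1) + 2 = ell D := by
    intro P Q
    obtain ⟨x, rfl⟩ := pd.pl.surjective P
    obtain ⟨y, rfl⟩ := pd.pl.surjective Q
    have key := (Groth.Agent.S11331.result k X hdim hreg L hL).1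
      ⟨3, i, inferInstance, hi, ⟨Iso.refl _⟩⟩ x.1 y.1 x.2 y.2
    rw [Groth.Agent.Helper4.SN613.finrank_h0_twist pd L hL t D hD x y, hl] at key
    exact key
  have hprin := sub_mem_prinDivs_of_veryAmple pd.hK C hC2 hCl D (by omega)
    (by rw [hlD4, hDdeg]; norm_num) hsp hva
  have hp' : D - C ∈ prinDivs k X.functionField := by
    have := (prinDivs k X.functionField).neg_mem hprin
    rwa [neg_sub] at this
  refine ⟨Groth.Agent.Helper4.SN555.nonempty_iso_of_sub_mem pd hL hΩ hD hC1 hp', ?_⟩
  have hdC := (Groth.Agent.Helper5.FF.ell_canonical pd.hK hC2).2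
  have hdd := Groth.Agent.Helper6.FFZeta.deg_eq_of_sub_mem pd.hK hp'
  rw [Groth.Agent.Helper4.SN560.genus_eq pd]
  have : (genus k X.functionField : ℤ) = 4 := by omega
  exact_mod_cast this

end Main

end Groth.Agent.Helper4.SN669
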