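import Mathlib

/-!
# Subfields of a field `K` of characteristic `p` with `[K : K^p] = p` containing some `K^{p^e}`
-/

set_option autoImplicit false
set_option linter.style.haveILetI false
set_option linter.unusedSectionVars false

namespace Groth.Agent.Helper4.SN670

section Sub

variable {K : Type*} [Field K] (p : ℕ) [ExpChar K p]

theorem map_frobenius_le (K₀ : Subfield K) : K₀.map (frobenius K p) ≤ K₀ := by
  rintro _ ⟨x, hx, rfl⟩
  exact pow_mem hx p

theorem map_frobenius_fieldRange (j : ℕ) :
    (iterateFrobenius K p j).fieldRange.map (frobenius K p) =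
      (iterateFrobenius K p (j + 1)).fieldRange := by
  rw [RingHom.map_fieldRange, add_comm, iterateFrobenius_add, iterateFrobenius_one]

/-- if there is no field strictly between `K^p` and `K`, then any subfield containing some
`K^{p^e}` is of the form `K^{p^n}` -/
theorem exists_eq_fieldRange
    (H : ∀ M : Subfield K, (frobenius K p).fieldRange ≤ M →
      M = (frobenius K p).fieldRange ∨ M = ⊤) :
    ∀ (e : ℕ) (K₀ : Subfield K), (iterateFrobenius K p e).fieldRange ≤ K₀ →
      ∃ n, K₀ = (iterateFrobenius K p n).fieldRange := by
  intro e
  induction e with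
  | zero =>
    intro K₀ h
    refine ⟨0, le_antisymm ?_ h⟩
    rw [iterateFrobenius_zero]
    intro x _
    exact ⟨x, rfl⟩
  | succ e ih =>
    intro K₀ h
    by_cases htop : K₀ = ⊤
    · refine ⟨0, ?_⟩
      rw [htop, iterateFrobenius_zero]
      symm
      rw [eq_top_iff]
      intro x _
      exact ⟨x, rfl⟩
    have hle : K₀ ≤ (frobenius K p).fieldRange := by
      rcases H (K₀ ⊔ (frobenius K p).fieldRange) le_sup_right with h1 | h1
      · rw [← h1]
        exact le_sup_left
      · exfalso
        apply htop
        have hj : ∀ j : ℕ, K₀ ⊔ (iterateFrobenius K p (j + 1)).fieldRange = ⊤ := by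
          intro j
          induction j with
          | zero => rw [zero_add, iterateFrobenius_one]; exact h1
          | succ j ihj =>
            have h2 := congrArg (Subfield.map (frobenius K p)) ihj
            rw [Subfield.map_sup, map_frobenius_fieldRange, ← RingHom.fieldRange_eq_map] at h2
            rw [eq_top_iff, ← h1]
            apply sup_le le_sup_left
            rw [← h2]
            exact sup_le_sup_right (map_frobenius_le p K₀) _
        have := hj e
        rwa [sup_eq_left.mpr h] at this
    have h3 : (iterateFrobenius K p e).fieldRange ≤ K₀.comap (frobenius K p) := by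
      rintro _ ⟨y, rfl⟩
      rw [Subfield.mem_comap]
      apply h
      refine ⟨y, ?_⟩
      rw [add_comm, iterateFrobenius_add_apply, iterateFrobenius_one]
    obtain ⟨n, hn⟩ := ih _ h3
    refine ⟨n + 1, ?_⟩
    rw [← map_frobenius_fieldRange, ← hn, Subfield.map_comap_eq, inf_eq_left.mpr hle]

end Sub

end Groth.Agent.Helper4.SN670
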