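import Mathlib
import Groth.Agent.Helper4.SN670
import Groth.Agent.Helper5.FFKp3
import Groth.Agent.Helper4.SN661
import Groth.Agent.Helper4.SN567

/-!
# Purely inseparable subfields of finite index of a function field of one variable over a perfect
field are the fields `K^{p^n}`
-/

set_option autoImplicit false
set_option linter.style.haveILetI false
set_option linter.unusedSectionVars false
universe u v
open FunFld
open scoped IntermediateField

namespace Groth.Agent.Helper4.SN671

section Alg

variable {k : Type u} {K : Type v} [Field k] [Field K] [Algebra k K]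

/-- in a function field of one variable over a perfect field there is no field strictly between
`K^p` and `K` -/
theorem eq_or_eq_top_of_le (p : ℕ) [hp : Fact p.Prime] [CharP K p]
    (hK : IsFunctionField k K) (hg : IsGeometric k K) (hperf : ∀ c : k, ∃ d : k, d ^ p = c)
    (M : Subfield K) (hM : (frobenius K p).fieldRange ≤ M) :
    M = (frobenius K p).fieldRange ∨ M = ⊤ := by
  have hfin := Groth.Agent.Helper5.FF.finrank_adjoin_pow_char p hK hg
  set F := IntermediateField.adjoin k (Set.range fun y : K => y ^ p) with hF
  have hkR : ∀ c : k, algebraMap k K c ∈ (frobenius K p).fieldRange := by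
    intro c
    obtain ⟨d, rfl⟩ := hperf c
    exact ⟨algebraMap k K d, by rw [map_pow]; rfl⟩
  let R' : IntermediateField k K := (frobenius K p).fieldRange.toIntermediateField hkR
  let M' : IntermediateField k K := M.toIntermediateField (fun c => hM (hkR c))
  have hFR : F ≤ R' := by
    rw [hF, IntermediateField.adjoin_le_iff]
    rintro _ ⟨y, rfl⟩
    exact ⟨y, rfl⟩
  have hRM : R' ≤ M' := fun x hx => hM hx
  have hFM : F ≤ M' := hFR.trans hRM
  haveI : IsSimpleOrder (IntermediateField F K) :=
    IntermediateField.isSimpleOrder_of_finrank_prime F K (by rw [hfin]; exact hp.out)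
  rcases eq_bot_or_eq_top (IntermediateField.extendScalars hFM) with h | h
  · left
    apply le_antisymm _ hM
    intro x hx
    have h1 : x ∈ IntermediateField.extendScalars hFM := hx
    rw [h, IntermediateField.mem_bot] at h1
    obtain ⟨y, rfl⟩ := h1
    exact hFR y.2
  · right
    rw [eq_top_iff]
    intro x _
    have h1 : x ∈ IntermediateField.extendScalars hFM := by rw [h]; trivial
    exact h1

end Alg

end Groth.Agent.Helper4.SN671

namespace Groth.Agent.Helper4.SN671

section Equiv

/-- two field embeddings with the same range differ by an isomorphism -/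
theorem exists_ringEquiv_of_fieldRange_eq {K₁ K₂ K : Type*} [Field K₁] [Field K₂] [Field K]
    (φ₁ : K₁ →+* K) (φ₂ : K₂ →+* K) (h : φ₁.fieldRange = φ₂.fieldRange) :
    ∃ θ : K₂ ≃+* K₁, ∀ z, φ₁ (θ z) = φ₂ z := by
  have hle : ∀ z, ∃ w, φ₁ w = φ₂ z := by
    intro z
    have : φ₂ z ∈ φ₁.fieldRange := by rw [h]; exact ⟨z, rfl⟩
    exact this
  choose w hw using hle
  let θ₀ : K₂ →+* K₁ :=
    { toFun := w
      map_one' := φ₁.injective (by rw [hw, map_one, map_one])
      map_mul' := fun a b => φ₁.injective (by rw [hw, map_mul, map_mul, hw, hw])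
      map_zero' := φ₁.injective (by rw [hw, map_zero, map_zero])
      map_add' := fun a b => φ₁.injective (by rw [hw, map_add, map_add, hw, hw]) }
  have hsurj : Function.Surjective θ₀ := by
    intro y
    have : φ₁ y ∈ φ₂.fieldRange := by rw [← h]; exact ⟨y, rfl⟩
    obtain ⟨z, hz⟩ := this
    refine ⟨z, φ₁.injective ?_⟩
    show φ₁ (w z) = φ₁ y
    rw [hw, hz]
  exact ⟨RingEquiv.ofBijective θ₀ ⟨θ₀.injective, hsurj⟩, fun z => hw z⟩

end Equiv

section Main

variable {k : Type u} {L K : Type v} [Field k] [IsAlgClosed k] [Field L] [Field K]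
  [Algebra k L] [Algebra L K] [Algebra k K] [IsScalarTower k L K]

/-- a purely inseparable extension `K / L` of function fields of one variable over an
algebraically closed field identifies `L` with `K^{q^n}`, `q` the exponential characteristic -/
theorem exists_ringEquiv_pow (hL : IsFunctionField k L) (hK : IsFunctionField k K)
    [IsPurelyInseparable L K] (q : ℕ) [hq : ExpChar k q] :
    ∃ (n : ℕ) (θ : K ≃+* L), ∀ z, algebraMap L K (θ z) = z ^ q ^ n := by
  haveI : FiniteDimensional L K :=
    Groth.Agent.Helper4.SN661.finiteDimensional_of_isFunctionField hL hK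
  haveI : ExpChar L q := expChar_of_injective_ringHom (algebraMap k L).injective q
  haveI : ExpChar K q := expChar_of_injective_ringHom (algebraMap k K).injective q
  rcases hq with _ | ⟨hp⟩
  · -- characteristic zero
    haveI : CharZero L := charZero_of_injective_algebraMap (algebraMap k L).injective
    have hbij : Function.Bijective (algebraMap L K) :=
      ⟨(algebraMap L K).injective, IsPurelyInseparable.surjective_algebraMap_of_isSeparable L K⟩
    refine ⟨0, (RingEquiv.ofBijective (algebraMap L K) hbij).symm, fun z => ?_⟩
    rw [pow_zero, pow_one]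
    exact (RingEquiv.ofBijective (algebraMap L K) hbij).apply_symm_apply z
  · haveI : Fact q.Prime := ⟨hp⟩
    haveI : CharP K q := charP_of_injective_algebraMap (algebraMap k K).injective q
    have hg := Groth.Agent.Helper4.SN567.isGeometric_of_isAlgClosed k K
    have hperf : ∀ c : k, ∃ d : k, d ^ q = c := fun c =>
      IsAlgClosed.exists_pow_nat_eq c hp.pos
    have he : ∀ a : K, a ^ q ^ IsPurelyInseparable.exponent L K ∈ (algebraMap L K).range :=
      fun a => IsPurelyInseparable.exponent_def' L q a
    have hle : (iterateFrobenius K q (IsPurelyInseparable.exponent L K)).fieldRange ≤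
        (algebraMap L K).fieldRange := by
      rintro _ ⟨y, rfl⟩
      obtain ⟨w, hw⟩ := he y
      exact ⟨w, hw⟩
    obtain ⟨n, hn⟩ := Groth.Agent.Helper4.SN670.exists_eq_fieldRange q
      (eq_or_eq_top_of_le q hK hg hperf) _ _ hle
    obtain ⟨θ, hθ⟩ := exists_ringEquiv_of_fieldRange_eq (algebraMap L K)
      (iterateFrobenius K q n) hn
    exact ⟨n, θ, hθ⟩

end Main

end Groth.Agent.Helper4.SN671
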