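import Mathlib
import Groth.Agent.Helper4.SN671
import Groth.Agent.Helper4.SN656
import Groth.Agent.Helper4.SN568
import Groth.Agent.Helper5.CurveHom

/-!
# A purely inseparable finite morphism of regular proper curves over an algebraically closed field
is, up to a twist of the base field, a power of Frobenius: the curves are abstractly isomorphic
-/

set_option autoImplicit false
set_option linter.unusedSectionVars false
set_option linter.style.haveILetI false
universe u

open CategoryTheory CategoryTheory.Limits AlgebraicGeometry TopologicalSpace Opposite FunFld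

namespace Groth.Agent.Helper4.SN672

open Groth.Agent.Helper4.SN Groth.Agent.Helper4.SN637 Groth.Agent.Helper4.SN641
  Groth.Agent.Helper4.SN638 Groth.Agent.Helper4.SN639 Groth.Agent.Helper4.SN656

attribute [local instance] Curv2.stalkAlgebra

section Main

variable (k : Type u) [Field k] [IsAlgClosed k] {X : Scheme.{u}} [X.Over (Spec (CommRingCat.of k))]
  [IsIntegral X] [IsProper (X ↘ (Spec (CommRingCat.of k)))]
  {Y : Scheme.{u}} [Y.Over (Spec (CommRingCat.of k))] [IsIntegral Y]
  [IsProper (Y ↘ (Spec (CommRingCat.of k)))]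

include k in
theorem main11333 (hdimX : topologicalKrullDim X = 1)
    (hregX : ∀ x : X, IsRegularLocalRing (X.presheaf.stalk x))
    (hdimY : topologicalKrullDim Y = 1)
    (hregY : ∀ x : Y, IsRegularLocalRing (Y.presheaf.stalk x))
    (f : X ⟶ Y) (hf : f ≫ (Y ↘ (Spec (CommRingCat.of k))) = X ↘ (Spec (CommRingCat.of k)))
    (e : f (genericPoint X) = genericPoint Y)
    (hpi : @IsPurelyInseparable Y.functionField X.functionField _ _
      (ffMap f e).hom.toAlgebra) : Nonempty (X ≅ Y) := by
  haveI := Groth.Agent.Helper4.NApx82.isNoetherian_of_proper k X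
  haveI := Groth.Agent.Helper4.NApx82.isNoetherian_of_proper k Y
  have hK := Groth.Agent.Helper4.SN568.isFunctionField k X hdimX
  have hL := Groth.Agent.Helper4.SN568.isFunctionField k Y hdimY
  letI alg : Algebra Y.functionField X.functionField := (ffMap f e).hom.toAlgebra
  haveI : IsScalarTower k Y.functionField X.functionField :=
    IsScalarTower.of_algebraMap_eq
      (fun c => (Groth.Agent.Helper4.SN654.ffMap_stalkMap k f hf e c).symm)
  haveI : IsPurelyInseparable Y.functionField X.functionField := hpi
  obtain ⟨q, hq⟩ := ExpChar.exists k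
  obtain ⟨n, θ, hθ⟩ := Groth.Agent.Helper4.SN671.exists_ringEquiv_pow (k := k) hL hK q
  haveI : PerfectRing k q := inferInstance
  let Fr : k ≃+* k := iterateFrobeniusEquiv k q n
  have hθσ : ∀ c : k, θ (Curv2.stalkMap k X (genericPoint X) c) =
      Curv2.stalkMap k Y (genericPoint Y) (Fr c) := by
    intro c
    apply (algebraMap Y.functionField X.functionField).injective
    rw [hθ, ← map_pow]
    exact (Groth.Agent.Helper4.SN654.ffMap_stalkMap k f hf e (Fr c)).symm
  set qY := Y ↘ Spec (CommRingCat.of k) with hqY
  set pX := X ↘ Spec (CommRingCat.of k) with hpX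
  let FrC : CommRingCat.of k ⟶ CommRingCat.of k := CommRingCat.ofHom Fr.toRingHom
  haveI : IsIso FrC := (Fr.toCommRingCatIso).isIso_hom
  let q' : Y ⟶ Spec (CommRingCat.of k) := qY ≫ Spec.map FrC
  haveI : IsProper q' := inferInstance
  let θc : X.functionField ⟶ Y.functionField := CommRingCat.ofHom θ.toRingHom
  let θc' : Y.functionField ⟶ X.functionField := CommRingCat.ofHom θ.symm.toRingHom
  have hθθ' : θc' ≫ θc = 𝟙 _ := by
    ext z
    exact θ.apply_symm_apply z
  have hθ'θ : θc ≫ θc' = 𝟙 _ := by
    ext z
    exact θ.symm_apply_apply z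
  have h1 : Spec.map θc' ≫ Y.fromSpecStalk (genericPoint Y) ≫ q' =
      X.fromSpecStalk (genericPoint X) ≫ pX := by
    show Spec.map θc' ≫ Y.fromSpecStalk (genericPoint Y) ≫ qY ≫ Spec.map FrC = _
    rw [← Category.assoc (Y.fromSpecStalk _), Groth.Agent.Helper5.CurveHom.fromSpecStalk_over,
      Groth.Agent.Helper5.CurveHom.fromSpecStalk_over, ← Spec.map_comp, ← Spec.map_comp]
    congr 1
    ext c
    show θ.symm (Curv2.stalkMap k Y _ (Fr c)) = Curv2.stalkMap k X _ c
    rw [← hθσ, θ.symm_apply_apply]
  have h2 : Spec.map θc ≫ X.fromSpecStalk (genericPoint X) ≫ pX =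
      Y.fromSpecStalk (genericPoint Y) ≫ q' := by
    show _ = Y.fromSpecStalk (genericPoint Y) ≫ qY ≫ Spec.map FrC
    rw [← Category.assoc (Y.fromSpecStalk _), Groth.Agent.Helper5.CurveHom.fromSpecStalk_over,
      Groth.Agent.Helper5.CurveHom.fromSpecStalk_over, ← Spec.map_comp, ← Spec.map_comp]
    congr 1
    ext c
    exact hθσ c
  have hdim1X : ∀ y : X, ringKrullDim (X.presheaf.stalk y) ≤ 1 := by
    intro y
    have := Groth.Agent.Helper5.DimIneq.ringKrullDim_stalk_le_dim X y
    rw [hdimX] at this
    exact this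
  have hdim1Y : ∀ y : Y, ringKrullDim (Y.presheaf.stalk y) ≤ 1 := by
    intro y
    have := Groth.Agent.Helper5.DimIneq.ringKrullDim_stalk_le_dim Y y
    rw [hdimY] at this
    exact this
  obtain ⟨a, haq, haη⟩ := exists_hom_of_functionField_hom' pX q' hregX hdim1X θc' h1
  obtain ⟨b, hbq, hbη⟩ := exists_hom_of_functionField_hom' q' pX hregY hdim1Y θc h2
  haveI := Groth.Agent.Helper4.SN639.isDominant_fromSpecStalk_genericPoint X
  haveI := Groth.Agent.Helper4.SN639.isDominant_fromSpecStalk_genericPoint Y
  haveI : IsSeparated pX := inferInstance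
  haveI : IsSeparated q' := inferInstance
  have hab : a ≫ b = 𝟙 _ := by
    apply ext_of_isDominant_of_isSeparated pX
      (by rw [Category.assoc, hbq, haq, Category.id_comp])
      (X.fromSpecStalk (genericPoint X))
    rw [← Category.assoc, haη, Category.assoc, hbη, ← Category.assoc, ← Spec.map_comp, hθ'θ,
      Spec.map_id, Category.id_comp, Category.comp_id]
  have hba : b ≫ a = 𝟙 _ := by
    apply ext_of_isDominant_of_isSeparated q'
      (by rw [Category.assoc, haq, hbq, Category.id_comp])
      (Y.fromSpecStalk (genericPoint Y))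
    rw [← Category.assoc, hbη, Category.assoc, haη, ← Category.assoc, ← Spec.map_comp, hθθ',
      Spec.map_id, Category.id_comp, Category.comp_id]
  exact ⟨⟨a, b, hab, hba⟩⟩

end Main

end Groth.Agent.Helper4.SN672
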