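import Mathlib
import Groth.Agent.Helper4.SN559
import Groth.Agent.Helper4.SN539
import Groth.Agent.Helper4.SN553

/-!
# The function field of a normal proper curve over a field `k` with `H⁰(X, O_X) = k` is a function
field of one variable with exact constant field `k`
-/

set_option autoImplicit false
set_option linter.style.haveILetI false
set_option linter.unusedSectionVars false
universe u
open CategoryTheory CategoryTheory.Limits AlgebraicGeometry TopologicalSpace Opposite FunFld

namespace Groth.Agent.Helper4.SN673

open Groth.Agent.Helper4.StalkDict Groth.Agent.Helper4.TwistExt Groth.Agent.Helper4.SN200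
  Groth.Agent.Helper4.SN549 Groth.Agent.Helper4.SN550 Groth.Agent.Helper4.SN553
  Groth.Agent.Helper4.SN559 Groth.Agent.Helper4.SN

attribute [local instance] Curv2.stalkAlgebra Curv2.resAlgebra

variable (k : Type u) [Field k] (X : Scheme.{u}) [X.Over (Spec (CommRingCat.of k))]
  [IsIntegral X]

local notation "SM" => Coh.structureModule X

/-- an element of the function field algebraic over `k` is constant, when the local rings are
integrally closed and the only global functions are the constants -/
theorem mem_range_of_isAlgebraic
    (hnorm : ∀ x : X, IsIntegrallyClosed (X.presheaf.stalk x))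
    (h0 : Module.finrank k (Coh.HH X (Coh.structureModule X) 0) = 1)
    (y : X.functionField) (hy : IsAlgebraic k y) :
    y ∈ Set.range (algebraMap k X.functionField) := by
  letI := sectModule k (Coh.structureModule X)
  have hL : PicF.IsInvertible SM := Groth.Agent.Helper4.TensorInv.isInvertible_structureModule
  have hfr : IsFrame SM ⊤ (Groth.Agent.Helper4.GenLoc.one X ⊤) := isFrame_one
  have hint : IsIntegral k y := hy.isIntegral
  -- `y` lies in every local ring
  have hmem : ∀ x : X, y ∈ Set.range (algebraMap (X.presheaf.stalk x) X.functionField) := by
    intro x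
    haveI := hnorm x
    haveI : IsScalarTower k (X.presheaf.stalk x) X.functionField :=
      IsScalarTower.of_algebraMap_eq (fun c => by
        show Curv2.stalkMap k X (genericPoint X) c =
          algebraMap (X.presheaf.stalk x) X.functionField (Curv2.stalkMap k X x c)
        unfold Curv2.stalkMap
        rw [RingHom.comp_apply, RingHom.comp_apply]
        exact (algebraMap_germ x ⊤ trivial _).symm)
    have h1 : IsIntegral (X.presheaf.stalk x) y := hint.tower_top
    exact IsIntegrallyClosed.isIntegral_iff.mp h1
  -- hence it is the germ of a global section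
  have hreg : ∀ x : X, y • (SM).presheaf.germ ⊤ (genericPoint X) trivial
      (Groth.Agent.Helper4.GenLoc.one X ⊤) ∈ Set.range (sp SM x) := fun x =>
    (smul_gen_mem_range_sp_iff hfr x trivial y).2 (hmem x)
  obtain ⟨s, hs⟩ := exists_section_of_forall_mem_range SM hL _ hreg
  -- the global sections form a one-dimensional space
  have hfin : Module.finrank k (LinSer.Sect X SM) = 1 := by
    rw [← (h0LinEquiv k SM).finrank_eq]
    exact h0
  let e1 : LinSer.Sect X SM := Groth.Agent.Helper4.GenLoc.one X ⊤
  let s1 : LinSer.Sect X SM := s
  have hone : e1 ≠ 0 := by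
    intro h
    have h1 : (1 : X.functionField) • (SM).presheaf.germ ⊤ (genericPoint X) trivial
        (Groth.Agent.Helper4.GenLoc.one X ⊤) = 0 := by
      have h' : Groth.Agent.Helper4.GenLoc.one X ⊤ = (0 : Γ(SM, ⊤)) := h
      rw [h', map_zero, smul_zero]
    exact one_ne_zero (smul_gen_eq_zero hfr trivial _ h1)
  obtain ⟨c, hc⟩ := (finrank_eq_one_iff_of_nonzero' e1 hone).mp hfin s1
  refine ⟨c, ?_⟩
  have h3 := germ_smul_const (k := k) SM c e1
  rw [hc] at h3
  have h2 : (algebraMap k X.functionField c - y) • (SM).presheaf.germ ⊤ (genericPoint X) trivial
      (Groth.Agent.Helper4.GenLoc.one X ⊤) = 0 := by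
    rw [sub_smul, ← hs]
    exact sub_eq_zero.mpr h3.symm
  exact sub_eq_zero.mp (smul_gen_eq_zero hfr trivial _ h2)

/-- the function field of a normal curve of finite type over `k` whose only global functions are
the constants is a function field of one variable with constant field `k` -/
theorem isFunctionField_of_h0 [LocallyOfFiniteType (X ↘ Spec (CommRingCat.of k))]
    (hdim : topologicalKrullDim X = 1)
    (hnorm : ∀ x : X, IsIntegrallyClosed (X.presheaf.stalk x))
    (h0 : Module.finrank k (Coh.HH X (Coh.structureModule X) 0) = 1) :
    IsFunctionField k X.functionField :=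
  ⟨Groth.Agent.Helper4.SN539.exists_transcendental_finite_functionField k X hdim,
    fun y hy => mem_range_of_isAlgebraic k X hnorm h0 y hy⟩

end Groth.Agent.Helper4.SN673
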