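import Mathlib
import Groth.Agent.Helper5.FFRR
import Groth.Agent.Helper5.FFCoord0
import Groth.Agent.Helper5.FFDeg

/-!
# Function fields of degree two over a rational function field: the equation `y² + Q(t) y = P(t)`
-/

set_option autoImplicit false
set_option linter.style.haveILetI false
set_option linter.unusedSectionVars false
open FunFld Polynomial
open scoped IntermediateField

namespace Groth.Agent.Helper4.SN674

open Groth.Agent.Helper5.FF

variable {k K : Type*} [Field k] [Field K] [Algebra k K]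

/-- the divisor of poles -/
noncomputable def poleDiv (k : Type*) {K : Type*} [Field k] [Field K] [Algebra k K] (t : K) :
    Divisor k K := (-(FunFld.div k t)) ⊔ 0

theorem poleDiv_apply (hK : IsFunctionField k K) (t : K) (R : Place k K) :
    poleDiv k t R = max (-(R.ord t)) 0 := by
  unfold poleDiv
  rw [Finsupp.sup_apply, Finsupp.neg_apply, div_apply hK, Finsupp.zero_apply]

theorem poleDiv_nonneg (t : K) : 0 ≤ poleDiv k t := le_sup_right

/-- at a non-pole the pole divisor vanishes -/
theorem poleDiv_eq_zero (hK : IsFunctionField k K) {t : K} {R : Place k K} (h : R.1 t ≤ 1) :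
    poleDiv k t R = 0 := by
  rw [poleDiv_apply hK]
  by_cases ht : t = 0
  · subst ht
    rw [ord_zero]; simp
  · have := (ord_nonneg_iff R ht).mpr h
    exact max_eq_right (by omega)

/-- at a pole, `exp` of the pole divisor is the valuation -/
theorem exp_poleDiv (hK : IsFunctionField k K) {t : K} {R : Place k K} (h : 1 < R.1 t) :
    WithZero.exp (poleDiv k t R) = R.1 t := by
  have ht : t ≠ 0 := by
    rintro rfl
    rw [map_zero] at h
    exact not_lt_zero h
  rw [poleDiv_apply hK]
  have h1 := (ord_neg_iff R ht).mpr h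
  rw [max_eq_left (by omega), val_eq_exp_neg_ord R ht]

theorem exp_nsmul_poleDiv (hK : IsFunctionField k K) {t : K} {R : Place k K} (h : 1 < R.1 t)
    (n : ℕ) : WithZero.exp ((n • poleDiv k t) R) = R.1 t ^ n := by
  rw [Finsupp.smul_apply, ← exp_poleDiv hK h, ← WithZero.exp_nsmul]

theorem exp_nsmul_poleDiv_of_le (hK : IsFunctionField k K) {t : K} {R : Place k K}
    (h : R.1 t ≤ 1) (n : ℕ) : WithZero.exp ((n • poleDiv k t) R) = 1 := by
  rw [Finsupp.smul_apply, poleDiv_eq_zero hK h, smul_zero, WithZero.exp_zero]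

/-- polynomials in `t` of degree at most `n` lie in `L(n (t)_∞)` -/
theorem aeval_mem_L (hK : IsFunctionField k K) (t : K) (p : k[X]) (n : ℕ)
    (hn : p.natDegree ≤ n) : aeval t p ∈ L (n • poleDiv k t) := by
  intro R
  by_cases hp : p = 0
  · subst hp
    rw [map_zero, map_zero]
    exact zero_le'
  rcases le_or_gt (R.1 t) 1 with h | h
  · rw [exp_nsmul_poleDiv_of_le hK h]
    exact val_aeval_le R h p
  · rw [exp_nsmul_poleDiv hK h, val_aeval_of_pole R h hp]
    exact pow_le_pow_right₀ h.le hn

/-- products: `L(A) L(B) ⊆ L(A + B)` -/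
theorem mul_mem_L {A B : Divisor k K} {x y : K} (hx : x ∈ L A) (hy : y ∈ L B) :
    x * y ∈ L (A + B) := by
  intro R
  rw [map_mul, Finsupp.add_apply, WithZero.exp_add]
  exact mul_le_mul' (hx R) (hy R)

end Groth.Agent.Helper4.SN674

namespace Groth.Agent.Helper4.SN674

open Groth.Agent.Helper5.FF

variable {k K : Type*} [Field k] [Field K] [Algebra k K]

/-- a rational function `r / s` can be written with coprime numerator and denominator -/
theorem exists_coprime_repr (r s : k[X]) (hs : s ≠ 0) :
    ∃ a b : k[X], b ≠ 0 ∧ IsCoprime a b ∧ ∃ d : k[X], d ≠ 0 ∧ r = d * a ∧ s = d * b := by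
  classical
  letI := EuclideanDomain.gcdMonoid k[X]
  have hd : GCDMonoid.gcd r s ≠ 0 := gcd_ne_zero_of_right hs
  refine ⟨r / GCDMonoid.gcd r s, s / GCDMonoid.gcd r s, right_div_gcd_ne_zero hs,
    isCoprime_div_gcd_div_gcd hs, GCDMonoid.gcd r s, hd, ?_, ?_⟩
  · exact (EuclideanDomain.mul_div_cancel' hd (GCDMonoid.gcd_dvd_left r s)).symm
  · exact (EuclideanDomain.mul_div_cancel' hd (GCDMonoid.gcd_dvd_right r s)).symm

theorem aeval_ne_zero_of_transcendental {t : K} (ht : Transcendental k t) {p : k[X]}
    (hp : p ≠ 0) : aeval t p ≠ 0 := fun h => ht ⟨p, hp, h⟩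

/-- an element of `k(t)` all of whose poles are poles of `t`, of order at most `m` times that
of `t`, is a polynomial in `t` of degree at most `m` -/
theorem exists_polynomial_of_mem (hK : IsFunctionField k K) {t : K} (ht : Transcendental k t)
    (m : ℕ) {z : K} (hz : z ∈ k⟮t⟯) (hzL : z ∈ L (m • poleDiv k t)) :
    ∃ p : k[X], p.natDegree ≤ m ∧ aeval t p = z := by
  obtain ⟨r, s, hrs⟩ := (IntermediateField.mem_adjoin_simple_iff k z).mp hz
  by_cases hs : s = 0
  · refine ⟨0, by simp, ?_⟩
    rw [hrs, hs, map_zero (aeval t), div_zero]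
  obtain ⟨a, b, hb, hab, d, hd, hr, hs'⟩ := exists_coprime_repr r s hs
  have hdt := aeval_ne_zero_of_transcendental ht hd
  have hbt := aeval_ne_zero_of_transcendental ht hb
  have hz' : z = aeval t a / aeval t b := by
    rw [hrs, hr, hs', map_mul, map_mul, mul_div_mul_left _ _ hdt]
  -- the denominator is constant
  have hbdeg : b.natDegree = 0 := by
    by_contra hne
    have hbnot : aeval t b ∉ Set.range (algebraMap k K) := by
      rintro ⟨c, hc⟩
      have h1 : aeval t (C c) = aeval t b := by rw [aeval_C, hc]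
      have h2 : C c = b := (transcendental_iff_injective.mp ht) h1
      rw [← h2, natDegree_C] at hne
      exact hne rfl
    obtain ⟨⟨R, hR⟩, -⟩ := exists_zero_and_exists_pole hK _ hbnot
    have hRb : R.1 (aeval t b) < 1 := (ord_pos_iff R hbt).mp hR
    have hRt : R.1 t ≤ 1 := by
      by_contra hgt
      push Not at hgt
      rw [val_aeval_of_pole R hgt hb] at hRb
      exact absurd hRb (not_lt.mpr (one_le_pow₀ hgt.le))
    obtain ⟨u, w, huw⟩ := hab
    have h1 : aeval t u * aeval t a + aeval t w * aeval t b = 1 := by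
      rw [← map_mul, ← map_mul, ← map_add, huw, map_one]
    have hwb : R.1 (aeval t w * aeval t b) < 1 := by
      rw [map_mul]
      calc R.1 (aeval t w) * R.1 (aeval t b) ≤ 1 * R.1 (aeval t b) :=
            mul_le_mul_left (val_aeval_le R hRt w) _
        _ = R.1 (aeval t b) := one_mul _
        _ < 1 := hRb
    have ha1 : R.1 (aeval t a) = 1 := by
      apply le_antisymm (val_aeval_le R hRt a)
      by_contra hlt
      push Not at hlt
      have hua : R.1 (aeval t u * aeval t a) < 1 := by
        rw [map_mul]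
        calc R.1 (aeval t u) * R.1 (aeval t a) ≤ 1 * R.1 (aeval t a) :=
              mul_le_mul_left (val_aeval_le R hRt u) _
          _ = R.1 (aeval t a) := one_mul _
          _ < 1 := hlt
      have h2 := R.1.map_add (aeval t u * aeval t a) (aeval t w * aeval t b)
      rw [h1, map_one] at h2
      exact absurd h2 (not_le.mpr (max_lt hua hwb))
    have hzR := hzL R
    rw [exp_nsmul_poleDiv_of_le hK hRt, hz', map_div₀, ha1] at hzR
    have hb0 : R.1 (aeval t b) ≠ 0 := (map_ne_zero R.1).mpr hbt
    rw [div_le_iff₀ (zero_lt_iff.mpr hb0), one_mul] at hzR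
    exact absurd hRb (not_lt.mpr hzR)
  obtain ⟨c, hc⟩ := natDegree_eq_zero.mp hbdeg
  have hc0 : c ≠ 0 := by
    rintro rfl
    rw [map_zero] at hc
    exact hb hc.symm
  have hzq : aeval t (C c⁻¹ * a) = z := by
    rw [hz', ← hc, map_mul, aeval_C, aeval_C, map_inv₀, div_eq_inv_mul]
  refine ⟨C c⁻¹ * a, ?_, hzq⟩
  by_cases hq : C c⁻¹ * a = 0
  · rw [hq]; simp
  have htnot : t ∉ Set.range (algebraMap k K) := by
    rintro ⟨c', rfl⟩
    exact ht (isAlgebraic_algebraMap c')
  obtain ⟨-, ⟨R, hR⟩⟩ := exists_zero_and_exists_pole hK t htnot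
  have ht0 : t ≠ 0 := by
    rintro rfl
    exact ht isAlgebraic_zero
  have hRt : 1 < R.1 t := (ord_neg_iff R ht0).mp hR
  have hzR := hzL R
  rw [exp_nsmul_poleDiv hK hRt, ← hzq, val_aeval_of_pole R hRt hq] at hzR
  exact (pow_le_pow_iff_right₀ hRt).mp hzR

end Groth.Agent.Helper4.SN674
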