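import Mathlib
import Groth.Agent.Helper4.SN674
import Groth.Agent.Helper5.FFStep

/-!
# Function fields of degree two over a rational function field: the equation `y² + Q(t) y = P(t)`
(II)
-/

set_option autoImplicit false
set_option linter.style.haveILetI false
set_option linter.unusedSectionVars false
open FunFld Polynomial
open scoped IntermediateField

namespace Groth.Agent.Helper4.SN675

open Groth.Agent.Helper5.FF Groth.Agent.Helper4.SN674

variable {k K : Type*} [Field k] [Field K] [Algebra k K]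

/-- the space of polynomials in `t` of degree at most `n` -/
noncomputable def polySpan (k : Type*) {K : Type*} [Field k] [Field K] [Algebra k K] (t : K)
    (n : ℕ) : Submodule k K :=
  (degreeLT k (n + 1)).map (aeval (R := k) t).toLinearMap

theorem mem_polySpan {t : K} {n : ℕ} {z : K} :
    z ∈ polySpan k t n ↔ ∃ p : k[X], p.natDegree ≤ n ∧ aeval t p = z := by
  unfold polySpan
  rw [Submodule.mem_map]
  constructor
  · rintro ⟨p, hp, rfl⟩
    rw [mem_degreeLT] at hp
    refine ⟨p, ?_, rfl⟩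
    by_cases hp0 : p = 0
    · subst hp0; simp
    · have := (natDegree_lt_iff_degree_lt hp0).mpr hp
      omega
  · rintro ⟨p, hp, rfl⟩
    refine ⟨p, ?_, rfl⟩
    rw [mem_degreeLT]
    by_cases hp0 : p = 0
    · subst hp0
      rw [degree_zero]
      exact WithBot.bot_lt_coe _
    · exact (natDegree_lt_iff_degree_lt hp0).mp (by omega)

theorem finrank_polySpan {t : K} (ht : Transcendental k t) (n : ℕ) :
    Module.finrank k (polySpan k t n) = n + 1 := by
  unfold polySpan
  have hinj : Function.Injective (aeval (R := k) t).toLinearMap :=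
    transcendental_iff_injective.mp ht
  rw [(Submodule.equivMapOfInjective _ hinj (degreeLT k (n + 1))).symm.finrank_eq,
    (degreeLTEquiv k (n + 1)).finrank_eq, Module.finrank_fin_fun]

theorem polySpan_le_L (hK : IsFunctionField k K) (t : K) (n : ℕ) :
    polySpan k t n ≤ L (n • poleDiv k t) := by
  intro z hz
  obtain ⟨p, hp, rfl⟩ := mem_polySpan.mp hz
  exact aeval_mem_L hK t p n hp

theorem polySpan_le_adjoin (t : K) (n : ℕ) {z : K} (hz : z ∈ polySpan k t n) : z ∈ k⟮t⟯ := by
  obtain ⟨p, -, rfl⟩ := mem_polySpan.mp hz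
  rw [IntermediateField.mem_adjoin_simple_iff]
  exact ⟨p, 1, by simp⟩

section Deg2

variable (hK : IsFunctionField k K) {t : K} (ht : Transcendental k t)
  (h2 : Module.finrank k⟮t⟯ K = 2)
include hK ht h2

theorem deg_poleDiv : (poleDiv k t).deg = 2 := by
  unfold poleDiv
  rw [deg_poles_eq hK ht, h2]
  rfl

theorem ell_nsmul_poleDiv (n : ℕ) (hn : genus k K ≤ n) :
    (ell (n • poleDiv k t) : ℤ) = 2 * n + 1 - genus k K := by
  have h := ell_eq_of_deg_ge hK (n • poleDiv k t)
    (by rw [deg_nsmul, deg_poleDiv hK ht h2]; push_cast; omega)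
  rw [h, deg_nsmul, deg_poleDiv hK ht h2]
  ring

/-- `L(g (t)_∞)` consists of the polynomials of degree at most `g` -/
theorem polySpan_eq_L (hg1 : 1 ≤ genus k K) :
    polySpan k t (genus k K) = L (genus k K • poleDiv k t) := by
  haveI := finiteDimensional_L hK (genus k K • poleDiv k t)
  apply Submodule.eq_of_le_of_finrank_eq (polySpan_le_L hK t _)
  rw [finrank_polySpan ht]
  have h := ell_nsmul_poleDiv hK ht h2 (genus k K) le_rfl
  unfold ell at h
  omega

end Deg2

end Groth.Agent.Helper4.SN675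

namespace Groth.Agent.Helper4.SN675

open Groth.Agent.Helper5.FF Groth.Agent.Helper4.SN674

variable {k K : Type*} [Field k] [Field K] [Algebra k K]

section Deg2

variable (hK : IsFunctionField k K) {t : K} (ht : Transcendental k t)
  (h2 : Module.finrank k⟮t⟯ K = 2)
include hK ht h2

/-- there is an element of `L((g+1) (t)_∞)` outside `k(t)` -/
theorem exists_y : ∃ y : K, y ∈ L ((genus k K + 1) • poleDiv k t) ∧ y ∉ k⟮t⟯ := by
  set g := genus k K with hg
  haveI := finiteDimensional_L hK ((g + 1) • poleDiv k t)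
  have hle := polySpan_le_L hK t (g + 1)
  have hne : polySpan k t (g + 1) ≠ L ((g + 1) • poleDiv k t) := by
    intro h
    have h1 := finrank_polySpan ht (g + 1)
    rw [h] at h1
    have h3 := ell_nsmul_poleDiv hK ht h2 (g + 1) (by omega)
    unfold ell at h3
    rw [h1] at h3
    push_cast at h3
    omega
  obtain ⟨y, hyL, hyS⟩ := SetLike.exists_of_lt (lt_of_le_of_ne hle hne)
  refine ⟨y, hyL, fun hy => hyS ?_⟩
  obtain ⟨p, hp, rfl⟩ := exists_polynomial_of_mem hK ht (g + 1) hy hyL
  exact mem_polySpan.mpr ⟨p, hp, rfl⟩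

omit hK h2 in
/-- `1, y` are linearly independent over `k[t]` -/
theorem eq_zero_of_add_mul_eq_zero {y : K} (hy : y ∉ k⟮t⟯) (a b : k[X])
    (h : aeval t a + aeval t b * y = 0) : a = 0 ∧ b = 0 := by
  have hb : b = 0 := by
    by_contra hb
    have hbt := aeval_ne_zero_of_transcendental ht hb
    apply hy
    have : y = aeval t (-a) / aeval t b := by
      rw [eq_div_iff hbt, map_neg]
      linear_combination h
    rw [this, IntermediateField.mem_adjoin_simple_iff]
    exact ⟨-a, b, rfl⟩
  refine ⟨?_, hb⟩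
  rw [hb, map_zero, zero_mul, add_zero] at h
  by_contra ha
  exact aeval_ne_zero_of_transcendental ht ha h

omit hK ht in
/-- `t` and `y` generate the field -/
theorem adjoin_eq_top {y : K} (hy : y ∉ k⟮t⟯) :
    IntermediateField.adjoin k ({t, y} : Set K) = ⊤ := by
  haveI : FiniteDimensional k⟮t⟯ K := Module.finite_of_finrank_pos (by rw [h2]; norm_num)
  haveI : IsSimpleOrder (IntermediateField k⟮t⟯ K) :=
    IntermediateField.isSimpleOrder_of_finrank_prime k⟮t⟯ K (by rw [h2]; exact Nat.prime_two)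
  have htop : (k⟮t⟯)⟮y⟯ = ⊤ := by
    rcases eq_bot_or_eq_top ((k⟮t⟯)⟮y⟯) with h | h
    · exfalso
      have h1 : y ∈ (k⟮t⟯)⟮y⟯ := IntermediateField.mem_adjoin_simple_self _ y
      rw [h, IntermediateField.mem_bot] at h1
      obtain ⟨z, rfl⟩ := h1
      exact hy z.2
    · exact h
  have h3 := IntermediateField.adjoin_adjoin_left k ({t} : Set K) ({y} : Set K)
  rw [htop, IntermediateField.restrictScalars_top] at h3
  rw [h3, Set.singleton_union]

/-- the lower bound on the degrees in an equation `y² + Q(t) y = P(t)` -/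
theorem lower_bound (hg1 : 1 ≤ genus k K) {y : K}
    (hyL : y ∈ L ((genus k K + 1) • poleDiv k t)) (hy : y ∉ k⟮t⟯) (P Q : k[X])
    (heq : y ^ 2 + aeval t Q * y = aeval t P) :
    2 * genus k K + 1 ≤ max (2 * Q.natDegree) P.natDegree := by
  set g := genus k K with hg
  by_contra hcon
  push Not at hcon
  have hQ : Q.natDegree ≤ g := by
    have := le_max_left (2 * Q.natDegree) P.natDegree
    omega
  have hP : P.natDegree ≤ 2 * g := by
    have := le_max_right (2 * Q.natDegree) P.natDegree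
    omega
  apply hy
  apply polySpan_le_adjoin t g
  rw [hg, polySpan_eq_L hK ht h2 hg1, ← hg]
  intro R
  rcases le_or_gt (R.1 t) 1 with h | h
  · rw [exp_nsmul_poleDiv_of_le hK h]
    have := hyL R
    rwa [exp_nsmul_poleDiv_of_le hK h] at this
  · rw [exp_nsmul_poleDiv hK h]
    by_contra hlt
    push Not at hlt
    have hT0 : 0 < R.1 t ^ g := pow_pos (lt_trans zero_lt_one h) g
    have hy0 : 0 < R.1 y := lt_trans hT0 hlt
    have hQv : R.1 (aeval t Q) ≤ R.1 t ^ g := by
      have := aeval_mem_L hK t Q g hQ R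
      rwa [exp_nsmul_poleDiv hK h] at this
    have hPv : R.1 (aeval t P) ≤ R.1 t ^ (2 * g) := by
      have := aeval_mem_L hK t P (2 * g) hP R
      rwa [exp_nsmul_poleDiv hK h] at this
    have h1 : y ^ 2 = aeval t P - aeval t Q * y := by rw [← heq]; ring
    have h3 := R.1.map_sub (aeval t P) (aeval t Q * y)
    rw [← h1, map_pow] at h3
    have h4 : R.1 (aeval t P) < R.1 y ^ 2 := by
      calc R.1 (aeval t P) ≤ R.1 t ^ (2 * g) := hPv
        _ = (R.1 t ^ g) ^ 2 := by rw [← pow_mul, mul_comm]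
        _ < R.1 y ^ 2 := pow_lt_pow_left₀ hlt hT0.le (by norm_num)
    have h5 : R.1 (aeval t Q * y) < R.1 y ^ 2 := by
      rw [map_mul, pow_two]
      calc R.1 (aeval t Q) * R.1 y ≤ R.1 t ^ g * R.1 y := mul_le_mul_left hQv _
        _ < R.1 y * R.1 y := mul_lt_mul_of_pos_right hlt hy0
    exact absurd h3 (not_le.mpr (max_lt h4 h5))

/-- **the equation `y² + Q(t) y = P(t)`** -/
theorem exists_equation (hg1 : 1 ≤ genus k K) :
    ∃ (y : K) (P Q : k[X]), y ∈ L ((genus k K + 1) • poleDiv k t) ∧ y ∉ k⟮t⟯ ∧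
      y ^ 2 + aeval t Q * y = aeval t P ∧ P.natDegree ≤ 2 * genus k K + 2 ∧
      Q.natDegree ≤ genus k K + 1 := by
  set g := genus k K with hg
  obtain ⟨y, hyL, hy⟩ := exists_y hK ht h2
  rw [← hg] at hyL
  refine ⟨y, ?_⟩
  -- the two pieces
  set S₁ := polySpan k t (2 * g + 2) with hS₁
  set S₂ := (polySpan k t (g + 1)).map (LinearMap.mulRight k y) with hS₂
  set D := poleDiv k t with hD
  have hS₁L : S₁ ≤ L ((2 * g + 2) • D) := polySpan_le_L hK t _
  have hsum : (g + 1) • D + (g + 1) • D = (2 * g + 2) • D := by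
    rw [← add_nsmul]; congr 1; ring
  have hS₂L : S₂ ≤ L ((2 * g + 2) • D) := by
    rintro _ ⟨z, hz, rfl⟩
    rw [← hsum]
    exact mul_mem_L (polySpan_le_L hK t _ hz) hyL
  have hy0 : y ≠ 0 := by
    rintro rfl
    exact hy (zero_mem _)
  have hinjy : Function.Injective (LinearMap.mulRight k y) := by
    intro a b hab
    exact mul_right_cancel₀ hy0 hab
  have hfin₁ : Module.finrank k S₁ = 2 * g + 3 := finrank_polySpan ht _
  have hfin₂ : Module.finrank k S₂ = g + 2 := by
    rw [hS₂, (Submodule.equivMapOfInjective _ hinjy (polySpan k t (g + 1))).symm.finrank_eq]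
    exact finrank_polySpan ht _
  have hinf : S₁ ⊓ S₂ = ⊥ := by
    rw [eq_bot_iff]
    rintro z ⟨hz1, hz2⟩
    obtain ⟨a, -, rfl⟩ := mem_polySpan.mp hz1
    obtain ⟨w, hw, hwz⟩ := hz2
    obtain ⟨b, -, rfl⟩ := mem_polySpan.mp hw
    have h3 : aeval t (-a) + aeval t b * y = 0 := by
      rw [map_neg]
      have : aeval t b * y = aeval t a := hwz
      rw [this]; ring
    obtain ⟨ha, -⟩ := eq_zero_of_add_mul_eq_zero ht hy _ _ h3
    rw [neg_eq_zero] at ha
    rw [ha, map_zero]
    exact zero_mem _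
  haveI := finiteDimensional_L hK ((2 * g + 2) • D)
  haveI : FiniteDimensional k S₁ := Submodule.finiteDimensional_of_le hS₁L
  haveI : FiniteDimensional k S₂ := Submodule.finiteDimensional_of_le hS₂L
  have hsup : S₁ ⊔ S₂ = L ((2 * g + 2) • D) := by
    apply Submodule.eq_of_le_of_finrank_eq (sup_le hS₁L hS₂L)
    have h4 := Submodule.finrank_sup_add_finrank_inf_eq S₁ S₂
    rw [hinf, finrank_bot, add_zero, hfin₁, hfin₂] at h4
    have h5 := ell_nsmul_poleDiv hK ht h2 (2 * g + 2) (by omega)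
    unfold ell at h5
    rw [← hg, ← hD] at h5
    push_cast at h5
    omega
  have hy2 : y ^ 2 ∈ S₁ ⊔ S₂ := by
    rw [hsup, ← hsum, pow_two]
    exact mul_mem_L hyL hyL
  obtain ⟨z₁, hz₁, z₂, hz₂, hzz⟩ := Submodule.mem_sup.mp hy2
  obtain ⟨P, hP, rfl⟩ := mem_polySpan.mp hz₁
  obtain ⟨w, hw, rfl⟩ := hz₂
  obtain ⟨B, hB, rfl⟩ := mem_polySpan.mp hw
  refine ⟨P, -B, hyL, hy, ?_, hP, by rw [natDegree_neg]; exact hB⟩
  rw [map_neg, ← hzz]
  rw [LinearMap.mulRight_apply]
  ring

end Deg2

end Groth.Agent.Helper4.SN675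

namespace Groth.Agent.Helper4.SN675

open Groth.Agent.Helper5.FF Groth.Agent.Helper4.SN674

variable {k K : Type*} [Field k] [Field K] [Algebra k K]

/-- **a function field of genus `g ≥ 1` and degree two over `k(t)` is generated by an element
`y` with `y² + Q(t) y = P(t)` where `2g + 1 ≤ max(2 deg Q, deg P) ≤ 2g + 2`; when the
characteristic is not two one can take `Q = 0`** -/
theorem hyperelliptic_equation (hK : IsFunctionField k K) {t : K}
    (h2 : Module.finrank k⟮t⟯ K = 2) (hg1 : 1 ≤ genus k K) :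
    ∃ (y : K) (P Q : k[X]),
      IntermediateField.adjoin k ({t, y} : Set K) = ⊤ ∧
      y ^ 2 + aeval t Q * y = aeval t P ∧
      2 * genus k K + 1 ≤ max (2 * Q.natDegree) P.natDegree ∧
      max (2 * Q.natDegree) P.natDegree ≤ 2 * genus k K + 2 ∧
      (ringChar k ≠ 2 → ∃ (y' : K) (P' : k[X]),
        IntermediateField.adjoin k ({t, y'} : Set K) = ⊤ ∧
        y' ^ 2 = aeval t P' ∧ 2 * genus k K + 1 ≤ P'.natDegree ∧
        P'.natDegree ≤ 2 * genus k K + 2) := by
  have ht : Transcendental k t := by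
    intro halg
    obtain ⟨x₀, hx₀, hfd⟩ := hK.1
    haveI : FiniteDimensional k⟮t⟯ K := Module.finite_of_finrank_pos (by rw [h2]; norm_num)
    haveI : Algebra.IsAlgebraic k k⟮t⟯ :=
      IntermediateField.isAlgebraic_adjoin_simple halg.isIntegral
    haveI : Algebra.IsAlgebraic k K := Algebra.IsAlgebraic.trans k k⟮t⟯ K
    exact hx₀ (Algebra.IsAlgebraic.isAlgebraic x₀)
  set g := genus k K with hg
  obtain ⟨y, P, Q, hyL, hy, heq, hP, hQ⟩ := exists_equation hK ht h2 hg1
  rw [← hg] at hyL hP hQ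
  refine ⟨y, P, Q, adjoin_eq_top h2 hy, heq, lower_bound hK ht h2 hg1 hyL hy P Q heq,
    max_le (by omega) hP, ?_⟩
  intro hchar
  have h2k : (2 : k) ≠ 0 := Ring.two_ne_zero hchar
  set c : k := (2 : k)⁻¹ with hc
  have hc2 : algebraMap k K c * 2 = 1 := by
    have : (2 : K) = algebraMap k K 2 := (map_ofNat (algebraMap k K) 2).symm
    rw [this, ← map_mul, hc, inv_mul_cancel₀ h2k, map_one]
  set y' := y + aeval t (C c * Q) with hy'
  set P' := P + C (c ^ 2) * Q ^ 2 with hP'
  have hcQ : (C c * Q).natDegree ≤ g + 1 := (natDegree_C_mul_le c Q).trans hQ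
  have hy'L : y' ∈ L ((g + 1) • poleDiv k t) :=
    Submodule.add_mem _ hyL (aeval_mem_L hK t _ _ hcQ)
  have hy'n : y' ∉ k⟮t⟯ := by
    intro h
    apply hy
    have h1 : aeval t (C c * Q) ∈ k⟮t⟯ := by
      rw [IntermediateField.mem_adjoin_simple_iff]
      exact ⟨C c * Q, 1, by simp⟩
    have h3 : y = y' - aeval t (C c * Q) := by rw [hy']; ring
    rw [h3]
    exact sub_mem h h1
  have heq' : y' ^ 2 = aeval t P' := by
    rw [hy', hP', map_add, ← heq, map_mul, map_mul, aeval_C, aeval_C, map_pow, map_pow]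
    linear_combination (aeval t Q * y) * hc2
  have hP'deg : P'.natDegree ≤ 2 * g + 2 := by
    rw [hP']
    apply (natDegree_add_le _ _).trans
    apply max_le hP
    apply (natDegree_C_mul_le _ _).trans
    apply natDegree_pow_le.trans
    omega
  refine ⟨y', P', adjoin_eq_top h2 hy'n, heq', ?_, hP'deg⟩
  have h5 := lower_bound hK ht h2 hg1 hy'L hy'n P' 0 (by rw [map_zero, zero_mul, add_zero, heq'])
  rw [natDegree_zero, mul_zero, max_eq_right (Nat.zero_le _)] at h5
  exact h5

end Groth.Agent.Helper4.SN675
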