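import Mathlib
import Groth.Agent.Helper4.SN675
import Groth.Agent.Helper4.SN673
import Groth.Agent.Helper4.SN668
import Groth.Agent.Helper4.SN560
import Groth.Agent.Helper4.SmReg
import Groth.Agent.Helper6.HProj

/-!
# Hyperelliptic curves over an arbitrary field: the equation `y² + Q(t) y = P(t)`
-/

set_option autoImplicit false
set_option linter.style.haveILetI false
set_option linter.unusedSectionVars false
universe u
open CategoryTheory CategoryTheory.Limits AlgebraicGeometry TopologicalSpace Opposite FunFld
open scoped IntermediateField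

namespace Groth.Agent.Helper4.SN676

open Groth.Agent.Helper4.SN Groth.Agent.Helper4.SN637 Groth.Agent.Helper4.SN641

attribute [local instance] Curv2.stalkAlgebra Curv2.resAlgebra

section General

variable (k : Type u) [Field k] {X : Scheme.{u}} [X.Over (Spec (CommRingCat.of k))]
  [IsIntegral X] [LocallyOfFiniteType (X ↘ Spec (CommRingCat.of k))]

include k in
/-- a curve of finite type over a field has infinitely many closed points -/
theorem infinite_closedPoints (hdim : topologicalKrullDim X = 1) :
    {Q : X | IsClosed ({Q} : Set X)}.Infinite := by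
  intro hfin
  haveI : JacobsonSpace X := LocallyOfFiniteType.jacobsonSpace (X ↘ Spec (CommRingCat.of k))
  have hcl : IsClosed {Q : X | IsClosed ({Q} : Set X)} := by
    have : {Q : X | IsClosed ({Q} : Set X)} = ⋃ Q ∈ {Q : X | IsClosed ({Q} : Set X)}, {Q} := by
      ext z
      simp
    rw [this]
    exact hfin.isClosed_biUnion (fun Q hQ => hQ)
  have h1 : closure (closedPoints X) = Set.univ := closure_closedPoints
  have h2 : closedPoints X = {Q : X | IsClosed ({Q} : Set X)} := rfl
  rw [h2, hcl.closure_eq] at h1
  have h3 : genericPoint X ∈ {Q : X | IsClosed ({Q} : Set X)} := by rw [h1]; trivial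
  exact ne_genericPoint_of_isClosed hdim (genericPoint X) h3 rfl

include k in
/-- a finite morphism from a curve of finite type over a field to an integral scheme of
dimension one is dominant -/
theorem map_genericPoint_of_isFinite {Y : Scheme.{u}} [IsIntegral Y]
    (hdim : topologicalKrullDim X = 1) (hdimY : topologicalKrullDim Y = 1)
    [IsNoetherian Y]
    (f : X ⟶ Y) [IsFinite f] : f (genericPoint X) = genericPoint Y := by
  by_contra h
  have hcl := isClosed_singleton_of_ne_genericPoint hdimY.le _ h
  have h2 : (Set.univ : Set X) ⊆ f ⁻¹' {f (genericPoint X)} := by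
    intro x _
    have h1 : genericPoint X ⤳ x := genericPoint_specializes x
    have h2 : f (genericPoint X) ⤳ f x := h1.map f.continuous
    have h3 := h2.mem_closure
    rw [hcl.closure_eq] at h3
    exact h3
  have h1 := Scheme.Hom.finite_preimage_singleton f (f (genericPoint X))
  exact infinite_closedPoints k hdim ((h1.subset h2).subset (Set.subset_univ _))

end General

end Groth.Agent.Helper4.SN676

namespace Groth.Agent.Helper4.SN676

open Groth.Agent.Helper4.SN Groth.Agent.Helper4.SN637 Groth.Agent.Helper4.SN641

attribute [local instance] Curv2.stalkAlgebra Curv2.resAlgebra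

section Equivs

variable {C Y : Scheme.{u}} [IsIntegral C] [IsIntegral Y]

/-- the residue field extension at the generic point is the function field extension -/
theorem exists_equivs (f : C ⟶ Y) (hdom : f (genericPoint C) = genericPoint Y) :
    ∃ (i : Y.functionField ≃+* Y.residueField (f (genericPoint C)))
      (j : C.functionField ≃+* C.residueField (genericPoint C)),
      ∀ x, (f.residueFieldMap (genericPoint C)).hom (i x) = j ((ffMap f hdom).hom x) := by
  have hfC : IsField (C.presheaf.stalk (genericPoint C)) := Field.toIsField C.functionField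
  have hiso : IsIso (Y.presheaf.stalkSpecializes (specializes_of_eq hdom)) := by
    have : Y.presheaf.stalkSpecializes (specializes_of_eq hdom) =
        (Y.presheaf.stalkCongr (Inseparable.of_eq hdom.symm)).hom := by
      simp [TopCat.Presheaf.stalkCongr]
    rw [this]
    infer_instance
  let e0 : Y.functionField ≃+* Y.presheaf.stalk (f (genericPoint C)) :=
    (asIso (Y.presheaf.stalkSpecializes (specializes_of_eq hdom))).commRingCatIsoToRingEquiv
  have hfY : IsField (Y.presheaf.stalk (f (genericPoint C))) :=
    MulEquiv.isField (Field.toIsField Y.functionField) e0.symm.toMulEquiv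
  let i : Y.functionField ≃+* Y.residueField (f (genericPoint C)) :=
    e0.trans (RingEquiv.ofBijective (IsLocalRing.residue (Y.presheaf.stalk (f (genericPoint C))))
      (residue_bijective_of_isField _ hfY))
  let j : C.functionField ≃+* C.residueField (genericPoint C) :=
    RingEquiv.ofBijective (IsLocalRing.residue (C.presheaf.stalk (genericPoint C)))
      (residue_bijective_of_isField _ hfC)
  refine ⟨i, j, fun x => ?_⟩
  show (f.residueFieldMap (genericPoint C)).hom
      (IsLocalRing.residue _ ((Y.presheaf.stalkSpecializes (specializes_of_eq hdom)).hom x)) =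
    IsLocalRing.residue _ ((ffMap f hdom).hom x)
  have h := congrArg (fun φ : Y.presheaf.stalk (f (genericPoint C)) ⟶
      C.residueField (genericPoint C) =>
      φ.hom ((Y.presheaf.stalkSpecializes (specializes_of_eq hdom)).hom x))
    (Scheme.residue_residueFieldMap f (genericPoint C))
  exact h

end Equivs

end Groth.Agent.Helper4.SN676

namespace Groth.Agent.Helper4.SN676

open Groth.Agent.Helper4.SN Groth.Agent.Helper4.SN637 Groth.Agent.Helper4.SN641

attribute [local instance] Curv2.stalkAlgebra Curv2.resAlgebra

section Main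

variable (k : Type u) [Field k] (X : Scheme.{u}) [X.Over (Spec (CommRingCat.of k))]
  [IsIntegral X]

/-- the function-field data of a smooth projective curve with `H⁰(O) = k` -/
theorem exists_placeData [IsProper (X ↘ (Spec (CommRingCat.of k)))]
    [Smooth (X ↘ (Spec (CommRingCat.of k)))] (hdX : topologicalKrullDim X = 1)
    (hX0 : Module.finrank k (Coh.HH X (Coh.structureModule X) 0) = 1) :
    Nonempty (Groth.Agent.Helper4.SN550.PlaceData k X) := by
  obtain ⟨-, hreg⟩ := Groth.Agent.Helper4.SmReg.regular_of_smooth_field k
    (X ↘ (Spec (CommRingCat.of k)))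
  have hnorm : ∀ x : X, IsIntegrallyClosed (X.presheaf.stalk x) := fun x =>
    haveI := hreg x
    Groth.Agent.Helper4.RegNormal.isIntegrallyClosed_of_isRegularLocalRing _
  have hK := Groth.Agent.Helper4.SN673.isFunctionField_of_h0 k X hdX hnorm hX0
  exact ⟨Groth.Agent.Helper4.SN557.placeData k X inferInstance hdX hnorm hK⟩

theorem main11584
    (hprojX : ∃ (N : ℕ) (i : X ⟶ CohB1.ProjSpace N k), IsClosedImmersion i ∧
      i ≫ CohB1.ProjSpace.toSpec N k = X ↘ (Spec (CommRingCat.of k)))
    (hdX : topologicalKrullDim X = 1) [Smooth (X ↘ (Spec (CommRingCat.of k)))]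
    (hX0 : Module.finrank k (Coh.HH X (Coh.structureModule X) 0) = 1)
    (g : ℕ) (hg : Curv2.genus k X = g) (hg1 : 1 ≤ g)
    (f : X ⟶ CohB1.ProjSpace 1 k)
    (hf : f ≫ CohB1.ProjSpace.toSpec 1 k = X ↘ (Spec (CommRingCat.of k))) [IsFinite f]
    (hdeg : f.residueDegree (genericPoint X) = 2)
    (hsep : @Algebra.IsSeparable ((CohB1.ProjSpace 1 k).residueField (f (genericPoint X)))
      (X.residueField (genericPoint X)) _ _ (f.residueFieldMap (genericPoint X)).hom.toAlgebra) :
    ∃ (t y : X.functionField) (P Q : Polynomial k),
      IntermediateField.adjoin k ({t, y} : Set X.functionField) = ⊤ ∧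
      Module.finrank (IntermediateField.adjoin k ({t} : Set X.functionField)) X.functionField = 2 ∧
      Algebra.IsSeparable (IntermediateField.adjoin k ({t} : Set X.functionField))
        X.functionField ∧
      y ^ 2 + Polynomial.aeval t Q * y = Polynomial.aeval t P ∧
      2 * g + 1 ≤ max (2 * Q.natDegree) P.natDegree ∧
      max (2 * Q.natDegree) P.natDegree ≤ 2 * g + 2 ∧
      (ringChar k ≠ 2 → ∃ (t' y' : X.functionField) (P' : Polynomial k),
        IntermediateField.adjoin k ({t', y'} : Set X.functionField) = ⊤ ∧
        Module.finrank (IntermediateField.adjoin k ({t'} : Set X.functionField))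
          X.functionField = 2 ∧
        y' ^ 2 = Polynomial.aeval t' P' ∧ 2 * g + 1 ≤ P'.natDegree ∧
        P'.natDegree ≤ 2 * g + 2) := by
  obtain ⟨N, i, hi, hik⟩ := hprojX
  haveI : IsProper (X ↘ (Spec (CommRingCat.of k))) := by
    rw [← hik]
    haveI := Groth.Agent.Helper6.HProj.isProper_toSpec N k
    infer_instance
  obtain ⟨pd⟩ := exists_placeData k X hdX hX0
  have hK := pd.hK
  have hgen := Groth.Agent.Helper4.SN560.genus_eq pd
  haveI : IsNoetherian (CohB1.ProjSpace 1 k) :=
    Groth.Agent.Helper4.NApx82.isNoetherian_of_proper k (CohB1.ProjSpace 1 k)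
  have e := map_genericPoint_of_isFinite k hdX (dim_P1 k) f
  set φ := (ffMap f e).hom with hφ
  let φA : (CohB1.ProjSpace 1 k).functionField →ₐ[k] X.functionField :=
    { φ with commutes' := fun c => Groth.Agent.Helper4.SN654.ffMap_stalkMap k f hf e c }
  set t := φ (Groth.Agent.Helper4.SN668.tau k) with ht
  have hrange : φA.fieldRange = k⟮t⟯ := by
    rw [AlgHom.fieldRange_eq_map, ← Groth.Agent.Helper4.SN668.adjoin_tau k,
      IntermediateField.adjoin_map, Set.image_singleton]
    rfl
  let E : (CohB1.ProjSpace 1 k).functionField ≃+* k⟮t⟯ :=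
    ((AlgEquiv.ofInjectiveField φA).trans (IntermediateField.equivOfEq hrange)).toRingEquiv
  have hE : ∀ z, algebraMap k⟮t⟯ X.functionField (E z) = φ z := fun z => rfl
  obtain ⟨i₀, j₀, hij⟩ := exists_equivs f e
  letI algres : Algebra ((CohB1.ProjSpace 1 k).residueField (f (genericPoint X)))
      (X.residueField (genericPoint X)) := (f.residueFieldMap (genericPoint X)).hom.toAlgebra
  have hcompat : (algebraMap k⟮t⟯ X.functionField).comp (i₀.symm.trans E : _ ≃+* _) =
      RingHom.comp (j₀.symm : _ ≃+* _) (algebraMap
        ((CohB1.ProjSpace 1 k).residueField (f (genericPoint X)))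
        (X.residueField (genericPoint X))) := by
    ext a
    show algebraMap k⟮t⟯ X.functionField (E (i₀.symm a)) =
      j₀.symm ((f.residueFieldMap (genericPoint X)).hom a)
    rw [hE, ← i₀.apply_symm_apply a, hij, RingEquiv.symm_apply_apply, RingEquiv.symm_apply_apply]
  have h2 : Module.finrank k⟮t⟯ X.functionField = 2 := by
    rw [← hdeg]
    exact (Algebra.finrank_eq_of_equiv_equiv (i₀.symm.trans E) j₀.symm hcompat).symm
  haveI hsep' : Algebra.IsSeparable k⟮t⟯ X.functionField := by
    haveI := hsep
    exact Algebra.IsSeparable.of_equiv_equiv (i₀.symm.trans E) j₀.symm hcompat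
  have hg1' : 1 ≤ genus k X.functionField := by rw [← hgen, hg]; exact hg1
  obtain ⟨y, P, Q, h1, h3, h4, h5, h6⟩ :=
    Groth.Agent.Helper4.SN675.hyperelliptic_equation hK h2 hg1'
  rw [← hgen, hg] at h4 h5 h6
  refine ⟨t, y, P, Q, h1, h2, hsep', h3, h4, h5, fun hchar => ?_⟩
  obtain ⟨y', P', h7, h8, h9, h10⟩ := h6 hchar
  exact ⟨t, y', P', h7, h2, h8, h9, h10⟩

end Main

end Groth.Agent.Helper4.SN676
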