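import Mathlib
import Groth.Agent.Helper4.SN675

/-!
# The ring of functions regular away from the poles of `t` in a function field of degree two
over `k(t)`
-/

set_option autoImplicit false
set_option linter.style.haveILetI false
set_option linter.unusedSectionVars false
open FunFld Polynomial
open scoped IntermediateField

namespace Groth.Agent.Helper4.SN677

open Groth.Agent.Helper5.FF Groth.Agent.Helper4.SN674 Groth.Agent.Helper4.SN675

variable {k K : Type*} [Field k] [Field K] [Algebra k K]

section Deg2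

variable (hK : IsFunctionField k K) {t : K} (ht : Transcendental k t)
  (h2 : Module.finrank k⟮t⟯ K = 2)
include hK ht h2

/-- `L(n (t)_∞) = k[t]_{≤ n} ⊕ k[t]_{≤ n - g - 1} y` for `n ≥ g + 1` -/
theorem L_nsmul_eq_sup {y : K} (hyL : y ∈ L ((genus k K + 1) • poleDiv k t)) (hy : y ∉ k⟮t⟯)
    (m : ℕ) :
    L ((genus k K + 1 + m) • poleDiv k t) =
      polySpan k t (genus k K + 1 + m) ⊔ (polySpan k t m).map (LinearMap.mulRight k y) := by
  set g := genus k K with hg
  set D := poleDiv k t with hD
  set S₁ := polySpan k t (g + 1 + m) with hS₁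
  set S₂ := (polySpan k t m).map (LinearMap.mulRight k y) with hS₂
  have hS₁L : S₁ ≤ L ((g + 1 + m) • D) := polySpan_le_L hK t _
  have hsum : m • D + (g + 1) • D = (g + 1 + m) • D := by
    rw [← add_nsmul]; congr 1; ring
  have hS₂L : S₂ ≤ L ((g + 1 + m) • D) := by
    rintro _ ⟨z, hz, rfl⟩
    rw [← hsum]
    exact mul_mem_L (polySpan_le_L hK t _ hz) hyL
  have hy0 : y ≠ 0 := by
    rintro rfl
    exact hy (zero_mem _)
  have hinjy : Function.Injective (LinearMap.mulRight k y) := by
    intro a b hab
    exact mul_right_cancel₀ hy0 hab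
  have hfin₁ : Module.finrank k S₁ = g + 1 + m + 1 := finrank_polySpan ht _
  have hfin₂ : Module.finrank k S₂ = m + 1 := by
    rw [hS₂, (Submodule.equivMapOfInjective _ hinjy (polySpan k t m)).symm.finrank_eq]
    exact finrank_polySpan ht _
  have hinf : S₁ ⊓ S₂ = ⊥ := by
    rw [eq_bot_iff]
    rintro z ⟨hz1, hz2⟩
    obtain ⟨a, -, rfl⟩ := mem_polySpan.mp hz1
    obtain ⟨w, hw, hwz⟩ := hz2
    obtain ⟨b, -, rfl⟩ := mem_polySpan.mp hw
    have h3 : aeval t (-a) + aeval t b * y = 0 := by
      rw [map_neg]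
      have : aeval t b * y = aeval t a := hwz
      rw [this]; ring
    obtain ⟨ha, -⟩ := eq_zero_of_add_mul_eq_zero ht hy _ _ h3
    rw [neg_eq_zero] at ha
    rw [ha, map_zero]
    exact zero_mem _
  haveI := finiteDimensional_L hK ((g + 1 + m) • D)
  haveI : FiniteDimensional k S₁ := Submodule.finiteDimensional_of_le hS₁L
  haveI : FiniteDimensional k S₂ := Submodule.finiteDimensional_of_le hS₂L
  symm
  apply Submodule.eq_of_le_of_finrank_eq (sup_le hS₁L hS₂L)
  have h4 := Submodule.finrank_sup_add_finrank_inf_eq S₁ S₂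
  rw [hinf, finrank_bot, add_zero, hfin₁, hfin₂] at h4
  have h5 := ell_nsmul_poleDiv hK ht h2 (g + 1 + m) (by omega)
  unfold ell at h5
  rw [← hg, ← hD] at h5
  push_cast at h5
  omega

/-- a function regular away from the poles of `t` is of the form `a(t) + b(t) y` -/
theorem exists_repr_of_forall_val_le {y : K} (hyL : y ∈ L ((genus k K + 1) • poleDiv k t))
    (hy : y ∉ k⟮t⟯) (z : K) (hz : ∀ R : Place k K, R.1 t ≤ 1 → R.1 z ≤ 1) :
    ∃ a b : k[X], z = aeval t a + aeval t b * y := by
  classical
  by_cases hz0 : z = 0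
  · exact ⟨0, 0, by simp [hz0]⟩
  have hfin := finite_support_ord hK z
  set S := hfin.toFinset with hS
  set m := S.sup (fun R => (-(R.ord z)).toNat) with hm
  have hzL : z ∈ L ((genus k K + 1 + m) • poleDiv k t) := by
    intro R
    rcases le_or_gt (R.1 t) 1 with h | h
    · rw [exp_nsmul_poleDiv_of_le hK h]
      exact hz R h
    · rw [exp_nsmul_poleDiv hK h]
      have h1 : WithZero.exp (1 : ℤ) ≤ R.1 t := by
        have ht0 : t ≠ 0 := by
          rintro rfl
          simp at h
        rw [val_eq_exp_neg_ord R ht0] at h ⊢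
        rw [← WithZero.exp_zero, WithZero.exp_lt_exp] at h
        rw [WithZero.exp_le_exp]
        omega
      have h3 : R.1 z ≤ WithZero.exp ((genus k K + 1 + m : ℕ) : ℤ) := by
        rw [val_le_exp_iff R hz0]
        by_cases hR : R ∈ S
        · have h4 : (-(R.ord z)).toNat ≤ m := Finset.le_sup (f := fun R => (-(R.ord z)).toNat) hR
          have h5 := Int.self_le_toNat (-(R.ord z))
          push_cast
          omega
        · have h4 : R.ord z = 0 := by
            by_contra hne
            apply hR
            rw [hS, Set.Finite.mem_toFinset]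
            exact hne
          rw [h4]
          push_cast
          omega
      calc R.1 z ≤ WithZero.exp ((genus k K + 1 + m : ℕ) : ℤ) := h3
        _ = WithZero.exp (1 : ℤ) ^ (genus k K + 1 + m) := by
            rw [← WithZero.exp_nsmul]; simp
        _ ≤ R.1 t ^ (genus k K + 1 + m) := pow_le_pow_left₀ zero_le' h1 _
  rw [L_nsmul_eq_sup hK ht h2 hyL hy m] at hzL
  obtain ⟨z₁, hz₁, z₂, hz₂, hzz⟩ := Submodule.mem_sup.mp hzL
  obtain ⟨a, -, rfl⟩ := mem_polySpan.mp hz₁
  obtain ⟨w, hw, rfl⟩ := hz₂
  obtain ⟨b, -, rfl⟩ := mem_polySpan.mp hw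
  exact ⟨a, b, by rw [← hzz, LinearMap.mulRight_apply]⟩

end Deg2

end Groth.Agent.Helper4.SN677

namespace Groth.Agent.Helper4.SN677

open Groth.Agent.Helper5.FF Groth.Agent.Helper4.SN674 Groth.Agent.Helper4.SN675

section NormalForm

variable {k : Type*} [Field k]

/-- the quadratic relation -/
noncomputable def rel (p q : k[X]) : MvPolynomial (Fin 2) k :=
  MvPolynomial.X 1 ^ 2 + Polynomial.aeval (MvPolynomial.X 0 : MvPolynomial (Fin 2) k) q *
    MvPolynomial.X 1 - Polynomial.aeval (MvPolynomial.X 0 : MvPolynomial (Fin 2) k) p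

/-- every polynomial in two variables is congruent to `a(X₀) + b(X₀) X₁` modulo the relation
`X₁² + q(X₀) X₁ - p(X₀)` -/
theorem exists_normal_form (p q : k[X]) (F : MvPolynomial (Fin 2) k) :
    ∃ a b : k[X], F - (Polynomial.aeval (MvPolynomial.X 0 : MvPolynomial (Fin 2) k) a +
      Polynomial.aeval (MvPolynomial.X 0 : MvPolynomial (Fin 2) k) b * MvPolynomial.X 1) ∈
        Ideal.span {rel p q} := by
  set I := Ideal.span {rel p q} with hI
  have hrel : rel p q ∈ I := Ideal.subset_span rfl
  induction F using MvPolynomial.induction_on with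
  | C c =>
    refine ⟨Polynomial.C c, 0, ?_⟩
    rw [map_zero, zero_mul, add_zero, Polynomial.aeval_C]
    have : (algebraMap k (MvPolynomial (Fin 2) k)) c = MvPolynomial.C c := rfl
    rw [this, sub_self]
    exact zero_mem _
  | add F G hF hG =>
    obtain ⟨a, b, hab⟩ := hF
    obtain ⟨a', b', hab'⟩ := hG
    refine ⟨a + a', b + b', ?_⟩
    have := I.add_mem hab hab'
    rw [map_add, map_add]
    convert this using 1
    ring
  | mul_X F i hF =>
    obtain ⟨a, b, hab⟩ := hF
    fin_cases i
    · refine ⟨a * Polynomial.X, b * Polynomial.X, ?_⟩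
      have := I.mul_mem_right (MvPolynomial.X 0) hab
      rw [map_mul, map_mul, Polynomial.aeval_X]
      convert this using 1
      simp only [Fin.zero_eta]
      ring
    · refine ⟨b * p, a - b * q, ?_⟩
      have h1 := I.mul_mem_right (MvPolynomial.X 1) hab
      have h2 := I.mul_mem_left
        (Polynomial.aeval (MvPolynomial.X 0 : MvPolynomial (Fin 2) k) b) hrel
      have := I.add_mem h1 h2
      rw [map_mul, map_sub, map_mul]
      convert this using 1
      simp only [Fin.mk_one, rel]
      ring

end NormalForm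

end Groth.Agent.Helper4.SN677

namespace Groth.Agent.Helper4.SN677

open Groth.Agent.Helper5.FF Groth.Agent.Helper4.SN674 Groth.Agent.Helper4.SN675

section Kernel

variable {k K : Type*} [Field k] [Field K] [Algebra k K]

theorem aeval_aeval_X0 (t y : K) (a : k[X]) :
    MvPolynomial.aeval ![t, y]
      (Polynomial.aeval (MvPolynomial.X 0 : MvPolynomial (Fin 2) k) a) = Polynomial.aeval t a := by
  rw [← Polynomial.aeval_algHom_apply]
  simp

theorem aeval_rel (t y : K) (p q : k[X]) :
    MvPolynomial.aeval ![t, y] (rel p q) = y ^ 2 + Polynomial.aeval t q * y -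
      Polynomial.aeval t p := by
  unfold rel
  rw [map_sub, map_add, map_mul, map_pow, aeval_aeval_X0, aeval_aeval_X0]
  simp

/-- the kernel of the evaluation at `(t, y)` is generated by the quadratic relation -/
theorem mem_span_of_aeval_eq_zero {t : K} (ht : Transcendental k t) {y : K} (hy : y ∉ k⟮t⟯)
    (p q : k[X]) (heq : y ^ 2 + Polynomial.aeval t q * y = Polynomial.aeval t p)
    (F : MvPolynomial (Fin 2) k) (hF : MvPolynomial.aeval ![t, y] F = 0) :
    F ∈ Ideal.span {rel p q} := by
  obtain ⟨a, b, hab⟩ := exists_normal_form p q F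
  have hker : Ideal.span {rel p q} ≤ RingHom.ker (MvPolynomial.aeval (R := k) ![t, y]) := by
    rw [Ideal.span_le]
    rintro _ rfl
    show MvPolynomial.aeval ![t, y] (rel p q) = 0
    rw [aeval_rel, heq, sub_self]
  have h1 := hker hab
  rw [RingHom.mem_ker, map_sub, hF, zero_sub, neg_eq_zero, map_add, map_mul, aeval_aeval_X0,
    aeval_aeval_X0] at h1
  have h2 : MvPolynomial.aeval ![t, y] (MvPolynomial.X 1 : MvPolynomial (Fin 2) k) = y := by simp
  rw [h2] at h1
  obtain ⟨ha, hb⟩ := eq_zero_of_add_mul_eq_zero ht hy a b h1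
  rw [ha, hb, map_zero, zero_mul, add_zero, sub_zero] at hab
  exact hab

end Kernel

end Groth.Agent.Helper4.SN677
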