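import Mathlib
import Groth.Agent.Helper4.SN676
import Groth.Agent.Helper4.SN677
import Groth.Agent.Helper4.SN656
import Groth.Agent.Helper4.SN578

/-!
# The affine chart of a hyperelliptic curve over an arbitrary field (I): generalities
-/

set_option autoImplicit false
set_option linter.style.haveILetI false
set_option linter.unusedSectionVars false
universe u
open CategoryTheory CategoryTheory.Limits AlgebraicGeometry TopologicalSpace Opposite FunFld
open scoped IntermediateField

namespace Groth.Agent.Helper4.SN678

open Groth.Agent.Helper4.SN Groth.Agent.Helper4.SN637 Groth.Agent.Helper4.SN641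
  Groth.Agent.Helper4.SN549

attribute [local instance] Curv2.stalkAlgebra Curv2.resAlgebra

section Glue

variable {X : Scheme.{u}} [IsIntegral X]

/-- a rational function regular at every point of an open set is a section over it -/
theorem exists_section_of_forall_mem (U : X.Opens) (hη : genericPoint X ∈ U)
    (z : X.functionField)
    (h : ∀ x ∈ U, z ∈ Set.range (algebraMap (X.presheaf.stalk x) X.functionField)) :
    ∃ s : Γ(X, U), X.presheaf.germ U (genericPoint X) hη s = z := by
  have key : ∀ x : U, ∃ (V : X.Opens) (hx : x.1 ∈ V) (_ : V ≤ U) (f : Γ(X, V)),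
      X.presheaf.germ V (genericPoint X) (gen_mem V hx) f = z := by
    rintro ⟨x, hxU⟩
    obtain ⟨m, hm⟩ := h x hxU
    obtain ⟨V, hxV, f, rfl⟩ := TopCat.Presheaf.exists_germ_eq X.presheaf m
    refine ⟨V ⊓ U, ⟨hxV, hxU⟩, inf_le_right, X.presheaf.map (homOfLE inf_le_left).op f, ?_⟩
    rw [TopCat.Presheaf.germ_res_apply, ← algebraMap_germ x V hxV]
    exact hm
  choose V hxV hVU f hf using key
  have hcomp : TopCat.Presheaf.IsCompatible X.sheaf.1 V f := by
    intro i j
    have hη' : genericPoint X ∈ V i ⊓ V j := ⟨gen_mem _ (hxV i), gen_mem _ (hxV j)⟩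
    apply germ_injective_of_isIntegral X (genericPoint X) hη'
    have h1 := TopCat.Presheaf.germ_res_apply X.presheaf (Opens.infLELeft (V i) (V j))
      (genericPoint X) hη' (f i)
    have h2 := TopCat.Presheaf.germ_res_apply X.presheaf (Opens.infLERight (V i) (V j))
      (genericPoint X) hη' (f j)
    exact h1.trans ((hf i).trans ((hf j).symm.trans h2.symm))
  obtain ⟨s, hs, -⟩ := X.sheaf.existsUnique_gluing' V U (fun i => homOfLE (hVU i))
    (fun x hx => Opens.mem_iSup.2 ⟨⟨x, hx⟩, hxV ⟨x, hx⟩⟩) f hcomp
  refine ⟨s, ?_⟩
  have h3 := TopCat.Presheaf.germ_res_apply X.presheaf (homOfLE (hVU ⟨genericPoint X, hη⟩))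
    (genericPoint X) (hxV _) s
  rw [← h3]
  have h4 : X.presheaf.map (homOfLE (hVU ⟨genericPoint X, hη⟩)).op s = f ⟨genericPoint X, hη⟩ :=
    hs ⟨genericPoint X, hη⟩
  rw [h4]
  exact hf _

end Glue

section Rank

variable (k : Type u) [Field k] {X : Scheme.{u}} [X.Over (Spec (CommRingCat.of k))]
  [IsIntegral X] [IsProper (X ↘ (Spec (CommRingCat.of k)))]
  {Y : Scheme.{u}} [Y.Over (Spec (CommRingCat.of k))] [IsIntegral Y]
  [IsProper (Y ↘ (Spec (CommRingCat.of k)))]

include k in
theorem rank_push (f : X ⟶ Y) [IsFinite f] [Flat f] (d : ℕ)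
    (hrk : ∀ y : Y, Scheme.Hom.finrank f y = d) :
    FlatMod.IsFinLocFreeOfRank d
      ((Scheme.Modules.pushforward f).obj (Coh.structureModule X)) := by
  haveI := Groth.Agent.Helper4.NApx82.isNoetherian_of_proper k Y
  haveI : IsLocallyNoetherian Y := inferInstance
  haveI : LocallyOfFinitePresentation f :=
    LocallyOfFinitePresentation.iff_locallyOfFiniteType.mpr inferInstance
  exact (Groth.Agent.Helper1.FC.push_of_isCover f d
    ⟨⟨inferInstance, inferInstance, inferInstance⟩, hrk⟩).2

include k in
/-- the degree of a finite morphism of curves whose direct image of the structure module is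
locally free of rank `n` -/
theorem residueDegree_eq_of_rank (hdim : topologicalKrullDim X = 1)
    (hdimY : topologicalKrullDim Y = 1)
    (f : X ⟶ Y) [IsFinite f]
    (hξ : f (genericPoint X) = genericPoint Y) (n : ℕ)
    (hd : FlatMod.IsFinLocFreeOfRank n
      ((Scheme.Modules.pushforward f).obj (Coh.structureModule X))) :
    f.residueDegree (genericPoint X) = n := by
  haveI := Groth.Agent.Helper4.NApx82.isNoetherian_of_proper k X
  have hcl : IsClosedMap f.base := f.isClosedMap
  have hS : IsLocalRing.maximalIdeal (X.presheaf.stalk (genericPoint X)) = ⊥ := by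
    rw [← IsLocalRing.isField_iff_maximalIdeal_eq]
    exact isField_stalk_of_closure_mem_irreducibleComponents X _
      (by simp [irreducibleComponents_eq_singleton])
  have h2 := len_push_toNat f hcl (genericPoint X)
    (fun x' hx' => eq_genericPoint_of_map_eq hdim.le hdimY f hcl x' (hx'.trans hξ)) hS
  rw [hξ] at h2
  have hlen : (len ((Scheme.Modules.pushforward f).obj (Coh.structureModule X))
      (genericPoint Y)).toNat =
      Module.finrank (Y.presheaf.stalk (genericPoint Y))
        (((Scheme.Modules.pushforward f).obj (Coh.structureModule X)).presheaf.stalk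
          (genericPoint Y)) := by
    unfold len
    rw [Module.length_eq_rank (Y.presheaf.stalk (genericPoint Y))]
    rfl
  obtain ⟨bas⟩ := nonempty_basis_stalk_of_rank _ hd (genericPoint Y)
  rw [Module.finrank_eq_card_basis bas, Fintype.card_fin] at hlen
  have h3 : f.residueDegree (genericPoint X) = n := by rw [← h2, hlen]
  exact h3

end Rank

end Groth.Agent.Helper4.SN678
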