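import Mathlib
import Groth.Agent.Helper4.SN678

/-!
# The affine chart of a hyperelliptic curve over an arbitrary field (II): the projective line
-/

set_option autoImplicit false
set_option linter.style.haveILetI false
set_option linter.unusedSectionVars false
universe u
open CategoryTheory CategoryTheory.Limits AlgebraicGeometry TopologicalSpace Opposite FunFld
open scoped IntermediateField

namespace Groth.Agent.Helper4.SN679

open Groth.Agent.Helper4.SN Groth.Agent.Helper4.SN637 Groth.Agent.Helper4.SN641
  Groth.Agent.Helper4.SN549 Groth.Agent.Helper5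

attribute [local instance] Curv2.stalkAlgebra Curv2.resAlgebra

section P1

variable (k : Type u) [Field k] (K : Type u) [Field K] [Algebra k K]

/-- two `k`-algebra homomorphisms from the function field of the projective line agreeing on the
coordinate function are equal -/
theorem algHom_ext_tau (φ ψ : (CohB1.ProjSpace 1 k).functionField →ₐ[k] K)
    (h : φ (Groth.Agent.Helper4.SN668.tau k) = ψ (Groth.Agent.Helper4.SN668.tau k)) : φ = ψ := by
  let E : IntermediateField k (CohB1.ProjSpace 1 k).functionField :=
    (AlgHom.equalizer φ ψ).toIntermediateField (fun x hx => by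
      show φ x⁻¹ = ψ x⁻¹
      rw [map_inv₀, map_inv₀]
      congr 1)
  have hle : k⟮Groth.Agent.Helper4.SN668.tau k⟯ ≤ E := by
    rw [IntermediateField.adjoin_simple_le_iff]
    exact h
  rw [Groth.Agent.Helper4.SN668.adjoin_tau k] at hle
  ext z
  exact hle (IntermediateField.mem_top (x := z))

/-- the coordinate function as a section over the standard chart -/
noncomputable def tauSec : Γ(CohB1.ProjSpace 1 k, LefPen.chart 1 k 0) :=
  (P1Sch.iso₀ k).hom.hom (P1Alg.tau k)

theorem chart_nonempty : genericPoint (CohB1.ProjSpace 1 k) ∈ LefPen.chart 1 k 0 := by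
  obtain ⟨⟨x, hx⟩⟩ := (inferInstance : Nonempty (P1Sch.U₀ k))
  exact gen_mem (X := CohB1.ProjSpace 1 k) (LefPen.chart 1 k 0) hx

theorem germ_tauSec :
    (CohB1.ProjSpace 1 k).presheaf.germ (LefPen.chart 1 k 0) (genericPoint _) (chart_nonempty k)
      (tauSec k) = Groth.Agent.Helper4.SN668.tau k := rfl

/-- sections over the standard chart are polynomials in the coordinate function -/
theorem exists_polynomial_of_section (t : K) (ht : Transcendental k t)
    (a : Γ(CohB1.ProjSpace 1 k, LefPen.chart 1 k 0)) :
    ∃ p : Polynomial k, Groth.Agent.Helper4.SN668.phiA k K t ht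
      ((CohB1.ProjSpace 1 k).presheaf.germ (LefPen.chart 1 k 0) (genericPoint _)
        (chart_nonempty k) a) = Polynomial.aeval t p := by
  have h1 : Groth.Agent.Helper4.SN668.phiA k K t ht
      ((CohB1.ProjSpace 1 k).presheaf.germ (LefPen.chart 1 k 0) (genericPoint _)
        (chart_nonempty k) a) = P1Sch.psi' k K t a := P1Sch.phi_germ k K t ht a
  rw [h1]
  unfold P1Sch.psi'
  rw [RingHom.comp_apply]
  obtain ⟨n, F, hF, hmk⟩ := HomogeneousLocalization.Away.mk_surjective (CohB1.polyGrading 1 k)
    (P1Alg.X0_mem k) ((P1Sch.iso₀ k).inv.hom a)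
  rw [← hmk, P1Alg.psi_mk, P1Alg.ev_eq]
  exact ⟨P1Alg.ev' k F, rfl⟩

end P1

end Groth.Agent.Helper4.SN679
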