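import Mathlib
import Groth.Agent.Helper4.SN677
import Groth.Agent.Helper4.SN678
import Groth.Agent.Helper4.SN679

/-!
# The affine chart of a hyperelliptic curve over an arbitrary field (III): sections over the chart
-/

set_option autoImplicit false
set_option linter.style.haveILetI false
set_option linter.unusedSectionVars false
universe u
open CategoryTheory CategoryTheory.Limits AlgebraicGeometry TopologicalSpace Opposite FunFld
open scoped IntermediateField

namespace Groth.Agent.Helper4.SN680

open Groth.Agent.Helper4.SN Groth.Agent.Helper4.SN637 Groth.Agent.Helper4.SN641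
  Groth.Agent.Helper4.SN549 Groth.Agent.Helper5 Groth.Agent.Helper4.SN679
  Groth.Agent.Helper4.SN550 Groth.Agent.Helper4.SN674 Groth.Agent.Helper4.SN677
  Groth.Agent.Helper4.SN539

attribute [local instance] Curv2.stalkAlgebra Curv2.resAlgebra

section Alg

variable {k K : Type*} [Field k] [Field K] [Algebra k K]

theorem transcendental_of_finrank (hK : IsFunctionField k K) {t : K} {n : ℕ} (hn : 0 < n)
    (h2 : Module.finrank k⟮t⟯ K = n) : Transcendental k t := by
  intro halg
  obtain ⟨x₀, hx₀, hfd⟩ := hK.1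
  haveI : FiniteDimensional k⟮t⟯ K := Module.finite_of_finrank_pos (by rw [h2]; exact hn)
  haveI : Algebra.IsAlgebraic k k⟮t⟯ :=
    IntermediateField.isAlgebraic_adjoin_simple halg.isIntegral
  haveI : Algebra.IsAlgebraic k K := Algebra.IsAlgebraic.trans k k⟮t⟯ K
  exact hx₀ (Algebra.IsAlgebraic.isAlgebraic x₀)

/-- an element integral over a ring mapping into a valuation ring lies in the valuation ring -/
theorem val_le_one_of_isIntegralElem {A : Type*} [CommRing A] (ρ : A →+* K) (R : Place k K)
    (hρ : ∀ a, R.1 (ρ a) ≤ 1) (z : K) (hz : ρ.IsIntegralElem z) : R.1 z ≤ 1 := by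
  obtain ⟨P, hP, hPz⟩ := hz
  have hv : R.1.Integers R.1.integer := Valuation.integer.integers R.1
  let ρ' : A →+* R.1.integer := ρ.codRestrict _ (fun a => hρ a)
  rw [← hv.isIntegral_iff_v_le_one]
  refine ⟨P.map ρ', hP.map ρ', ?_⟩
  rw [Polynomial.eval₂_map]
  exact hPz

open Polynomial in
/-- the coordinate ring of the affine chart of a hyperelliptic curve -/
theorem exists_ringEquiv_of_embedding {k K B : Type*} [Field k] [Field K] [Algebra k K]
    [CommRing B] [Algebra k B]
    (γ : B →ₐ[k] K) (hγ : Function.Injective γ) {t y : K} (ht : Transcendental k t)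
    (hy : y ∉ k⟮t⟯) (p q : k[X]) (heq : y ^ 2 + aeval t q * y = aeval t p)
    (tS yS : B) (htS : γ tS = t) (hyS : γ yS = y)
    (hsurj : ∀ b : B, ∃ a c : k[X], γ b = aeval t a + aeval t c * y) :
    ∃ Θ : (MvPolynomial (Fin 2) k ⧸ Ideal.span {rel p q}) ≃+* B,
      Θ.toRingHom.comp ((Ideal.Quotient.mk _).comp MvPolynomial.C) = algebraMap k B := by
  set Θ₀ : MvPolynomial (Fin 2) k →ₐ[k] B := MvPolynomial.aeval ![tS, yS] with hΘ₀
  have hcomp : ∀ F, γ (Θ₀ F) = MvPolynomial.aeval ![t, y] F := by
    have h1 : γ.comp Θ₀ = MvPolynomial.aeval ![t, y] := by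
      apply MvPolynomial.algHom_ext
      intro i
      fin_cases i
      · simp [hΘ₀, htS]
      · simp [hΘ₀, hyS]
    intro F
    rw [← h1]
    rfl
  have hker : ∀ F, Θ₀ F = 0 ↔ F ∈ Ideal.span {rel p q} := by
    intro F
    constructor
    · intro hF
      apply mem_span_of_aeval_eq_zero ht hy p q heq
      rw [← hcomp, hF, map_zero]
    · intro hF
      have hle : Ideal.span {rel p q} ≤ RingHom.ker Θ₀.toRingHom := by
        rw [Ideal.span_le]
        rintro _ rfl
        show Θ₀ (rel p q) = 0
        apply hγ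
        rw [hcomp, aeval_rel, heq, sub_self, map_zero]
      exact hle hF
  let Θ : (MvPolynomial (Fin 2) k ⧸ Ideal.span {rel p q}) →+* B :=
    Ideal.Quotient.lift _ Θ₀.toRingHom (fun a ha => (hker a).2 ha)
  have hΘmk : ∀ F, Θ (Ideal.Quotient.mk _ F) = Θ₀ F := fun F => rfl
  have hinj : Function.Injective Θ := by
    rw [injective_iff_map_eq_zero]
    intro x hx
    obtain ⟨F, rfl⟩ := Ideal.Quotient.mk_surjective x
    rw [hΘmk] at hx
    rw [Ideal.Quotient.eq_zero_iff_mem]
    exact (hker F).1 hx
  have hsur : Function.Surjective Θ := by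
    intro b
    obtain ⟨a, c, h⟩ := hsurj b
    refine ⟨Ideal.Quotient.mk _ (Polynomial.aeval (MvPolynomial.X 0 : MvPolynomial (Fin 2) k) a +
      Polynomial.aeval (MvPolynomial.X 0 : MvPolynomial (Fin 2) k) c * MvPolynomial.X 1), ?_⟩
    rw [hΘmk]
    apply hγ
    rw [hcomp, h, map_add, map_mul, aeval_aeval_X0, aeval_aeval_X0]
    simp
  refine ⟨RingEquiv.ofBijective Θ ⟨hinj, hsur⟩, ?_⟩
  ext c
  show Θ₀ (MvPolynomial.C c) = _
  rw [hΘ₀, MvPolynomial.aeval_C]

end Alg

section Aff

theorem over_eq (k : Type u) [Field k] (X : Scheme.{u}) [X.Over (Spec (CommRingCat.of k))] :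
    X.toSpecΓ ≫ Spec.map (CommRingCat.ofHom (Coh.toGlobal (X ↘ Spec (CommRingCat.of k)))) =
      X ↘ Spec (CommRingCat.of k) := by
  have h1 : (X ↘ (Spec (CommRingCat.of k))) = X.toSpecΓ ≫
      Spec.map (X ↘ (Spec (CommRingCat.of k))).appTop ≫
      Spec.map (Scheme.ΓSpecIso (CommRingCat.of k)).inv := by
    rw [← Scheme.toSpecΓ_naturality_assoc, toSpecΓ_SpecMap_ΓSpecIso_inv, Category.comp_id]
  conv_rhs => rw [h1]
  rw [← Spec.map_comp]
  rfl

theorem exists_iso_of_ringEquiv (k : Type u) [Field k] (X : Scheme.{u})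
    [X.Over (Spec (CommRingCat.of k))] (U : X.Opens) (hU : IsAffineOpen U)
    {A : Type u} [CommRing A] (ι : k →+* A) (Θ : A ≃+* Γ(X, U))
    (hΘ : Θ.toRingHom.comp ι = secHom k X U) :
    ∃ e : (↑U : Scheme.{u}) ≅ Spec (CommRingCat.of A),
      e.hom ≫ Spec.map (CommRingCat.ofHom ι) = U.ι ≫ (X ↘ Spec (CommRingCat.of k)) := by
  refine ⟨hU.isoSpec ≪≫ Scheme.Spec.mapIso (Θ.toCommRingCatIso).op, ?_⟩
  have h1 : Spec.map (CommRingCat.ofHom (secHom k X U)) =
      Spec.map (X.presheaf.map (homOfLE (le_top : U ≤ ⊤)).op) ≫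
        Spec.map (CommRingCat.ofHom (Coh.toGlobal (X ↘ Spec (CommRingCat.of k)))) := by
    rw [← Spec.map_comp]
    rfl
  have h2 : (hU.isoSpec ≪≫ Scheme.Spec.mapIso (Θ.toCommRingCatIso).op).hom ≫
      Spec.map (CommRingCat.ofHom ι) = U.toSpecΓ ≫ Spec.map (CommRingCat.ofHom (secHom k X U)) := by
    rw [← hΘ]
    simp only [Iso.trans_hom, Functor.mapIso_hom, Iso.op_hom, Category.assoc]
    rw [IsAffineOpen.isoSpec_hom]
    congr 1
    show Spec.map _ ≫ Spec.map _ = _
    rw [← Spec.map_comp]
    rfl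
  rw [h2, h1, Scheme.Opens.toSpecΓ_SpecMap_presheaf_map_top_assoc, over_eq]

end Aff

section Glue

variable (k : Type u) [Field k] {C : Scheme.{u}} [C.Over (Spec (CommRingCat.of k))]
  [IsIntegral C] (pd : PlaceData k C)

include pd in
/-- a rational function whose poles are among the poles of a section `a` over `U` is a
section over `U` -/
theorem exists_section_of_mem_L (U : C.Opens) (hη : genericPoint C ∈ U) (a : Γ(C, U))
    {y : C.functionField} {n : ℕ}
    (hy : y ∈ L (n • poleDiv k (C.presheaf.germ U (genericPoint C) hη a))) :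
    ∃ s : Γ(C, U), C.presheaf.germ U (genericPoint C) hη s = y := by
  apply Groth.Agent.Helper4.SN678.exists_section_of_forall_mem U hη y
  intro x hx
  by_cases hxg : x = genericPoint C
  · subst hxg
    obtain ⟨W, hW, s, hs⟩ := TopCat.Presheaf.exists_germ_eq C.presheaf y
    exact ⟨C.presheaf.germ W (genericPoint C) hW s, by rw [algebraMap_germ]; exact hs⟩
  · have hcl := pd.closed x hxg
    rw [← pd.spec ⟨x, hcl⟩ y]
    have ht : (pd.pl ⟨x, hcl⟩).1 (C.presheaf.germ U (genericPoint C) hη a) ≤ 1 := by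
      rw [pd.spec ⟨x, hcl⟩]
      exact ⟨C.presheaf.germ U x hx a, algebraMap_germ x U hx a⟩
    have h1 := hy (pd.pl ⟨x, hcl⟩)
    rwa [exp_nsmul_poleDiv_of_le pd.hK ht] at h1

end Glue

section Main

variable (k : Type u) [Field k] {C : Scheme.{u}} [C.Over (Spec (CommRingCat.of k))]
  [IsIntegral C] (pd : PlaceData k C)
  (f : C ⟶ CohB1.ProjSpace 1 k)
  (hf : f ≫ CohB1.ProjSpace.toSpec 1 k = C ↘ (Spec (CommRingCat.of k)))
  (e : f (genericPoint C) = genericPoint (CohB1.ProjSpace 1 k))

/-- the map of function fields as a `k`-algebra homomorphism -/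
noncomputable def phiA : (CohB1.ProjSpace 1 k).functionField →ₐ[k] C.functionField :=
  { (ffMap f e).hom with
    commutes' := fun c => Groth.Agent.Helper4.SN654.ffMap_stalkMap k f hf e c }

/-- the pull-back of the coordinate function -/
noncomputable def tt : C.functionField := phiA k f hf e (Groth.Agent.Helper4.SN668.tau k)

/-- the chart -/
noncomputable abbrev UU : C.Opens := f ⁻¹ᵁ (LefPen.chart 1 k 0)

include e in
theorem gen_mem_UU : genericPoint C ∈ UU k f := by
  show f (genericPoint C) ∈ LefPen.chart 1 k 0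
  rw [e]
  exact chart_nonempty k

/-- the coordinate function as a section over the chart -/
noncomputable def tS : Γ(C, UU k f) := (f.app (LefPen.chart 1 k 0)).hom (tauSec k)

theorem germ_tS :
    C.presheaf.germ (UU k f) (genericPoint C) (gen_mem_UU k f e) (tS k f) = tt k f hf e := by
  have h := ffMap_germ f e (LefPen.chart 1 k 0) (chart_nonempty k) (tauSec k)
  rw [germ_tauSec] at h
  exact h.symm

theorem finrank_adjoin_tt :
    Module.finrank k⟮tt k f hf e⟯ C.functionField = f.residueDegree (genericPoint C) := by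
  set φA := phiA k f hf e with hφA
  set t := tt k f hf e with ht
  have hrange : φA.fieldRange = k⟮t⟯ := by
    rw [AlgHom.fieldRange_eq_map, ← Groth.Agent.Helper4.SN668.adjoin_tau k,
      IntermediateField.adjoin_map, Set.image_singleton]
    rfl
  let E : (CohB1.ProjSpace 1 k).functionField ≃+* k⟮t⟯ :=
    ((AlgEquiv.ofInjectiveField φA).trans (IntermediateField.equivOfEq hrange)).toRingEquiv
  have hE : ∀ z, algebraMap k⟮t⟯ C.functionField (E z) = (ffMap f e).hom z := fun z => rfl
  obtain ⟨i₀, j₀, hij⟩ := Groth.Agent.Helper4.SN676.exists_equivs f e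
  letI algres : Algebra ((CohB1.ProjSpace 1 k).residueField (f (genericPoint C)))
      (C.residueField (genericPoint C)) := (f.residueFieldMap (genericPoint C)).hom.toAlgebra
  have hcompat : (algebraMap k⟮t⟯ C.functionField).comp (i₀.symm.trans E : _ ≃+* _) =
      RingHom.comp (j₀.symm : _ ≃+* _) (algebraMap
        ((CohB1.ProjSpace 1 k).residueField (f (genericPoint C)))
        (C.residueField (genericPoint C))) := by
    ext a
    show algebraMap k⟮t⟯ C.functionField (E (i₀.symm a)) =
      j₀.symm ((f.residueFieldMap (genericPoint C)).hom a)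
    rw [hE, ← i₀.apply_symm_apply a, hij, RingEquiv.symm_apply_apply, RingEquiv.symm_apply_apply]
  exact (Algebra.finrank_eq_of_equiv_equiv (i₀.symm.trans E) j₀.symm hcompat).symm


theorem phiA_eq (ht : Transcendental k (tt k f hf e)) :
    phiA k f hf e = Groth.Agent.Helper4.SN668.phiA k C.functionField (tt k f hf e) ht := by
  apply algHom_ext_tau
  rw [Groth.Agent.Helper4.SN668.phiA_tau]
  rfl

/-- pull-backs of sections over the standard chart are polynomials in the coordinate function -/
theorem exists_polynomial_germ_app (ht : Transcendental k (tt k f hf e))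
    (a : Γ(CohB1.ProjSpace 1 k, LefPen.chart 1 k 0)) :
    ∃ p : Polynomial k, C.presheaf.germ (UU k f) (genericPoint C) (gen_mem_UU k f e)
      ((f.app (LefPen.chart 1 k 0)).hom a) = Polynomial.aeval (tt k f hf e) p := by
  obtain ⟨p, hp⟩ := exists_polynomial_of_section k C.functionField (tt k f hf e) ht a
  refine ⟨p, ?_⟩
  rw [← hp, ← phiA_eq k f hf e ht]
  exact (ffMap_germ f e (LefPen.chart 1 k 0) (chart_nonempty k) a).symm

/-- sections over the chart are regular at all places where the coordinate function is -/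
theorem val_germ_le [IsFinite f] (ht : Transcendental k (tt k f hf e))
    (R : Place k C.functionField) (hR : R.1 (tt k f hf e) ≤ 1) (b : Γ(C, UU k f)) :
    R.1 (C.presheaf.germ (UU k f) (genericPoint C) (gen_mem_UU k f e) b) ≤ 1 := by
  have hfin : (f.app (LefPen.chart 1 k 0)).hom.Finite :=
    IsFinite.finite_app f _ (P1Sch.isAffineOpen_U₀ k)
  have hint : (f.app (LefPen.chart 1 k 0)).hom.IsIntegralElem b := hfin.to_isIntegral b
  obtain ⟨P, hP, hPb⟩ := hint
  set γ := (C.presheaf.germ (UU k f) (genericPoint C) (gen_mem_UU k f e)).hom with hγ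
  refine val_le_one_of_isIntegralElem (γ.comp (f.app (LefPen.chart 1 k 0)).hom) R ?_ _ ?_
  · intro a
    obtain ⟨p, hp⟩ := exists_polynomial_germ_app k f hf e ht a
    show R.1 (γ ((f.app (LefPen.chart 1 k 0)).hom a)) ≤ 1
    rw [hγ]
    erw [hp]
    exact Groth.Agent.Helper5.FF.val_aeval_le R hR p
  · refine ⟨P, hP, ?_⟩
    rw [← Polynomial.hom_eval₂, hPb, map_zero]

end Main

end Groth.Agent.Helper4.SN680
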