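import Mathlib
import Groth.Agent.Helper4.SN680
import Groth.Agent.Helper4.SN578
import Groth.Agent.Helper4.SN676
import Groth.Agent.Helper4.SN560

/-!
# The affine chart of a hyperelliptic curve over an arbitrary field (IV): the plane model
-/

set_option autoImplicit false
set_option linter.style.haveILetI false
set_option linter.unusedSectionVars false
universe u
open CategoryTheory CategoryTheory.Limits AlgebraicGeometry TopologicalSpace Opposite FunFld
open scoped IntermediateField

namespace Groth.Agent.Helper4.SN681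

open Groth.Agent.Helper4.SN Groth.Agent.Helper4.SN637 Groth.Agent.Helper4.SN641
  Groth.Agent.Helper4.SN549 Groth.Agent.Helper5 Groth.Agent.Helper4.SN679
  Groth.Agent.Helper4.SN550 Groth.Agent.Helper4.SN674 Groth.Agent.Helper4.SN677
  Groth.Agent.Helper4.SN539 Groth.Agent.Helper4.SN680 Groth.Agent.Helper4.SN578

attribute [local instance] Curv2.stalkAlgebra Curv2.resAlgebra

variable (k : Type u) [Field k] {C : Scheme.{u}} [C.Over (Spec (CommRingCat.of k))]
  [IsProper (C ↘ (Spec (CommRingCat.of k)))] [Smooth (C ↘ (Spec (CommRingCat.of k)))]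
  [GeometricallyConnected (C ↘ (Spec (CommRingCat.of k)))]

/-- the affine chart of a hyperelliptic curve is the plane curve `y² + q(x) y = p(x)` -/
theorem main7851 (hC : topologicalKrullDim C = 1) (g : ℕ) (hg2 : 2 ≤ g)
    (hg : Curv2.genus k C = g)
    (f : C ⟶ CohB1.ProjSpace 1 k)
    (hf : f ≫ CohB1.ProjSpace.toSpec 1 k = C ↘ (Spec (CommRingCat.of k))) [IsFinite f] [Flat f]
    (hrk : ∀ y : ↥(CohB1.ProjSpace 1 k), Scheme.Hom.finrank f y = 2) :
    ∃ p q : Polynomial k, 2 * g + 1 ≤ max p.natDegree (2 * q.natDegree) ∧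
      max p.natDegree (2 * q.natDegree) ≤ 2 * g + 2 ∧
      ∃ e : (↑(f ⁻¹ᵁ (LefPen.chart 1 k 0)) : Scheme.{u}) ≅
          Spec (CommRingCat.of (MvPolynomial (Fin 2) k ⧸ Ideal.span {rel p q})),
        e.hom ≫ Spec.map (CommRingCat.ofHom ((Ideal.Quotient.mk (Ideal.span {rel p q})).comp
          (MvPolynomial.C : k →+* MvPolynomial (Fin 2) k))) =
          (f ⁻¹ᵁ (LefPen.chart 1 k 0)).ι ≫ (C ↘ (Spec (CommRingCat.of k))) := by
  haveI : IsIntegral C := isIntegral_of_smooth_of_geometricallyConnected k C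
  have h0 := h0_structure k C
  obtain ⟨pd⟩ := Groth.Agent.Helper4.SN676.exists_placeData k C hC h0
  have hK := pd.hK
  have hgen := Groth.Agent.Helper4.SN560.genus_eq pd
  haveI : IsNoetherian (CohB1.ProjSpace 1 k) :=
    Groth.Agent.Helper4.NApx82.isNoetherian_of_proper k (CohB1.ProjSpace 1 k)
  have e := Groth.Agent.Helper4.SN676.map_genericPoint_of_isFinite k hC (dim_P1 k) f
  have hdeg : f.residueDegree (genericPoint C) = 2 :=
    Groth.Agent.Helper4.SN678.residueDegree_eq_of_rank k hC (dim_P1 k) f e 2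
      (Groth.Agent.Helper4.SN678.rank_push k f 2 hrk)
  set t := tt k f hf e with ht_def
  have h2 : Module.finrank k⟮t⟯ C.functionField = 2 := by
    rw [ht_def, finrank_adjoin_tt, hdeg]
  have ht : Transcendental k t := transcendental_of_finrank hK (by norm_num) h2
  have hg1 : 1 ≤ genus k C.functionField := by rw [← hgen, hg]; omega
  obtain ⟨y, P, Q, hyL, hy, heq, hP, hQ⟩ :=
    Groth.Agent.Helper4.SN675.exists_equation hK ht h2 hg1
  have hlow := Groth.Agent.Helper4.SN675.lower_bound hK ht h2 hg1 hyL hy P Q heq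
  rw [← hgen, hg] at hP hQ hlow
  refine ⟨P, Q, ?_, ?_, ?_⟩
  · rw [max_comm]; exact hlow
  · exact max_le hP (by omega)
  -- sections
  have hη := gen_mem_UU k f e
  have hgt : C.presheaf.germ (UU k f) (genericPoint C) hη (tS k f) = t := germ_tS k f hf e
  obtain ⟨yS, hyS⟩ := exists_section_of_mem_L k pd (UU k f) hη (tS k f) (y := y)
    (n := genus k C.functionField + 1) (by rw [hgt]; exact hyL)
  letI := secAlgebra k C (UU k f)
  let γ : Γ(C, UU k f) →ₐ[k] C.functionField :=
    { (C.presheaf.germ (UU k f) (genericPoint C) hη).hom with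
      commutes' := fun c => germ_secHom k C (UU k f) (genericPoint C) hη c }
  have hγ : Function.Injective γ := germ_injective_of_isIntegral C (genericPoint C) hη
  have hsurj : ∀ b, ∃ a c : Polynomial k, γ b = Polynomial.aeval t a + Polynomial.aeval t c * y := by
    intro b
    exact exists_repr_of_forall_val_le hK ht h2 hyL hy (γ b)
      (fun R hR => val_germ_le k f hf e ht R hR b)
  obtain ⟨Θ, hΘ⟩ := exists_ringEquiv_of_embedding γ hγ ht hy P Q heq (tS k f) yS hgt hyS hsurj
  have hU₀ : IsAffineOpen (LefPen.chart 1 k 0) := P1Sch.isAffineOpen_U₀ k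
  have hU : IsAffineOpen (UU k f) := hU₀.preimage f
  exact exists_iso_of_ringEquiv k C (UU k f) hU _ Θ hΘ

end Groth.Agent.Helper4.SN681
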