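import Mathlib

/-!
# Purely inseparable subextensions of a separably generated extension of transcendence degree one
-/

set_option autoImplicit false
set_option linter.style.haveILetI false
set_option linter.unusedSectionVars false

open Polynomial
open scoped IntermediateField

namespace Groth.Agent.Helper4.SN682

section FT

variable {k L : Type*} [Field k] [Field L] [Algebra k L] (p : ℕ) [ExpChar k p]

/-- the field generated by `k` and the `p^r`-th powers -/
noncomputable def kLp (k : Type*) {L : Type*} [Field k] [Field L] [Algebra k L] (p r : ℕ) :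
    IntermediateField k L :=
  IntermediateField.adjoin k (Set.range fun z : L => z ^ p ^ r)

theorem pow_mem_kLp (r : ℕ) (z : L) : z ^ p ^ r ∈ kLp k (L := L) p r :=
  IntermediateField.subset_adjoin k _ ⟨z, rfl⟩

/-- an element separable over an intermediate field which contains one of its `p^r`-th powers
lies in it -/
theorem mem_of_isSeparable_of_pow_mem (M : IntermediateField k L) (z : L) (r : ℕ)
    (hsep : IsSeparable M z) (hz : z ^ p ^ r ∈ M) : z ∈ M := by
  haveI : ExpChar M p := expChar_of_injective_algebraMap (algebraMap k M).injective p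
  have h1 : (minpoly M z).natSepDegree = 1 :=
    (minpoly.natSepDegree_eq_one_iff_pow_mem p).2 ⟨r, ⟨⟨_, hz⟩, rfl⟩⟩
  rw [hsep.natSepDegree_eq_natDegree, minpoly.natDegree_eq_one_iff] at h1
  obtain ⟨y, hy⟩ := h1
  rw [← hy]
  exact y.2

/-- if `L` is separable over `k(x)` then `L = k L^{p^r} (x)` -/
theorem kLp_sup_adjoin_eq_top (x : L) [hx : Algebra.IsSeparable k⟮x⟯ L] (r : ℕ) :
    kLp k (L := L) p r ⊔ k⟮x⟯ = ⊤ := by
  rw [eq_top_iff]
  intro z _
  set M := kLp k (L := L) p r ⊔ k⟮x⟯ with hM
  have hle : k⟮x⟯ ≤ M := le_sup_right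
  letI : Algebra k⟮x⟯ M := (IntermediateField.inclusion hle).toRingHom.toAlgebra
  haveI : IsScalarTower k⟮x⟯ M L := IsScalarTower.of_algebraMap_eq (fun _ => rfl)
  have hsep : IsSeparable M z := (Algebra.IsSeparable.isSeparable k⟮x⟯ z).tower_top M
  exact mem_of_isSeparable_of_pow_mem p M z r hsep (le_sup_left (a := kLp k (L := L) p r)
    (pow_mem_kLp p r z))


/-- if `L` is separable over `k(x)` then `[L : k L^{p^r}] ≤ p^r` -/
theorem finrank_kLp_le (x : L) [hx : Algebra.IsSeparable k⟮x⟯ L] (r : ℕ) :
    FiniteDimensional (kLp k (L := L) p r) L ∧ Module.finrank (kLp k (L := L) p r) L ≤ p ^ r := by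
  set S := kLp k (L := L) p r with hS
  have htop : (IntermediateField.adjoin S {x}) = ⊤ := by
    apply IntermediateField.restrictScalars_injective k
    rw [IntermediateField.restrictScalars_adjoin_eq_sup, IntermediateField.restrictScalars_top]
    exact kLp_sup_adjoin_eq_top p x r
  -- `x` is a root of `X^{p^r} - x^{p^r}`
  let a : S := ⟨x ^ p ^ r, pow_mem_kLp p r x⟩
  let g : S[X] := X ^ p ^ r - C a
  have hpos : 0 < p ^ r := expChar_pow_pos k p r
  have hgm : g.Monic := monic_X_pow_sub_C a hpos.ne'
  have hg0 : aeval x g = 0 := by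
    simp only [g, map_sub, map_pow, aeval_X, aeval_C]
    exact sub_self _
  have hint : IsIntegral S x := ⟨g, hgm, hg0⟩
  have h1 : Module.finrank S (IntermediateField.adjoin S {x}) = (minpoly S x).natDegree :=
    IntermediateField.adjoin.finrank hint
  have h2 : (minpoly S x).natDegree ≤ p ^ r := by
    have := natDegree_le_of_dvd (minpoly.dvd S x hg0) hgm.ne_zero
    rwa [show g.natDegree = p ^ r from natDegree_X_pow_sub_C] at this
  haveI hfd : FiniteDimensional S (IntermediateField.adjoin S {x}) :=
    IntermediateField.adjoin.finiteDimensional hint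
  rw [htop] at h1 hfd
  refine ⟨?_, ?_⟩
  · exact (IntermediateField.topEquiv (F := S) (E := L)).toLinearEquiv.finiteDimensional
  · rw [← IntermediateField.finrank_top', h1]
    exact h2

/-- **a purely inseparable subextension of degree `p^r` of a separably generated extension of
transcendence degree one is `k L^{p^r}`** -/
theorem eq_kLp (x : L) [hx : Algebra.IsSeparable k⟮x⟯ L] (F : IntermediateField k L)
    (r : ℕ) (hr : Module.finrank F L = p ^ r)
    (hF : ∀ z : L, z ^ p ^ r ∈ F) : F = kLp k (L := L) p r := by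
  have hle : kLp k (L := L) p r ≤ F := by
    unfold kLp
    rw [IntermediateField.adjoin_le_iff]
    rintro _ ⟨z, rfl⟩
    exact hF z
  symm
  haveI : FiniteDimensional (kLp k (L := L) p r) L := (finrank_kLp_le p x r).1
  apply IntermediateField.eq_of_le_of_finrank_le' hle
  rw [hr]
  exact (finrank_kLp_le p x r).2


/-- the subfield generated by `k` and the image of a "Frobenius root" `τ` of a purely inseparable
embedding `φ` is everything -/
theorem adjoin_range_tau_eq_top {KY : Type*} [Field KY] [Algebra k KY] (φ : KY →ₐ[k] L)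
    (x : L) [hx : Algebra.IsSeparable k⟮x⟯ L] (r : ℕ)
    (hr : Module.finrank φ.fieldRange L = p ^ r)
    (τ : L →+* KY) (hτ : ∀ z, φ (τ z) = z ^ p ^ r) :
    IntermediateField.adjoin k (Set.range τ) = ⊤ := by
  have hF : ∀ z : L, z ^ p ^ r ∈ φ.fieldRange := fun z => ⟨τ z, hτ z⟩
  have h1 := eq_kLp p x φ.fieldRange r hr hF
  have h2 : (Set.range fun z : L => z ^ p ^ r) = φ '' (Set.range τ) := by
    ext w
    constructor
    · rintro ⟨z, rfl⟩
      exact ⟨τ z, ⟨z, rfl⟩, hτ z⟩
    · rintro ⟨_, ⟨z, rfl⟩, rfl⟩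
      exact ⟨z, (hτ z).symm⟩
  rw [eq_top_iff]
  intro y _
  have h3 : φ y ∈ φ.fieldRange := ⟨y, rfl⟩
  rw [h1] at h3
  unfold kLp at h3
  rw [h2, ← IntermediateField.adjoin_map] at h3
  obtain ⟨y', hy', hyy'⟩ := h3
  have : y' = y := φ.injective hyy'
  rw [← this]
  exact hy'

/-- existence of the Frobenius root -/
theorem exists_tau {KY : Type*} [Field KY] (φ : KY →+* L) [ExpChar L p] (r : ℕ)
    (hpow : ∀ z : L, z ^ p ^ r ∈ φ.range) :
    ∃ τ : L →+* KY, ∀ z, φ (τ z) = z ^ p ^ r := by
  let e : KY ≃+* φ.range := RingEquiv.ofBijective φ.rangeRestrict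
    ⟨φ.rangeRestrict.injective, φ.rangeRestrict_surjective⟩
  let ψ : L →+* φ.range := (iterateFrobenius L p r).codRestrict φ.range (fun z => by
    rw [iterateFrobenius_def]
    exact hpow z)
  refine ⟨e.symm.toRingHom.comp ψ, fun z => ?_⟩
  have h1 : φ (e.symm (ψ z)) = (e (e.symm (ψ z)) : L) := rfl
  show φ (e.symm (ψ z)) = _
  rw [h1, e.apply_symm_apply]
  show iterateFrobenius L p r z = _
  rw [iterateFrobenius_def]

end FT


section Pow

variable {KY L : Type*} [Field KY] [Field L] [Algebra KY L]

/-- in a purely inseparable extension of degree `p^r` the `p^r`-th powers lie in the base -/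
theorem pow_mem_range_of_finrank (p : ℕ) [ExpChar KY p] (hp : 1 < p) [IsPurelyInseparable KY L]
    [FiniteDimensional KY L] (r : ℕ) (hr : Module.finrank KY L = p ^ r) (z : L) :
    z ^ p ^ r ∈ (algebraMap KY L).range := by
  set e := IsPurelyInseparable.elemExponent KY z with he
  have h1 := IsPurelyInseparable.minpoly_natDegree_eq' KY p z
  have h2 := minpoly.natDegree_le (A := KY) z
  rw [h1, hr] at h2
  have h3 : e ≤ r := (Nat.pow_le_pow_iff_right hp).1 h2
  have h4 := IsPurelyInseparable.elemExponent_def' KY p z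
  have h5 : z ^ p ^ r = (z ^ p ^ e) ^ p ^ (r - e) := by
    rw [← pow_mul, ← pow_add, Nat.add_sub_cancel' h3]
  rw [h5]
  exact pow_mem h4 _

end Pow

end Groth.Agent.Helper4.SN682
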