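import Mathlib
import Groth.Agent.Helper4.SN656
import Groth.Agent.Helper4.SN672

/-!
# Extending rational maps of regular curves to a proper target (source not necessarily proper)
-/

set_option autoImplicit false
set_option linter.unusedSectionVars false
set_option linter.style.haveILetI false
universe u

open CategoryTheory CategoryTheory.Limits AlgebraicGeometry TopologicalSpace Opposite

namespace Groth.Agent.Helper4.SN683

open Groth.Agent.Helper4.SN Groth.Agent.Helper4.SN637 Groth.Agent.Helper4.SN641
  Groth.Agent.Helper4.SN638 Groth.Agent.Helper4.SN639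

section Ext

/-- a ring homomorphism between the function fields of a regular curve `C` over `S` and a proper
integral `S`-scheme `D`, compatible with the structure morphisms, is induced by a morphism -/
theorem exists_hom_of_functionField_hom'' {S C D : Scheme.{u}} [IsIntegral C] [IsIntegral D]
    [IsLocallyNoetherian C]
    (p : C ⟶ S) (q : D ⟶ S) [IsProper q]
    (hreg : ∀ y : C, IsRegularLocalRing (C.presheaf.stalk y))
    (hdim1 : ∀ y : C, ringKrullDim (C.presheaf.stalk y) ≤ 1)
    (τ : D.functionField ⟶ C.functionField)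
    (hτ : Spec.map τ ≫ D.fromSpecStalk (genericPoint D) ≫ q =
      C.fromSpecStalk (genericPoint C) ≫ p) :
    ∃ σ : C ⟶ D, σ ≫ q = p ∧
      C.fromSpecStalk (genericPoint C) ≫ σ = Spec.map τ ≫ D.fromSpecStalk (genericPoint D) := by
  set η := genericPoint C with hη
  let φ₀ : Spec (C.presheaf.stalk η) ⟶ D := Spec.map τ ≫ D.fromSpecStalk (genericPoint D)
  have hφ₀ : φ₀ ≫ q = C.fromSpecStalk η ≫ p := by
    show (Spec.map τ ≫ D.fromSpecStalk (genericPoint D)) ≫ q = _
    rw [Category.assoc]
    exact hτ
  obtain ⟨U₀, hηU₀, a, ha1, ha2⟩ := spread_out_of_isGermInjective' p q φ₀ hφ₀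
  have hd : Dense (U₀ : Set C) := U₀.isOpen.dense ⟨η, hηU₀⟩
  obtain ⟨U, hVU, g', hg', hres, hU⟩ := Groth.Agent.Helper3.DimOneExt.s4440 q p
    (fun y _ => hreg y) U₀ hd a ha2
  have hUtop : U = ⊤ := by
    rw [eq_top_iff]
    intro y _
    exact hU y (hdim1 y)
  subst hUtop
  refine ⟨(Scheme.topIso _).inv ≫ g', ?_, ?_⟩
  · rw [Category.assoc, hg']
    simp
  · have h1 : U₀.ι ≫ (Scheme.topIso C).inv ≫ g' = a := by
      rw [← hres, ← Category.assoc]
      congr 1
      rw [← cancel_mono (Scheme.topIso C).hom]
      simp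
    calc C.fromSpecStalk η ≫ (Scheme.topIso C).inv ≫ g'
        = (U₀.fromSpecStalkOfMem η hηU₀ ≫ U₀.ι) ≫ (Scheme.topIso C).inv ≫ g' := by
          rw [Scheme.Opens.fromSpecStalkOfMem_ι]
      _ = U₀.fromSpecStalkOfMem η hηU₀ ≫ a := by rw [Category.assoc, h1]
      _ = φ₀ := ha1.symm

/-- a dominant morphism over `S` between regular proper curves over `S` inducing an isomorphism
of function fields is an isomorphism -/
theorem isIso_of_bijective_ffMap {S C D : Scheme.{u}} [IsIntegral C] [IsIntegral D]
    [IsLocallyNoetherian D]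
    (p : C ⟶ S) [IsProper p] (q : D ⟶ S) [IsProper q]
    (hreg : ∀ y : D, IsRegularLocalRing (D.presheaf.stalk y))
    (hdim1 : ∀ y : D, ringKrullDim (D.presheaf.stalk y) ≤ 1)
    (a : C ⟶ D) (ha : a ≫ q = p) (hdom : a (genericPoint C) = genericPoint D)
    (hbij : Function.Bijective (ffMap a hdom).hom) : IsIso a := by
  let θ : D.functionField ≃+* C.functionField := RingEquiv.ofBijective _ hbij
  let θc : C.functionField ⟶ D.functionField := CommRingCat.ofHom θ.symm.toRingHom
  have hθ1 : ffMap a hdom ≫ θc = 𝟙 _ := by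
    ext z
    exact θ.symm_apply_apply z
  have hθ2 : θc ≫ ffMap a hdom = 𝟙 _ := by
    ext z
    exact θ.apply_symm_apply z
  have h1 : Spec.map θc ≫ C.fromSpecStalk (genericPoint C) ≫ p =
      D.fromSpecStalk (genericPoint D) ≫ q := by
    rw [← ha, ← Category.assoc (C.fromSpecStalk _), ← SpecMap_ffMap a hdom, Category.assoc,
      ← Category.assoc, ← Spec.map_comp, hθ1, Spec.map_id, Category.id_comp]
  obtain ⟨b, hbq, hbη⟩ := exists_hom_of_functionField_hom'' q p hreg hdim1 θc h1
  haveI := Groth.Agent.Helper4.SN639.isDominant_fromSpecStalk_genericPoint C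
  haveI := Groth.Agent.Helper4.SN639.isDominant_fromSpecStalk_genericPoint D
  haveI : IsSeparated p := inferInstance
  haveI : IsSeparated q := inferInstance
  have hab : a ≫ b = 𝟙 _ := by
    apply ext_of_isDominant_of_isSeparated p
      (by rw [Category.assoc, hbq, ha, Category.id_comp])
      (C.fromSpecStalk (genericPoint C))
    rw [← Category.assoc, ← SpecMap_ffMap a hdom, Category.assoc, hbη, ← Category.assoc,
      ← Spec.map_comp, hθ2, Spec.map_id, Category.id_comp, Category.comp_id]
  have hba : b ≫ a = 𝟙 _ := by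
    apply ext_of_isDominant_of_isSeparated q
      (by rw [Category.assoc, ha, hbq, Category.id_comp])
      (D.fromSpecStalk (genericPoint D))
    rw [← Category.assoc, hbη, Category.assoc, ← SpecMap_ffMap a hdom, ← Category.assoc,
      ← Spec.map_comp, hθ1, Spec.map_id, Category.id_comp, Category.comp_id]
  exact ⟨⟨b, hab, hba⟩⟩

end Ext

end Groth.Agent.Helper4.SN683
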