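import Mathlib
import Groth.Agent.Helper4.SmReg
import Groth.Agent.Helper4.SN42
import Groth.Agent.Helper5.DimIneq2

/-!
# The Frobenius twist of a scheme over a field of characteristic `p`
-/

set_option autoImplicit false
set_option linter.unusedSectionVars false
set_option linter.style.haveILetI false
universe u

open CategoryTheory CategoryTheory.Limits AlgebraicGeometry TopologicalSpace Opposite

namespace Groth.Agent.Helper4.SN684

section Frob

variable (k : Type u) [Field k] (p : ℕ) [ExpChar k p] (r : ℕ)

/-- the `r`-th iterate of the Frobenius of `Spec k` -/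
noncomputable abbrev frobSpec : Spec (CommRingCat.of k) ⟶ Spec (CommRingCat.of k) :=
  Spec.map (CommRingCat.ofHom (iterateFrobenius k p r))

instance universallyInjective_frobSpec : UniversallyInjective (frobSpec k p r) := by
  have htfae := (tfae_universallyInjective (frobSpec k p r)).out 0 1
  refine htfae.mpr ?_
  intro K _ g₁ g₂ h
  dsimp only at h
  obtain ⟨ψ₁, rfl⟩ := Spec.map_surjective g₁
  obtain ⟨ψ₂, rfl⟩ := Spec.map_surjective g₂
  rw [← Spec.map_comp, ← Spec.map_comp] at h
  have h' := Spec.map_injective h
  congr 1
  ext c
  haveI : ExpChar K p := expChar_of_injective_ringHom ψ₁.hom.injective p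
  apply iterateFrobenius_inj K p r
  have h2 := congrArg (fun φ => φ.hom c) h'
  simp only [CommRingCat.hom_comp, CommRingCat.hom_ofHom, RingHom.coe_comp,
    Function.comp_apply] at h2
  rw [iterateFrobenius_def, iterateFrobenius_def] at *
  rw [map_pow, map_pow] at h2
  exact h2

instance surjective_frobSpec : Surjective (frobSpec k p r) := by
  refine ⟨fun y => ?_⟩
  haveI : Subsingleton (Spec (CommRingCat.of k)) :=
    inferInstanceAs (Subsingleton (PrimeSpectrum k))
  exact ⟨y, Subsingleton.elim _ _⟩

instance isIntegralHom_frobSpec : IsIntegralHom (frobSpec k p r) := by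
  rw [IsIntegralHom.SpecMap_iff]
  intro c
  refine ⟨Polynomial.X ^ p ^ r - Polynomial.C c, ?_, ?_⟩
  · exact Polynomial.monic_X_pow_sub_C c (expChar_pow_pos k p r).ne'
  · simp [iterateFrobenius_def]

variable {X : Scheme.{u}} (pX : X ⟶ Spec (CommRingCat.of k))

/-- the projection from the Frobenius twist is a homeomorphism -/
theorem isHomeomorph_fst : IsHomeomorph (pullback.fst pX (frobSpec k p r)) := by
  haveI h1 : UniversallyInjective (pullback.fst pX (frobSpec k p r)) :=
    MorphismProperty.pullback_fst (P := @UniversallyInjective) _ _ inferInstance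
  haveI h2 : Surjective (pullback.fst pX (frobSpec k p r)) :=
    MorphismProperty.pullback_fst (P := @Surjective) _ _ inferInstance
  haveI h3 : IsIntegralHom (pullback.fst pX (frobSpec k p r)) :=
    MorphismProperty.pullback_fst (P := @IsIntegralHom) _ _ inferInstance
  rw [isHomeomorph_iff_continuous_isClosedMap_bijective]
  exact ⟨(pullback.fst pX (frobSpec k p r)).continuous,
    (pullback.fst pX (frobSpec k p r)).isClosedMap,
    (pullback.fst pX (frobSpec k p r)).injective, (pullback.fst pX (frobSpec k p r)).surjective⟩


theorem dim_twist : topologicalKrullDim ↥(pullback pX (frobSpec k p r)) = topologicalKrullDim X :=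
  (isHomeomorph_fst k p r pX).topologicalKrullDim_eq

theorem irreducibleSpace_twist [IrreducibleSpace X] :
    IrreducibleSpace ↥(pullback pX (frobSpec k p r)) := by
  have h := isHomeomorph_fst k p r pX
  let e := h.homeomorph
  have h1 : IsIrreducible (e.symm '' (Set.univ : Set X)) :=
    (IrreducibleSpace.isIrreducible_univ X).image e.symm e.symm.continuous.continuousOn
  rw [Set.image_univ, e.symm.surjective.range_eq] at h1
  haveI : PreirreducibleSpace ↥(pullback pX (frobSpec k p r)) := ⟨h1.2⟩
  exact { toNonempty := ⟨h1.1.some⟩ }

/-- the Frobenius twist of a smooth integral scheme is integral -/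
theorem isIntegral_twist [IsIntegral X] [Smooth pX] :
    IsIntegral (pullback pX (frobSpec k p r)) := by
  haveI : Smooth (pullback.snd pX (frobSpec k p r)) :=
    MorphismProperty.pullback_snd (P := @Smooth) _ _ inferInstance
  obtain ⟨-, hreg⟩ := Groth.Agent.Helper4.SmReg.regular_of_smooth_field k
    (pullback.snd pX (frobSpec k p r))
  haveI := irreducibleSpace_twist k p r pX
  haveI : ∀ x, _root_.IsReduced ((pullback pX (frobSpec k p r)).presheaf.stalk x) := by
    intro x
    haveI := hreg x
    haveI := Groth.Agent.Lead.RegLocal.isDomain_of_isRegularLocalRing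
      ((pullback pX (frobSpec k p r)).presheaf.stalk x)
    infer_instance
  haveI : IsReduced (pullback pX (frobSpec k p r)) := isReduced_of_isReduced_stalk _
  exact isIntegral_of_irreducibleSpace_of_isReduced _

/-- the Frobenius twist of a smooth scheme has regular local rings -/
theorem regular_twist [Smooth pX] (x : ↥(pullback pX (frobSpec k p r))) :
    IsRegularLocalRing ((pullback pX (frobSpec k p r)).presheaf.stalk x) := by
  haveI : Smooth (pullback.snd pX (frobSpec k p r)) :=
    MorphismProperty.pullback_snd (P := @Smooth) _ _ inferInstance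
  exact (Groth.Agent.Helper4.SmReg.regular_of_smooth_field k
    (pullback.snd pX (frobSpec k p r))).2 x

theorem dim_stalk_twist_le (hd : topologicalKrullDim X = 1)
    (x : ↥(pullback pX (frobSpec k p r))) :
    ringKrullDim ((pullback pX (frobSpec k p r)).presheaf.stalk x) ≤ 1 := by
  have := Groth.Agent.Helper5.DimIneq.ringKrullDim_stalk_le_dim (pullback pX (frobSpec k p r)) x
  rw [dim_twist, hd] at this
  exact this

end Frob

end Groth.Agent.Helper4.SN684
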