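import Mathlib
import Groth.Agent.Helper4.SN539
import Groth.Agent.Helper4.SepGen

/-!
# The function field of a smooth curve over a field is separably generated
-/

set_option autoImplicit false
set_option linter.unusedSectionVars false
set_option linter.style.haveILetI false
universe u

open CategoryTheory CategoryTheory.Limits AlgebraicGeometry TopologicalSpace Opposite
open scoped IntermediateField

namespace Groth.Agent.Helper4.SN685

open Groth.Agent.Helper4.SN539

attribute [local instance] Curv2.stalkAlgebra

variable (k : Type u) [Field k] (X : Scheme.{u}) [X.Over (Spec (CommRingCat.of k))]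
  [IsIntegral X]

/-- the function field of an integral smooth `k`-scheme is formally smooth over `k` -/
theorem formallySmooth_functionField [Smooth (X ↘ Spec (CommRingCat.of k))] :
    Algebra.FormallySmooth k X.functionField := by
  obtain ⟨U, hU, hη, -⟩ := exists_isAffineOpen_mem_and_subset (x := genericPoint X)
    (U := (⊤ : X.Opens)) trivial
  haveI : Nonempty U := ⟨⟨genericPoint X, hη⟩⟩
  have h1 : ((X ↘ Spec (CommRingCat.of k)).appLE ⊤ U le_top).hom.Smooth :=
    HasRingHomProperty.appLE (P := @Smooth) (X ↘ Spec (CommRingCat.of k)) inferInstance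
      ⟨⊤, isAffineOpen_top _⟩ ⟨U, hU⟩ _
  have h2 : (secHom k X U).Smooth := by
    have h3 : secHom k X U = ((Scheme.ΓSpecIso (CommRingCat.of k)).inv ≫
        (X ↘ Spec (CommRingCat.of k)).appLE ⊤ U le_top).hom := by
      ext c
      simp only [secHom, Coh.toGlobal, RingHom.coe_comp, Function.comp_apply, Scheme.Hom.appLE,
        CommRingCat.hom_comp]
      rfl
    rw [h3]
    have := RingHom.Smooth.respectsIso.{u}
    exact this.2 _ (Scheme.ΓSpecIso (CommRingCat.of k)).symm.commRingCatIsoToRingEquiv h1
  letI := secAlgebra k X U
  haveI : Algebra.Smooth k Γ(X, U) := h2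
  haveI : Algebra.FormallySmooth k Γ(X, U) := inferInstance
  haveI := functionField_isFractionRing_of_isAffineOpen X U hU
  haveI : Algebra.FormallySmooth Γ(X, U) X.functionField :=
    Algebra.FormallySmooth.of_isLocalization (nonZeroDivisors Γ(X, U))
  haveI : IsScalarTower k Γ(X, U) X.functionField :=
    IsScalarTower.of_algebraMap_eq (fun c => (germ_secHom k X U (genericPoint X) hη c).symm)
  exact Algebra.FormallySmooth.comp k Γ(X, U) X.functionField

/-- the function field of an integral smooth curve over `k` has a separating element -/
theorem exists_separating [Smooth (X ↘ Spec (CommRingCat.of k))]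
    (hdim : topologicalKrullDim X = 1) :
    ∃ x : X.functionField, Algebra.IsSeparable k⟮x⟯ X.functionField := by
  haveI : LocallyOfFiniteType (X ↘ Spec (CommRingCat.of k)) := inferInstance
  haveI := essFiniteType_functionField k X
  haveI := formallySmooth_functionField k X
  obtain ⟨s, hs1, hs2⟩ :=
    Groth.Agent.Helper4.SepGen.exists_finset_sepBasis_of_formallySmooth (k := k)
      (K := X.functionField)
  have hcard := hs1.cardinalMk_eq_trdeg
  rw [trdeg_functionField k X hdim] at hcard
  obtain ⟨hsub, ⟨i₀⟩⟩ := Cardinal.eq_one_iff_unique.1 hcard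
  refine ⟨i₀.1, ?_⟩
  have hset : (s : Set X.functionField) = {i₀.1} := by
    ext y
    constructor
    · intro hy
      have : (⟨y, hy⟩ : s) = i₀ := Subsingleton.elim _ _
      rw [Set.mem_singleton_iff, ← this]
    · rintro rfl
      exact i₀.2
  rw [hset] at hs2
  exact hs2

end Groth.Agent.Helper4.SN685
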