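import Mathlib
import Groth.Agent.Helper4.SN682
import Groth.Agent.Helper4.SN683
import Groth.Agent.Helper4.SN684
import Groth.Agent.Helper4.SN685
import Groth.Agent.Helper4.SN650
import Groth.Agent.Helper5.CurveVal
import Groth.Agent.Helper6.HProj

/-!
# A purely inseparable cover of a smooth proper curve by a regular proper curve is a Frobenius twist
-/

set_option autoImplicit false
set_option linter.unusedSectionVars false
set_option linter.style.haveILetI false
universe u

open CategoryTheory CategoryTheory.Limits AlgebraicGeometry TopologicalSpace Opposite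
open scoped IntermediateField

namespace Groth.Agent.Helper4.SN686

open Groth.Agent.Helper4.SN Groth.Agent.Helper4.SN637 Groth.Agent.Helper4.SN641
  Groth.Agent.Helper4.SN638 Groth.Agent.Helper4.SN639 Groth.Agent.Helper4.SN539
  Groth.Agent.Helper4.SN682 Groth.Agent.Helper4.SN683 Groth.Agent.Helper4.SN684
  Groth.Agent.Helper4.SN685

attribute [local instance] Curv2.stalkAlgebra

/-- a Noetherian integrally closed local domain of dimension at most one is regular -/
theorem isRegularLocalRing_of_normal (R : Type*) [CommRing R] [IsDomain R] [IsLocalRing R]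
    [IsNoetherianRing R] [IsIntegrallyClosed R] (h : ringKrullDim R ≤ 1) :
    IsRegularLocalRing R := by
  by_cases h1 : ringKrullDim R = 1
  · haveI := Groth.Agent.Helper5.CurveVal.isDVR_of_dim_one R h1
    infer_instance
  · have h0 : ringKrullDim R ≤ 0 := by
      have hnn : (0 : WithBot ℕ∞) ≤ ringKrullDim R := ringKrullDim_nonneg_of_nontrivial
      obtain ⟨n, hn⟩ : ∃ n : ℕ∞, ringKrullDim R = n := by
        cases hh : ringKrullDim R with
        | bot => rw [hh] at hnn; simp at hnn
        | coe n => exact ⟨n, rfl⟩
      rw [hn] at h h1 ⊢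
      have h' : n ≤ 1 := by exact_mod_cast h
      have h1' : n ≠ 1 := by intro hh; apply h1; rw [hh]; rfl
      have : n = 0 := by
        rcases Order.le_one_iff.1 h' with h2 | h2
        · exact h2
        · exact absurd h2 h1'
      rw [this]
      rfl
    haveI : Ring.KrullDimLE 0 R := Ring.krullDimLE_iff.mpr h0
    have hf : IsField R := Ring.KrullDimLE.isField_of_isDomain
    haveI := hf.isPrincipalIdealRing
    infer_instance

section Main

variable (k : Type u) [Field k] (p : ℕ) [ExpChar k p]
  {X Y : Scheme.{u}} [X.Over (Spec (CommRingCat.of k))] [Y.Over (Spec (CommRingCat.of k))]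
  [IsIntegral X] [IsIntegral Y]
  [IsProper (X ↘ Spec (CommRingCat.of k))] [IsProper (Y ↘ Spec (CommRingCat.of k))]
  [Smooth (X ↘ Spec (CommRingCat.of k))]

theorem main11585 (hp : 1 < p) (hdX : topologicalKrullDim X = 1)
    (hdY : topologicalKrullDim Y = 1)
    (hregY : ∀ y : Y, IsRegularLocalRing (Y.presheaf.stalk y))
    (f : X ⟶ Y) (hf : f ≫ (Y ↘ Spec (CommRingCat.of k)) = X ↘ Spec (CommRingCat.of k))
    (e : f (genericPoint X) = genericPoint Y)
    (hpi : @IsPurelyInseparable Y.functionField X.functionField _ _
      (ffMap f e).hom.toAlgebra) :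
    ∃ (r : ℕ) (i : Y ≅ pullback (X ↘ Spec (CommRingCat.of k)) (frobSpec k p r)),
      i.hom ≫ pullback.snd (X ↘ Spec (CommRingCat.of k)) (frobSpec k p r) =
        Y ↘ Spec (CommRingCat.of k) := by
  set pX := X ↘ Spec (CommRingCat.of k) with hpX
  set qY := Y ↘ Spec (CommRingCat.of k) with hqY
  letI alg : Algebra Y.functionField X.functionField := (ffMap f e).hom.toAlgebra
  haveI : IsScalarTower k Y.functionField X.functionField :=
    IsScalarTower.of_algebraMap_eq
      (fun c => (Groth.Agent.Helper4.SN654.ffMap_stalkMap k f hf e c).symm)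
  haveI : IsPurelyInseparable Y.functionField X.functionField := hpi
  haveI := essFiniteType_functionField k X
  haveI : Algebra.EssFiniteType Y.functionField X.functionField :=
    Algebra.EssFiniteType.of_comp k Y.functionField X.functionField
  haveI : Algebra.IsAlgebraic Y.functionField X.functionField :=
    IsPurelyInseparable.isAlgebraic _ _
  haveI : FiniteDimensional Y.functionField X.functionField :=
    Algebra.finite_of_essFiniteType_of_isAlgebraic
  haveI : ExpChar Y.functionField p :=
    expChar_of_injective_algebraMap (algebraMap k Y.functionField).injective p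
  haveI : ExpChar X.functionField p :=
    expChar_of_injective_algebraMap (algebraMap k X.functionField).injective p
  obtain ⟨r, hr⟩ := IsPurelyInseparable.finrank_eq_pow (F := Y.functionField) X.functionField p
  have hpow := fun z : X.functionField => pow_mem_range_of_finrank (KY := Y.functionField) p hp r hr z
  obtain ⟨τ, hτ⟩ := exists_tau p (algebraMap Y.functionField X.functionField) r hpow
  obtain ⟨x, hx⟩ := exists_separating k X hdX
  have hτk : ∀ c : k, τ (algebraMap k X.functionField c) =
      algebraMap k Y.functionField (iterateFrobenius k p r c) := by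
    intro c
    apply (algebraMap Y.functionField X.functionField).injective
    rw [hτ, ← IsScalarTower.algebraMap_apply, iterateFrobenius_def, map_pow]
  -- the semilinear morphism `g : Y ⟶ X`
  let τc : X.functionField ⟶ Y.functionField := CommRingCat.ofHom τ
  haveI := Groth.Agent.Helper4.NApx82.isNoetherian_of_proper k Y
  have hdim1Y : ∀ y : Y, ringKrullDim (Y.presheaf.stalk y) ≤ 1 := by
    intro y
    have := Groth.Agent.Helper5.DimIneq.ringKrullDim_stalk_le_dim Y y
    rw [hdY] at this
    exact this
  have h1 : Spec.map τc ≫ X.fromSpecStalk (genericPoint X) ≫ pX =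
      Y.fromSpecStalk (genericPoint Y) ≫ (qY ≫ frobSpec k p r) := by
    rw [Groth.Agent.Helper5.CurveHom.fromSpecStalk_over, ← Category.assoc (Y.fromSpecStalk _),
      Groth.Agent.Helper5.CurveHom.fromSpecStalk_over, ← Spec.map_comp, ← Spec.map_comp]
    congr 1
    ext c
    exact hτk c
  obtain ⟨g, hgq, hgη⟩ := exists_hom_of_functionField_hom'' (qY ≫ frobSpec k p r) pX hregY
    hdim1Y τc h1
  -- the morphism to the twist
  let a : Y ⟶ pullback pX (frobSpec k p r) := pullback.lift g qY hgq
  have ha1 : a ≫ pullback.fst pX (frobSpec k p r) = g := pullback.lift_fst _ _ _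
  have ha2 : a ≫ pullback.snd pX (frobSpec k p r) = qY := pullback.lift_snd _ _ _
  haveI : IsIntegral (pullback pX (frobSpec k p r)) := isIntegral_twist k p r pX
  obtain ⟨hgdom, hτg⟩ := ffMap_unique g τc hgη.symm
  have hhomeo := isHomeomorph_fst k p r pX
  have hfst : (pullback.fst pX (frobSpec k p r)) (genericPoint ↥(pullback pX (frobSpec k p r))) =
      genericPoint X := by
    apply ((genericPoint_spec X).eq _).symm
    have h2 := (genericPoint_spec ↥(pullback pX (frobSpec k p r))).image
      (pullback.fst pX (frobSpec k p r)).continuous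
    rwa [Set.image_univ, hhomeo.surjective.range_eq, closure_univ] at h2
  have hadom : a (genericPoint Y) = genericPoint ↥(pullback pX (frobSpec k p r)) := by
    apply hhomeo.injective
    rw [hfst, ← Scheme.Hom.comp_apply, ha1, hgdom]
  letI : (pullback pX (frobSpec k p r)).Over (Spec (CommRingCat.of k)) :=
    ⟨pullback.snd pX (frobSpec k p r)⟩
  have hψk : ∀ c : k, (ffMap a hadom).hom (algebraMap k _ c) = algebraMap k Y.functionField c :=
    Groth.Agent.Helper4.SN654.ffMap_stalkMap k a ha2 hadom
  let ψA : (pullback pX (frobSpec k p r)).functionField →ₐ[k] Y.functionField :=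
    { (ffMap a hadom).hom with commutes' := hψk }
  have hafst : (a ≫ pullback.fst pX (frobSpec k p r)) (genericPoint Y) = genericPoint X := by
    rw [ha1, hgdom]
  have hcomp := Groth.Agent.Helper4.SN650.ffMap_comp a (pullback.fst pX (frobSpec k p r))
    hadom hfst hafst
  have hτψ : ∀ z : X.functionField, τ z = ψA ((ffMap (pullback.fst pX (frobSpec k p r)) hfst).hom z) := by
    intro z
    have h3 : τc = ffMap (pullback.fst pX (frobSpec k p r)) hfst ≫ ffMap a hadom := by
      rw [hτg, ← hcomp]
      exact (Groth.Agent.Helper4.SN650.ffMap_congr ha1 hafst hgdom).symm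
    exact congrArg (fun φ => φ.hom z) h3
  let φA : Y.functionField →ₐ[k] X.functionField :=
    IsScalarTower.toAlgHom k Y.functionField X.functionField
  have hrF : Module.finrank φA.fieldRange X.functionField = p ^ r := by
    rw [← hr]
    let E : Y.functionField ≃+* φA.fieldRange := (AlgEquiv.ofInjectiveField φA).toRingEquiv
    exact (Algebra.finrank_eq_of_equiv_equiv E (RingEquiv.refl X.functionField)
      (by ext y; rfl)).symm
  have htop := adjoin_range_tau_eq_top p φA x r hrF τ (fun z => hτ z)
  have hsurj : Function.Surjective (ffMap a hadom).hom := by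
    intro y
    have hy : y ∈ IntermediateField.adjoin k (Set.range τ) := by rw [htop]; trivial
    have hle : IntermediateField.adjoin k (Set.range τ) ≤ ψA.fieldRange := by
      rw [IntermediateField.adjoin_le_iff]
      rintro _ ⟨z, rfl⟩
      exact ⟨_, (hτψ z).symm⟩
    obtain ⟨w, hw⟩ := hle hy
    exact ⟨w, hw⟩
  have hbij : Function.Bijective (ffMap a hadom).hom :=
    ⟨(ffMap a hadom).hom.injective, hsurj⟩
  haveI : IsProper (pullback.snd pX (frobSpec k p r)) :=
    MorphismProperty.pullback_snd (P := @IsProper) _ _ inferInstance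
  haveI : IsLocallyNoetherian (pullback pX (frobSpec k p r)) :=
    LocallyOfFiniteType.isLocallyNoetherian (pullback.snd pX (frobSpec k p r))
  haveI : IsIso a := isIso_of_bijective_ffMap qY (pullback.snd pX (frobSpec k p r))
    (regular_twist k p r pX) (dim_stalk_twist_le k p r pX hdX) a ha2 hadom hbij
  exact ⟨r, asIso a, ha2⟩


end Main

section Wrap

variable (k : Type u) [Field k] (p : ℕ) [ExpChar k p]
  {X Y : Scheme.{u}} [X.Over (Spec (CommRingCat.of k))] [Y.Over (Spec (CommRingCat.of k))]

/-- S11585 -/
theorem main11585' [Fact p.Prime]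
    (hprojX : ∃ (N : ℕ) (i : X ⟶ CohB1.ProjSpace N k), IsClosedImmersion i ∧
      i ≫ CohB1.ProjSpace.toSpec N k = X ↘ (Spec (CommRingCat.of k)))
    (hprojY : ∃ (N : ℕ) (i : Y ⟶ CohB1.ProjSpace N k), IsClosedImmersion i ∧
      i ≫ CohB1.ProjSpace.toSpec N k = Y ↘ (Spec (CommRingCat.of k)))
    [IsIntegral X] [IsIntegral Y] (hdX : topologicalKrullDim X = 1)
    (hdY : topologicalKrullDim Y = 1) (hnY : Pi1.IsNormalScheme Y)
    [Smooth (X ↘ (Spec (CommRingCat.of k)))]
    (f : X ⟶ Y) (hf : f ≫ (Y ↘ (Spec (CommRingCat.of k))) = X ↘ (Spec (CommRingCat.of k)))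
    (e : f (genericPoint X) = genericPoint Y)
    (hpi : @IsPurelyInseparable Y.functionField X.functionField _ _
      (ffMap f e).hom.toAlgebra) :
    ∃ (r : ℕ) (i : Y ≅ pullback (X ↘ (Spec (CommRingCat.of k)))
        (Spec.map (CommRingCat.ofHom (iterateFrobenius k p r)))),
      i.hom ≫ pullback.snd (X ↘ (Spec (CommRingCat.of k)))
        (Spec.map (CommRingCat.ofHom (iterateFrobenius k p r))) =
        Y ↘ (Spec (CommRingCat.of k)) := by
  obtain ⟨N, i, hi, hik⟩ := hprojX
  obtain ⟨N', i', hi', hik'⟩ := hprojY
  haveI : IsProper (X ↘ (Spec (CommRingCat.of k))) := by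
    rw [← hik]
    haveI := Groth.Agent.Helper6.HProj.isProper_toSpec N k
    infer_instance
  haveI : IsProper (Y ↘ (Spec (CommRingCat.of k))) := by
    rw [← hik']
    haveI := Groth.Agent.Helper6.HProj.isProper_toSpec N' k
    infer_instance
  haveI := Groth.Agent.Helper4.NApx82.isNoetherian_of_proper k Y
  have hregY : ∀ y : Y, IsRegularLocalRing (Y.presheaf.stalk y) := by
    intro y
    haveI := (hnY y).2
    apply isRegularLocalRing_of_normal
    have := Groth.Agent.Helper5.DimIneq.ringKrullDim_stalk_le_dim Y y
    rw [hdY] at this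
    exact this
  exact main11585 k p (Fact.out : p.Prime).one_lt hdX hdY hregY f hf e hpi

end Wrap

end Groth.Agent.Helper4.SN686
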