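import Mathlib
import Groth.Agent.Helper4.SN686
import Groth.Agent.S0223

/-!
# Purely inseparable covers of smooth curves: smoothness and genus of the target
-/

set_option autoImplicit false
set_option linter.unusedSectionVars false
set_option linter.style.haveILetI false
universe u

open CategoryTheory CategoryTheory.Limits AlgebraicGeometry TopologicalSpace Opposite
open scoped IntermediateField

namespace Groth.Agent.Helper4.SN687

open Groth.Agent.Helper4.SN637 Groth.Agent.Helper4.SN684 Groth.Agent.Helper4.SN686

attribute [local instance] Curv2.stalkAlgebra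

section Main

variable (k : Type u) [Field k] (p : ℕ) [ExpChar k p]
  {X Y : Scheme.{u}} [X.Over (Spec (CommRingCat.of k))] [Y.Over (Spec (CommRingCat.of k))]
  [IsIntegral X] [IsIntegral Y]
  [IsProper (X ↘ Spec (CommRingCat.of k))] [IsProper (Y ↘ Spec (CommRingCat.of k))]
  [Smooth (X ↘ Spec (CommRingCat.of k))]

/-- the target of a purely inseparable cover of a smooth proper curve with `H⁰ = k` is smooth
with `H⁰ = k`, of the same genus -/
theorem main6558 (hp : 1 < p) (hdX : topologicalKrullDim X = 1)
    (hdY : topologicalKrullDim Y = 1)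
    (hregY : ∀ y : Y, IsRegularLocalRing (Y.presheaf.stalk y))
    (f : X ⟶ Y) (hf : f ≫ (Y ↘ Spec (CommRingCat.of k)) = X ↘ Spec (CommRingCat.of k))
    (e : f (genericPoint X) = genericPoint Y)
    (h0 : Module.finrank k (Coh.HH X (Coh.structureModule X) 0) = 1)
    (hpi : @IsPurelyInseparable Y.functionField X.functionField _ _
      (ffMap f e).hom.toAlgebra) :
    Smooth (Y ↘ Spec (CommRingCat.of k)) ∧
      Module.finrank k (Coh.HH Y (Coh.structureModule Y) 0) = 1 ∧
      Curv2.genus k Y = Curv2.genus k X := by
  obtain ⟨r, i, hi⟩ := main11585 k p hp hdX hdY hregY f hf e hpi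
  have hsm : Smooth (Y ↘ Spec (CommRingCat.of k)) := by
    rw [← hi]
    haveI : Smooth (pullback.snd (X ↘ Spec (CommRingCat.of k)) (frobSpec k p r)) :=
      MorphismProperty.pullback_snd (P := @Smooth) _ _ inferInstance
    infer_instance
  have hpb : IsPullback (i.hom ≫ pullback.fst (X ↘ Spec (CommRingCat.of k)) (frobSpec k p r))
      (Y ↘ Spec (CommRingCat.of k)) (X ↘ Spec (CommRingCat.of k)) (frobSpec k p r) := by
    refine IsPullback.of_iso_pullback ⟨?_⟩ i rfl hi
    rw [Category.assoc, pullback.condition, ← Category.assoc, hi]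
  have h := @Groth.Agent.S0223.result k _ X _ _ hdX h0 k _ (iterateFrobenius k p r).toAlgebra Y _
    (i.hom ≫ pullback.fst (X ↘ Spec (CommRingCat.of k)) (frobSpec k p r)) hpb
  exact ⟨hsm, h.1, h.2⟩

end Main

end Groth.Agent.Helper4.SN687
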