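import Mathlib
import Groth.Agent.Helper4.SN668
import Groth.Agent.Helper4.SN678

/-!
# Double covers of the projective line from functions of degree two (arbitrary base field)
-/

set_option autoImplicit false
set_option linter.style.haveILetI false
set_option linter.unusedSectionVars false
universe u
open CategoryTheory CategoryTheory.Limits AlgebraicGeometry TopologicalSpace Opposite FunFld
open scoped IntermediateField

namespace Groth.Agent.Helper4.SN688

open Groth.Agent.Helper4.SN Groth.Agent.Helper4.SN550 Groth.Agent.Helper5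
  Groth.Agent.Helper4.SN637 Groth.Agent.Helper4.SN668

attribute [local instance] Curv2.stalkAlgebra Curv2.resAlgebra

variable (k : Type u) [Field k] {C : Scheme.{u}}
  [C.Over (Spec (CommRingCat.of k))] [IsIntegral C] [IsProper (C ↘ (Spec (CommRingCat.of k)))]

/-- a function of degree `n` on a regular proper curve defines a finite flat morphism of constant
rank `n` to the projective line -/
theorem exists_cover_of_finrank (hdim : topologicalKrullDim C = 1)
    (hreg : ∀ x : C, IsRegularLocalRing (C.presheaf.stalk x))
    (hK : IsFunctionField k C.functionField)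
    (t : C.functionField) (ht : Transcendental k t) (n : ℕ)
    (hfr : Module.finrank k⟮t⟯ C.functionField = n) :
    ∃ (f : C ⟶ CohB1.ProjSpace 1 k) (hξ : f (genericPoint C) = genericPoint (CohB1.ProjSpace 1 k)),
      f ≫ CohB1.ProjSpace.toSpec 1 k = C ↘ Spec (CommRingCat.of k) ∧
      IsFinite f ∧ Flat f ∧ (∀ y : ↥(CohB1.ProjSpace 1 k), Scheme.Hom.finrank f y = n) ∧
      (ffMap f hξ).hom = P1Sch.phi k C.functionField t ht := by
  haveI := Groth.Agent.Helper4.NApx82.isNoetherian_of_proper k C
  haveI hpY : IsProper (CohB1.ProjSpace.toSpec 1 k) :=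
    Groth.Agent.Helper6.HProj.isProper_toSpec 1 k
  haveI hsY : Smooth (CohB1.ProjSpace.toSpec 1 k) :=
    Groth.Agent.Helper3.ProjSmooth.smooth_toSpec 1 k
  haveI : IsProper ((CohB1.ProjSpace 1 k) ↘ Spec (CommRingCat.of k)) := hpY
  haveI : Smooth ((CohB1.ProjSpace 1 k) ↘ Spec (CommRingCat.of k)) := hsY
  haveI := Groth.Agent.Helper4.NApx82.isNoetherian_of_proper k (CohB1.ProjSpace 1 k)
  have hregY : ∀ y : (CohB1.ProjSpace 1 k),
      IsRegularLocalRing ((CohB1.ProjSpace 1 k).presheaf.stalk y) :=
    fun y => regular_of_smooth k y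
  have hdimY := dim_P1 k
  have hnormC : ∀ x : C, IsIntegrallyClosed (C.presheaf.stalk x) := fun x =>
    haveI := hreg x
    Groth.Agent.Helper4.RegNormal.isIntegrallyClosed_of_isRegularLocalRing _
  have hX : ∀ x : C, IsClosed ({x} : Set C) → ringKrullDim (C.presheaf.stalk x) = 1 :=
    fun x hx => Groth.Agent.Helper4.SN557.dim_stalk k C inferInstance hdim hnormC hK x hx
  have hnorm : ∀ x : C, IsDomain (C.presheaf.stalk x) ∧ IsIntegrallyClosed (C.presheaf.stalk x) :=
    fun x => ⟨inferInstance, hnormC x⟩
  obtain ⟨f, ⟨hfp, hξ, hφf⟩, -⟩ := Groth.Agent.Helper5.CurveHom.s4445 k C (CohB1.ProjSpace 1 k)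
    hX hnorm (P1Sch.phi k C.functionField t ht)
    (by ext c; exact P1Sch.phi_stalkMap k C.functionField t ht c)
  have hφf' : (ffMap f hξ).hom = P1Sch.phi k C.functionField t ht := hφf
  haveI : IsFinite f := isFinite_of_nonconstant k hdim hdimY f hfp hξ
  have hfr2 : @Module.finrank (CohB1.ProjSpace 1 k).functionField C.functionField _ _
      (ffMap f hξ).hom.toAlgebra.toModule = n := by
    rw [hφf']
    exact (finrank_phi k C.functionField t ht).trans hfr
  haveI hflat : Flat f := by
    rw [Groth.Agent.Helper5.AssDed.s10935 f hregY hdimY]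
    intro x hx
    rw [Groth.Agent.Helper5.AssDed.isAssPoint_structureModule_iff] at hx
    have := Groth.Agent.Helper5.AssDed.eq_genericPoint_of_maximalIdeal_eq_bot x
      (Groth.Agent.Helper5.AssDed.eq_bot_of_isAssociatedPrime_domain hx)
    rw [this]
    exact hξ
  haveI : LocallyOfFinitePresentation f :=
    LocallyOfFinitePresentation.iff_locallyOfFiniteType.mpr inferInstance
  have hrk : ∀ y : ↥(CohB1.ProjSpace 1 k),
      Scheme.Hom.finrank f y = Scheme.Hom.finrank f (genericPoint (CohB1.ProjSpace 1 k)) :=
    fun y => (Scheme.Hom.isLocallyConstant_finrank f).apply_eq_of_preconnectedSpace _ _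
  have hd := Groth.Agent.Helper4.SN678.residueDegree_eq_of_rank k hdim hdimY f hξ _
    (Groth.Agent.Helper4.SN678.rank_push k f _ hrk)
  have hfr3 := Groth.Agent.Helper4.SN641.finrank_ffMap f hξ
  have hbr : EGA4loc.residueDegree f (genericPoint C) = f.residueDegree (genericPoint C) := rfl
  rw [hbr, hd, hfr2] at hfr3
  exact ⟨f, hξ, hfp, inferInstance, hflat, fun y => by rw [hrk y, ← hfr3], hφf'⟩

omit [IsProper (C ↘ (Spec (CommRingCat.of k)))] in
/-- a flat morphism of integral schemes with separable function field extension is étale on a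
nonempty open subset -/
theorem exists_etale_open {Y : Scheme.{u}} [IsIntegral Y] (f : C ⟶ Y) [Flat f]
    [LocallyOfFinitePresentation f] [QuasiSeparated f]
    (hξ : f (genericPoint C) = genericPoint Y)
    (hsep : @Algebra.IsSeparable Y.functionField C.functionField _ _
      (ffMap f hξ).hom.toAlgebra) :
    ∃ V : C.Opens, (V : Set C).Nonempty ∧ Etale (V.ι ≫ f) := by
  letI algA'B : Algebra Y.functionField C.functionField := (ffMap f hξ).hom.toAlgebra
  haveI := hsep
  haveI : Algebra.FormallyUnramified Y.functionField C.functionField :=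
    Algebra.FormallyUnramified.of_isSeparable _ _
  have hsub : Subsingleton ((Omega.sheaf f).presheaf.stalk (genericPoint C)) := by
    obtain ⟨e⟩ := Groth.Agent.Helper4.SN659.nonempty_stalk_equiv f (genericPoint C)
    letI algAB : Algebra (Y.presheaf.stalk (f (genericPoint C)))
        (C.presheaf.stalk (genericPoint C)) := (f.stalkMap (genericPoint C)).hom.toAlgebra
    letI algA'A : Algebra Y.functionField (Y.presheaf.stalk (f (genericPoint C))) :=
      (Y.presheaf.stalkSpecializes (specializes_of_eq hξ)).hom.toAlgebra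
    haveI : IsScalarTower Y.functionField (Y.presheaf.stalk (f (genericPoint C)))
        (C.presheaf.stalk (genericPoint C)) := IsScalarTower.of_algebraMap_eq (fun a => rfl)
    have hsurj := KaehlerDifferential.map_surjective Y.functionField
      (Y.presheaf.stalk (f (genericPoint C))) (C.presheaf.stalk (genericPoint C))
    haveI : Subsingleton (Ω[C.presheaf.stalk (genericPoint C)⁄Y.functionField]) :=
      Algebra.FormallyUnramified.subsingleton_kaehlerDifferential
    haveI : Subsingleton (Ω[C.presheaf.stalk (genericPoint C)⁄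
        Y.presheaf.stalk (f (genericPoint C))]) := hsurj.subsingleton
    exact e.toEquiv.subsingleton
  have hns : genericPoint C ∉ CohB1.support (Omega.sheaf f) := fun h => h hsub
  obtain ⟨U, hηU, hunr⟩ := (Groth.Agent.Lead.OmegaSecC.notMem_support_iff f (genericPoint C)).1 hns
  refine ⟨U, ⟨genericPoint C, hηU⟩, ?_⟩
  haveI := hunr
  exact Etale.of_formallyUnramified_of_flat (U.ι ≫ f)

end Groth.Agent.Helper4.SN688
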