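import Mathlib
import Groth.Agent.Helper5.FFRR
import Groth.Agent.Helper5.FFRational
import Groth.Agent.Helper5.FFAut2
import Groth.Agent.Helper4.SN674

/-!
# Functions of small degree from divisors with two sections
-/

set_option autoImplicit false
set_option linter.style.haveILetI false
set_option linter.unusedSectionVars false
open FunFld Polynomial
open scoped IntermediateField

namespace Groth.Agent.Helper4.SN689

open Groth.Agent.Helper5.FF

variable {k K : Type*} [Field k] [Field K] [Algebra k K]

/-- a divisor with two independent sections gives a nonconstant function of degree at most its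
degree -/
theorem exists_function_of_two_le_ell (hK : IsFunctionField k K) (D : Divisor k K)
    (h : 2 ≤ ell D) :
    ∃ t : K, Transcendental k t ∧ (Module.finrank k⟮t⟯ K : ℤ) ≤ D.deg := by
  unfold ell at h
  have hpos : 0 < Module.finrank k (L D) := by omega
  haveI : FiniteDimensional k (L D) := Module.finite_of_finrank_pos hpos
  haveI : Nontrivial (L D) := Module.nontrivial_of_finrank_pos hpos
  obtain ⟨u, hu⟩ := exists_ne (0 : L D)
  obtain ⟨v, huv⟩ := exists_linearIndependent_pair_of_one_lt_finrank (R := k) (by omega) hu
  have hu0 : (u : K) ≠ 0 := fun h0 => hu (Subtype.ext h0)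
  set t : K := (u : K)⁻¹ * v with ht
  have hut : (u : K) * t = v := by rw [ht, ← mul_assoc, mul_inv_cancel₀ hu0, one_mul]
  have htL : t ∈ L (D + FunFld.div k (u : K)) := by
    rw [← mul_mem_L_iff hK D _ _ hu0, hut]
    exact v.2
  have h1L : (1 : K) ∈ L (D + FunFld.div k (u : K)) := by
    rw [← mul_mem_L_iff hK D _ _ hu0, mul_one]
    exact u.2
  have htk : t ∉ Set.range (algebraMap k K) := by
    rintro ⟨c, hc⟩
    have h2 : (v : K) = c • (u : K) := by
      rw [← hut, ← hc, Algebra.smul_def, mul_comm]
    have h3 : v = c • u := Subtype.ext h2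
    have h4 := LinearIndependent.pair_iff.1 huv (-c) 1 (by rw [h3]; simp)
    exact one_ne_zero h4.2
  have htr : Transcendental k t := transcendental_of_not_mem_range hK htk
  have ht0 : t ≠ 0 := by rintro h0; exact htr (h0 ▸ isAlgebraic_zero)
  refine ⟨t, htr, ?_⟩
  rw [← deg_poles_eq hK htr]
  have hle : (-(FunFld.div k t)) ⊔ 0 ≤ D + FunFld.div k (u : K) := by
    apply sup_le
    · intro P
      have h5 := (mem_L_iff_ord _ ht0).1 htL P
      rw [Finsupp.neg_apply, div_apply hK]
      omega
    · intro P
      have h5 := (mem_L_iff_ord _ one_ne_zero).1 h1L P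
      rw [ord_one] at h5
      rw [Finsupp.zero_apply]
      omega
  have h6 := deg_mono hle
  rwa [Groth.Agent.Helper5.FF.deg_add, deg_div hK, add_zero] at h6

/-- a function field of genus two has a function of degree two -/
theorem exists_finrank_two_of_genus_two (hK : IsFunctionField k K) (hg : genus k K = 2) :
    ∃ t : K, Transcendental k t ∧ Module.finrank k⟮t⟯ K = 2 := by
  obtain ⟨W, hW⟩ := exists_isCanonical hK
  obtain ⟨h1, h2⟩ := ell_canonical hK hW
  rw [hg] at h1 h2
  obtain ⟨t, ht, hle⟩ := exists_function_of_two_le_ell hK W (by omega)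
  refine ⟨t, ht, ?_⟩
  haveI := finiteDimensional_adjoin hK ht
  have hpos : 0 < Module.finrank k⟮t⟯ K := Module.finrank_pos
  have hne : Module.finrank k⟮t⟯ K ≠ 1 := by
    intro h1'
    have := genus_eq_zero_of_finrank_one hK ht h1'
    omega
  rw [h2] at hle
  omega

end Groth.Agent.Helper4.SN689
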