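import Mathlib
import Groth.Agent.Helper4.SN687
import Groth.Agent.Helper4.SN688
import Groth.Agent.Helper4.SN689
import Groth.Agent.Helper4.SN584
import Groth.Agent.Helper4.SN578
import Groth.Agent.Helper4.SN676
import Groth.Agent.Helper4.SN560

/-!
# Degree two covers of the projective line by smooth curves of positive genus are separable
-/

set_option autoImplicit false
set_option linter.style.haveILetI false
set_option linter.unusedSectionVars false
universe u
open CategoryTheory CategoryTheory.Limits AlgebraicGeometry TopologicalSpace Opposite FunFld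
open scoped IntermediateField

namespace Groth.Agent.Helper4.SN690

open Groth.Agent.Helper4.SN Groth.Agent.Helper4.SN550 Groth.Agent.Helper5
  Groth.Agent.Helper4.SN637 Groth.Agent.Helper4.SN668 Groth.Agent.Helper4.SN578

attribute [local instance] Curv2.stalkAlgebra Curv2.resAlgebra

variable (k : Type u) [Field k] {C : Scheme.{u}}
  [C.Over (Spec (CommRingCat.of k))] [IsIntegral C] [IsProper (C ↘ (Spec (CommRingCat.of k)))]
  [Smooth (C ↘ (Spec (CommRingCat.of k)))]

/-- a dominant morphism of prime degree from a smooth proper curve of positive genus with `H⁰ = k`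
to the projective line is separable -/
theorem isSeparable_of_finrank_prime (hdim : topologicalKrullDim C = 1)
    (h0 : Module.finrank k (Coh.HH C (Coh.structureModule C) 0) = 1)
    (hg : 1 ≤ Curv2.genus k C)
    (f : C ⟶ CohB1.ProjSpace 1 k)
    (hf : f ≫ CohB1.ProjSpace.toSpec 1 k = C ↘ Spec (CommRingCat.of k))
    (hξ : f (genericPoint C) = genericPoint (CohB1.ProjSpace 1 k)) (n : ℕ) (hn : n.Prime)
    (hfr : @Module.finrank (CohB1.ProjSpace 1 k).functionField C.functionField _ _
      (ffMap f hξ).hom.toAlgebra.toModule = n) :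
    @Algebra.IsSeparable (CohB1.ProjSpace 1 k).functionField C.functionField _ _
      (ffMap f hξ).hom.toAlgebra := by
  letI alg : Algebra (CohB1.ProjSpace 1 k).functionField C.functionField :=
    (ffMap f hξ).hom.toAlgebra
  haveI : FiniteDimensional (CohB1.ProjSpace 1 k).functionField C.functionField :=
    Module.finite_of_finrank_pos (by rw [hfr]; exact hn.pos)
  have hdvd := Field.finSepDegree_dvd_finrank (CohB1.ProjSpace 1 k).functionField C.functionField
  rw [hfr] at hdvd
  rcases (Nat.dvd_prime hn).1 hdvd with h1 | h2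
  · exfalso
    haveI hpi : IsPurelyInseparable (CohB1.ProjSpace 1 k).functionField C.functionField :=
      isPurelyInseparable_of_finSepDegree_eq_one h1
    obtain ⟨q, hq⟩ := ExpChar.exists k
    rcases hq with _ | ⟨hprime⟩
    · -- characteristic zero
      haveI : CharZero (CohB1.ProjSpace 1 k).functionField :=
        charZero_of_injective_algebraMap
          (algebraMap k (CohB1.ProjSpace 1 k).functionField).injective
      haveI : Algebra.IsSeparable (CohB1.ProjSpace 1 k).functionField C.functionField :=
        Algebra.IsAlgebraic.isSeparable_of_perfectField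
      have h3 := (Field.finSepDegree_eq_finrank_iff (CohB1.ProjSpace 1 k).functionField
        C.functionField).2 inferInstance
      rw [h1, hfr] at h3
      exact hn.one_lt.ne h3
    · haveI : ExpChar k q := ExpChar.prime hprime
      haveI hpY : IsProper (CohB1.ProjSpace.toSpec 1 k) :=
        Groth.Agent.Helper6.HProj.isProper_toSpec 1 k
      haveI hsY : Smooth (CohB1.ProjSpace.toSpec 1 k) :=
        Groth.Agent.Helper3.ProjSmooth.smooth_toSpec 1 k
      haveI : IsProper ((CohB1.ProjSpace 1 k) ↘ Spec (CommRingCat.of k)) := hpY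
      haveI : Smooth ((CohB1.ProjSpace 1 k) ↘ Spec (CommRingCat.of k)) := hsY
      have hregY : ∀ y : (CohB1.ProjSpace 1 k),
          IsRegularLocalRing ((CohB1.ProjSpace 1 k).presheaf.stalk y) :=
        fun y => regular_of_smooth k y
      have h3 := Groth.Agent.Helper4.SN687.main6558 k q hprime.one_lt hdim (dim_P1 k) hregY f hf
        hξ h0 hpi
      rw [Groth.Agent.Helper4.SN584.genus_P1 k] at h3
      omega
  · rw [← Field.finSepDegree_eq_finrank_iff, hfr]
    exact h2

/-- **a smooth proper geometrically connected curve with a function of degree two is a separable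
double cover of the projective line** -/
theorem exists_separable_double_cover [GeometricallyConnected (C ↘ (Spec (CommRingCat.of k)))]
    (hdim : topologicalKrullDim C = 1) (hg : 1 ≤ Curv2.genus k C)
    (t : C.functionField) (ht : Transcendental k t)
    (hfr : Module.finrank k⟮t⟯ C.functionField = 2) :
    ∃ (f : C ⟶ CohB1.ProjSpace 1 k) (hξ : f (genericPoint C) = genericPoint (CohB1.ProjSpace 1 k)),
      f ≫ CohB1.ProjSpace.toSpec 1 k = C ↘ Spec (CommRingCat.of k) ∧
      IsFinite f ∧ Flat f ∧ (∀ y : ↥(CohB1.ProjSpace 1 k), Scheme.Hom.finrank f y = 2) ∧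
      (ffMap f hξ).hom = P1Sch.phi k C.functionField t ht ∧
      @Algebra.IsSeparable (CohB1.ProjSpace 1 k).functionField C.functionField _ _
        (ffMap f hξ).hom.toAlgebra ∧
      ∃ V : C.Opens, (V : Set C).Nonempty ∧ Etale (V.ι ≫ f) := by
  have h0 := h0_structure k C
  obtain ⟨pd⟩ := Groth.Agent.Helper4.SN676.exists_placeData k C hdim h0
  have hreg : ∀ x : C, IsRegularLocalRing (C.presheaf.stalk x) := fun x => regular_of_smooth k x
  obtain ⟨f, hξ, hf, hfin, hflat, hrk, hφ⟩ :=
    Groth.Agent.Helper4.SN688.exists_cover_of_finrank k hdim hreg pd.hK t ht 2 hfr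
  have hfr2 : @Module.finrank (CohB1.ProjSpace 1 k).functionField C.functionField _ _
      (ffMap f hξ).hom.toAlgebra.toModule = 2 := by
    rw [hφ]
    exact (finrank_phi k C.functionField t ht).trans hfr
  have hsep := isSeparable_of_finrank_prime k hdim h0 hg f hf hξ 2 Nat.prime_two hfr2
  haveI := hfin
  haveI := hflat
  haveI hpY : IsProper (CohB1.ProjSpace.toSpec 1 k) :=
    Groth.Agent.Helper6.HProj.isProper_toSpec 1 k
  haveI : IsProper ((CohB1.ProjSpace 1 k) ↘ Spec (CommRingCat.of k)) := hpY
  haveI := Groth.Agent.Helper4.NApx82.isNoetherian_of_proper k (CohB1.ProjSpace 1 k)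
  haveI : LocallyOfFinitePresentation f :=
    LocallyOfFinitePresentation.iff_locallyOfFiniteType.mpr inferInstance
  exact ⟨f, hξ, hf, hfin, hflat, hrk, hφ, hsep,
    Groth.Agent.Helper4.SN688.exists_etale_open f hξ hsep⟩

/-- S7812 -/
theorem main7812 [GeometricallyConnected (C ↘ (Spec (CommRingCat.of k)))]
    (hdim : topologicalKrullDim C = 1) (hg : Curv2.genus k C = 2) :
    ∃ f : C ⟶ CohB1.ProjSpace 1 k,
      f ≫ CohB1.ProjSpace.toSpec 1 k = C ↘ Spec (CommRingCat.of k) ∧ IsFinite f ∧ Flat f ∧
      (∀ y : ↥(CohB1.ProjSpace 1 k), Scheme.Hom.finrank f y = 2) ∧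
      ∃ V : C.Opens, (V : Set C).Nonempty ∧ Etale (V.ι ≫ f) := by
  have h0 := h0_structure k C
  obtain ⟨pd⟩ := Groth.Agent.Helper4.SN676.exists_placeData k C hdim h0
  have hgen := Groth.Agent.Helper4.SN560.genus_eq pd
  obtain ⟨t, ht, hfr⟩ := Groth.Agent.Helper4.SN689.exists_finrank_two_of_genus_two pd.hK
    (by rw [← hgen, hg])
  obtain ⟨f, hξ, hf, hfin, hflat, hrk, -, -, hV⟩ :=
    exists_separable_double_cover k hdim (by rw [hg]; norm_num) t ht hfr
  exact ⟨f, hf, hfin, hflat, hrk, hV⟩

end Groth.Agent.Helper4.SN690
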