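import Mathlib
import Groth.Agent.Helper4.SN690
import Groth.Agent.Helper4.SN92

/-!
# Elliptic curves with a rational point are separable double covers of the projective line
-/

set_option autoImplicit false
set_option linter.style.haveILetI false
set_option linter.unusedSectionVars false
universe u
open CategoryTheory CategoryTheory.Limits AlgebraicGeometry TopologicalSpace Opposite FunFld
open scoped IntermediateField

namespace Groth.Agent.Helper4.SN691

section FF

open Groth.Agent.Helper5.FF

variable {k K : Type*} [Field k] [Field K] [Algebra k K]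

/-- a divisor of degree two with two sections on a function field of positive genus gives a
function of degree exactly two -/
theorem exists_finrank_two_of_divisor (hK : IsFunctionField k K) (hg : 1 ≤ genus k K)
    (D : Divisor k K) (hdeg : D.deg = 2) (hell : 2 ≤ ell D) :
    ∃ t : K, Transcendental k t ∧ Module.finrank k⟮t⟯ K = 2 := by
  obtain ⟨t, ht, hle⟩ := Groth.Agent.Helper4.SN689.exists_function_of_two_le_ell hK D hell
  refine ⟨t, ht, ?_⟩
  haveI := finiteDimensional_adjoin hK ht
  have hpos : 0 < Module.finrank k⟮t⟯ K := Module.finrank_pos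
  have hne : Module.finrank k⟮t⟯ K ≠ 1 := by
    intro h1'
    have := genus_eq_zero_of_finrank_one hK ht h1'
    omega
  rw [hdeg] at hle
  omega

/-- genus one with a place of degree one: a function of degree two -/
theorem exists_finrank_two_of_genus_one (hK : IsFunctionField k K) (hg : genus k K = 1)
    (P : Place k K) (hP : P.deg = 1) :
    ∃ t : K, Transcendental k t ∧ Module.finrank k⟮t⟯ K = 2 := by
  obtain ⟨D, hD⟩ : ∃ D : Divisor k K, D = Finsupp.single P 2 := ⟨_, rfl⟩
  have hdeg : D.deg = 2 := by
    rw [hD, deg_single, hP]; norm_num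
  have h1 := ell_eq_of_deg_ge hK D (by rw [hdeg, hg]; norm_num)
  rw [hdeg, hg] at h1
  refine exists_finrank_two_of_divisor hK (by omega) D hdeg ?_
  have : (ell D : ℤ) = 2 := by rw [h1]; norm_num
  exact_mod_cast this.ge

end FF

open Groth.Agent.Helper4.SN Groth.Agent.Helper4.SN550 Groth.Agent.Helper5
  Groth.Agent.Helper4.SN637 Groth.Agent.Helper4.SN668 Groth.Agent.Helper4.SN578

attribute [local instance] Curv2.stalkAlgebra Curv2.resAlgebra

section Generic

variable {C Y : Scheme.{u}} [IsIntegral C] [IsIntegral Y]

/-- transfer of degree and separability from function fields to the residue fields at the generic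
point -/
theorem generic_data (f : C ⟶ Y) (hξ : f (genericPoint C) = genericPoint Y) (n : ℕ)
    (hfr : @Module.finrank Y.functionField C.functionField _ _
      (ffMap f hξ).hom.toAlgebra.toModule = n)
    (hsep : @Algebra.IsSeparable Y.functionField C.functionField _ _
      (ffMap f hξ).hom.toAlgebra) :
    f.residueDegree (genericPoint C) = n ∧
      @Algebra.IsSeparable (Y.residueField (f (genericPoint C)))
        (C.residueField (genericPoint C)) _ _
        (f.residueFieldMap (genericPoint C)).hom.toAlgebra := by
  obtain ⟨i, j, hij⟩ := Groth.Agent.Helper4.SN676.exists_equivs f hξ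
  letI alg : Algebra Y.functionField C.functionField := (ffMap f hξ).hom.toAlgebra
  letI algres : Algebra (Y.residueField (f (genericPoint C)))
      (C.residueField (genericPoint C)) := (f.residueFieldMap (genericPoint C)).hom.toAlgebra
  have hcompat : (algebraMap (Y.residueField (f (genericPoint C)))
      (C.residueField (genericPoint C))).comp (i : _ ≃+* _) =
      RingHom.comp (j : _ ≃+* _) (algebraMap Y.functionField C.functionField) := by
    ext a
    exact hij a
  refine ⟨?_, ?_⟩
  · rw [← hfr]
    exact (Algebra.finrank_eq_of_equiv_equiv i j hcompat).symm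
  · haveI := hsep
    exact Algebra.IsSeparable.of_equiv_equiv i j hcompat

end Generic

variable (k : Type u) [Field k] {C : Scheme.{u}}
  [C.Over (Spec (CommRingCat.of k))] [IsIntegral C] [IsProper (C ↘ (Spec (CommRingCat.of k)))]
  [Smooth (C ↘ (Spec (CommRingCat.of k)))]

/-- **a smooth proper curve with `H⁰ = k`, positive genus and a function of degree two is a
separable double cover of the projective line** -/
theorem exists_separable_double_cover'
    (hdim : topologicalKrullDim C = 1)
    (h0 : Module.finrank k (Coh.HH C (Coh.structureModule C) 0) = 1)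
    (hg : 1 ≤ Curv2.genus k C)
    (t : C.functionField) (ht : Transcendental k t)
    (hfr : Module.finrank k⟮t⟯ C.functionField = 2) :
    ∃ (f : C ⟶ CohB1.ProjSpace 1 k) (hξ : f (genericPoint C) = genericPoint (CohB1.ProjSpace 1 k)),
      f ≫ CohB1.ProjSpace.toSpec 1 k = C ↘ Spec (CommRingCat.of k) ∧
      IsFinite f ∧ Flat f ∧ (∀ y : ↥(CohB1.ProjSpace 1 k), Scheme.Hom.finrank f y = 2) ∧
      (ffMap f hξ).hom = P1Sch.phi k C.functionField t ht ∧
      @Module.finrank (CohB1.ProjSpace 1 k).functionField C.functionField _ _
        (ffMap f hξ).hom.toAlgebra.toModule = 2 ∧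
      @Algebra.IsSeparable (CohB1.ProjSpace 1 k).functionField C.functionField _ _
        (ffMap f hξ).hom.toAlgebra := by
  obtain ⟨pd⟩ := Groth.Agent.Helper4.SN676.exists_placeData k C hdim h0
  have hreg : ∀ x : C, IsRegularLocalRing (C.presheaf.stalk x) := fun x => regular_of_smooth k x
  obtain ⟨f, hξ, hf, hfin, hflat, hrk, hφ⟩ :=
    Groth.Agent.Helper4.SN688.exists_cover_of_finrank k hdim hreg pd.hK t ht 2 hfr
  have hfr2 : @Module.finrank (CohB1.ProjSpace 1 k).functionField C.functionField _ _
      (ffMap f hξ).hom.toAlgebra.toModule = 2 := by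
    rw [hφ]
    exact (finrank_phi k C.functionField t ht).trans hfr
  have hsep := Groth.Agent.Helper4.SN690.isSeparable_of_finrank_prime k hdim h0 hg f hf hξ 2
    Nat.prime_two hfr2
  exact ⟨f, hξ, hf, hfin, hflat, hrk, hφ, hfr2, hsep⟩

/-- the S11576/S11577 shape of the conclusion -/
theorem exists_hyperelliptic_of_function
    (hdim : topologicalKrullDim C = 1)
    (h0 : Module.finrank k (Coh.HH C (Coh.structureModule C) 0) = 1)
    (hg : 1 ≤ Curv2.genus k C)
    (t : C.functionField) (ht : Transcendental k t)
    (hfr : Module.finrank k⟮t⟯ C.functionField = 2) :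
    ∃ f : C ⟶ CohB1.ProjSpace 1 k,
      f ≫ CohB1.ProjSpace.toSpec 1 k = C ↘ (Spec (CommRingCat.of k)) ∧ IsFinite f ∧
      f.residueDegree (genericPoint C) = 2 ∧
      @Algebra.IsSeparable ((CohB1.ProjSpace 1 k).residueField (f (genericPoint C)))
        (C.residueField (genericPoint C)) _ _
        (f.residueFieldMap (genericPoint C)).hom.toAlgebra := by
  obtain ⟨f, hξ, hf, hfin, -, -, -, hfr2, hsep⟩ :=
    exists_separable_double_cover' k hdim h0 hg t ht hfr
  obtain ⟨h1, h2⟩ := generic_data f hξ 2 hfr2 hsep
  exact ⟨f, hf, hfin, h1, h2⟩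

/-- **S11577** -/
theorem main11577
    (hdim : topologicalKrullDim C = 1)
    (h0 : Module.finrank k (Coh.HH C (Coh.structureModule C) 0) = 1)
    (hg : Curv2.genus k C = 1)
    (hs : ∃ s : Spec (CommRingCat.of k) ⟶ C, s ≫ (C ↘ (Spec (CommRingCat.of k))) = 𝟙 _) :
    ∃ f : C ⟶ CohB1.ProjSpace 1 k,
      f ≫ CohB1.ProjSpace.toSpec 1 k = C ↘ (Spec (CommRingCat.of k)) ∧ IsFinite f ∧
      f.residueDegree (genericPoint C) = 2 ∧
      @Algebra.IsSeparable ((CohB1.ProjSpace 1 k).residueField (f (genericPoint C)))
        (C.residueField (genericPoint C)) _ _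
        (f.residueFieldMap (genericPoint C)).hom.toAlgebra := by
  obtain ⟨pd⟩ := Groth.Agent.Helper4.SN676.exists_placeData k C hdim h0
  have hgen := Groth.Agent.Helper4.SN560.genus_eq pd
  obtain ⟨s, hs⟩ := hs
  have hx : IsClosed ({s (IsLocalRing.closedPoint k)} : Set C) := isClosed_of_section k s hs
  have hκ : Module.finrank k (C.residueField (s (IsLocalRing.closedPoint k))) = 1 :=
    finrank_residueField_of_section k s hs
  have hP : (pd.pl ⟨_, hx⟩).deg = 1 := by rw [pd.deg]; exact hκ
  obtain ⟨t, ht, hfr⟩ := exists_finrank_two_of_genus_one pd.hK (by rw [← hgen, hg]) _ hP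
  exact exists_hyperelliptic_of_function k hdim h0 (by rw [hg]) t ht hfr

end Groth.Agent.Helper4.SN691
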