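import Mathlib
import Groth.Agent.Helper4.SN691
import Groth.Agent.Helper4.SN675
import Groth.Agent.Helper4.SN676
import Groth.Agent.Helper4.SN552
import Groth.Agent.Helper4.SN553
import Groth.Agent.Helper4.SN555
import Groth.Agent.Helper4.SN559

/-!
# Hyperelliptic ⟺ an invertible module of degree two with two sections
-/

set_option autoImplicit false
set_option linter.style.haveILetI false
set_option linter.unusedSectionVars false
universe u
open CategoryTheory CategoryTheory.Limits AlgebraicGeometry TopologicalSpace Opposite FunFld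
open scoped IntermediateField

namespace Groth.Agent.Helper4.SN692

section FF

open Groth.Agent.Helper5.FF Groth.Agent.Helper4.SN674 Groth.Agent.Helper4.SN675 Polynomial

variable {k K : Type*} [Field k] [Field K] [Algebra k K]

theorem transcendental_of_finrank_pos (hK : IsFunctionField k K) {t : K}
    (h2 : 0 < Module.finrank k⟮t⟯ K) : Transcendental k t := by
  intro halg
  obtain ⟨x₀, hx₀, hfd⟩ := hK.1
  haveI : FiniteDimensional k⟮t⟯ K := Module.finite_of_finrank_pos h2
  haveI : Algebra.IsAlgebraic k k⟮t⟯ :=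
    IntermediateField.isAlgebraic_adjoin_simple halg.isIntegral
  haveI : Algebra.IsAlgebraic k K := Algebra.IsAlgebraic.trans k k⟮t⟯ K
  exact hx₀ (Algebra.IsAlgebraic.isAlgebraic x₀)

/-- on a function field of positive genus and degree two over `k(t)`, the pole divisor of `t` has
exactly two sections -/
theorem ell_poleDiv_eq_two (hK : IsFunctionField k K) {t : K} (ht : Transcendental k t)
    (h2 : Module.finrank k⟮t⟯ K = 2) (hg1 : 1 ≤ genus k K) : ell (poleDiv k t) = 2 := by
  have heq : L (poleDiv k t) = polySpan k t 1 := by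
    apply le_antisymm
    · intro z hz
      have hz1 : z ∈ L (1 • poleDiv k t) := by rwa [one_nsmul]
      have hle : poleDiv k t ≤ genus k K • poleDiv k t := by
        intro P
        have h0 : 0 ≤ poleDiv k t P := poleDiv_nonneg (k := k) t P
        rw [Finsupp.smul_apply, nsmul_eq_mul]
        have : (1 : ℤ) ≤ (genus k K : ℤ) := by exact_mod_cast hg1
        nlinarith
      have hzg : z ∈ L (genus k K • poleDiv k t) := L_mono hle hz
      rw [← polySpan_eq_L hK ht h2 hg1] at hzg
      have hzk : z ∈ k⟮t⟯ := polySpan_le_adjoin t _ hzg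
      obtain ⟨p, hp, hpz⟩ := exists_polynomial_of_mem hK ht 1 hzk hz1
      exact mem_polySpan.mpr ⟨p, hp, hpz⟩
    · have := polySpan_le_L hK t 1
      rwa [one_nsmul] at this
  unfold ell
  rw [heq, finrank_polySpan ht]

end FF

open Groth.Agent.Helper4.SN Groth.Agent.Helper4.SN550 Groth.Agent.Helper5

attribute [local instance] Curv2.stalkAlgebra Curv2.resAlgebra

variable (k : Type u) [Field k] (X : Scheme.{u})
  [X.Over (Spec (CommRingCat.of k))] [IsIntegral X]
  [Smooth (X ↘ (Spec (CommRingCat.of k)))]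

/-- **S11576** -/
theorem main11576
    (hprojX : ∃ (N : ℕ) (i : X ⟶ CohB1.ProjSpace N k), IsClosedImmersion i ∧
      i ≫ CohB1.ProjSpace.toSpec N k = X ↘ (Spec (CommRingCat.of k)))
    (hdX : topologicalKrullDim X = 1)
    (hX0 : Module.finrank k (Coh.HH X (Coh.structureModule X) 0) = 1)
    (hg : 1 ≤ Curv2.genus k X) :
    (∃ f : X ⟶ CohB1.ProjSpace 1 k,
      f ≫ CohB1.ProjSpace.toSpec 1 k = X ↘ (Spec (CommRingCat.of k)) ∧ IsFinite f ∧
      f.residueDegree (genericPoint X) = 2 ∧
      @Algebra.IsSeparable ((CohB1.ProjSpace 1 k).residueField (f (genericPoint X)))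
        (X.residueField (genericPoint X)) _ _
        (f.residueFieldMap (genericPoint X)).hom.toAlgebra) ↔
      ∃ L : X.Modules, PicF.IsInvertible L ∧ Curv2.deg k X L 1 = 2 ∧
        Module.finrank k (Coh.HH X L 0) = 2 := by
  have hproj' := hprojX
  obtain ⟨N, i, hi, hik⟩ := hproj'
  haveI : IsProper (X ↘ (Spec (CommRingCat.of k))) := by
    rw [← hik]
    haveI := Groth.Agent.Helper6.HProj.isProper_toSpec N k
    infer_instance
  obtain ⟨pd⟩ := Groth.Agent.Helper4.SN676.exists_placeData k X hdX hX0
  have hK := pd.hK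
  have hgen := Groth.Agent.Helper4.SN560.genus_eq pd
  have hg1 : 1 ≤ genus k X.functionField := by rw [← hgen]; exact hg
  constructor
  · rintro ⟨f, hf, hfin, hdeg, hsep⟩
    haveI := hfin
    obtain ⟨t, -, -, -, -, h2, -⟩ := Groth.Agent.Helper4.SN676.main11584 k X hprojX hdX hX0 _ rfl hg
      f hf hdeg hsep
    have ht : Transcendental k t := transcendental_of_finrank_pos hK (by rw [h2]; norm_num)
    obtain ⟨L, s, hL, hdiv⟩ := Groth.Agent.Helper4.SN553.exists_isDiv_of_divisor pd
      (Groth.Agent.Helper4.SN674.poleDiv k t)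
    refine ⟨L, hL, ?_, ?_⟩
    · rw [Groth.Agent.Helper4.SN552.deg_eq_of_isDiv pd L hL s _ hdiv,
        Groth.Agent.Helper4.SN675.deg_poleDiv hK ht h2]
    · rw [Groth.Agent.Helper4.SN559.finrank_h0_eq_ell pd L hL s _ hdiv,
        ell_poleDiv_eq_two hK ht h2 hg1]
  · rintro ⟨L, hL, hdeg, hh0⟩
    obtain ⟨s, hs0, -⟩ := Groth.Agent.Helper4.SN555.exists_gen L hL
    obtain ⟨D, hdiv⟩ := Groth.Agent.Helper4.SN550.exists_isDiv pd L hL s hs0
    have hD : D.deg = 2 := by
      rw [← Groth.Agent.Helper4.SN552.deg_eq_of_isDiv pd L hL s D hdiv, hdeg]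
    have hell : 2 ≤ ell D := by
      rw [← Groth.Agent.Helper4.SN559.finrank_h0_eq_ell pd L hL s D hdiv, hh0]
    obtain ⟨t, ht, hfr⟩ := Groth.Agent.Helper4.SN691.exists_finrank_two_of_divisor hK hg1 D hD hell
    exact Groth.Agent.Helper4.SN691.exists_hyperelliptic_of_function k hdX hX0 hg t ht hfr

end Groth.Agent.Helper4.SN692
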