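import Mathlib
import Groth.Agent.Helper4.SN692

/-!
# The canonical system of a double cover of the projective line lies in `u · k(t)`
-/

set_option autoImplicit false
set_option linter.style.haveILetI false
set_option linter.unusedSectionVars false
open FunFld Polynomial
open scoped IntermediateField

namespace Groth.Agent.Helper4.SN693

open Groth.Agent.Helper5.FF Groth.Agent.Helper4.SN674 Groth.Agent.Helper4.SN675

variable {k K : Type*} [Field k] [Field K] [Algebra k K]

section Deg2

variable (hK : IsFunctionField k K) {t : K} (ht : Transcendental k t)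
  (h2 : Module.finrank k⟮t⟯ K = 2)
include hK ht h2

/-- `L(n (t)_∞)` consists of the polynomials of degree at most `n`, for `n ≤ g` -/
theorem L_nsmul_poleDiv_eq (hg1 : 1 ≤ genus k K) (n : ℕ) (hn : n ≤ genus k K) :
    L (n • poleDiv k t) = polySpan k t n := by
  apply le_antisymm
  · intro z hz
    have hle : n • poleDiv k t ≤ genus k K • poleDiv k t := by
      intro P
      have h0 : 0 ≤ poleDiv k t P := poleDiv_nonneg (k := k) t P
      rw [Finsupp.smul_apply, Finsupp.smul_apply, nsmul_eq_mul, nsmul_eq_mul]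
      have : (n : ℤ) ≤ (genus k K : ℤ) := by exact_mod_cast hn
      nlinarith
    have hzg : z ∈ L (genus k K • poleDiv k t) := L_mono hle hz
    rw [← polySpan_eq_L hK ht h2 hg1] at hzg
    have hzk : z ∈ k⟮t⟯ := polySpan_le_adjoin t _ hzg
    obtain ⟨p, hp, hpz⟩ := exists_polynomial_of_mem hK ht n hzk hz
    exact mem_polySpan.mpr ⟨p, hp, hpz⟩
  · exact polySpan_le_L hK t n

/-- `(g - 1) (t)_∞` is a canonical divisor -/
theorem isCanonical_poleDiv (hg1 : 1 ≤ genus k K) :
    IsCanonical k K ((genus k K - 1) • poleDiv k t) := by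
  rw [isCanonical_iff hK]
  constructor
  · unfold ell
    rw [L_nsmul_poleDiv_eq hK ht h2 hg1 _ (Nat.sub_le _ _), finrank_polySpan ht]
    omega
  · rw [deg_nsmul, deg_poleDiv hK ht h2]
    push_cast [hg1]
    ring

/-- **all ratios of elements of the canonical system lie in `k(t)`** -/
theorem div_mem_adjoin_of_isCanonical (hg1 : 1 ≤ genus k K) (W : Divisor k K)
    (hW : IsCanonical k K W) (u v : K) (hu : u ∈ L W) (hv : v ∈ L W) : u / v ∈ k⟮t⟯ := by
  obtain ⟨x, hx0, hx⟩ := isCanonical_sub hK _ W (isCanonical_poleDiv hK ht h2 hg1) hW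
  rw [hx, ← mul_mem_L_iff hK _ x _ hx0,
    L_nsmul_poleDiv_eq hK ht h2 hg1 _ (Nat.sub_le _ _)] at hu hv
  have hu' := polySpan_le_adjoin t _ hu
  have hv' := polySpan_le_adjoin t _ hv
  have : u / v = (x * u) / (x * v) := by
    rw [mul_div_mul_left _ _ hx0]
  rw [this]
  exact div_mem hu' hv'

end Deg2

end Groth.Agent.Helper4.SN693
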