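import Mathlib

/-!
# The dimension of a proper closed subspace of an irreducible space
-/

set_option autoImplicit false
open TopologicalSpace Topology

namespace Groth.Agent.Helper4.SN694

/-- a proper closed subspace of an irreducible space has smaller dimension -/
theorem dim_add_one_le_of_isClosedEmbedding {X Y : Type*} [TopologicalSpace X] [TopologicalSpace Y]
    [IrreducibleSpace Y] {f : X → Y} (hf : IsClosedEmbedding f) (hne : Set.range f ≠ Set.univ) :
    topologicalKrullDim X + 1 ≤ topologicalKrullDim Y := by
  by_cases hX : Nonempty X
  · haveI : Nonempty (IrreducibleCloseds X) :=
      ⟨⟨closure {Classical.choice hX}, isIrreducible_singleton.closure, isClosed_closure⟩⟩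
    unfold topologicalKrullDim
    rw [← Order.krullDim_WithTop]
    let top : IrreducibleCloseds Y :=
      ⟨Set.univ, IrreducibleSpace.isIrreducible_univ Y, isClosed_univ⟩
    let g : WithTop (IrreducibleCloseds X) → IrreducibleCloseds Y := fun z =>
      WithTop.recTopCoe top (fun Z => IrreducibleCloseds.map f hf.continuous Z) z
    apply Order.krullDim_le_of_strictMono g
    intro a b hab
    induction a using WithTop.recTopCoe with
    | top => exact absurd hab (not_top_lt)
    | coe a =>
      induction b using WithTop.recTopCoe with
      | top =>
        show IrreducibleCloseds.map f hf.continuous a < top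
        apply lt_of_le_of_ne
        · intro y _; trivial
        · intro h
          apply hne
          have h1 : (IrreducibleCloseds.map f hf.continuous a : Set Y) = Set.univ :=
            congrArg (fun Z : IrreducibleCloseds Y => (Z : Set Y)) h
          rw [IrreducibleCloseds.coe_map] at h1
          have h2 : closure (f '' (a : Set X)) ⊆ Set.range f :=
            closure_minimal (Set.image_subset_range f _) hf.isClosed_range
          rw [h1] at h2
          exact Set.eq_univ_of_univ_subset h2
      | coe b =>
        show IrreducibleCloseds.map f hf.continuous a < IrreducibleCloseds.map f hf.continuous b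
        exact IrreducibleCloseds.map_strictMono_of_isInducing hf.isInducing
          (WithTop.coe_lt_coe.mp hab)
  · haveI : IsEmpty X := not_nonempty_iff.mp hX
    haveI : IsEmpty (IrreducibleCloseds X) := ⟨fun Z => by
      obtain ⟨x, _⟩ := Z.isIrreducible.nonempty
      exact isEmptyElim x⟩
    unfold topologicalKrullDim
    rw [Order.krullDim_eq_bot]
    exact bot_le

end Groth.Agent.Helper4.SN694
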