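import Mathlib
import Groth.Agent.S7840
import Groth.Agent.Helper1.Hyp9
import Groth.Agent.Helper4.SN694
import Groth.Agent.Helper4.SN107
import Groth.Agent.Helper4.SN267
import Groth.Agent.Helper4.SN5
import Groth.Agent.Helper4.SN42

/-!
# Smooth plane curves: integrality, dimension, genus
-/

set_option autoImplicit false
set_option linter.style.haveILetI false
set_option linter.unusedSectionVars false
universe u
open CategoryTheory CategoryTheory.Limits AlgebraicGeometry TopologicalSpace Opposite

namespace Groth.Agent.Helper4.SN695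

open Groth.Agent.Helper4.SN

theorem le_of_add_one_le' (x : WithBot ℕ∞) (n : ℕ)
    (h : x + 1 ≤ ((n + 1 : ℕ) : WithBot ℕ∞)) : x ≤ (n : WithBot ℕ∞) := by
  induction x using WithBot.recBotCoe with
  | bot => exact bot_le
  | coe e =>
    induction e using ENat.recTopCoe with
    | top =>
      exfalso
      have h1 : ((⊤ : ℕ∞) : WithBot ℕ∞) + 1 = ((⊤ : ℕ∞) : WithBot ℕ∞) := by
        rw [← WithBot.coe_one, ← WithBot.coe_add, top_add]
      rw [h1] at h
      have h2 : ((n + 1 : ℕ) : WithBot ℕ∞) = (((n + 1 : ℕ) : ℕ∞) : WithBot ℕ∞) := rfl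
      rw [h2, WithBot.coe_le_coe] at h
      exact absurd h (by simp)
    | coe m =>
      have h1 : (((m : ℕ∞) : WithBot ℕ∞) + 1) = (((m + 1 : ℕ) : ℕ∞) : WithBot ℕ∞) := by
        push_cast; rfl
      have h2 : ((n + 1 : ℕ) : WithBot ℕ∞) = (((n + 1 : ℕ) : ℕ∞) : WithBot ℕ∞) := rfl
      rw [h1, h2, WithBot.coe_le_coe, Nat.cast_le] at h
      have h3 : ((n : ℕ) : WithBot ℕ∞) = (((n : ℕ) : ℕ∞) : WithBot ℕ∞) := rfl
      rw [h3, WithBot.coe_le_coe, Nat.cast_le]
      omega

theorem le_zero_of_lt_one' (x : WithBot ℕ∞) (h : x < 1) : x ≤ ((0 : ℕ) : WithBot ℕ∞) := by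
  induction x using WithBot.recBotCoe with
  | bot => exact bot_le
  | coe e =>
    induction e using ENat.recTopCoe with
    | top =>
      exfalso
      rw [← WithBot.coe_one, WithBot.coe_lt_coe] at h
      exact absurd h (by simp)
    | coe m =>
      rw [← WithBot.coe_one, WithBot.coe_lt_coe] at h
      have h3 : ((0 : ℕ) : WithBot ℕ∞) = (((0 : ℕ) : ℕ∞) : WithBot ℕ∞) := rfl
      rw [h3, WithBot.coe_le_coe, Nat.cast_le]
      have : (m : ℕ∞) < ((1 : ℕ) : ℕ∞) := by simpa using h
      rw [Nat.cast_lt] at this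
      omega

variable (k : Type u) [Field k] {r : ℕ}

/-- the point of `P^r` corresponding to the zero ideal -/
noncomputable def zeroPt (r : ℕ) : ProjectiveSpectrum (CohB1.polyGrading r k) where
  asHomogeneousIdeal := ⊥
  isPrime := by
    show (⊥ : Ideal (MvPolynomial (Fin (r + 1)) k)).IsPrime
    exact Ideal.isPrime_bot
  not_irrelevant_le := by
    intro h
    have h1 := h (X_mem_irrelevant_Pn k r 0)
    have h2 : (MvPolynomial.X 0 : MvPolynomial (Fin (r + 1)) k) ∈
        (⊥ : Ideal (MvPolynomial (Fin (r + 1)) k)) := h1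
    exact MvPolynomial.X_ne_zero 0 ((Ideal.mem_bot).1 h2)

variable {k}

/-- a hypersurface is not the whole projective space -/
theorem range_subschemeι_ne_univ {d : ℕ} (G : LefPen.Form r k d) (hG : G ≠ 0) :
    Set.range (LefPen.hypIdeal G).subschemeι ≠ Set.univ := by
  intro h
  rw [Scheme.IdealSheafData.range_subschemeι] at h
  have h1 : (zeroPt k r : CohB1.ProjSpace r k) ∈
      ((LefPen.hypIdeal G).support : Set (CohB1.ProjSpace r k)) := by rw [h]; trivial
  have h2 := (Groth.Agent.Helper1.Hyp.mem_support_hypIdeal_iff G _).1 h1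
  have h3 : G.1 ∈ (⊥ : Ideal (MvPolynomial (Fin (r + 1)) k)) := h2
  exact hG (Subtype.ext ((Ideal.mem_bot).1 h3))

/-- a hypersurface in `P^r` has dimension at most `r - 1` -/
theorem dim_add_one_le {d : ℕ} (G : LefPen.Form r k d) (hG : G ≠ 0) :
    topologicalKrullDim (LefPen.hypIdeal G).subscheme + 1 ≤ (r : WithBot ℕ∞) := by
  haveI : IrreducibleSpace (CohB1.ProjSpace r k) := inferInstance
  refine (Groth.Agent.Helper4.SN694.dim_add_one_le_of_isClosedEmbedding
    (LefPen.hypIdeal G).subschemeι.isClosedEmbedding (range_subschemeι_ne_univ G hG)).trans ?_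
  exact Groth.Agent.Helper4.SN267.dim_le k r

section Curve

variable {d : ℕ} (G : LefPen.Form 2 k d)
  [inst : ((LefPen.hypIdeal G).subscheme).Over (Spec (CommRingCat.of k))]
  (hinst : (LefPen.hypIdeal G).subscheme ↘ (Spec (CommRingCat.of k)) =
    (LefPen.hypIdeal G).subschemeι ≫ CohB1.ProjSpace.toSpec 2 k)

include hinst in
theorem isProper_planeCurve :
    IsProper ((LefPen.hypIdeal G).subscheme ↘ (Spec (CommRingCat.of k))) := by
  rw [hinst]
  haveI := Groth.Agent.Helper6.HProj.isProper_toSpec 2 k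
  infer_instance

include hinst in
/-- a plane curve of degree at least three has dimension one -/
theorem dim_planeCurve (hd : 3 ≤ d) (hG : G ≠ 0) :
    topologicalKrullDim (LefPen.hypIdeal G).subscheme = 1 := by
  haveI := isProper_planeCurve G hinst
  haveI := Groth.Agent.Helper4.NApx82.isNoetherian_of_proper k (LefPen.hypIdeal G).subscheme
  obtain ⟨-, -, h1⟩ := Groth.Agent.S7840.result k d (by omega) G hG hinst
  have hle : topologicalKrullDim (LefPen.hypIdeal G).subscheme ≤ 1 := by
    have h2 := dim_add_one_le G hG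
    exact le_of_add_one_le' _ 1 h2
  apply le_antisymm hle
  by_contra hcon
  rw [not_le] at hcon
  have h0 : topologicalKrullDim (LefPen.hypIdeal G).subscheme ≤ ((0 : ℕ) : WithBot ℕ∞) :=
    le_zero_of_lt_one' _ hcon
  haveI := subsingleton_HH_of_dim 0 h0
    (Coh.structureModule (LefPen.hypIdeal G).subscheme) 1 (by norm_num)
  rw [Module.finrank_zero_of_subsingleton] at h1
  have h5 : 2 ≤ (d - 1) * (d - 2) := by
    have : 2 ≤ d - 1 := by omega
    have : 1 ≤ d - 2 := by omega
    nlinarith
  omega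

include hinst in
theorem isIntegral_planeCurve (hd : 1 ≤ d) (hG : G ≠ 0)
    [Smooth ((LefPen.hypIdeal G).subscheme ↘ (Spec (CommRingCat.of k)))] :
    IsIntegral (LefPen.hypIdeal G).subscheme := by
  haveI := isProper_planeCurve G hinst
  haveI := Groth.Agent.Helper4.NApx82.isNoetherian_of_proper k (LefPen.hypIdeal G).subscheme
  obtain ⟨-, hconn, -⟩ := Groth.Agent.S7840.result k d hd G hG hinst
  haveI := hconn
  apply isIntegral_of_connected_of_isDomain_stalk
  intro x
  haveI := regular_of_smooth k x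
  exact Groth.Agent.Lead.RegLocal.isDomain_of_isRegularLocalRing _

end Curve

end Groth.Agent.Helper4.SN695
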