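import Mathlib
import Groth.Agent.Helper4.SN695
import Groth.Agent.S19434
import Groth.Agent.Helper1.CIMV3
import Groth.Agent.Helper1.Hyp6

/-!
# Cohomology of the twists `O_X(n)` of a plane curve
-/

set_option autoImplicit false
set_option linter.style.haveILetI false
set_option linter.unusedSectionVars false
universe u
open CategoryTheory CategoryTheory.Limits AlgebraicGeometry TopologicalSpace Opposite

namespace Groth.Agent.Helper4.SN696

variable {k : Type u} [Field k] {d : ℕ} (G : LefPen.Form 2 k d)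
  [inst : ((LefPen.hypIdeal G).subscheme).Over (Spec (CommRingCat.of k))]
  (hinst : (LefPen.hypIdeal G).subscheme ↘ (Spec (CommRingCat.of k)) =
    (LefPen.hypIdeal G).subschemeι ≫ CohB1.ProjSpace.toSpec 2 k)

/-- the twist `O_X(n)` of the plane curve -/
noncomputable abbrev OX (n : ℤ) : (LefPen.hypIdeal G).subscheme.Modules :=
  (Scheme.Modules.pullback (LefPen.hypIdeal G).subschemeι).obj (Twist.twistProjSpace 2 k n)

/-- the function `a(m) = C(m+2, 2) - C(m-d+2, 2)` -/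
def aa (d : ℕ) (m : ℤ) : ℕ :=
  Nat.choose (m + 2).toNat 2 - Nat.choose (m - (d : ℤ) + 2).toNat 2

include hinst in
/-- `H^p(X, O_X(n)) ≃ H^p(P², (O/I) ⊗ O(n))` -/
theorem nonempty_HH_equiv (n : ℤ) (p : ℕ) :
    Nonempty (Coh.HH (LefPen.hypIdeal G).subscheme (OX G n) p ≃ₗ[k]
      Coh.HH (CohB1.ProjSpace 2 k)
        (CohB1.tensorMod (ClSub.quotMod (LefPen.hypIdeal G)) (Twist.twistProjSpace 2 k n)) p) := by
  haveI : Coh.IsQCoh ((Scheme.Modules.pullback (LefPen.hypIdeal G).subschemeι).obj (Twist.twistProjSpace 2 k n)) :=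
    (Groth.Agent.Helper1.Dev.isCoh_pullback (LefPen.hypIdeal G).subschemeι _
      (Groth.Agent.Helper1.SerreFin.isCoh_twist 2 k n)).1
  obtain ⟨σ, -⟩ := Groth.Agent.Helper1.AffLin.exists_HH_linearEquiv_end (LefPen.hypIdeal G).subschemeι k
    (show (LefPen.hypIdeal G).subschemeι ≫ (CohB1.ProjSpace 2 k ↘ Spec (CommRingCat.of k)) = _ from hinst.symm)
    ((Scheme.Modules.pullback (LefPen.hypIdeal G).subschemeι).obj (Twist.twistProjSpace 2 k n)) p
  have hiso : IsIso (Groth.Agent.Helper1.PF.projMap (LefPen.hypIdeal G).subschemeι (Coh.structureModule (LefPen.hypIdeal G).subscheme)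
      (Twist.twistProjSpace 2 k n)) :=
    Groth.Agent.Helper9.ClImmPF1.isIso_projMap (LefPen.hypIdeal G).subschemeι _ _
  let e : CohB1.tensorMod (ClSub.quotMod (LefPen.hypIdeal G)) (Twist.twistProjSpace 2 k n) ≅
      (Scheme.Modules.pushforward (LefPen.hypIdeal G).subschemeι).obj
        ((Scheme.Modules.pullback (LefPen.hypIdeal G).subschemeι).obj (Twist.twistProjSpace 2 k n)) :=
    @asIso _ _ _ _ (Groth.Agent.Helper1.PF.projMap (LefPen.hypIdeal G).subschemeι (Coh.structureModule (LefPen.hypIdeal G).subscheme)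
      (Twist.twistProjSpace 2 k n)) hiso ≪≫
    (Scheme.Modules.pushforward (LefPen.hypIdeal G).subschemeι).mapIso
      (Groth.Agent.Helper4.AmpleBasis.unitorL _)
  exact ⟨σ.trans (Groth.Agent.Helper1.ProjTop.HHlinEquiv k e p).symm⟩

include hinst in
/-- the dimensions of the cohomology of `O_X(n)` -/
theorem finrank_HH_OX (hd : 1 ≤ d) (hG : G ≠ 0) (n : ℤ) :
    Module.finrank k (Coh.HH (LefPen.hypIdeal G).subscheme (OX G n) 0) = aa d n ∧
    Module.finrank k (Coh.HH (LefPen.hypIdeal G).subscheme (OX G n) 1) =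
      aa d ((d : ℤ) - 3 - n) := by
  have hG0 : G.1 ≠ 0 := fun h => hG (Subtype.ext h)
  obtain ⟨e⟩ := Groth.Agent.Helper1.Hyp.nonempty_idealMod_hypIdeal_iso G hG0
  obtain ⟨-, ⟨-, h0⟩, ⟨-, h1⟩⟩ :=
    Groth.Agent.S19434.result k 1 d le_rfl hd (LefPen.hypIdeal G) ⟨e⟩ n
  obtain ⟨σ0⟩ := nonempty_HH_equiv G hinst n 0
  obtain ⟨σ1⟩ := nonempty_HH_equiv G hinst n 1
  constructor
  · rw [σ0.finrank_eq]
    refine h0.trans ?_
    unfold aa
    norm_num
  · rw [σ1.finrank_eq]
    refine h1.trans ?_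
    unfold aa
    have e1 : (d : ℤ) - 2 - ((1 : ℕ) : ℤ) - n + (((1 : ℕ) : ℤ) + 1) = (d : ℤ) - 3 - n + 2 := by
      push_cast; ring
    have e2 : (d : ℤ) - 2 - ((1 : ℕ) : ℤ) - n - (d : ℤ) + (((1 : ℕ) : ℤ) + 1) =
        (d : ℤ) - 3 - n - (d : ℤ) + 2 := by
      push_cast; ring
    rw [e1, e2]

end Groth.Agent.Helper4.SN696
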