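import Mathlib
import Groth.Agent.Helper4.SN696
import Groth.Agent.Helper4.SN693
import Groth.Agent.Helper4.SN676
import Groth.Agent.Helper4.SN560
import Groth.Agent.Helper4.SN10
import Groth.Agent.Helper4.PullSec

/-!
# `O_X(d - 3)` is the canonical class of a smooth plane curve of degree `d` (numerically)
-/

set_option autoImplicit false
set_option linter.style.haveILetI false
set_option linter.unusedSectionVars false
universe u
open CategoryTheory CategoryTheory.Limits AlgebraicGeometry TopologicalSpace Opposite FunFld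

namespace Groth.Agent.Helper4.SN697

open Groth.Agent.Helper4.SN Groth.Agent.Helper4.SN550 Groth.Agent.Helper4.SN695
  Groth.Agent.Helper4.SN696 Groth.Agent.Helper5.FF

attribute [local instance] Curv2.stalkAlgebra Curv2.resAlgebra

variable {k : Type u} [Field k] {d : ℕ} (G : LefPen.Form 2 k d)
  [inst : ((LefPen.hypIdeal G).subscheme).Over (Spec (CommRingCat.of k))]
  (hinst : (LefPen.hypIdeal G).subscheme ↘ (Spec (CommRingCat.of k)) =
    (LefPen.hypIdeal G).subschemeι ≫ CohB1.ProjSpace.toSpec 2 k)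

theorem isInvertible_OX (n : ℤ) : PicF.IsInvertible (OX G n) :=
  Groth.Agent.Helper4.PullSec.isInvertible_pullback _
    (Groth.Agent.Helper1.SerreVan.isInvertible_twist 2 k n)

theorem aa_sub_three (hd : 3 ≤ d) : aa d ((d : ℤ) - 3) = (d - 1) * (d - 2) / 2 := by
  unfold aa
  have e1 : ((d : ℤ) - 3 + 2).toNat = d - 1 := by omega
  have e2 : ((d : ℤ) - 3 - (d : ℤ) + 2).toNat = 0 := by omega
  rw [e1, e2, Nat.choose_two_right]
  have : d - 1 - 1 = d - 2 := by omega
  rw [this]
  simp

theorem aa_zero (hd : 1 ≤ d) : aa d 0 = 1 := by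
  unfold aa
  have e1 : ((0 : ℤ) + 2).toNat = 2 := rfl
  have e2 : ((0 : ℤ) - (d : ℤ) + 2).toNat ≤ 1 := by
    rw [Int.toNat_le]; push_cast; omega
  have e3 : Nat.choose ((0 : ℤ) - (d : ℤ) + 2).toNat 2 = 0 :=
    Nat.choose_eq_zero_of_lt (by omega)
  rw [e1, e3]
  rfl

variable [IsIntegral (LefPen.hypIdeal G).subscheme]
  (pd : PlaceData k (LefPen.hypIdeal G).subscheme)

include hinst in
/-- **the divisor of any rational section of `O_X(d - 3)` is canonical** -/
theorem isCanonical_of_isDiv (hd : 3 ≤ d) (hG : G ≠ 0) (m : ℤ) (hm : m = (d : ℤ) - 3)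
    (t : (OX G m).presheaf.stalk (genericPoint (LefPen.hypIdeal G).subscheme))
    (D : Divisor k (LefPen.hypIdeal G).subscheme.functionField)
    (hD : IsDiv pd (OX G m) t D) :
    IsCanonical k (LefPen.hypIdeal G).subscheme.functionField D := by
  subst hm
  haveI := pd.hp
  haveI := Groth.Agent.Helper4.NApx82.isNoetherian_of_proper k (LefPen.hypIdeal G).subscheme
  have hL := isInvertible_OX G ((d : ℤ) - 3)
  obtain ⟨h0, -, h1⟩ := Groth.Agent.S7840.result k d (by omega) G hG hinst
  obtain ⟨hL0, hL1⟩ := finrank_HH_OX G hinst (by omega) hG ((d : ℤ) - 3)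
  rw [aa_sub_three hd] at hL0
  rw [sub_self, aa_zero (by omega)] at hL1
  have hgen := Groth.Agent.Helper4.SN560.genus_eq pd
  have hg : Curv2.genus k (LefPen.hypIdeal G).subscheme = (d - 1) * (d - 2) / 2 := h1
  have hg1 : 1 ≤ (d - 1) * (d - 2) / 2 := by
    have : 2 ≤ (d - 1) * (d - 2) := by
      have : 2 ≤ d - 1 := by omega
      have : 1 ≤ d - 2 := by omega
      nlinarith
    omega
  rw [isCanonical_iff pd.hK, ← hgen, hg]
  constructor
  · rw [← Groth.Agent.Helper4.SN559.finrank_h0_eq_ell pd _ hL t D hD, hL0]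
  · rw [← Groth.Agent.Helper4.SN552.deg_eq_of_isDiv pd _ hL t D hD]
    unfold Curv2.deg
    have e1 := chi_eq_h0_sub_h1 k pd.hdim.le (OX G ((d : ℤ) - 3))
    have e2 := chi_eq_h0_sub_h1 k pd.hdim.le (Coh.structureModule (LefPen.hypIdeal G).subscheme)
    unfold chi at e1 e2
    rw [e1, e2, hL0, hL1, h0, h1]
    push_cast [hg1]
    ring

end Groth.Agent.Helper4.SN697
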