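import Mathlib
import Groth.Agent.Helper4.SN413
import Groth.Agent.Helper4.SN417
import Groth.Agent.Helper4.SN559
import Groth.Agent.Helper4.SN264
import Groth.Agent.Helper4.SN244
import Groth.Agent.Helper4.SN610

/-!
# Closed subschemes of projective space: the coordinate functions lie in the complete linear
system of `O(n)` and generate the function field
-/

set_option autoImplicit false
set_option linter.style.haveILetI false
set_option linter.unusedSectionVars false
universe u
open CategoryTheory CategoryTheory.Limits AlgebraicGeometry TopologicalSpace Opposite FunFld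
  HomogeneousLocalization

namespace Groth.Agent.Helper4.SN698

open Groth.Agent.Helper4.TwistExt Groth.Agent.Helper4.SN413 Groth.Agent.Helper4.SN417
  Groth.Agent.Helper4.PullTensor Groth.Agent.Helper4.SN549 Groth.Agent.Helper4.SN550
  Groth.Agent.Helper4.StalkDict Groth.Agent.Helper4.SN260

section Frame

variable {X X' : Scheme.{u}} (π : X' ⟶ X)

/-- the pullback of a frame is a frame -/
theorem isFrame_pull {M : X.Modules} {T : X.Opens} {e : Γ(M, T)} (he : IsFrame M T e) :
    IsFrame ((Scheme.Modules.pullback π).obj M) (π ⁻¹ᵁ T) ((η π M).app T e) := by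
  obtain ⟨ε, hε⟩ := exists_triv_of_isFrame he
  have h1 := isFrame_η π M T ε
  rw [hε] at h1
  have hle : π ⁻¹ᵁ (T.ι ''ᵁ ⊤) ≤ π ⁻¹ᵁ T := fun _ hx => (Scheme.Opens.ι_image_top T).le hx
  have hge : π ⁻¹ᵁ T ≤ π ⁻¹ᵁ (T.ι ''ᵁ ⊤) := fun _ hx => (Scheme.Opens.ι_image_top T).ge hx
  exact isFrame_of_res_eq hle hge _ _
    (η_res π M (Scheme.Opens.ι_image_top T).le e).symm h1

end Frame

section Div

variable {k : Type u} [Field k] {X : Scheme.{u}} [X.Over (Spec (CommRingCat.of k))]
  [IsIntegral X] (pd : PlaceData k X)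

attribute [local instance] Curv2.stalkAlgebra Curv2.resAlgebra

/-- a rational function `f` such that `f • t` is the germ of a global section lies in `L(D)` -/
theorem mem_L_of_germ_eq {L : X.Modules} {t : L.presheaf.stalk (genericPoint X)}
    {D : Divisor k X.functionField} (h : IsDiv pd L t D) (U : X.Opens) (hU : U = ⊤)
    (s : Γ(L, U)) (f : X.functionField)
    (hf : L.presheaf.germ U (genericPoint X) (by rw [hU]; trivial) s = f • t) :
    f ∈ FunFld.L D := by
  subst hU
  intro P
  obtain ⟨x, rfl⟩ := pd.pl.surjective P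
  rw [← h x f, ← hf]
  exact ⟨L.presheaf.germ ⊤ x.1 trivial s, sp_germ L x.1 ⊤ trivial s⟩

end Div

section Main

attribute [local instance] Curv2.stalkAlgebra Curv2.resAlgebra

variable {k : Type u} [Field k] {X : Scheme.{u}} [X.Over (Spec (CommRingCat.of k))]
  [IsIntegral X] (pd : PlaceData k X) {r : ℕ}
  (i : X ⟶ Proj (CohB1.polyGrading r k))
  (hi : i ≫ CohB1.ProjSpace.toSpec r k = X ↘ Spec (CommRingCat.of k))
  (n : ℕ) (j : Fin (r + 1))
  (hj : genericPoint X ∈ i ⁻¹ᵁ (Proj.basicOpen (CohB1.polyGrading r k)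
    (MvPolynomial.X j : MvPolynomial (Fin (r + 1)) k)))

/-- the pulled back twisting sheaf -/
noncomputable abbrev LL : X.Modules :=
  (Scheme.Modules.pullback i).obj (Twist.twist (CohB1.polyGrading r k) (n : ℤ))

/-- the pulled back standard frame on the chart -/
noncomputable def frameV :
    Γ(LL i n, i ⁻¹ᵁ (Proj.basicOpen (CohB1.polyGrading r k)
      (MvPolynomial.X j : MvPolynomial (Fin (r + 1)) k))) :=
  (η i (Twist.twist (CohB1.polyGrading r k) (n : ℤ))).app _
    (stdSec (CohB1.polyGrading r k) (n : ℤ) _ (LefPen.X_mem r k j) le_rfl)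

theorem isFrame_frameV : IsFrame (LL i n) _ (frameV i n j) :=
  isFrame_pull i (isFrame_stdSec (CohB1.polyGrading r k) (n : ℤ) _ (LefPen.X_mem r k j) le_rfl)

/-- the rational section of the pulled back twisting sheaf given by the `n`-th power of the
`j`-th coordinate -/
noncomputable def tSec : (LL i n).presheaf.stalk (genericPoint X) :=
  (LL i n).presheaf.germ _ (genericPoint X) hj (frameV i n j)

theorem tSec_ne_zero : tSec i n j hj ≠ 0 := by
  intro h0
  have := smul_gen_eq_zero (isFrame_frameV i n j) hj 1 (by rw [one_smul]; exact h0)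
  exact one_ne_zero this

/-- pulling back functions on the chart to rational functions -/
noncomputable def Psi : Away (CohB1.polyGrading r k)
    (MvPolynomial.X j : MvPolynomial (Fin (r + 1)) k) →+* X.functionField :=
  (X.presheaf.germ _ (genericPoint X) hj).hom.comp
    ((i.app _).hom.comp (Proj.awayToSection (CohB1.polyGrading r k) (MvPolynomial.X j)).hom)

/-- the pullback of the global section `F` of `O(n)` is `F / T_j ^ n` times the frame -/
theorem germ_pull_globalOf {F : MvPolynomial (Fin (r + 1)) k}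
    (hF : F ∈ CohB1.polyGrading r k n) :
    (LL i n).presheaf.germ (i ⁻¹ᵁ ⊤) (genericPoint X) trivial
        ((η i (Twist.twist (CohB1.polyGrading r k) (n : ℤ))).app ⊤
          (Twist.globalOf (CohB1.polyGrading r k) ⟨F, hF⟩)) =
      Psi i j hj (Away.mk (CohB1.polyGrading r k) (LefPen.X_mem r k j) n F
        (Groth.Agent.Helper4.SN264.mem_smul_one _ hF)) • tSec i n j hj := by
  have h1 := Groth.Agent.Helper4.SN264.res_globalOf_eq (CohB1.polyGrading r k)
    (LefPen.X_mem r k j) hF
  have h2 := congrArg ((η i (Twist.twist (CohB1.polyGrading r k) (n : ℤ))).app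
    (Proj.basicOpen (CohB1.polyGrading r k) (MvPolynomial.X j))) h1
  have h3 := η_res i (Twist.twist (CohB1.polyGrading r k) (n : ℤ))
    (le_top : Proj.basicOpen (CohB1.polyGrading r k) (MvPolynomial.X j) ≤ ⊤)
    (Twist.globalOf (CohB1.polyGrading r k) ⟨F, hF⟩)
  have h4 := η_smul i (Twist.twist (CohB1.polyGrading r k) (n : ℤ)) _
    ((Proj.awayToSection (CohB1.polyGrading r k) (MvPolynomial.X j)).hom
      (Away.mk (CohB1.polyGrading r k) (LefPen.X_mem r k j) n F
        (Groth.Agent.Helper4.SN264.mem_smul_one _ hF)))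
    (stdSec (CohB1.polyGrading r k) (n : ℤ) _ (LefPen.X_mem r k j) le_rfl)
  have h5 := h3.symm.trans (h2.trans h4)
  have h6 := congrArg ((LL i n).presheaf.germ _ (genericPoint X) hj) h5
  rw [TopCat.Presheaf.germ_res_apply] at h6
  refine h6.trans ?_
  exact germ_smul (LL i n) _ (genericPoint X) hj _ _

/-- `F / T_j ^ n` lies in `L(D)` for the divisor `D` of the rational section `T_j ^ n` -/
theorem psi_mem_L {D : Divisor k X.functionField} (hD : IsDiv pd (LL i n) (tSec i n j hj) D)
    {F : MvPolynomial (Fin (r + 1)) k} (hF : F ∈ CohB1.polyGrading r k n) :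
    Psi i j hj (Away.mk (CohB1.polyGrading r k) (LefPen.X_mem r k j) n F
      (Groth.Agent.Helper4.SN264.mem_smul_one _ hF)) ∈ FunFld.L D :=
  mem_L_of_germ_eq pd hD (i ⁻¹ᵁ ⊤) rfl _ _ (germ_pull_globalOf i n j hj hF)

theorem away_mk_pow_self :
    Away.mk (CohB1.polyGrading r k) (LefPen.X_mem r k j) n
      ((MvPolynomial.X j : MvPolynomial (Fin (r + 1)) k) ^ n)
      (Groth.Agent.Helper4.SN264.mem_smul_one _
        (pow_mem_one (CohB1.polyGrading r k) (LefPen.X_mem r k j) n)) = 1 := by
  apply HomogeneousLocalization.val_injective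
  rw [Away.val_mk, HomogeneousLocalization.val_one]
  exact Localization.mk_self ⟨_, _⟩

theorem away_mk_mul_pow (hn : 1 ≤ n) (a : Fin (r + 1))
    (h : (MvPolynomial.X a : MvPolynomial (Fin (r + 1)) k) * MvPolynomial.X j ^ (n - 1) ∈
      CohB1.polyGrading r k n) :
    Away.mk (CohB1.polyGrading r k) (LefPen.X_mem r k j) n
      ((MvPolynomial.X a : MvPolynomial (Fin (r + 1)) k) * MvPolynomial.X j ^ (n - 1))
      (Groth.Agent.Helper4.SN264.mem_smul_one _ h) =
    Away.mk (CohB1.polyGrading r k) (LefPen.X_mem r k j) 1 (MvPolynomial.X a)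
      (Groth.Agent.Helper4.SN264.mem_smul_one _ (LefPen.X_mem r k a)) := by
  apply HomogeneousLocalization.val_injective
  rw [Away.val_mk, Away.val_mk, Localization.mk_eq_mk_iff, Localization.r_iff_exists]
  refine ⟨1, ?_⟩
  simp only [OneMemClass.coe_one, one_mul]
  have : (MvPolynomial.X j : MvPolynomial (Fin (r + 1)) k) ^ n =
      MvPolynomial.X j ^ (n - 1) * MvPolynomial.X j := by
    rw [← pow_succ, Nat.sub_add_cancel hn]
  rw [this]
  ring

include hi in
/-- constants pull back to constants -/
theorem psi_const (c : k) :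
    Psi i j hj (algebraMap (CohB1.polyGrading r k 0) (Away (CohB1.polyGrading r k)
      (MvPolynomial.X j : MvPolynomial (Fin (r + 1)) k))
      (algebraMap k (CohB1.polyGrading r k 0) c)) = algebraMap k X.functionField c := by
  have h1 := Groth.Agent.Helper4.SN610.awayToSection_fromZero r j c
  have h2 := Groth.Agent.Helper4.SN610.germ_app_konst r i (X ↘ Spec (CommRingCat.of k)) hi j c
    (genericPoint X) hj
  unfold Psi
  rw [RingHom.comp_apply, RingHom.comp_apply, HomogeneousLocalization.algebraMap_eq, h1]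
  exact h2

theorem exists_const (a : CohB1.polyGrading r k 0) :
    ∃ c : k, a = algebraMap k (CohB1.polyGrading r k 0) c := by
  have ha : (a : MvPolynomial (Fin (r + 1)) k).IsHomogeneous 0 :=
    (MvPolynomial.mem_homogeneousSubmodule 0 _).1 a.2
  refine ⟨MvPolynomial.coeff 0 (a : MvPolynomial (Fin (r + 1)) k), Subtype.ext ?_⟩
  by_cases h0 : (a : MvPolynomial (Fin (r + 1)) k) = 0
  · rw [h0]
    simp
  · have h1 := ha.totalDegree h0
    exact MvPolynomial.totalDegree_eq_zero_iff_eq_C.1 h1

include hi in
/-- **if all ratios of elements of the complete linear system of `O(n)` lie in a subfield, the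
subfield is the whole function field** -/
theorem intermediateField_eq_top [IsClosedImmersion i] (hn : 1 ≤ n)
    {D : Divisor k X.functionField} (hD : IsDiv pd (LL i n) (tSec i n j hj) D)
    (F' : IntermediateField k X.functionField)
    (h : ∀ u v : X.functionField, u ∈ FunFld.L D → v ∈ FunFld.L D → u / v ∈ F') : F' = ⊤ := by
  have hone : (1 : X.functionField) ∈ FunFld.L D := by
    have := psi_mem_L pd i n j hj hD
      (pow_mem_one (CohB1.polyGrading r k) (LefPen.X_mem r k j) n)
    rwa [away_mk_pow_self, map_one] at this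
  -- the subring of functions on the chart pulling back into `F'`
  obtain ⟨T, hT⟩ : ∃ T : Subring (Away (CohB1.polyGrading r k)
      (MvPolynomial.X j : MvPolynomial (Fin (r + 1)) k)),
      T = F'.toSubring.comap (Psi i j hj) := ⟨_, rfl⟩
  have hmemT : ∀ z, z ∈ T ↔ Psi i j hj z ∈ F' := by
    intro z; rw [hT]; rfl
  have hTtop : T = ⊤ := by
    apply Groth.Agent.Helper4.SN244.away_generated (CohB1.polyGrading r k) (LefPen.X_mem r k j)
      (fun a : Fin (r + 1) => (MvPolynomial.X a : MvPolynomial (Fin (r + 1)) k)) (fun _ => 1)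
      (fun a => LefPen.X_mem r k a) (MvPolynomial.adjoin_range_X)
    · intro a
      obtain ⟨c, rfl⟩ := exists_const a
      rw [hmemT, psi_const i hi j hj c]
      exact F'.algebraMap_mem c
    · intro a
      rw [hmemT]
      have hmem : (MvPolynomial.X a : MvPolynomial (Fin (r + 1)) k) * MvPolynomial.X j ^ (n - 1) ∈
          CohB1.polyGrading r k n := by
        have h1 := SetLike.mul_mem_graded (LefPen.X_mem r k a)
          (pow_mem_one (CohB1.polyGrading r k) (LefPen.X_mem r k j) (n - 1))
        rwa [show 1 + (n - 1) = n by omega] at h1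
      have h2 := psi_mem_L pd i n j hj hD hmem
      rw [away_mk_mul_pow n j hn a hmem] at h2
      have h3 := h _ _ h2 hone
      rwa [div_one] at h3
  -- every rational function is a ratio of functions on the chart
  rw [eq_top_iff]
  intro z _
  have hU : IsAffineOpen (Proj.basicOpen (CohB1.polyGrading r k)
      (MvPolynomial.X j : MvPolynomial (Fin (r + 1)) k)) :=
    Proj.isAffineOpen_basicOpen _ _ (LefPen.X_mem r k j) one_pos
  have hV : IsAffineOpen (i ⁻¹ᵁ (Proj.basicOpen (CohB1.polyGrading r k)
      (MvPolynomial.X j : MvPolynomial (Fin (r + 1)) k))) := hU.preimage i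
  haveI : Nonempty (i ⁻¹ᵁ (Proj.basicOpen (CohB1.polyGrading r k)
      (MvPolynomial.X j : MvPolynomial (Fin (r + 1)) k))).toScheme := ⟨⟨genericPoint X, hj⟩⟩
  haveI := functionField_isFractionRing_of_isAffineOpen X _ hV
  have hall : ∀ a : Γ(X, i ⁻¹ᵁ (Proj.basicOpen (CohB1.polyGrading r k)
      (MvPolynomial.X j : MvPolynomial (Fin (r + 1)) k))),
      algebraMap _ X.functionField a ∈ F' := by
    intro a
    obtain ⟨a₁, rfl⟩ := i.app_surjective _ hU a
    haveI : IsIso (Proj.awayToSection (CohB1.polyGrading r k)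
        (MvPolynomial.X j : MvPolynomial (Fin (r + 1)) k)) := by
      rw [← Proj.basicOpenIsoAway_hom _ _ (LefPen.X_mem r k j) one_pos]
      infer_instance
    obtain ⟨a₂, rfl⟩ := ((ConcreteCategory.isIso_iff_bijective (Proj.awayToSection
      (CohB1.polyGrading r k) (MvPolynomial.X j : MvPolynomial (Fin (r + 1)) k))).mp
        inferInstance).2 a₁
    have : a₂ ∈ T := by rw [hTtop]; trivial
    exact (hmemT a₂).1 this
  obtain ⟨a, b, -, rfl⟩ := IsFractionRing.div_surjective (A := Γ(X, i ⁻¹ᵁ (Proj.basicOpen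
    (CohB1.polyGrading r k) (MvPolynomial.X j : MvPolynomial (Fin (r + 1)) k)))) z
  exact div_mem (hall a) (hall b)

end Main

end Groth.Agent.Helper4.SN698
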