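import Mathlib
import Groth.Agent.Helper4.SN697
import Groth.Agent.Helper4.SN698
import Groth.Agent.Helper4.SN681

/-!
# Smooth plane curves of degree at least four are not hyperelliptic
-/

set_option autoImplicit false
set_option linter.style.haveILetI false
set_option linter.unusedSectionVars false
universe u
open CategoryTheory CategoryTheory.Limits AlgebraicGeometry TopologicalSpace Opposite FunFld
open scoped IntermediateField

namespace Groth.Agent.Helper4.SN699

open Groth.Agent.Helper4.SN Groth.Agent.Helper4.SN550 Groth.Agent.Helper4.SN695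
  Groth.Agent.Helper4.SN696 Groth.Agent.Helper4.SN697 Groth.Agent.Helper4.SN698
  Groth.Agent.Helper4.SN680 Groth.Agent.Helper5.FF

attribute [local instance] Curv2.stalkAlgebra Curv2.resAlgebra

variable {k : Type u} [Field k] {d : ℕ} (G : LefPen.Form 2 k d)
  [inst : ((LefPen.hypIdeal G).subscheme).Over (Spec (CommRingCat.of k))]
  (hinst : (LefPen.hypIdeal G).subscheme ↘ (Spec (CommRingCat.of k)) =
    (LefPen.hypIdeal G).subschemeι ≫ CohB1.ProjSpace.toSpec 2 k)

include hinst in
/-- **on a smooth plane curve of degree `d ≥ 4`, a subfield of the function field containing all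
ratios of elements of the canonical system is the whole function field** -/
theorem intermediateField_eq_top_of_canonical (hd : 4 ≤ d) (hG : G ≠ 0)
    [IsIntegral (LefPen.hypIdeal G).subscheme]
    (pd : PlaceData k (LefPen.hypIdeal G).subscheme)
    (F' : IntermediateField k (LefPen.hypIdeal G).subscheme.functionField)
    (h : ∀ (W : Divisor k (LefPen.hypIdeal G).subscheme.functionField),
      IsCanonical k (LefPen.hypIdeal G).subscheme.functionField W →
      ∀ u v, u ∈ FunFld.L W → v ∈ FunFld.L W → u / v ∈ F') : F' = ⊤ := by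
  obtain ⟨i, hidef⟩ : ∃ i : (LefPen.hypIdeal G).subscheme ⟶ Proj (CohB1.polyGrading 2 k),
      i = (LefPen.hypIdeal G).subschemeι := ⟨_, rfl⟩
  haveI : IsClosedImmersion i := by
    rw [hidef]
    exact (inferInstance : IsClosedImmersion (LefPen.hypIdeal G).subschemeι)
  have hi : i ≫ CohB1.ProjSpace.toSpec 2 k =
      (LefPen.hypIdeal G).subscheme ↘ Spec (CommRingCat.of k) := by rw [hidef]; exact hinst.symm
  have hcov := Groth.Agent.Helper4.SN610.iSup_preimage_D (k := k) 2 i
  have hη : genericPoint (LefPen.hypIdeal G).subscheme ∈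
      (⨆ e, i ⁻¹ᵁ Groth.Agent.Helper4.SN610.D (k := k) 2 e) := by rw [hcov]; trivial
  obtain ⟨j, hj⟩ := Opens.mem_iSup.mp hη
  have hL : PicF.IsInvertible (LL i (d - 3)) := by
    rw [hidef]
    exact isInvertible_OX G ((d - 3 : ℕ) : ℤ)
  obtain ⟨D, hD⟩ := Groth.Agent.Helper4.SN550.exists_isDiv pd (LL i (d - 3)) hL
    (tSec i (d - 3) j hj) (tSec_ne_zero i (d - 3) j hj)
  have hcan : IsCanonical k (LefPen.hypIdeal G).subscheme.functionField D := by
    subst hidef
    exact isCanonical_of_isDiv G hinst pd (by omega) hG ((d - 3 : ℕ) : ℤ) (by omega) _ D hD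
  exact intermediateField_eq_top pd i hi (d - 3) j hj (by omega) hD F' (h D hcan)

include hinst in
/-- **S14339** -/
theorem main14339 (hd : 4 ≤ d) (hG : G ≠ 0)
    [Smooth ((LefPen.hypIdeal G).subscheme ↘ (Spec (CommRingCat.of k)))] :
    ¬ ∃ φ : (LefPen.hypIdeal G).subscheme ⟶ CohB1.ProjSpace 1 k,
      φ ≫ CohB1.ProjSpace.toSpec 1 k = (LefPen.hypIdeal G).subscheme ↘ (Spec (CommRingCat.of k)) ∧
      IsFinite φ ∧ Flat φ ∧ ∀ y : ↥(CohB1.ProjSpace 1 k), Scheme.Hom.finrank φ y = 2 := by
  rintro ⟨φ, hφ, hfin, hflat, hrk⟩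
  haveI := hfin
  haveI := hflat
  haveI := isProper_planeCurve G hinst
  haveI := isIntegral_planeCurve G hinst (by omega) hG
  have hdim := dim_planeCurve G hinst (by omega) hG
  obtain ⟨h0, -, h1⟩ := Groth.Agent.S7840.result k d (by omega) G hG hinst
  obtain ⟨pd⟩ := Groth.Agent.Helper4.SN676.exists_placeData k (LefPen.hypIdeal G).subscheme hdim h0
  have hK := pd.hK
  have hgen := Groth.Agent.Helper4.SN560.genus_eq pd
  haveI hpY : IsProper (CohB1.ProjSpace.toSpec 1 k) :=
    Groth.Agent.Helper6.HProj.isProper_toSpec 1 k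
  haveI : IsProper ((CohB1.ProjSpace 1 k) ↘ Spec (CommRingCat.of k)) := hpY
  haveI : IsNoetherian (CohB1.ProjSpace 1 k) :=
    Groth.Agent.Helper4.NApx82.isNoetherian_of_proper k (CohB1.ProjSpace 1 k)
  have e := Groth.Agent.Helper4.SN676.map_genericPoint_of_isFinite k hdim (dim_P1 k) φ
  have hdeg : φ.residueDegree (genericPoint (LefPen.hypIdeal G).subscheme) = 2 :=
    Groth.Agent.Helper4.SN678.residueDegree_eq_of_rank k hdim (dim_P1 k) φ e 2
      (Groth.Agent.Helper4.SN678.rank_push k φ 2 hrk)
  obtain ⟨t, ht_def⟩ : ∃ t, t = tt k φ hφ e := ⟨_, rfl⟩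
  have h2 : Module.finrank k⟮t⟯ (LefPen.hypIdeal G).subscheme.functionField = 2 := by
    rw [ht_def, finrank_adjoin_tt, hdeg]
  have ht : Transcendental k t := transcendental_of_finrank hK (by norm_num) h2
  have hg1 : 1 ≤ genus k (LefPen.hypIdeal G).subscheme.functionField := by
    rw [← hgen]
    show 1 ≤ Module.finrank k _
    rw [h1]
    have : 2 ≤ (d - 1) * (d - 2) := by
      have : 2 ≤ d - 1 := by omega
      have : 1 ≤ d - 2 := by omega
      nlinarith
    omega
  have htop := intermediateField_eq_top_of_canonical G hinst hd hG pd k⟮t⟯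
    (fun W hW u v hu hv =>
      Groth.Agent.Helper4.SN693.div_mem_adjoin_of_isCanonical hK ht h2 hg1 W hW u v hu hv)
  rw [htop, IntermediateField.finrank_top] at h2
  omega

end Groth.Agent.Helper4.SN699
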