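import Mathlib
import Groth.Agent.Helper4.SN69
import Groth.Agent.Helper1.Chev4

/-!
# Ampleness descends along finite surjective morphisms (proper over a Noetherian ring)
-/

set_option autoImplicit false
set_option linter.style.haveILetI false

namespace Groth.Agent.Helper4.SN

open CategoryTheory Limits AlgebraicGeometry Opposite TopologicalSpace
open Groth.Agent.Helper4.StalkDict Groth.Agent.Helper4.TensorInv
  Groth.Agent.Helper1.Dev Groth.Agent.Helper1.Chev Groth.Agent.Lead.PushStalk
  Groth.Agent.Lead.Thick

universe u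

section HalfA

variable (A : Type u) [CommRing A] {X : Scheme.{u}} [X.Over (Spec (CommRingCat.of A))]

include A in
theorem evVan_halfClass' (L : X.Modules) (hL : PicF.IsInvertible L) :
    HalfClass (EvVan L : ObjectProperty X.Modules) where
  iso := fun e h => h.of_iso e
  zero := fun M hM => by
    refine ⟨0, fun n _ => ?_⟩
    apply Groth.Agent.Helper1.KzChase.subsingleton_HH_of_isZero
    have : IsZero ((DCoh.tensorRightMod (CohB1.tensorPow L n)).obj M) :=
      Functor.map_isZero _ hM
    exact this
  ext := fun S hS _ _ _ h₁ h₃ => by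
    obtain ⟨n₁, hn₁⟩ := h₁
    obtain ⟨n₃, hn₃⟩ := h₃
    refine ⟨max n₁ n₃, fun n hn => ?_⟩
    have hS' := Groth.Agent.Helper1.TwistExact.shortExact_map_tensorRightMod hS
      (CohB1.tensorPow L n) (isInvertible_tensorPow hL n)
    have hex := NApx80.exact_f_g A (S.map (DCoh.tensorRightMod (CohB1.tensorPow L n))) hS' 1
    haveI : Subsingleton (Coh.HH X (S.map (DCoh.tensorRightMod (CohB1.tensorPow L n))).X₁ 1) :=
      hn₁ n ((le_max_left _ _).trans hn)
    haveI : Subsingleton (Coh.HH X (S.map (DCoh.tensorRightMod (CohB1.tensorPow L n))).X₃ 1) :=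
      hn₃ n ((le_max_right _ _).trans hn)
    refine ⟨fun a b => ?_⟩
    suffices h : ∀ c : Coh.HH X (S.map (DCoh.tensorRightMod (CohB1.tensorPow L n))).X₂ 1,
        c = 0 by
      exact (h a).trans (h b).symm
    intro c
    obtain ⟨d, rfl⟩ := (hex c).1 (Subsingleton.elim _ _)
    rw [Subsingleton.elim d 0, map_zero]

omit [X.Over (Spec (CommRingCat.of A))] in
/-- eventual vanishing passes to direct summands of direct sums -/
theorem evVan_root (L : X.Modules) (F : X.Modules) (r : ℕ) (hr : 1 ≤ r)
    (h : EvVan L (∐ fun _ : Fin r => F)) : EvVan L F := by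
  obtain ⟨n₀, hn₀⟩ := h
  refine ⟨n₀, fun n hn => ?_⟩
  refine subsingleton_HH_of_retract
    ((DCoh.tensorRightMod (CohB1.tensorPow L n)).map (Sigma.ι (fun _ : Fin r => F) ⟨0, hr⟩))
    ((DCoh.tensorRightMod (CohB1.tensorPow L n)).map (Sigma.desc fun _ => 𝟙 F)) ?_ 1 (hn₀ n hn)
  rw [← Functor.map_comp, Sigma.ι_desc]
  exact CategoryTheory.Functor.map_id _ _

include A in
/-- eventual vanishing on an affine cover of `X` gives eventual vanishing of the direct image
(version over a ring) -/
theorem evVan_push' {Z : Scheme.{u}} (i : Z ⟶ X) [IsAffineHom i] (L : X.Modules)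
    (hL : PicF.IsInvertible L) (E : Z.Modules) (hE : Coh.IsQCoh E)
    (h : EvVan ((Scheme.Modules.pullback i).obj L) E) :
    EvVan L ((Scheme.Modules.pushforward i).obj E) := by
  obtain ⟨n₀, hn₀⟩ := h
  refine ⟨n₀, fun n hn => ?_⟩
  letI : Z.Over (Spec (CommRingCat.of A)) := ⟨i ≫ (X ↘ (Spec (CommRingCat.of A)))⟩
  have hL' := PullSec.isInvertible_pullback i hL
  have hB := Groth.Agent.Helper1.SerreFin.isCoh_of_isInvertible _
    (isInvertible_tensorPow hL' n)
  haveI : E.IsQuasicoherent := hE
  haveI : (CohB1.tensorPow ((Scheme.Modules.pullback i).obj L) n).IsQuasicoherent := hB.1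
  haveI hq : Coh.IsQCoh (CohB1.tensorMod E
      (CohB1.tensorPow ((Scheme.Modules.pullback i).obj L) n)) :=
    Groth.Agent.Lead.QcohTensor.isQuasicoherent_tensorMod E _
  obtain ⟨e⟩ := Groth.Agent.Helper1.AffLin.nonempty_HH_linearEquiv i A rfl
    (CohB1.tensorMod E (CohB1.tensorPow ((Scheme.Modules.pullback i).obj L) n)) 1
  haveI := hn₀ n hn
  have h1 : Subsingleton (Coh.HH X ((Coh.push i).obj (CohB1.tensorMod E
      (CohB1.tensorPow ((Scheme.Modules.pullback i).obj L) n))) 1) :=
    e.symm.toEquiv.subsingleton
  refine Groth.Agent.Helper1.SerreCrit.subsingleton_HH_of_iso ?_ 1 h1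
  exact (Scheme.Modules.pushforward i).mapIso
      (PicGrp.tensorModIso (Iso.refl E) (PullTensor.pullPowIso i hL n).symm) ≪≫
    (Groth.Agent.Helper1.PF.projIso i E (CohB1.tensorPow L n) (isInvertible_tensorPow hL n)).symm

end HalfA

section Deep

variable {W X : Scheme.{u}}

/-- for a finite morphism `g`, `J · g_* M` contains the direct image of `(g⁻¹J) · M`, which agrees
with `g_* M` away from `V(J)` -/
theorem exists_deep_evVan (g : W ⟶ X) [IsFinite g] (M : W.Modules) [M.IsQuasicoherent]
    (L : X.Modules) (J : X.IdealSheafData) (ξ : X) (hξ : ξ ∉ (J.support : Set X))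
    (hK : EvVan L ((Scheme.Modules.pushforward g).obj ((Dual3.idealMul (J.comap g)).obj M))) :
    ∃ (G' : X.Modules) (ι' : G' ⟶ (Dual3.idealMul J).obj ((Scheme.Modules.pushforward g).obj M)),
      Mono ι' ∧ Coh.IsQCoh G' ∧
      Function.Bijective (stalkLin (ι' ≫ Dual3.idealMulι J _) ξ) ∧ EvVan L G' := by
  haveI : ((Scheme.Modules.pushforward g).obj M).IsQuasicoherent :=
    QcohGlue.isQuasicoherent_pushforward g M
  haveI : ((Dual3.idealMul (J.comap g)).obj M).IsQuasicoherent :=
    inferInstanceAs (kernel (η (J.comap g).subschemeι M)).IsQuasicoherent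
  haveI : ((Scheme.Modules.pushforward g).obj
      ((Dual3.idealMul (J.comap g)).obj M)).IsQuasicoherent :=
    QcohGlue.isQuasicoherent_pushforward g _
  have hφ := push_map_comp_η_eq_zero g M J
  let ι' : (Scheme.Modules.pushforward g).obj ((Dual3.idealMul (J.comap g)).obj M) ⟶
      (Dual3.idealMul J).obj ((Scheme.Modules.pushforward g).obj M) :=
    kernel.lift (η J.subschemeι ((Scheme.Modules.pushforward g).obj M))
      ((Scheme.Modules.pushforward g).map (Dual3.idealMulι (J.comap g) M)) hφ
  have hι' : ι' ≫ Dual3.idealMulι J ((Scheme.Modules.pushforward g).obj M) =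
      (Scheme.Modules.pushforward g).map (Dual3.idealMulι (J.comap g) M) :=
    kernel.lift_ι _ _ _
  haveI : Mono ((Scheme.Modules.pushforward g).map (Dual3.idealMulι (J.comap g) M)) :=
    inferInstance
  refine ⟨_, ι', ?_, inferInstance, ?_, hK⟩
  · haveI : Mono (ι' ≫ Dual3.idealMulι J ((Scheme.Modules.pushforward g).obj M)) := by
      rw [hι']; infer_instance
    exact mono_of_mono ι' (Dual3.idealMulι J ((Scheme.Modules.pushforward g).obj M))
  · rw [hι']
    exact stalkLin_push_map_bijective g M J ξ hξ

end Deep

section Main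

variable (R : Type u) [CommRing R] [IsNoetherianRing R] {X Y : Scheme.{u}}
  (gX : X ⟶ Spec (CommRingCat.of R)) (gY : Y ⟶ Spec (CommRingCat.of R)) [IsProper gX]
  [IsProper gY] (f : Y ⟶ X) (hf : f ≫ gX = gY) [IsFinite f] [Surjective f]

include gX gY in
/-- ampleness descends along finite surjective morphisms -/
theorem isAmple_of_isAmple_pullback_finite (L : X.Modules) (hL : PicF.IsInvertible L)
    (hamp : CohB1.IsAmple ((Scheme.Modules.pullback f).obj L)) : CohB1.IsAmple L := by
  classical
  letI : X.Over (Spec (CommRingCat.of R)) := ⟨gX⟩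
  haveI : IsLocallyNoetherian X := LocallyOfFiniteType.isLocallyNoetherian gX
  haveI : CompactSpace X := QuasiCompact.compactSpace_of_compactSpace gX
  haveI : IsNoetherian X := {}
  haveI : IsLocallyNoetherian Y := LocallyOfFiniteType.isLocallyNoetherian gY
  haveI : CompactSpace Y := QuasiCompact.compactSpace_of_compactSpace gY
  haveI : IsNoetherian Y := {}
  have hK := evVan_halfClass' R L hL
  have hall : ∀ M : X.Modules, Coh.IsCoh M → EvVan L M := by
    intro M hM
    refine hK.core ⊤ ?_ M hM (Set.subset_univ _)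
    intro Y₀ _ hirrY hB E hE
    have hint := isIntegral_subscheme Y₀ hirrY
    have := isNoetherian_of_isClosedImmersion
      (Scheme.IdealSheafData.vanishingIdeal Y₀).subschemeι
    obtain ⟨w, hw⟩ := f.surjective ((Scheme.IdealSheafData.vanishingIdeal Y₀).subschemeι
      (genericPoint (Scheme.IdealSheafData.vanishingIdeal Y₀).subscheme))
    let T : TopologicalSpace.Closeds Y := ⟨closure {w}, isClosed_closure⟩
    have hirr : IsIrreducible (T : Set Y) := isIrreducible_singleton.closure
    haveI := isIntegral_subscheme T hirr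
    haveI := isNoetherian_of_isClosedImmersion
      (Scheme.IdealSheafData.vanishingIdeal T).subschemeι
    have hjη : w = (Scheme.IdealSheafData.vanishingIdeal T).subschemeι
        (genericPoint (Scheme.IdealSheafData.vanishingIdeal T).subscheme) :=
      eq_ι_genericPoint T w rfl
    have hgη : (CategoryTheory.CategoryStruct.comp
        (Scheme.IdealSheafData.vanishingIdeal T).subschemeι f)
        (genericPoint (Scheme.IdealSheafData.vanishingIdeal T).subscheme) =
        (Scheme.IdealSheafData.vanishingIdeal Y₀).subschemeι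
          (genericPoint (Scheme.IdealSheafData.vanishingIdeal Y₀).subscheme) := by
      rw [Scheme.Hom.comp_apply, ← hjη, hw]
    have hO := isCoh_structureModule (Scheme.IdealSheafData.vanishingIdeal T).subscheme
    haveI : (Coh.structureModule
      (Scheme.IdealSheafData.vanishingIdeal T).subscheme).IsQuasicoherent := hO.1
    have hG : Coh.IsCoh ((Scheme.Modules.pushforward
        (CategoryTheory.CategoryStruct.comp
          (Scheme.IdealSheafData.vanishingIdeal T).subschemeι f)).obj
        (Coh.structureModule (Scheme.IdealSheafData.vanishingIdeal T).subscheme)) :=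
      ⟨QcohGlue.isQuasicoherent_pushforward _ _,
        FinitePush.isFiniteType_pushforward_of_isFinite _ _ hO.2⟩
    refine (pushClass_halfClass _ hK).integral_main
      (ideals_of_deep hK Y₀ hB
        (fun F r _ hr h => evVan_root L F r hr h) _ hG ?_ ?_ ?_)
      (fun E hE hs => small_of_below Y₀ hB _ E hE hs) E hE
    · rw [← hgη]
      exact not_subsingleton_stalk_push_structure _ _
    · intro a ha m
      exact smul_eq_zero_push _ _ _ hgη a ha m
    · intro J hJ
      apply exists_deep_evVan _ _ L J _ hJ
      haveI hNq : ((Dual3.idealMul (J.comap (CategoryTheory.CategoryStruct.comp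
          (Scheme.IdealSheafData.vanishingIdeal T).subschemeι f))).obj
          (Coh.structureModule (Scheme.IdealSheafData.vanishingIdeal T).subscheme)).IsQuasicoherent :=
        inferInstanceAs (kernel (η (J.comap (CategoryTheory.CategoryStruct.comp
          (Scheme.IdealSheafData.vanishingIdeal T).subschemeι f)).subschemeι
          (Coh.structureModule
            (Scheme.IdealSheafData.vanishingIdeal T).subscheme))).IsQuasicoherent
      have hN : Coh.IsCoh ((Dual3.idealMul (J.comap (CategoryTheory.CategoryStruct.comp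
          (Scheme.IdealSheafData.vanishingIdeal T).subschemeι f))).obj
          (Coh.structureModule (Scheme.IdealSheafData.vanishingIdeal T).subscheme)) :=
        ⟨hNq, Groth.Agent.Helper4.QcohEpi.isFiniteType_of_mono (Dual3.idealMulι _ _) hO.2⟩
      apply evVan_push' R _ L hL _ hNq
      have hampW : CohB1.IsAmple ((Scheme.Modules.pullback (CategoryTheory.CategoryStruct.comp
          (Scheme.IdealSheafData.vanishingIdeal T).subschemeι f)).obj L) :=
        AmpleIso.isAmple_of_iso
          ((Scheme.Modules.pullbackComp (Scheme.IdealSheafData.vanishingIdeal T).subschemeι f).app L)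
          (PullAmple.isAmple_pullback_of_isAffineHom
            (Scheme.IdealSheafData.vanishingIdeal T).subschemeι hamp)
      obtain ⟨n₀, hn₀⟩ := Groth.Agent.Helper1.SV.serre_vanishing R
        ((CategoryTheory.CategoryStruct.comp
          (Scheme.IdealSheafData.vanishingIdeal T).subschemeι f) ≫ gX) hampW _ hN
      exact ⟨n₀, fun n hn => hn₀ n hn 1 le_rfl⟩
  have hO := isCoh_structureModule X
  apply Groth.Agent.Helper4.H1Twist.isAmple_of_H1_twisted_ideals L hL
  intro I ι hmono hIq
  haveI := hmono
  haveI : I.IsQuasicoherent := hIq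
  haveI : (Coh.structureModule X).IsQuasicoherent := hO.1
  have hI : Coh.IsCoh I := ⟨hIq, Groth.Agent.Helper4.QcohEpi.isFiniteType_of_mono ι hO.2⟩
  obtain ⟨n₀, hn₀⟩ := hall I hI
  exact ⟨n₀, hn₀ (n₀ + 1) (Nat.le_succ _)⟩

end Main

end Groth.Agent.Helper4.SN
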