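import Mathlib
import Groth.Agent.Helper5.FFRR
import Groth.Agent.Helper5.FFRiemann
import Groth.Agent.Helper5.FGConorm

/-!
# The canonical system of a double cover of a genus zero function field
-/

set_option autoImplicit false
set_option linter.style.haveILetI false
set_option linter.unusedSectionVars false
open FunFld Polynomial
open scoped IntermediateField

namespace Groth.Agent.Helper4.SN700

open Groth.Agent.Helper5.FF

section One

variable {k K : Type*} [Field k] [Field K] [Algebra k K]

/-- a divisor of degree zero has at most one section -/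
theorem ell_le_one_of_deg_eq_zero (hK : IsFunctionField k K) (E : Divisor k K)
    (hE : E.deg = 0) : ell E ≤ 1 := by
  by_cases h0 : ell E = 0
  · omega
  · have hpos : 0 < ell E := Nat.pos_of_ne_zero h0
    obtain ⟨x, hx0, hx⟩ := (L_ne_bot_iff hK _).mp (L_ne_bot_of_ell_pos hpos)
    have h1 := ell_le_deg_add_one hK hx
    rw [ell_add_div hK E hx0, Groth.Agent.Helper5.FF.deg_add, deg_div hK, hE] at h1
    have : (ell E : ℤ) ≤ 1 := by linarith
    exact_mod_cast this

end One

variable {k F K : Type*} [Field k] [Field F] [Field K] [Algebra k F] [Algebra F K] [Algebra k K]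
  [IsScalarTower k F K]

/-- sections of a divisor are sections of its conorm -/
theorem map_mem_L_conorm [FiniteDimensional F K] (hF : IsFunctionField k F) (D : Divisor k F)
    {x : F} (hx : x ∈ L D) : algebraMap F K x ∈ L (conorm K D) := by
  intro Q
  obtain ⟨P, e, he⟩ := Groth.Agent.Helper5.FG.exists_isOverWith hF.1 Q
  rw [he x, Groth.Agent.Helper5.FG.conorm_apply hF D he]
  calc P.1 x ^ e ≤ (WithZero.exp (D P)) ^ e := pow_le_pow_left₀ zero_le (hx P) e
    _ = WithZero.exp ((e : ℤ) * D P) := by
        rw [← WithZero.exp_nsmul, nsmul_eq_mul]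

/-- the inclusion `L(D) → L(conorm D)` -/
noncomputable def mapL [FiniteDimensional F K] (hF : IsFunctionField k F) (D : Divisor k F) :
    L D →ₗ[k] L (conorm K D) :=
  LinearMap.restrict (IsScalarTower.toAlgHom k F K).toLinearMap
    (fun _ hx => map_mem_L_conorm hF D hx)

theorem mapL_injective [FiniteDimensional F K] (hF : IsFunctionField k F) (D : Divisor k F) :
    Function.Injective (mapL (K := K) hF D) := by
  intro a b hab
  have h1 : algebraMap F K a = algebraMap F K b := congrArg Subtype.val hab
  exact Subtype.ext ((algebraMap F K).injective h1)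

/-- **all ratios of elements of the canonical system of a double cover of a function field of
genus zero lie in the subfield** -/
theorem div_mem_range_of_isCanonical [FiniteDimensional F K] (hF : IsFunctionField k F)
    (hK : IsFunctionField k K) (hgF : genus k F = 0) (h2 : Module.finrank F K = 2)
    (hg : 1 ≤ genus k K) (DF : Divisor k F) (hDF : DF.deg = (genus k K : ℤ) - 1)
    (W : Divisor k K) (hW : IsCanonical k K W) (u v : K) (hu : u ∈ L W) (hv : v ∈ L W) :
    u / v ∈ Set.range (algebraMap F K) := by
  have hellF : (ell DF : ℤ) = genus k K := by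
    have := ell_eq_of_deg_ge hF DF (by rw [hgF, hDF]; push_cast; omega)
    rw [this, hDF, hgF]; push_cast; ring
  obtain ⟨D, hDdef⟩ : ∃ D : Divisor k K, D = conorm K DF := ⟨_, rfl⟩
  have hdegD : D.deg = 2 * (genus k K : ℤ) - 2 := by
    rw [hDdef, Groth.Agent.Helper5.FG.conorm_deg hF, h2, hDF]; push_cast; ring
  haveI := finiteDimensional_L hK D
  have hge : ell DF ≤ ell D := by
    unfold ell
    rw [hDdef]
    haveI := finiteDimensional_L hK (conorm K DF)
    exact LinearMap.finrank_le_finrank_of_injective (mapL_injective (K := K) hF DF)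
  obtain ⟨W₀, hW₀⟩ := exists_isCanonical hK
  have hrr := riemann_roch hK W₀ hW₀ D
  have hdeg0 : (W₀ - D).deg = 0 := by
    rw [Groth.Agent.Helper5.FF.deg_sub, (ell_canonical hK hW₀).2, hdegD]; ring
  have hle1 := ell_le_one_of_deg_eq_zero hK _ hdeg0
  have hellD : ell D = genus k K := by
    have h1 : (ell D : ℤ) ≤ genus k K := by
      have : (ell (W₀ - D) : ℤ) ≤ 1 := by exact_mod_cast hle1
      rw [hrr, hdegD]; linarith
    have h3 : (genus k K : ℤ) ≤ ell D := by
      rw [← hellF]; exact_mod_cast hge
    have : (ell D : ℤ) = genus k K := le_antisymm h1 h3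
    exact_mod_cast this
  have hcanD : IsCanonical k K D := (isCanonical_iff hK D).2 ⟨hellD, hdegD⟩
  -- `L(D)` is the image of `L(DF)`
  have himg : Submodule.map (IsScalarTower.toAlgHom k F K).toLinearMap (L DF) = L D := by
    apply Submodule.eq_of_le_of_finrank_eq
    · rintro _ ⟨x, hx, rfl⟩
      rw [hDdef]
      exact map_mem_L_conorm hF DF hx
    · have hinj : Function.Injective (IsScalarTower.toAlgHom k F K).toLinearMap :=
        (algebraMap F K).injective
      rw [(Submodule.equivMapOfInjective _ hinj (L DF)).symm.finrank_eq]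
      have h5 : (Module.finrank k (L DF) : ℤ) = Module.finrank k (L D) := by
        have : (ell DF : ℤ) = ell D := by rw [hellF, hellD]
        exact this
      exact_mod_cast h5
  obtain ⟨x, hx0, hx⟩ := isCanonical_sub hK D W hcanD hW
  rw [hx, ← mul_mem_L_iff hK _ x _ hx0, ← himg] at hu hv
  obtain ⟨a, -, ha⟩ := hu
  obtain ⟨b, -, hb⟩ := hv
  refine ⟨a / b, ?_⟩
  rw [map_div₀]
  have ha' : algebraMap F K a = x * u := ha
  have hb' : algebraMap F K b = x * v := hb
  rw [ha', hb', mul_div_mul_left _ _ hx0]

end Groth.Agent.Helper4.SN700
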