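import Mathlib
import Groth.Agent.Helper4.SN699
import Groth.Agent.Helper4.SN700
import Groth.Agent.Helper4.SN691
import Groth.Agent.Helper4.SN678

/-!
# A smooth plane quartic has no degree two map onto a curve of genus zero
-/

set_option autoImplicit false
set_option linter.style.haveILetI false
set_option linter.unusedSectionVars false
universe u
open CategoryTheory CategoryTheory.Limits AlgebraicGeometry TopologicalSpace Opposite FunFld
open scoped IntermediateField

namespace Groth.Agent.Helper4.SN701

open Groth.Agent.Helper4.SN Groth.Agent.Helper4.SN550 Groth.Agent.Helper4.SN695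
  Groth.Agent.Helper4.SN699 Groth.Agent.Helper5.FF Groth.Agent.Helper4.SN637

attribute [local instance] Curv2.stalkAlgebra Curv2.resAlgebra

section H0

variable {k : Type u} [Field k]

/-- if `k → Γ(X, O_X)` is bijective then `H⁰(X, O_X)` is one-dimensional over `k` -/
theorem finrank_h0_of_bijective_toGlobal {X : Scheme.{u}} (g : X ⟶ Spec (CommRingCat.of k))
    (h : Function.Bijective (Coh.toGlobal g)) :
    letI : X.Over (Spec (CommRingCat.of k)) := ⟨g⟩
    Module.finrank k (Coh.HH X (Coh.structureModule X) 0) = 1 := by
  letI : X.Over (Spec (CommRingCat.of k)) := ⟨g⟩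
  letI : Algebra k Γ(X, ⊤) := (Coh.toGlobal g).toAlgebra
  let e : Coh.HH X (Coh.structureModule X) 0 ≃ₗ[k] Γ(X, ⊤) :=
    { (Groth.Agent.Lead.ProperFinA.h0Equiv (Coh.structureModule X)) with
      map_smul' := by
        intro a x
        change Groth.Agent.Lead.ProperFinA.h0Equiv (Coh.structureModule X)
          (Coh.toGlobal g a • x) = _
        rw [Groth.Agent.Lead.ProperFinA.h0Equiv_smul]
        rfl }
  show Module.finrank k (Coh.HH X (Coh.structureModule X) 0) = 1
  rw [e.finrank_eq]
  exact Algebra.finrank_eq_one_iff_bijective_algebraMap.2 h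

/-- `H⁰ = k` descends along a dominant quasi-compact morphism to a reduced scheme -/
theorem finrank_h0_of_dominant {X P : Scheme.{u}} [X.Over (Spec (CommRingCat.of k))]
    [P.Over (Spec (CommRingCat.of k))] [IsReduced P] (h : X ⟶ P) [IsDominant h] [QuasiCompact h]
    (hh : h ≫ (P ↘ Spec (CommRingCat.of k)) = X ↘ Spec (CommRingCat.of k))
    (h0 : Module.finrank k (Coh.HH X (Coh.structureModule X) 0) = 1) :
    Module.finrank k (Coh.HH P (Coh.structureModule P) 0) = 1 := by
  have hb := Groth.Agent.Helper1.Hyp.bijective_toGlobal_of_finrank_one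
    (X ↘ Spec (CommRingCat.of k)) h0
  haveI := IsSchemeTheoreticallyDominant.of_isDominant h
  have hinj : Function.Injective h.appTop.hom := h.app_injective ⊤
  have hcomp : Coh.toGlobal (X ↘ Spec (CommRingCat.of k)) =
      h.appTop.hom.comp (Coh.toGlobal (P ↘ Spec (CommRingCat.of k))) := by
    unfold Coh.toGlobal
    rw [← hh, Scheme.Hom.comp_appTop, CommRingCat.hom_comp, RingHom.comp_assoc]
  have hbP : Function.Bijective (Coh.toGlobal (P ↘ Spec (CommRingCat.of k))) := by
    refine ⟨?_, ?_⟩
    · intro a b hab
      apply hb.1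
      rw [hcomp]
      exact congrArg h.appTop.hom hab
    · intro y
      obtain ⟨a, ha⟩ := hb.2 (h.appTop.hom y)
      refine ⟨a, hinj ?_⟩
      rw [← ha, hcomp]
      rfl
  exact finrank_h0_of_bijective_toGlobal (P ↘ Spec (CommRingCat.of k)) hbP

end H0

section Main

variable {k : Type u} [Field k] (f : LefPen.Form 2 k 4)
  [inst : ((LefPen.hypIdeal f).subscheme).Over (Spec (CommRingCat.of k))]
  (hinst : (LefPen.hypIdeal f).subscheme ↘ (Spec (CommRingCat.of k)) =
    (LefPen.hypIdeal f).subschemeι ≫ CohB1.ProjSpace.toSpec 2 k)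

include hinst in
/-- **S7843** -/
theorem main7843 (hf : f ≠ 0)
    [Smooth ((LefPen.hypIdeal f).subscheme ↘ (Spec (CommRingCat.of k)))]
    (P : Scheme.{u}) [P.Over (Spec (CommRingCat.of k))]
    [IsProper (P ↘ (Spec (CommRingCat.of k)))] [Smooth (P ↘ (Spec (CommRingCat.of k)))]
    (hP : topologicalKrullDim P = 1)
    (hP0 : (Module.finrank k (Coh.HH P (Coh.structureModule P) 0) : ℤ) -
      Module.finrank k (Coh.HH P (Coh.structureModule P) 1) = 1) :
    ¬ ∃ h : (LefPen.hypIdeal f).subscheme ⟶ P,
      h ≫ (P ↘ (Spec (CommRingCat.of k))) =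
        (LefPen.hypIdeal f).subscheme ↘ (Spec (CommRingCat.of k)) ∧
      IsFinite h ∧ Flat h ∧ (∀ y : P, Scheme.Hom.finrank h y = 2) := by
  rintro ⟨h, hh, hfin, hflat, hrk⟩
  haveI := hfin
  haveI := hflat
  haveI := isProper_planeCurve f hinst
  haveI := isIntegral_planeCurve f hinst (by omega) hf
  have hdim := dim_planeCurve f hinst (by omega) hf
  obtain ⟨h0, -, h1⟩ := Groth.Agent.S7840.result k 4 (by omega) f hf hinst
  obtain ⟨pd⟩ := Groth.Agent.Helper4.SN676.exists_placeData k (LefPen.hypIdeal f).subscheme hdim h0
  have hK := pd.hK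
  have hgen := Groth.Agent.Helper4.SN560.genus_eq pd
  -- the target is an integral curve
  haveI : IsNoetherian P := Groth.Agent.Helper4.NApx82.isNoetherian_of_proper k P
  have hsurj : Surjective h :=
    (Scheme.Hom.one_le_finrank_iff_surjective h).1 (fun y => by rw [hrk y]; norm_num)
  haveI : ConnectedSpace P := h.surjective.connectedSpace h.continuous
  haveI : IsIntegral P := by
    apply isIntegral_of_connected_of_isDomain_stalk
    intro x
    haveI := regular_of_smooth k x
    exact Groth.Agent.Lead.RegLocal.isDomain_of_isRegularLocalRing _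
  haveI : IsDominant h := inferInstance
  have h0P : Module.finrank k (Coh.HH P (Coh.structureModule P) 0) = 1 :=
    finrank_h0_of_dominant h hh h0
  have h1P : Module.finrank k (Coh.HH P (Coh.structureModule P) 1) = 0 := by
    rw [h0P] at hP0
    omega
  obtain ⟨pdP⟩ := Groth.Agent.Helper4.SN676.exists_placeData k P hP h0P
  have hF := pdP.hK
  have hgenP := Groth.Agent.Helper4.SN560.genus_eq pdP
  have hgF : genus k P.functionField = 0 := by
    rw [← hgenP]
    exact h1P
  have hgK : genus k (LefPen.hypIdeal f).subscheme.functionField = 3 := by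
    rw [← hgen]
    show Module.finrank k _ = 3
    rw [h1]
  -- the function field extension
  have e := Groth.Agent.Helper4.SN676.map_genericPoint_of_isFinite k hdim hP h
  have hdeg : h.residueDegree (genericPoint (LefPen.hypIdeal f).subscheme) = 2 :=
    Groth.Agent.Helper4.SN678.residueDegree_eq_of_rank k hdim hP h e 2
      (Groth.Agent.Helper4.SN678.rank_push k h 2 hrk)
  letI alg : Algebra P.functionField (LefPen.hypIdeal f).subscheme.functionField :=
    (ffMap h e).hom.toAlgebra
  haveI : IsScalarTower k P.functionField (LefPen.hypIdeal f).subscheme.functionField :=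
    IsScalarTower.of_algebraMap_eq
      (fun c => (Groth.Agent.Helper4.SN654.ffMap_stalkMap k h hh e c).symm)
  have h2 : Module.finrank P.functionField (LefPen.hypIdeal f).subscheme.functionField = 2 := by
    exact (Groth.Agent.Helper4.SN641.finrank_ffMap h e).trans hdeg
  haveI : FiniteDimensional P.functionField (LefPen.hypIdeal f).subscheme.functionField :=
    Module.finite_of_finrank_pos (by rw [h2]; norm_num)
  obtain ⟨WF, hWF⟩ := exists_isCanonical hF
  have hdegWF : (-WF).deg = (genus k (LefPen.hypIdeal f).subscheme.functionField : ℤ) - 1 := by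
    rw [Groth.Agent.Helper5.FF.deg_neg, (ell_canonical hF hWF).2, hgF, hgK]
    norm_num
  have htop := intermediateField_eq_top_of_canonical f hinst (le_refl 4) hf pd
    (IsScalarTower.toAlgHom k P.functionField
      (LefPen.hypIdeal f).subscheme.functionField).fieldRange
    (fun W hW u v hu hv => by
      obtain ⟨a, ha⟩ := Groth.Agent.Helper4.SN700.div_mem_range_of_isCanonical hF hK hgF h2
        (by rw [hgK]; norm_num) (-WF) hdegWF W hW u v hu hv
      exact ⟨a, ha⟩)
  have hsurjF : Function.Surjective
      (algebraMap P.functionField (LefPen.hypIdeal f).subscheme.functionField) := by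
    intro y
    have hy : y ∈ (IsScalarTower.toAlgHom k P.functionField
      (LefPen.hypIdeal f).subscheme.functionField).fieldRange := by rw [htop]; trivial
    obtain ⟨a, ha⟩ := hy
    exact ⟨a, ha⟩
  have h1' : Module.finrank P.functionField (LefPen.hypIdeal f).subscheme.functionField = 1 :=
    Algebra.finrank_eq_one_iff_bijective_algebraMap.2
      ⟨(algebraMap P.functionField (LefPen.hypIdeal f).subscheme.functionField).injective, hsurjF⟩
  omega

end Main

end Groth.Agent.Helper4.SN701
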