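import Mathlib
import Groth.Agent.Helper4.SN655
import Groth.Agent.Helper4.SN700
import Groth.Agent.Helper5.FFRational

/-!
# Two distinct subfields of index two and genus zero force genus at most one (any constant field)
-/

set_option autoImplicit false
set_option linter.unusedSectionVars false
set_option linter.style.haveILetI false
universe u

open FunFld
open Groth.Agent.Helper5
open scoped IntermediateField

namespace Groth.Agent.Helper4.SN702

section Val

variable {k K : Type*} [Field k] [Field K] [Algebra k K]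

theorem one_lt_val_imp (P : Place k K) {x : K} (hx : 1 < P.1 x) : WithZero.exp (1 : ℤ) ≤ P.1 x := by
  have hx0 : x ≠ 0 := by
    rintro rfl
    simp at hx
  rw [FF.val_eq_exp_neg_ord P hx0] at hx ⊢
  rw [← WithZero.exp_zero, WithZero.exp_lt_exp] at hx
  rw [WithZero.exp_le_exp]
  omega

end Val

section Count

variable {k K₁ K : Type*} [Field k] [Field K₁] [Field K] [Algebra k K₁] [Algebra k K]
  [Algebra K₁ K] [IsScalarTower k K₁ K]

/-- the Riemann--Roch count for a subfield of index two and genus zero and three elements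
`1, y, z = α + β y` with a pole of `α` or `β` at `P` -/
theorem genus_le_of_three (hK₁ : IsFunctionField k K₁) (hK : IsFunctionField k K)
    (hg₁ : genus k K₁ = 0)
    (h2 : Module.finrank K₁ K = 2) (y : K) (hy : y ∉ Set.range (algebraMap K₁ K))
    (α β : K₁) (P : Place k K₁) (hP : 1 < P.1 α ∨ 1 < P.1 β)
    (D : Divisor k K) (hD : 0 ≤ D) (hyD : y ∈ L D)
    (hzD : algebraMap K₁ K α + algebraMap K₁ K β * y ∈ L D) :
    (genus k K : ℤ) ≤ D.deg - 1 - P.deg := by
  classical
  haveI : FiniteDimensional K₁ K := Module.finite_of_finrank_pos (by rw [h2]; norm_num)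
  have hP₀ : 0 < P.deg := FF.deg_pos_place hK₁ P
  set N : ℕ := 2 * genus k K + 1 with hN
  set A : Divisor k K₁ := Finsupp.single P (N : ℤ) with hA
  set A' : Divisor k K₁ := Finsupp.single P ((N : ℤ) - 1) with hA'
  have hA0 : 0 ≤ A := by
    intro Q
    rw [hA, Finsupp.single_apply]
    split_ifs
    · exact Int.natCast_nonneg N
    · exact le_refl _
  have hdegA : A.deg = N * P.deg := by rw [hA, FF.deg_single]
  have hdegA' : A'.deg = ((N : ℤ) - 1) * P.deg := by rw [hA', FF.deg_single]
  set E : Divisor k K := conorm K A + D with hE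
  have hdegE : E.deg = 2 * A.deg + D.deg := by
    rw [hE, FF.deg_add, FG.conorm_deg hK₁, h2]
    push_cast
    ring
  have hDdeg : 0 ≤ D.deg := FF.deg_nonneg hD
  have hP1 : (1 : ℤ) ≤ P.deg := by exact_mod_cast hP₀
  have hNcast : (N : ℤ) = 2 * genus k K + 1 := by rw [hN]; push_cast; ring
  have hAN : (N : ℤ) ≤ A.deg := by
    rw [hdegA]
    nlinarith [Int.natCast_nonneg N]
  have hbig : 2 * (genus k K : ℤ) - 1 ≤ E.deg := by
    rw [hdegE]
    linarith
  have hellE := FF.ell_eq_of_deg_ge hK E hbig
  have hellA := FF.ell_eq_of_deg_ge hK₁ A (by rw [hg₁]; push_cast; linarith)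
  have hellA' := FF.ell_eq_of_deg_ge hK₁ A' (by
    rw [hg₁, hdegA']
    push_cast
    have : (0 : ℤ) ≤ (N : ℤ) - 1 := by rw [hNcast]; linarith [Int.natCast_nonneg (genus k K)]
    nlinarith)
  rw [hg₁] at hellA hellA'
  haveI := FF.finiteDimensional_L hK₁ A
  haveI := FF.finiteDimensional_L hK₁ A'
  haveI := FF.finiteDimensional_L hK E
  set z : K := algebraMap K₁ K α + algebraMap K₁ K β * y with hz
  have hmemy : ∀ v : K₁, v ∈ L A → algebraMap K₁ K v * y ∈ L E := by
    intro v hv
    have h1 := SN655.algebraMap_mem_L_conorm (K := K) hK₁ A hv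
    intro Q
    rw [map_mul, Finsupp.add_apply, WithZero.exp_add]
    exact mul_le_mul' (h1 Q) (hyD Q)
  have hmemz : ∀ v : K₁, v ∈ L A → algebraMap K₁ K v * z ∈ L E := by
    intro v hv
    have h1 := SN655.algebraMap_mem_L_conorm (K := K) hK₁ A hv
    intro Q
    rw [map_mul, Finsupp.add_apply, WithZero.exp_add]
    exact mul_le_mul' (h1 Q) (hzD Q)
  have hmem1 : ∀ v : K₁, v ∈ L A → algebraMap K₁ K v ∈ L E := by
    intro v hv
    have h1 := SN655.algebraMap_mem_L_conorm (K := K) hK₁ A hv
    exact FF.L_mono (by rw [hE]; exact le_add_of_nonneg_right hD) h1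
  -- a complement of `L A'` in `L A`
  have hle : L A' ≤ L A := FF.L_mono (by
    intro Q
    rw [hA, hA', Finsupp.single_apply, Finsupp.single_apply]
    split_ifs
    · omega
    · exact le_refl _)
  obtain ⟨S', hS'⟩ := Submodule.exists_isCompl (L A')
  set S : Submodule k K₁ := S' ⊓ L A with hSdef
  have hSA : S ≤ L A := inf_le_right
  have hdisj : L A' ⊓ S = ⊥ := by
    rw [eq_bot_iff, ← hS'.inf_eq_bot]
    exact inf_le_inf_left _ inf_le_left
  have hsup : L A' ⊔ S = L A := by
    rw [hSdef, ← sup_inf_assoc_of_le S' hle, hS'.sup_eq_top, top_inf_eq]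
  haveI : FiniteDimensional k S := Submodule.finiteDimensional_of_le hSA
  have hfinS : Module.finrank k (L A) = Module.finrank k (L A') + Module.finrank k S := by
    have h := Submodule.finrank_sup_add_finrank_inf_eq (L A') S
    rw [hdisj, finrank_bot, add_zero, hsup] at h
    exact h
  -- independence of `1, y` over `K₁`
  have hind : ∀ a b : K₁, algebraMap K₁ K a + algebraMap K₁ K b * y = 0 → a = 0 ∧ b = 0 := by
    intro a b h1
    have hb0 : b = 0 := by
      by_contra hb0
      apply hy
      refine ⟨-a / b, ?_⟩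
      have hb' : algebraMap K₁ K b ≠ 0 := by rwa [Ne, map_eq_zero]
      rw [map_div₀, map_neg]
      exact (eq_div_of_mul_eq hb' (by linear_combination h1)).symm
    refine ⟨?_, hb0⟩
    rw [hb0, map_zero, zero_mul, add_zero, map_eq_zero] at h1
    exact h1
  let ψ : (L A × L A × S) →ₗ[k] L E :=
    { toFun := fun p => ⟨algebraMap K₁ K p.1.1 + algebraMap K₁ K p.2.1.1 * y +
          algebraMap K₁ K p.2.2.1 * z,
        Submodule.add_mem _ (Submodule.add_mem _ (hmem1 _ p.1.2) (hmemy _ p.2.1.2))
          (hmemz _ (hSA p.2.2.2))⟩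
      map_add' := by
        intro p q
        apply Subtype.ext
        simp only [Prod.fst_add, Prod.snd_add, Submodule.coe_add, map_add]
        ring
      map_smul' := by
        intro c p
        apply Subtype.ext
        simp only [Prod.smul_fst, Prod.smul_snd, Submodule.coe_smul, RingHom.id_apply]
        rw [Algebra.smul_def, Algebra.smul_def, Algebra.smul_def, map_mul, map_mul, map_mul,
          ← IsScalarTower.algebraMap_apply k K₁ K, Algebra.smul_def]
        ring }
  have hψ : Function.Injective ψ := by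
    apply (injective_iff_map_eq_zero ψ).2
    rintro ⟨⟨a, ha⟩, ⟨b, hb⟩, ⟨c, hcS⟩⟩ h
    have hc : c ∈ L A := hSA hcS
    have h1 : algebraMap K₁ K a + algebraMap K₁ K b * y + algebraMap K₁ K c * z = 0 :=
      congrArg Subtype.val h
    have h2' : algebraMap K₁ K (a + c * α) + algebraMap K₁ K (b + c * β) * y = 0 := by
      rw [map_add, map_add, map_mul, map_mul]
      rw [hz] at h1
      linear_combination h1
    obtain ⟨h3, h4⟩ := hind _ _ h2'
    -- `c ∈ L A'`
    have hcA' : c ∈ L A' := by
      by_cases hc0 : c = 0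
      · rw [hc0]; exact Submodule.zero_mem _
      intro Q
      by_cases hQ : Q = P
      · subst hQ
        rw [hA', Finsupp.single_eq_same]
        have key : ∀ γ v : K₁, v ∈ L A → v + c * γ = 0 → 1 < Q.1 γ →
            Q.1 c ≤ WithZero.exp ((N : ℤ) - 1) := by
          intro γ v hv hvc hγ
          have hγ1 := one_lt_val_imp Q hγ
          have hv' : Q.1 (c * γ) ≤ WithZero.exp (N : ℤ) := by
            have : c * γ = -v := by linear_combination hvc
            rw [this, Valuation.map_neg]
            have := hv Q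
            rwa [hA, Finsupp.single_eq_same] at this
          rw [map_mul] at hv'
          have hc1 : Q.1 c * WithZero.exp (1 : ℤ) ≤ WithZero.exp (N : ℤ) :=
            le_trans (mul_le_mul_right hγ1 _) hv'
          have hsplit : (WithZero.exp (N : ℤ) : WithZero (Multiplicative ℤ)) =
              WithZero.exp ((N : ℤ) - 1) * WithZero.exp (1 : ℤ) := by
            rw [← WithZero.exp_add]; congr 1; ring
          rw [hsplit] at hc1
          exact le_of_mul_le_mul_right hc1 WithZero.exp_pos
        rcases hP with hα | hβ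
        · exact key α a ha h3 hα
        · exact key β b hb h4 hβ
      · have := hc Q
        rw [hA, Finsupp.single_eq_of_ne hQ] at this
        rw [hA', Finsupp.single_eq_of_ne hQ]
        exact this
    have hc0' : c = 0 := by
      have : c ∈ L A' ⊓ S := ⟨hcA', hcS⟩
      rw [hdisj] at this
      exact this
    subst hc0'
    rw [zero_mul, add_zero] at h3 h4
    subst h3
    subst h4
    rfl
  have hdim := LinearMap.finrank_le_finrank_of_injective hψ
  rw [Module.finrank_prod, Module.finrank_prod] at hdim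
  have hdim' : 2 * (ell A : ℤ) + ((ell A : ℤ) - ell A') ≤ ell E := by
    unfold ell
    have : Module.finrank k (L A) + (Module.finrank k (L A) + Module.finrank k S) ≤
        Module.finrank k (L E) := hdim
    have hS'' : (Module.finrank k S : ℤ) = Module.finrank k (L A) - Module.finrank k (L A') := by
      have : (Module.finrank k (L A) : ℤ) = Module.finrank k (L A') + Module.finrank k S := by
        exact_mod_cast hfinS
      linarith
    have h' : ((Module.finrank k (L A) + (Module.finrank k (L A) + Module.finrank k S) : ℕ) : ℤ) ≤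
        Module.finrank k (L E) := by exact_mod_cast this
    push_cast at h'
    linarith
  rw [hellE, hellA, hellA', hdegE, hdegA, hdegA'] at hdim'
  push_cast at hdim'
  linarith

end Count

section Gen

variable {k K : Type*} [Field k] [Field K] [Algebra k K]

/-- a proper intermediate field containing a transcendental element has index at least two -/
theorem two_le_finrank_of_ne_top (hK : IsFunctionField k K) (F : IntermediateField k K)
    (hF : F ≠ ⊤) {u : K} (huF : u ∈ F) (htr : Transcendental k u) :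
    FiniteDimensional F K ∧ 2 ≤ Module.finrank F K := by
  haveI hfdx := FF.finiteDimensional_adjoin hK htr
  have hle : IntermediateField.adjoin k ({u} : Set K) ≤ F :=
    IntermediateField.adjoin_simple_le_iff.mpr huF
  letI : Algebra (IntermediateField.adjoin k ({u} : Set K)) F :=
    (IntermediateField.inclusion hle).toRingHom.toAlgebra
  haveI : IsScalarTower (IntermediateField.adjoin k ({u} : Set K)) F K :=
    IsScalarTower.of_algebraMap_eq (fun _ => rfl)
  haveI hfd : FiniteDimensional F K :=
    Module.Finite.of_restrictScalars_finite (IntermediateField.adjoin k ({u} : Set K)) F K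
  refine ⟨hfd, ?_⟩
  have h0 : 0 < Module.finrank F K := Module.finrank_pos
  have h1 : Module.finrank F K ≠ 1 := by
    intro h1
    apply hF
    rw [eq_top_iff]
    intro y _
    obtain ⟨c, hc⟩ := (finrank_eq_one_iff_of_nonzero' (1 : K) one_ne_zero).mp h1 y
    have : (c : K) = y := by
      rw [← hc, Algebra.smul_def, mul_one]
      rfl
    rw [← this]
    exact c.2
  omega

/-- on a function field, a divisor `C ≥ 0` of degree two with `ℓ(C) = 3` has a section outside any
proper subfield -/
theorem exists_mem_L_not_mem (hK : IsFunctionField k K) (C : Divisor k K) (hC0 : 0 ≤ C)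
    (hdegC : C.deg = 2) (hell : ell C = 3) (F : IntermediateField k K) (hF : F ≠ ⊤) :
    ∃ y ∈ L C, y ∉ F := by
  classical
  by_contra hcon
  push Not at hcon
  haveI := FF.finiteDimensional_L hK C
  -- a nonconstant element
  obtain ⟨u, huC, huk⟩ : ∃ u ∈ L C, u ∉ Set.range (algebraMap k K) := by
    by_contra hcon'
    push Not at hcon'
    have hle : L C ≤ L (0 : Divisor k K) := by
      intro x hx
      rw [FF.L_zero hK, Submodule.mem_one]
      exact hcon' x hx
    haveI := FF.finiteDimensional_L hK (0 : Divisor k K)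
    have := Submodule.finrank_mono hle
    have h0 := FF.ell_zero hK
    unfold ell at hell h0
    omega
  have htr := FF.transcendental_of_not_mem_range hK huk
  have huF : u ∈ F := hcon u huC
  have hF' : IsFunctionField k F := FF.isFunctionField_intermediateField hK F ⟨u, huF, htr⟩
  obtain ⟨hfd, h2⟩ := two_le_finrank_of_ne_top hK F hF huF htr
  haveI := hfd
  set u' : F := ⟨u, huF⟩ with hu'
  have htr' : Transcendental k u' := by
    intro h
    apply htr
    have := h.algebraMap (A := K)
    exact this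
  have hu'0 : u' ≠ 0 := by rintro h; exact htr' (h ▸ isAlgebraic_zero)
  set B' : Divisor k F := (-(FunFld.div k u')) ⊔ 0 with hB'
  have hB'0 : 0 ≤ B' := le_sup_right
  have hdegB' : (1 : ℤ) ≤ B'.deg := by
    rw [hB', FF.deg_poles_eq hF' htr']
    have : 0 < Module.finrank k⟮u'⟯ F := by
      haveI := FF.finiteDimensional_adjoin hF' htr'
      exact Module.finrank_pos
    exact_mod_cast this
  -- the conorm of `B'` is at most `C`
  have hB'app : ∀ P : Place k F, B' P = max (-(P.ord u')) 0 := by
    intro P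
    rw [hB', Finsupp.sup_apply, Finsupp.neg_apply, FF.div_apply hF', Finsupp.zero_apply]
  have hconle : conorm K B' ≤ C := by
    intro Q
    obtain ⟨P, e, he⟩ := FG.exists_isOverWith hF'.1 Q
    rw [FG.conorm_apply hF' B' he, hB'app]
    rcases le_total (-(P.ord u')) 0 with h | h
    · rw [max_eq_right h, mul_zero]
      exact hC0 Q
    · rw [max_eq_left h]
      have h1 := huC Q
      have h2 : Q.1 u = P.1 u' ^ e := he u'
      rw [h2, FF.val_eq_exp_neg_ord P hu'0, ← WithZero.exp_nsmul, WithZero.exp_le_exp] at h1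
      simpa using h1
  have hdegcon : (conorm K B').deg = Module.finrank F K * B'.deg := FG.conorm_deg hF' B'
  have hle2 : (conorm K B').deg ≤ 2 := by rw [← hdegC]; exact FF.deg_mono hconle
  have hfr2 : (2 : ℤ) ≤ Module.finrank F K := by exact_mod_cast h2
  have hdegB'1 : B'.deg = 1 := by
    rw [hdegcon] at hle2
    nlinarith
  have hcondeg : (conorm K B').deg = 2 := by
    rw [hdegcon, hdegB'1]
    rw [hdegcon, hdegB'1] at hle2
    linarith
  have hconeq : conorm K B' = C := by
    by_contra hne
    have hpos : 0 ≤ C - conorm K B' := sub_nonneg.mpr hconle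
    have hne' : C - conorm K B' ≠ 0 := fun h => hne (sub_eq_zero.mp h).symm
    have := FF.deg_pos_of_pos hK hpos hne'
    rw [FF.deg_sub, hdegC, hcondeg] at this
    omega
  -- every section of `C` is a section of `B'`
  have hmem : ∀ x (hx : x ∈ L C), (⟨x, hcon x hx⟩ : F) ∈ L B' := by
    intro x hx P
    obtain ⟨hfin, hsum⟩ := FG.finite_isOver_and_sum (K' := K) hF' P
    have hsum' := hsum hfin.toFinset (fun Q' => by rw [Set.Finite.mem_toFinset]; rfl)
    have hne : hfin.toFinset.Nonempty := by
      by_contra hemp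
      rw [Finset.not_nonempty_iff_eq_empty] at hemp
      rw [hemp, Finset.sum_empty] at hsum'
      have h1 : 0 < Module.finrank F K := Module.finrank_pos
      have h2 : 0 < P.deg := FF.deg_pos_place hF' P
      have := Nat.mul_pos h1 h2
      omega
    obtain ⟨Q, hQ⟩ := hne
    rw [Set.Finite.mem_toFinset] at hQ
    obtain ⟨e, he⟩ := hQ
    have he0 := FG.isOverWith_pos he
    have h1 := hx Q
    rw [← hconeq, FG.conorm_apply hF' B' he] at h1
    have h2 : Q.1 x = P.1 (⟨x, hcon x hx⟩ : F) ^ e := he ⟨x, hcon x hx⟩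
    rw [h2] at h1
    have h3 : (WithZero.exp ((e : ℤ) * B' P) : WithZero (Multiplicative ℤ)) =
        WithZero.exp (B' P) ^ e := by
      rw [← WithZero.exp_nsmul]
      simp
    rw [h3] at h1
    exact (pow_le_pow_iff_left₀ zero_le zero_le he0).mp h1
  let φ : L C →ₗ[k] L B' :=
    { toFun := fun x => ⟨⟨x.1, hcon x.1 x.2⟩, hmem x.1 x.2⟩
      map_add' := fun a b => rfl
      map_smul' := fun c a => rfl }
  have hφ : Function.Injective φ := by
    intro a b hab
    have h1 : (φ a).1.1 = (φ b).1.1 := by rw [hab]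
    exact Subtype.ext h1
  haveI := FF.finiteDimensional_L hF' B'
  have hdim := LinearMap.finrank_le_finrank_of_injective hφ
  have hup := FF.ell_le_deg_add_one hF' hB'0
  rw [hdegB'1] at hup
  have hup' : ell B' ≤ 2 := by exact_mod_cast hup
  unfold ell at hell hup'
  omega

end Gen

section Sym

/-- two subfields of the same finite index: an inclusion of images is an equality -/
theorem range_subset_symm {K₁ K₂ K : Type*} [Field K₁] [Field K₂] [Field K] [Algebra K₁ K]
    [Algebra K₂ K] (d : ℕ) (hd : 0 < d) (h₁ : Module.finrank K₁ K = d)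
    (h₂ : Module.finrank K₂ K = d)
    (hsub : ∀ z : K₁, algebraMap K₁ K z ∈ Set.range (algebraMap K₂ K)) :
    ∀ w : K₂, algebraMap K₂ K w ∈ Set.range (algebraMap K₁ K) := by
  choose w hw using hsub
  let θ₀ : K₁ →+* K₂ :=
    { toFun := w
      map_one' := (algebraMap K₂ K).injective (by rw [hw, map_one, map_one])
      map_mul' := fun a b => (algebraMap K₂ K).injective (by rw [hw, map_mul, map_mul, hw, hw])
      map_zero' := (algebraMap K₂ K).injective (by rw [hw, map_zero, map_zero])
      map_add' := fun a b => (algebraMap K₂ K).injective (by rw [hw, map_add, map_add, hw, hw]) }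
  letI a₁₂ : Algebra K₁ K₂ := θ₀.toAlgebra
  haveI : IsScalarTower K₁ K₂ K := IsScalarTower.of_algebraMap_eq (fun z => (hw z).symm)
  haveI : FiniteDimensional K₁ K := Module.finite_of_finrank_pos (by rw [h₁]; exact hd)
  haveI : FiniteDimensional K₂ K := Module.finite_of_finrank_pos (by rw [h₂]; exact hd)
  haveI : FiniteDimensional K₁ K₂ :=
    Module.Finite.of_injective (IsScalarTower.toAlgHom K₁ K₂ K).toLinearMap
      (IsScalarTower.toAlgHom K₁ K₂ K).injective
  have hmul := Module.finrank_mul_finrank K₁ K₂ K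
  rw [h₁, h₂] at hmul
  have h1 : Module.finrank K₁ K₂ = 1 := by
    have : Module.finrank K₁ K₂ * d = 1 * d := by rw [hmul, one_mul]
    exact Nat.eq_of_mul_eq_mul_right hd this
  intro y
  obtain ⟨c, hc⟩ := (finrank_eq_one_iff_of_nonzero' (1 : K₂) one_ne_zero).mp h1 y
  refine ⟨c, ?_⟩
  rw [← hc, Algebra.smul_def, mul_one]
  exact (hw c).symm

end Sym

section Main

variable {k K₁ K₂ K : Type*} [Field k] [Field K₁] [Field K₂] [Field K]
  [Algebra k K₁] [Algebra k K₂] [Algebra k K] [Algebra K₁ K] [Algebra K₂ K]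
  [IsScalarTower k K₁ K] [IsScalarTower k K₂ K]

/-- the case where the second subfield has a place of degree one -/
theorem genus_le_one_of_deg_one (hK₁ : IsFunctionField k K₁) (hK₂ : IsFunctionField k K₂)
    (hK : IsFunctionField k K) (hg₁ : genus k K₁ = 0) (hg₂ : genus k K₂ = 0)
    (h₁ : Module.finrank K₁ K = 2) (h₂ : Module.finrank K₂ K = 2)
    (hne : ¬ Set.range (algebraMap K₂ K) ⊆ Set.range (algebraMap K₁ K))
    (P₂ : Place k K₂) (hP₂ : P₂.deg = 1) : genus k K ≤ 1 := by
  haveI : FiniteDimensional K₂ K := Module.finite_of_finrank_pos (by rw [h₂]; norm_num)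
  obtain ⟨x₂, hx₂⟩ := (FF.genus_zero_iff hK₂).1 ⟨hg₂, P₂, hP₂⟩
  have htr := FF.transcendental_of_adjoin_eq_top hK₂ hx₂
  have hfr : Module.finrank k⟮x₂⟯ K₂ = 1 := IntermediateField.finrank_eq_one_iff_eq_top.mpr hx₂
  obtain ⟨P, hP, hord, hQ⟩ := FF.exists_simple_pole hK₂ htr hfr
  have hx0 : x₂ ≠ 0 := by rintro rfl; exact htr isAlgebraic_zero
  have hxL : x₂ ∈ L (Finsupp.single P (1 : ℤ) : Divisor k K₂) := by
    rw [FF.mem_L_single_iff P 1 hx0]
    exact ⟨by rw [hord], hQ⟩
  set F : IntermediateField k K₂ :=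
    (IsScalarTower.toAlgHom k K₁ K).fieldRange.comap (IsScalarTower.toAlgHom k K₂ K) with hFdef
  have hmemF : ∀ w : K₂, w ∈ F ↔ algebraMap K₂ K w ∈ Set.range (algebraMap K₁ K) := by
    intro w
    rfl
  have hy : algebraMap K₂ K x₂ ∉ Set.range (algebraMap K₁ K) := by
    intro h
    apply hne
    rintro _ ⟨w, rfl⟩
    rw [← hmemF]
    have hle : k⟮x₂⟯ ≤ F := IntermediateField.adjoin_simple_le_iff.mpr ((hmemF x₂).mpr h)
    rw [hx₂] at hle
    exact hle IntermediateField.mem_top
  have hC0 : (0 : Divisor k K₂) ≤ Finsupp.single P (1 : ℤ) := by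
    classical
    intro Q
    rw [Finsupp.single_apply]
    split_ifs <;> simp
  have hD0 := SN655.conorm_nonneg (K := K) hK₂ hC0
  have hyD := SN655.algebraMap_mem_L_conorm (K := K) hK₂ _ hxL
  have hmain' := SN655.genus_le_of_basis hK₁ hK h₁ (algebraMap K₂ K x₂) hy _ hD0 hyD
  rw [FG.conorm_deg hK₂, h₂, FF.deg_single, hP, hg₁] at hmain'
  push_cast at hmain'
  omega

/-- the case where the first subfield has no place of degree one -/
theorem genus_le_one_of_no_deg_one (hK₁ : IsFunctionField k K₁) (hK₂ : IsFunctionField k K₂)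
    (hK : IsFunctionField k K) (hg₁ : genus k K₁ = 0) (hg₂ : genus k K₂ = 0)
    (h₁ : Module.finrank K₁ K = 2) (h₂ : Module.finrank K₂ K = 2)
    (hne : ¬ Set.range (algebraMap K₂ K) ⊆ Set.range (algebraMap K₁ K))
    (hno : ∀ P : Place k K₁, P.deg ≠ 1) : genus k K ≤ 1 := by
  classical
  haveI : FiniteDimensional K₁ K := Module.finite_of_finrank_pos (by rw [h₁]; norm_num)
  haveI : FiniteDimensional K₂ K := Module.finite_of_finrank_pos (by rw [h₂]; norm_num)
  -- an effective divisor of degree two on `K₂`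
  obtain ⟨W, hW⟩ := FF.exists_isCanonical hK₂
  have hdegW := (FF.ell_canonical hK₂ hW).2
  rw [hg₂] at hdegW
  have hdegE : (-W).deg = 2 := by rw [FF.deg_neg, hdegW]; norm_num
  have hellE : ell (-W) = 3 := by
    have := FF.ell_eq_of_deg_ge hK₂ (-W) (by rw [hg₂, hdegE]; norm_num)
    rw [hdegE, hg₂] at this
    have h3 : (ell (-W) : ℤ) = 3 := by rw [this]; norm_num
    exact_mod_cast h3
  obtain ⟨x, hx0, hx⟩ := (FF.L_ne_bot_iff hK₂ _).mp
    (FF.L_ne_bot_of_ell_pos (by rw [hellE]; norm_num))
  obtain ⟨C, hCdef⟩ : ∃ C : Divisor k K₂, C = -W + FunFld.div k x := ⟨_, rfl⟩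
  rw [← hCdef] at hx
  have hdegC : C.deg = 2 := by rw [hCdef, FF.deg_add, FF.deg_div hK₂, hdegE, add_zero]
  have hellC : ell C = 3 := by rw [hCdef, FF.ell_add_div hK₂ _ hx0, hellE]
  -- the subfield of `K₂` of elements lying in `K₁`
  set F : IntermediateField k K₂ :=
    (IsScalarTower.toAlgHom k K₁ K).fieldRange.comap (IsScalarTower.toAlgHom k K₂ K) with hFdef
  have hmemF : ∀ w : K₂, w ∈ F ↔ algebraMap K₂ K w ∈ Set.range (algebraMap K₁ K) := by
    intro w
    rfl
  have hF : F ≠ ⊤ := by
    intro hF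
    apply hne
    rintro _ ⟨w, rfl⟩
    rw [← hmemF, hF]
    trivial
  obtain ⟨y₂, hy₂C, hy₂F⟩ := exists_mem_L_not_mem hK₂ C hx hdegC hellC F hF
  have hy : algebraMap K₂ K y₂ ∉ Set.range (algebraMap K₁ K) := fun h => hy₂F ((hmemF y₂).mpr h)
  -- a third section
  haveI := FF.finiteDimensional_L hK₂ C
  have h1C : (1 : K₂) ∈ L C := by
    have := FF.L_mono hx (show (1 : K₂) ∈ L (0 : Divisor k K₂) by
      rw [FF.L_zero hK₂]; exact Submodule.one_le.mp le_rfl)
    exact this
  obtain ⟨z₂, hz₂C, hz₂⟩ : ∃ z₂ ∈ L C, z₂ ∉ Submodule.span k ({1, y₂} : Set K₂) := by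
    by_contra hcon
    push Not at hcon
    have hle : L C ≤ Submodule.span k ({1, y₂} : Set K₂) := hcon
    have h2 : Module.finrank k (Submodule.span k ({1, y₂} : Set K₂)) ≤ 2 := by
      have h := finrank_span_finset_le_card (R := k) ({1, y₂} : Finset K₂)
      have hc : ({1, y₂} : Finset K₂).card ≤ 2 := Finset.card_le_two
      have hs : ((({1, y₂} : Finset K₂) : Set K₂)) = {1, y₂} := by simp
      rw [hs] at h
      exact le_trans h hc
    haveI : FiniteDimensional k (Submodule.span k ({1, y₂} : Set K₂)) :=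
      FiniteDimensional.span_of_finite k (Set.toFinite _)
    have := Submodule.finrank_mono hle
    unfold ell at hellC
    omega
  -- coordinates of `z` with respect to `1, y`
  set y : K := algebraMap K₂ K y₂ with hydef
  set z : K := algebraMap K₂ K z₂ with hzdef
  have hli : LinearIndependent K₁ ![(1 : K), y] := by
    rw [LinearIndependent.pair_iff]
    intro a b hab
    have hb0 : b = 0 := by
      by_contra hb0
      apply hy
      refine ⟨-a / b, ?_⟩
      have hb' : algebraMap K₁ K b ≠ 0 := by rwa [Ne, map_eq_zero]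
      rw [map_div₀, map_neg]
      rw [Algebra.smul_def, Algebra.smul_def, mul_one] at hab
      exact (eq_div_of_mul_eq hb' (by linear_combination hab)).symm
    refine ⟨?_, hb0⟩
    rw [hb0, zero_smul, add_zero, Algebra.smul_def, mul_one, map_eq_zero] at hab
    exact hab
  have hspan : Submodule.span K₁ (Set.range ![(1 : K), y]) = ⊤ :=
    hli.span_eq_top_of_card_eq_finrank' (by rw [h₁]; rfl)
  obtain ⟨α, β, hαβ⟩ : ∃ α β : K₁, z = algebraMap K₁ K α + algebraMap K₁ K β * y := by
    have hz : z ∈ Submodule.span K₁ (Set.range ![(1 : K), y]) := by rw [hspan]; trivial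
    rw [Matrix.range_cons, Matrix.range_cons, Matrix.range_empty, Set.union_empty,
      Set.singleton_union, Submodule.mem_span_pair] at hz
    obtain ⟨a, b, hab⟩ := hz
    refine ⟨a, b, ?_⟩
    rw [← hab, Algebra.smul_def, Algebra.smul_def, mul_one]
  -- not both constant
  have hnc : α ∉ Set.range (algebraMap k K₁) ∨ β ∉ Set.range (algebraMap k K₁) := by
    by_contra hcon
    push Not at hcon
    obtain ⟨⟨a, ha⟩, ⟨b, hb⟩⟩ := hcon
    apply hz₂
    rw [Submodule.mem_span_pair]
    refine ⟨a, b, ?_⟩
    apply (algebraMap K₂ K).injective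
    rw [map_add, Algebra.smul_def, Algebra.smul_def, mul_one, map_mul,
      ← IsScalarTower.algebraMap_apply k K₂ K, ← IsScalarTower.algebraMap_apply k K₂ K,
      IsScalarTower.algebraMap_apply k K₁ K a, IsScalarTower.algebraMap_apply k K₁ K b, ha, hb]
    exact hαβ.symm
  obtain ⟨P, hP⟩ : ∃ P : Place k K₁, 1 < P.1 α ∨ 1 < P.1 β := by
    rcases hnc with h | h
    · obtain ⟨-, Q, hQ⟩ := FF.exists_zero_and_exists_pole hK₁ α h
      have h0 : α ≠ 0 := by rintro rfl; exact h ⟨0, map_zero _⟩
      exact ⟨Q, Or.inl ((FF.ord_neg_iff Q h0).mp hQ)⟩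
    · obtain ⟨-, Q, hQ⟩ := FF.exists_zero_and_exists_pole hK₁ β h
      have h0 : β ≠ 0 := by rintro rfl; exact h ⟨0, map_zero _⟩
      exact ⟨Q, Or.inr ((FF.ord_neg_iff Q h0).mp hQ)⟩
  have hPdeg : 2 ≤ P.deg := by
    have h1 := FF.deg_pos_place hK₁ P
    have h2 := hno P
    omega
  have hD0 := SN655.conorm_nonneg (K := K) hK₂ hx
  have hyD := SN655.algebraMap_mem_L_conorm (K := K) hK₂ _ hy₂C
  have hzD := SN655.algebraMap_mem_L_conorm (K := K) hK₂ _ hz₂C
  rw [← hzdef, hαβ] at hzD
  have hmain := genus_le_of_three hK₁ hK hg₁ h₁ y hy α β P hP _ hD0 hyD hzD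
  rw [FG.conorm_deg hK₂, h₂, hdegC] at hmain
  have : (2 : ℤ) ≤ P.deg := by exact_mod_cast hPdeg
  push_cast at hmain
  omega

/-- **Castelnuovo's inequality for two distinct subfields of index two and genus zero, over an
arbitrary constant field** -/
theorem genus_le_one (hK₁ : IsFunctionField k K₁) (hK₂ : IsFunctionField k K₂)
    (hK : IsFunctionField k K) (hg₁ : genus k K₁ = 0) (hg₂ : genus k K₂ = 0)
    (h₁ : Module.finrank K₁ K = 2) (h₂ : Module.finrank K₂ K = 2)
    (hne : ¬ Set.range (algebraMap K₂ K) ⊆ Set.range (algebraMap K₁ K)) : genus k K ≤ 1 := by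
  by_cases hP₂ : ∃ P₂ : Place k K₂, P₂.deg = 1
  · obtain ⟨P₂, hP₂⟩ := hP₂
    exact genus_le_one_of_deg_one hK₁ hK₂ hK hg₁ hg₂ h₁ h₂ hne P₂ hP₂
  by_cases hP₁ : ∃ P₁ : Place k K₁, P₁.deg = 1
  · obtain ⟨P₁, hP₁⟩ := hP₁
    have hne' : ¬ Set.range (algebraMap K₁ K) ⊆ Set.range (algebraMap K₂ K) := by
      intro hsub
      apply hne
      rintro _ ⟨w, rfl⟩
      exact range_subset_symm 2 (by norm_num) h₁ h₂ (fun z => hsub ⟨z, rfl⟩) w
    exact genus_le_one_of_deg_one hK₂ hK₁ hK hg₂ hg₁ h₂ h₁ hne' P₁ hP₁
  · push Not at hP₁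
    exact genus_le_one_of_no_deg_one hK₁ hK₂ hK hg₁ hg₂ h₁ h₂ hne hP₁

end Main

end Groth.Agent.Helper4.SN702
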