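import Mathlib
import Groth.Agent.Helper4.SN702
import Groth.Agent.Helper4.SN656
import Groth.Agent.Helper4.SN678
import Groth.Agent.Helper4.SN578

/-!
# The hyperelliptic double cover is unique (any field)
-/

set_option autoImplicit false
set_option linter.unusedSectionVars false
set_option linter.style.haveILetI false
universe u

open CategoryTheory CategoryTheory.Limits AlgebraicGeometry TopologicalSpace Opposite

namespace Groth.Agent.Helper4.SN703

open Groth.Agent.Helper4.SN Groth.Agent.Helper4.SN637 Groth.Agent.Helper4.SN641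
  Groth.Agent.Helper4.SN638 Groth.Agent.Helper4.SN639 Groth.Agent.Helper4.SN656

attribute [local instance] Curv2.stalkAlgebra

section Main

variable (k : Type u) [Field k] {X : Scheme.{u}} [X.Over (Spec (CommRingCat.of k))]
  [IsProper (X ↘ (Spec (CommRingCat.of k)))] [Smooth (X ↘ (Spec (CommRingCat.of k)))]
  [GeometricallyConnected (X ↘ (Spec (CommRingCat.of k)))]

include k in
/-- **two double covers of curves of genus zero by a curve of genus at least two are
isomorphic** -/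
theorem main7874 (hdim : topologicalKrullDim X = 1) (hg : 2 ≤ Curv2.genus k X)
    (P₁ : Scheme.{u}) [P₁.Over (Spec (CommRingCat.of k))]
    [IsProper (P₁ ↘ (Spec (CommRingCat.of k)))] [Smooth (P₁ ↘ (Spec (CommRingCat.of k)))]
    [GeometricallyConnected (P₁ ↘ (Spec (CommRingCat.of k)))]
    (hdim₁ : topologicalKrullDim P₁ = 1) (hγ₁ : Curv2.genus k P₁ = 0)
    (P₂ : Scheme.{u}) [P₂.Over (Spec (CommRingCat.of k))]
    [IsProper (P₂ ↘ (Spec (CommRingCat.of k)))] [Smooth (P₂ ↘ (Spec (CommRingCat.of k)))]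
    [GeometricallyConnected (P₂ ↘ (Spec (CommRingCat.of k)))]
    (hdim₂ : topologicalKrullDim P₂ = 1) (hγ₂ : Curv2.genus k P₂ = 0)
    (f₁ : X ⟶ P₁) (hf₁ : f₁ ≫ (P₁ ↘ Spec (CommRingCat.of k)) = X ↘ Spec (CommRingCat.of k))
    [IsFinite f₁] [Flat f₁] (hr₁ : ∀ y : P₁, Scheme.Hom.finrank f₁ y = 2)
    (f₂ : X ⟶ P₂) (hf₂ : f₂ ≫ (P₂ ↘ Spec (CommRingCat.of k)) = X ↘ Spec (CommRingCat.of k))
    [IsFinite f₂] [Flat f₂] (hr₂ : ∀ y : P₂, Scheme.Hom.finrank f₂ y = 2) :
    ∃ e : P₁ ≅ P₂, e.hom ≫ (P₂ ↘ Spec (CommRingCat.of k)) = (P₁ ↘ Spec (CommRingCat.of k)) ∧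
      f₁ ≫ e.hom = f₂ := by
  haveI : IsIntegral X := isIntegral_of_smooth_of_geometricallyConnected k X
  haveI : IsIntegral P₁ := isIntegral_of_smooth_of_geometricallyConnected k P₁
  haveI : IsIntegral P₂ := isIntegral_of_smooth_of_geometricallyConnected k P₂
  haveI := Groth.Agent.Helper4.NApx82.isNoetherian_of_proper k X
  haveI := Groth.Agent.Helper4.NApx82.isNoetherian_of_proper k P₁
  haveI := Groth.Agent.Helper4.NApx82.isNoetherian_of_proper k P₂
  have hreg₁ : ∀ y : P₁, IsRegularLocalRing (P₁.presheaf.stalk y) := fun y => regular_of_smooth k y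
  have hreg₂ : ∀ y : P₂, IsRegularLocalRing (P₂.presheaf.stalk y) := fun y => regular_of_smooth k y
  obtain ⟨pd⟩ := Groth.Agent.Helper4.SN676.exists_placeData k X hdim
    (Groth.Agent.Helper4.SN578.h0_structure k X)
  obtain ⟨pd₁⟩ := Groth.Agent.Helper4.SN676.exists_placeData k P₁ hdim₁
    (Groth.Agent.Helper4.SN578.h0_structure k P₁)
  obtain ⟨pd₂⟩ := Groth.Agent.Helper4.SN676.exists_placeData k P₂ hdim₂
    (Groth.Agent.Helper4.SN578.h0_structure k P₂)
  have hK := pd.hK
  have hK₁ := pd₁.hK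
  have hK₂ := pd₂.hK
  have hgen := Groth.Agent.Helper4.SN560.genus_eq pd
  have hgen₁ := Groth.Agent.Helper4.SN560.genus_eq pd₁
  have hgen₂ := Groth.Agent.Helper4.SN560.genus_eq pd₂
  have hξ₁ := Groth.Agent.Helper4.SN676.map_genericPoint_of_isFinite k hdim hdim₁ f₁
  have hξ₂ := Groth.Agent.Helper4.SN676.map_genericPoint_of_isFinite k hdim hdim₂ f₂
  have hd₁ : f₁.residueDegree (genericPoint X) = 2 :=
    Groth.Agent.Helper4.SN678.residueDegree_eq_of_rank k hdim hdim₁ f₁ hξ₁ 2
      (Groth.Agent.Helper4.SN678.rank_push k f₁ 2 hr₁)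
  have hd₂ : f₂.residueDegree (genericPoint X) = 2 :=
    Groth.Agent.Helper4.SN678.residueDegree_eq_of_rank k hdim hdim₂ f₂ hξ₂ 2
      (Groth.Agent.Helper4.SN678.rank_push k f₂ 2 hr₂)
  have hfr₁ := (finrank_ffMap f₁ hξ₁).trans hd₁
  have hfr₂ := (finrank_ffMap f₂ hξ₂).trans hd₂
  set q₁ := P₁ ↘ Spec (CommRingCat.of k) with hq₁
  set q₂ := P₂ ↘ Spec (CommRingCat.of k) with hq₂
  set p := X ↘ Spec (CommRingCat.of k) with hp
  -- the range inclusions from Castelnuovo's inequality
  have hle : ∀ z, (ffMap f₂ hξ₂).hom z ∈ Set.range (ffMap f₁ hξ₁).hom := by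
    by_contra hcon
    letI a₁ : Algebra P₁.functionField X.functionField := (ffMap f₁ hξ₁).hom.toAlgebra
    letI a₂ : Algebra P₂.functionField X.functionField := (ffMap f₂ hξ₂).hom.toAlgebra
    haveI : IsScalarTower k P₁.functionField X.functionField :=
      IsScalarTower.of_algebraMap_eq
        (fun c => (Groth.Agent.Helper4.SN654.ffMap_stalkMap k f₁ hf₁ hξ₁ c).symm)
    haveI : IsScalarTower k P₂.functionField X.functionField :=
      IsScalarTower.of_algebraMap_eq
        (fun c => (Groth.Agent.Helper4.SN654.ffMap_stalkMap k f₂ hf₂ hξ₂ c).symm)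
    have hne : ¬ Set.range (algebraMap P₂.functionField X.functionField) ⊆
        Set.range (algebraMap P₁.functionField X.functionField) := by
      intro hsub
      apply hcon
      intro z
      exact hsub ⟨z, rfl⟩
    have hcast := Groth.Agent.Helper4.SN702.genus_le_one hK₁ hK₂ hK
      (by rw [← hgen₁]; exact hγ₁) (by rw [← hgen₂]; exact hγ₂) hfr₁ hfr₂ hne
    rw [← hgen] at hcast
    omega
  obtain ⟨θ, hθ⟩ := exists_ringEquiv_of_range_le' (ffMap f₁ hξ₁).hom (ffMap f₂ hξ₂).hom 2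
    (by norm_num) hfr₁ hfr₂ hle
  let θc : P₂.functionField ⟶ P₁.functionField := CommRingCat.ofHom θ.toRingHom
  let θc' : P₁.functionField ⟶ P₂.functionField := CommRingCat.ofHom θ.symm.toRingHom
  have hθc : θc ≫ ffMap f₁ hξ₁ = ffMap f₂ hξ₂ := by
    ext z
    exact hθ z
  have hθc' : θc' ≫ ffMap f₂ hξ₂ = ffMap f₁ hξ₁ := by
    ext z
    show (ffMap f₂ hξ₂).hom (θ.symm z) = (ffMap f₁ hξ₁).hom z
    rw [← hθ (θ.symm z), θ.apply_symm_apply]
  have hθθ' : θc' ≫ θc = 𝟙 _ := by
    ext z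
    exact θ.apply_symm_apply z
  have hθ'θ : θc ≫ θc' = 𝟙 _ := by
    ext z
    exact θ.symm_apply_apply z
  have hepi : ∀ {Y : Scheme.{u}} [IsIntegral Y] (f : X ⟶ Y) (hξ : f (genericPoint X) = genericPoint Y),
      Epi (Spec.map (ffMap f hξ)) := by
    intro Y _ f hξ
    haveI hss : Subsingleton (Spec (Y.functionField)) :=
      inferInstanceAs (Subsingleton (PrimeSpectrum Y.functionField))
    haveI : Surjective (Spec.map (ffMap f hξ)) :=
      ⟨fun y => ⟨IsLocalRing.closedPoint X.functionField, Subsingleton.elim _ _⟩⟩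
    haveI : Flat (Spec.map (ffMap f hξ)) := by
      rw [Flat.SpecMap_iff]
      letI := (ffMap f hξ).hom.toAlgebra
      exact (inferInstance : Module.Flat Y.functionField X.functionField)
    exact Flat.epi_of_flat_of_surjective _
  have hτθ : Spec.map θc ≫ P₂.fromSpecStalk (genericPoint P₂) ≫ q₂ =
      P₁.fromSpecStalk (genericPoint P₁) ≫ q₁ := by
    haveI := hepi f₁ hξ₁
    rw [← cancel_epi (Spec.map (ffMap f₁ hξ₁))]
    rw [← Category.assoc, ← Spec.map_comp, hθc, ← Category.assoc, ← Category.assoc,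
      SpecMap_ffMap f₂ hξ₂, SpecMap_ffMap f₁ hξ₁, Category.assoc, Category.assoc, hf₁, hf₂]
  have hτθ' : Spec.map θc' ≫ P₁.fromSpecStalk (genericPoint P₁) ≫ q₁ =
      P₂.fromSpecStalk (genericPoint P₂) ≫ q₂ := by
    haveI := hepi f₂ hξ₂
    rw [← cancel_epi (Spec.map (ffMap f₂ hξ₂))]
    rw [← Category.assoc, ← Spec.map_comp, hθc', ← Category.assoc, ← Category.assoc,
      SpecMap_ffMap f₂ hξ₂, SpecMap_ffMap f₁ hξ₁, Category.assoc, Category.assoc, hf₁, hf₂]
  have hdim1₁ : ∀ y : P₁, ringKrullDim (P₁.presheaf.stalk y) ≤ 1 := by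
    intro y
    have := Groth.Agent.Helper5.DimIneq.ringKrullDim_stalk_le_dim P₁ y
    rw [hdim₁] at this
    exact this
  have hdim1₂ : ∀ y : P₂, ringKrullDim (P₂.presheaf.stalk y) ≤ 1 := by
    intro y
    have := Groth.Agent.Helper5.DimIneq.ringKrullDim_stalk_le_dim P₂ y
    rw [hdim₂] at this
    exact this
  obtain ⟨a, haq, haη⟩ := exists_hom_of_functionField_hom' q₁ q₂ hreg₁ hdim1₁ θc hτθ
  obtain ⟨b, hbq, hbη⟩ := exists_hom_of_functionField_hom' q₂ q₁ hreg₂ hdim1₂ θc' hτθ'
  haveI := Groth.Agent.Helper4.SN639.isDominant_fromSpecStalk_genericPoint P₁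
  haveI := Groth.Agent.Helper4.SN639.isDominant_fromSpecStalk_genericPoint P₂
  haveI := Groth.Agent.Helper4.SN639.isDominant_fromSpecStalk_genericPoint X
  haveI : IsSeparated q₁ := inferInstance
  haveI : IsSeparated q₂ := inferInstance
  have hab : a ≫ b = 𝟙 _ := by
    apply ext_of_isDominant_of_isSeparated q₁
      (by rw [Category.assoc, hbq, haq, Category.id_comp])
      (P₁.fromSpecStalk (genericPoint P₁))
    rw [← Category.assoc, haη, Category.assoc, hbη, ← Category.assoc, ← Spec.map_comp, hθθ',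
      Spec.map_id, Category.id_comp, Category.comp_id]
  have hba : b ≫ a = 𝟙 _ := by
    apply ext_of_isDominant_of_isSeparated q₂
      (by rw [Category.assoc, haq, hbq, Category.id_comp])
      (P₂.fromSpecStalk (genericPoint P₂))
    rw [← Category.assoc, hbη, Category.assoc, haη, ← Category.assoc, ← Spec.map_comp, hθ'θ,
      Spec.map_id, Category.id_comp, Category.comp_id]
  have hfa : f₁ ≫ a = f₂ := by
    apply ext_of_isDominant_of_isSeparated q₂
      (by rw [Category.assoc, haq, hf₁, hf₂])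
      (X.fromSpecStalk (genericPoint X))
    rw [← Category.assoc, ← SpecMap_ffMap f₁ hξ₁, Category.assoc, haη, ← Category.assoc,
      ← Spec.map_comp, hθc, SpecMap_ffMap f₂ hξ₂]
  exact ⟨⟨a, b, hab, hba⟩, haq, hfa⟩

end Main

end Groth.Agent.Helper4.SN703
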