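import Mathlib

/-!
# Algebra for the Weierstrass cubic: division by a monic quadratic, Eisenstein for the chart
at infinity, normalisation of a Weierstrass equation
-/

set_option autoImplicit false
set_option linter.unusedSectionVars false
set_option linter.style.haveILetI false

namespace Groth.Agent.Helper4.SN704

open Polynomial
open scoped IntermediateField

section Div

variable {k K : Type*} [Field k] [Field K] [Algebra k K]

/-- evaluation `k[x][y] → K` at `(x₀, y₀)` -/
noncomputable def ev2 (x₀ y₀ : K) : Polynomial (Polynomial k) →+* K :=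
  Polynomial.eval₂RingHom ((Polynomial.aeval x₀ : Polynomial k →ₐ[k] K) : Polynomial k →+* K) y₀

@[simp] theorem ev2_X (x₀ y₀ : K) : ev2 (k := k) x₀ y₀ X = y₀ := by
  simp [ev2]

@[simp] theorem ev2_C (x₀ y₀ : K) (p : Polynomial k) : ev2 x₀ y₀ (C p) = aeval x₀ p := by
  simp [ev2]

theorem aeval_mem_adjoin (x₀ : K) (p : Polynomial k) : aeval x₀ p ∈ k⟮x₀⟯ :=
  IntermediateField.algebra_adjoin_le_adjoin k _ (Polynomial.aeval_mem_adjoin_singleton k x₀)

theorem not_mem_adjoin_of_finrank {x₀ y₀ : K}
    (hgen : IntermediateField.adjoin k ({x₀, y₀} : Set K) = ⊤)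
    (hfr : Module.finrank k⟮x₀⟯ K = 2) : y₀ ∉ k⟮x₀⟯ := by
  intro hy
  have hle : IntermediateField.adjoin k ({x₀, y₀} : Set K) ≤ k⟮x₀⟯ := by
    rw [IntermediateField.adjoin_le_iff]
    rintro z (rfl | rfl)
    · exact IntermediateField.mem_adjoin_simple_self k _
    · exact hy
  rw [hgen, top_le_iff] at hle
  have := IntermediateField.finrank_eq_one_iff_eq_top.mpr hle
  omega

/-- the division argument: a polynomial relation between `x₀` and `y₀` is a multiple of the
monic quadratic relation -/
theorem dvd_of_ev2_eq_zero {x₀ y₀ : K} (htr : Transcendental k x₀) (hy : y₀ ∉ k⟮x₀⟯)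
    (w : Polynomial (Polynomial k)) (hw : w.Monic) (hdeg : w.natDegree = 2)
    (hw0 : ev2 x₀ y₀ w = 0) (g : Polynomial (Polynomial k)) (hg : ev2 x₀ y₀ g = 0) : w ∣ g := by
  rw [← Polynomial.modByMonic_eq_zero_iff_dvd hw]
  set r := g %ₘ w with hr
  have hrdeg : r.natDegree ≤ 1 := by
    have h1 : r.degree < w.degree := Polynomial.degree_modByMonic_lt g hw
    by_cases hr0 : r = 0
    · rw [hr0]; simp
    · have h2 : r.natDegree < w.natDegree :=
        Polynomial.natDegree_lt_natDegree hr0 h1
      omega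
  have hr0 : ev2 x₀ y₀ r = 0 := by
    have h1 := Polynomial.modByMonic_add_div g w
    have h2 : ev2 x₀ y₀ (r + w * (g /ₘ w)) = 0 := by rw [hr, h1, hg]
    rw [map_add, map_mul, hw0, zero_mul, add_zero] at h2
    exact h2
  have hre := Polynomial.eq_X_add_C_of_natDegree_le_one hrdeg
  rw [hre, map_add, map_mul, ev2_C, ev2_C, ev2_X] at hr0
  have h1 : aeval x₀ (r.coeff 1) = 0 := by
    by_contra hne
    apply hy
    have : y₀ = -(aeval x₀ (r.coeff 0)) / aeval x₀ (r.coeff 1) := by
      field_simp
      linear_combination hr0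
    rw [this]
    exact div_mem (neg_mem (aeval_mem_adjoin _ _)) (aeval_mem_adjoin _ _)
  have hc1 : r.coeff 1 = 0 := transcendental_iff.mp htr _ h1
  rw [h1, zero_mul, zero_add] at hr0
  have hc0 : r.coeff 0 = 0 := transcendental_iff.mp htr _ hr0
  rw [hre, hc1, hc0]
  simp

end Div

section Eis

variable {k : Type*} [Field k] (a₁ a₂ a₃ a₄ a₆ : k)

/-- minus the Weierstrass cubic in the chart `Y = 1`, as a polynomial in `x` over `k[z]` -/
noncomputable def w1 : Polynomial (Polynomial k) :=
  (Cubic.mk (1 : Polynomial k) (C a₂ * X) (C a₄ * X ^ 2 - C a₁ * X)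
    (C a₆ * X ^ 3 - C a₃ * X ^ 2 - X)).toPoly

theorem w1_monic : (w1 a₁ a₂ a₃ a₄ a₆).Monic := Cubic.monic_of_a_eq_one rfl

theorem w1_natDegree : (w1 a₁ a₂ a₃ a₄ a₆).natDegree = 3 :=
  Cubic.natDegree_of_a_ne_zero (by simp)

theorem w1_irreducible : Irreducible (w1 a₁ a₂ a₃ a₄ a₆) := by
  have hP : (Ideal.span {(X : Polynomial k)}).IsPrime :=
    (Ideal.span_singleton_prime X_ne_zero).mpr Polynomial.prime_X
  refine Polynomial.irreducible_of_eisenstein_criterion hP ?_ ?_ ?_ ?_ (w1_monic ..).isPrimitive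
  · rw [(w1_monic a₁ a₂ a₃ a₄ a₆).leadingCoeff]
    intro h
    exact hP.ne_top ((Ideal.eq_top_iff_one _).mpr h)
  · intro n hn
    rw [Polynomial.degree_eq_natDegree (w1_monic a₁ a₂ a₃ a₄ a₆).ne_zero, w1_natDegree] at hn
    have hn' : n < 3 := by exact_mod_cast hn
    rw [Ideal.mem_span_singleton, Polynomial.X_dvd_iff]
    interval_cases n
    · rw [w1, Cubic.coeff_eq_d]; simp
    · rw [w1, Cubic.coeff_eq_c]; simp
    · rw [w1, Cubic.coeff_eq_b]; simp
  · rw [Polynomial.degree_eq_natDegree (w1_monic a₁ a₂ a₃ a₄ a₆).ne_zero, w1_natDegree]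
    norm_num
  · rw [Ideal.span_singleton_pow, Ideal.mem_span_singleton, Polynomial.X_pow_dvd_iff]
    intro h
    have h1 := h 1 (by norm_num)
    rw [w1, Cubic.coeff_eq_d] at h1
    simp at h1

theorem w1_prime : (Ideal.span {w1 a₁ a₂ a₃ a₄ a₆}).IsPrime :=
  (Ideal.span_singleton_prime (w1_monic a₁ a₂ a₃ a₄ a₆).ne_zero).mpr
    (w1_irreducible a₁ a₂ a₃ a₄ a₆).prime

end Eis

section Norm

variable {k K : Type*} [Field k] [Field K] [Algebra k K]

theorem inv_scale (c : k) (hc : c ≠ 0) (z : K) :
    algebraMap k K c⁻¹ * (algebraMap k K c * z) = z := by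
  rw [← mul_assoc, ← map_mul, inv_mul_cancel₀ hc, map_one, one_mul]

theorem adjoin_scale_eq (c : k) (hc : c ≠ 0) (x : K) :
    k⟮algebraMap k K c * x⟯ = k⟮x⟯ := by
  apply le_antisymm
  · rw [IntermediateField.adjoin_simple_le_iff]
    exact mul_mem (IntermediateField.algebraMap_mem _ c) (IntermediateField.mem_adjoin_simple_self k x)
  · rw [IntermediateField.adjoin_simple_le_iff]
    have := mul_mem (IntermediateField.algebraMap_mem k⟮algebraMap k K c * x⟯ c⁻¹)
      (IntermediateField.mem_adjoin_simple_self k (algebraMap k K c * x))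
    rwa [inv_scale c hc] at this

theorem adjoin_pair_scale_eq_top (c d : k) (hc : c ≠ 0) (hd : d ≠ 0) (x y : K)
    (h : IntermediateField.adjoin k ({x, y} : Set K) = ⊤) :
    IntermediateField.adjoin k ({algebraMap k K c * x, algebraMap k K d * y} : Set K) = ⊤ := by
  rw [eq_top_iff, ← h, IntermediateField.adjoin_le_iff]
  rintro z (rfl | rfl)
  · have := mul_mem (IntermediateField.algebraMap_mem
      (IntermediateField.adjoin k ({algebraMap k K c * z, algebraMap k K d * y} : Set K)) c⁻¹)
      (IntermediateField.subset_adjoin k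
        ({algebraMap k K c * z, algebraMap k K d * y} : Set K) (Set.mem_insert _ _))
    rwa [inv_scale c hc] at this
  · have := mul_mem (IntermediateField.algebraMap_mem
      (IntermediateField.adjoin k ({algebraMap k K c * x, algebraMap k K d * z} : Set K)) d⁻¹)
      (IntermediateField.subset_adjoin k
        ({algebraMap k K c * x, algebraMap k K d * z} : Set K)
        (Set.mem_insert_of_mem _ (Set.mem_singleton _)))
    rwa [inv_scale d hd] at this

theorem transcendental_scale (c : k) (hc : c ≠ 0) (x : K) (hx : Transcendental k x) :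
    Transcendental k (algebraMap k K c * x) := by
  intro h
  apply hx
  have := (isAlgebraic_algebraMap (R := k) (A := K) c⁻¹).mul h
  rwa [inv_scale c hc] at this

/-- normalisation of a Weierstrass equation `y² + f(x) y + g(x) = 0` -/
theorem exists_weierstrass_normal_form (x y : K) (f g : Polynomial k) (hf : f.natDegree ≤ 1)
    (hg : g.natDegree = 3) (h : y ^ 2 + aeval x f * y + aeval x g = 0) :
    ∃ c : k, c ≠ 0 ∧ ∃ a₁ a₂ a₃ a₄ a₆ : k,
      (algebraMap k K c * y) ^ 2 + algebraMap k K a₁ * (algebraMap k K (-c) * x) *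
        (algebraMap k K c * y) + algebraMap k K a₃ * (algebraMap k K c * y) =
      (algebraMap k K (-c) * x) ^ 3 + algebraMap k K a₂ * (algebraMap k K (-c) * x) ^ 2 +
        algebraMap k K a₄ * (algebraMap k K (-c) * x) + algebraMap k K a₆ := by
  have hc : g.coeff 3 ≠ 0 := by
    rw [← hg]
    intro h0
    rw [Polynomial.coeff_natDegree, Polynomial.leadingCoeff_eq_zero] at h0
    rw [h0] at hg
    simp at hg
  refine ⟨g.coeff 3, hc, -f.coeff 1, -g.coeff 2, f.coeff 0 * g.coeff 3, g.coeff 3 * g.coeff 1,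
    -(g.coeff 3 ^ 2 * g.coeff 0), ?_⟩
  have hfe : aeval x f = algebraMap k K (f.coeff 1) * x + algebraMap k K (f.coeff 0) := by
    conv_lhs => rw [Polynomial.eq_X_add_C_of_natDegree_le_one hf]
    simp
  have hge : aeval x g = algebraMap k K (g.coeff 3) * x ^ 3 + algebraMap k K (g.coeff 2) * x ^ 2 +
      algebraMap k K (g.coeff 1) * x + algebraMap k K (g.coeff 0) := by
    conv_lhs => rw [Polynomial.as_sum_range_C_mul_X_pow g, hg]
    simp [Finset.sum_range_succ]
    ring
  rw [hfe, hge] at h
  simp only [map_neg, map_mul, map_pow]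
  linear_combination (algebraMap k K (g.coeff 3)) ^ 2 * h

end Norm

end Groth.Agent.Helper4.SN704
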