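import Mathlib
import Groth.Agent.Helper1.Segre7
import Groth.Agent.Helper4.SN704

/-!
# The standard charts of `P²` as polynomial rings in two variables
-/

set_option autoImplicit false
set_option linter.unusedSectionVars false
set_option linter.style.haveILetI false

universe u

namespace Groth.Agent.Helper4.SN705

open HomogeneousLocalization Groth.Agent.Helper1.Segre Polynomial

section Lift

variable (k : Type u) [CommRing k] (n : ℕ) (i : Fin (n + 1)) {R : Type*} [CommRing R]

/-- a ring homomorphism out of the degree-zero localisation `k[X_0..X_n]_(X_i)` from a ring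
homomorphism on polynomials sending `X_i` to `1` -/
noncomputable def awayLift (φ : MvPolynomial (Fin (n + 1)) k →+* R)
    (h : φ (MvPolynomial.X i) = 1) :
    Away (CohB1.polyGrading n k) (MvPolynomial.X i : MvPolynomial (Fin (n + 1)) k) →+* R :=
  (IsLocalization.Away.lift (MvPolynomial.X i : MvPolynomial (Fin (n + 1)) k) (g := φ)
    (by rw [h]; exact isUnit_one)).comp
    (algebraMap _ (Localization.Away (MvPolynomial.X i : MvPolynomial (Fin (n + 1)) k)))

theorem awayLift_dehom (φ : MvPolynomial (Fin (n + 1)) k →+* R)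
    (h : φ (MvPolynomial.X i) = 1) (G : MvPolynomial (Fin (n + 1)) k) :
    awayLift k n i φ h (dehom k n i G) = φ G := by
  have key : (awayLift k n i φ h).comp (dehom k n i) = φ := by
    apply MvPolynomial.ringHom_ext
    · intro c
      unfold awayLift dehom
      rw [RingHom.comp_apply, MvPolynomial.coe_eval₂Hom, MvPolynomial.eval₂_C]
      simp only [RingHom.comp_apply]
      rw [HomogeneousLocalization.algebraMap_apply]
      show (IsLocalization.Away.lift _ _) (Localization.mk _ 1) = _
      rw [Localization.mk_one_eq_algebraMap, IsLocalization.Away.lift_eq]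
      rfl
    · intro l
      unfold awayLift dehom
      rw [RingHom.comp_apply, MvPolynomial.coe_eval₂Hom, MvPolynomial.eval₂_X]
      simp only [RingHom.comp_apply]
      rw [HomogeneousLocalization.algebraMap_apply, val_ratio, Localization.mk_eq_mk']
      unfold IsLocalization.Away.lift
      rw [IsLocalization.lift_mk'_spec]
      simp [h]
  exact congr($key G)

end Lift

section Chart

variable (k : Type u) [CommRing k] (i l₁ l₂ : Fin 3)

/-- the images of the variables: `X_{l₁} ↦ C X`, `X_{l₂} ↦ X`, everything else `↦ 1` -/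
noncomputable def vv : Fin 3 → Polynomial (Polynomial k) :=
  fun l => if l = l₁ then C X else if l = l₂ then X else 1

/-- dehomogenisation to `k[x][y]` -/
noncomputable def ev : MvPolynomial (Fin 3) k →+* Polynomial (Polynomial k) :=
  MvPolynomial.eval₂Hom ((C : Polynomial k →+* _).comp (C : k →+* _)) (vv k l₁ l₂)

/-- constants of the chart ring -/
noncomputable def konst :
    k →+* Away (CohB1.polyGrading 2 k) (MvPolynomial.X i : MvPolynomial (Fin 3) k) :=
  (fromZeroRingHom (CohB1.polyGrading 2 k) (Submonoid.powers (MvPolynomial.X i))).comp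
    (algebraMap k (CohB1.polyGrading 2 k 0))

/-- the inverse, `k[x][y] → k[X_0,X_1,X_2]_(X_i)` -/
noncomputable def alpha : Polynomial (Polynomial k) →+*
    Away (CohB1.polyGrading 2 k) (MvPolynomial.X i : MvPolynomial (Fin 3) k) :=
  Polynomial.eval₂RingHom (Polynomial.eval₂RingHom (konst k i)
    (ratio (CohB1.polyGrading 2 k) (hX i) (hX l₁)))
    (ratio (CohB1.polyGrading 2 k) (hX i) (hX l₂))

variable (hcover : ∀ l : Fin 3, l = i ∨ l = l₁ ∨ l = l₂) (h1 : l₁ ≠ i) (h2 : l₂ ≠ i)
  (h12 : l₁ ≠ l₂)

include h1 h2 in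
theorem ev_X_i : ev k l₁ l₂ (MvPolynomial.X i) = 1 := by
  unfold ev vv
  rw [MvPolynomial.coe_eval₂Hom, MvPolynomial.eval₂_X, if_neg (Ne.symm h1), if_neg (Ne.symm h2)]

theorem ev_X_l₁ : ev k l₁ l₂ (MvPolynomial.X l₁) = C X := by
  unfold ev vv
  rw [MvPolynomial.coe_eval₂Hom, MvPolynomial.eval₂_X, if_pos rfl]

include h12 in
theorem ev_X_l₂ : ev k l₁ l₂ (MvPolynomial.X l₂) = X := by
  unfold ev vv
  rw [MvPolynomial.coe_eval₂Hom, MvPolynomial.eval₂_X, if_neg (Ne.symm h12), if_pos rfl]

theorem ev_C (c : k) : ev k l₁ l₂ (MvPolynomial.C c) = C (C c) := by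
  unfold ev
  rw [MvPolynomial.coe_eval₂Hom, MvPolynomial.eval₂_C]
  rfl

include hcover h1 h2 h12 in
theorem alpha_comp_ev : (alpha k i l₁ l₂).comp (ev k l₁ l₂) = dehom k 2 i := by
  apply MvPolynomial.ringHom_ext
  · intro c
    rw [RingHom.comp_apply, ev_C]
    unfold alpha dehom
    simp only [Polynomial.coe_eval₂RingHom, Polynomial.eval₂_C, MvPolynomial.coe_eval₂Hom,
      MvPolynomial.eval₂_C]
    rfl
  · intro l
    have hd : dehom k 2 i (MvPolynomial.X l) =
        ratio (CohB1.polyGrading 2 k) (hX i) (hX l) := by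
      unfold dehom
      rw [MvPolynomial.coe_eval₂Hom, MvPolynomial.eval₂_X]
    rw [RingHom.comp_apply, hd]
    rcases hcover l with rfl | rfl | rfl
    · rw [ev_X_i k l l₁ l₂ h1 h2, map_one, ratio_self]
    · rw [ev_X_l₁]
      unfold alpha
      simp only [Polynomial.coe_eval₂RingHom, Polynomial.eval₂_C, Polynomial.eval₂_X]
    · rw [ev_X_l₂ k l₁ l h12]
      unfold alpha
      simp only [Polynomial.coe_eval₂RingHom, Polynomial.eval₂_X]

/-- the chart ring as a polynomial ring -/
noncomputable def beta : Away (CohB1.polyGrading 2 k)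
    (MvPolynomial.X i : MvPolynomial (Fin 3) k) →+* Polynomial (Polynomial k) :=
  awayLift k 2 i (ev k l₁ l₂) (ev_X_i k i l₁ l₂ h1 h2)

theorem beta_dehom (G : MvPolynomial (Fin 3) k) :
    beta k i l₁ l₂ h1 h2 (dehom k 2 i G) = ev k l₁ l₂ G :=
  awayLift_dehom k 2 i _ _ G

include hcover h12 in
theorem alpha_beta (a : Away (CohB1.polyGrading 2 k)
    (MvPolynomial.X i : MvPolynomial (Fin 3) k)) :
    alpha k i l₁ l₂ (beta k i l₁ l₂ h1 h2 a) = a := by
  obtain ⟨d, G, hG, rfl⟩ := Away.mk_surjective (CohB1.polyGrading 2 k) (hX i) a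
  rw [mk_eq_dehom, beta_dehom]
  exact congr($(alpha_comp_ev k i l₁ l₂ hcover h1 h2 h12) G)

include h12 in
theorem beta_alpha (b : Polynomial (Polynomial k)) :
    beta k i l₁ l₂ h1 h2 (alpha k i l₁ l₂ b) = b := by
  have hr : ∀ l, ratio (CohB1.polyGrading 2 k) (hX i) (hX l) =
      dehom k 2 i (MvPolynomial.X l) := by
    intro l
    unfold dehom
    rw [MvPolynomial.coe_eval₂Hom, MvPolynomial.eval₂_X]
  have key : (beta k i l₁ l₂ h1 h2).comp (alpha k i l₁ l₂) = RingHom.id _ := by
    apply Polynomial.ringHom_ext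
    · intro p
      rw [RingHom.comp_apply, RingHom.id_apply]
      unfold alpha
      rw [Polynomial.coe_eval₂RingHom, Polynomial.eval₂_C]
      have key2 : (beta k i l₁ l₂ h1 h2).comp (Polynomial.eval₂RingHom (konst k i)
          (ratio (CohB1.polyGrading 2 k) (hX i) (hX l₁))) = (C : Polynomial k →+* _) := by
        apply Polynomial.ringHom_ext
        · intro c
          rw [RingHom.comp_apply, Polynomial.coe_eval₂RingHom, Polynomial.eval₂_C]
          have : konst k i c = dehom k 2 i (MvPolynomial.C c) := by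
            unfold dehom konst
            rw [MvPolynomial.coe_eval₂Hom, MvPolynomial.eval₂_C]
          rw [this, beta_dehom, ev_C]
        · rw [RingHom.comp_apply, Polynomial.coe_eval₂RingHom, Polynomial.eval₂_X, hr,
            beta_dehom, ev_X_l₁]
      exact congr($key2 p)
    · rw [RingHom.comp_apply, RingHom.id_apply]
      unfold alpha
      rw [Polynomial.coe_eval₂RingHom, Polynomial.eval₂_X, hr, beta_dehom, ev_X_l₂ k l₁ l₂ h12]
  exact congr($key b)

/-- the chart ring is the polynomial ring `k[x][y]` -/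
noncomputable def chartPoly : Away (CohB1.polyGrading 2 k)
    (MvPolynomial.X i : MvPolynomial (Fin 3) k) ≃+* Polynomial (Polynomial k) :=
  { beta k i l₁ l₂ h1 h2 with
    invFun := alpha k i l₁ l₂
    left_inv := alpha_beta k i l₁ l₂ hcover h1 h2 h12
    right_inv := beta_alpha k i l₁ l₂ h1 h2 h12 }

theorem chartPoly_dehom (G : MvPolynomial (Fin 3) k) :
    chartPoly k i l₁ l₂ hcover h1 h2 h12 (dehom k 2 i G) = ev k l₁ l₂ G :=
  beta_dehom k i l₁ l₂ h1 h2 G

theorem chartPoly_konst (c : k) :
    chartPoly k i l₁ l₂ hcover h1 h2 h12 (konst k i c) = C (C c) := by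
  have : konst k i c = dehom k 2 i (MvPolynomial.C c) := by
    unfold dehom konst
    rw [MvPolynomial.coe_eval₂Hom, MvPolynomial.eval₂_C]
  rw [this, chartPoly_dehom, ev_C]

/-- the ideal generated by a dehomogenised form corresponds to the ideal generated by its
dehomogenisation in `k[x][y]` -/
theorem span_dehom_eq_comap (G : MvPolynomial (Fin 3) k) :
    Ideal.span {dehom k 2 i G} =
      Ideal.comap (chartPoly k i l₁ l₂ hcover h1 h2 h12 : _ →+* _)
        (Ideal.span {ev k l₁ l₂ G}) := by
  have h : Ideal.span {ev k l₁ l₂ G} =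
      Ideal.map (chartPoly k i l₁ l₂ hcover h1 h2 h12 : _ →+* _)
        (Ideal.span {dehom k 2 i G}) := by
    rw [Ideal.map_span, Set.image_singleton]
    congr 2
    exact (chartPoly_dehom k i l₁ l₂ hcover h1 h2 h12 G).symm
  rw [h]
  exact (Ideal.comap_map_of_bijective _ (chartPoly k i l₁ l₂ hcover h1 h2 h12).bijective).symm

end Chart

end Groth.Agent.Helper4.SN705
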