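import Mathlib
import Groth.Agent.Helper4.SN705

/-!
# The Weierstrass cubic form and its dehomogenisations
-/

set_option autoImplicit false
set_option linter.unusedSectionVars false
set_option linter.style.haveILetI false

universe u

namespace Groth.Agent.Helper4.SN706

open HomogeneousLocalization Groth.Agent.Helper1.Segre Polynomial
open Groth.Agent.Helper4.SN704 Groth.Agent.Helper4.SN705

section W

variable {k : Type u} [Field k] (a₁ a₂ a₃ a₄ a₆ : k)

/-- the Weierstrass cubic form -/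
noncomputable def WW : MvPolynomial (Fin (2 + 1)) k :=
  MvPolynomial.X 1 ^ 2 * MvPolynomial.X 2 + MvPolynomial.C a₁ * MvPolynomial.X 0 * MvPolynomial.X 1 * MvPolynomial.X 2 + MvPolynomial.C a₃ * MvPolynomial.X 1 * MvPolynomial.X 2 ^ 2 - MvPolynomial.X 0 ^ 3 - MvPolynomial.C a₂ * MvPolynomial.X 0 ^ 2 * MvPolynomial.X 2 - MvPolynomial.C a₄ * MvPolynomial.X 0 * MvPolynomial.X 2 ^ 2 - MvPolynomial.C a₆ * MvPolynomial.X 2 ^ 3

theorem WW_isHomogeneous : (WW a₁ a₂ a₃ a₄ a₆).IsHomogeneous 3 := by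
  have hX : ∀ i : Fin (2 + 1), (MvPolynomial.X i : MvPolynomial (Fin (2 + 1)) k).IsHomogeneous 1 :=
    fun i => MvPolynomial.isHomogeneous_X k i
  have hC : ∀ c : k, (MvPolynomial.C c : MvPolynomial (Fin (2 + 1)) k).IsHomogeneous 0 :=
    fun c => MvPolynomial.isHomogeneous_C _ c
  unfold WW
  refine (((((MvPolynomial.IsHomogeneous.add ?_ ?_).add ?_).sub ?_).sub ?_).sub ?_).sub ?_
  · exact ((hX 1).pow 2).mul (hX 2)
  · exact (((hC a₁).mul (hX 0)).mul (hX 1)).mul (hX 2)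
  · exact ((hC a₃).mul (hX 1)).mul ((hX 2).pow 2)
  · exact (hX 0).pow 3
  · exact ((hC a₂).mul ((hX 0).pow 2)).mul (hX 2)
  · exact ((hC a₄).mul (hX 0)).mul ((hX 2).pow 2)
  · exact (hC a₆).mul ((hX 2).pow 3)

/-- the affine Weierstrass equation as a monic quadratic in `y` over `k[x]` -/
noncomputable def wq : Polynomial (Polynomial k) :=
  C (1 : Polynomial k) * X ^ 2 + C (C a₁ * X + C a₃) * X +
    C (-(X ^ 3 + C a₂ * X ^ 2 + C a₄ * X + C a₆))

theorem wq_monic : (wq a₁ a₂ a₃ a₄ a₆).Monic := by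
  unfold wq Polynomial.Monic
  rw [Polynomial.leadingCoeff_quadratic one_ne_zero]

theorem wq_natDegree : (wq a₁ a₂ a₃ a₄ a₆).natDegree = 2 := by
  unfold wq
  exact Polynomial.natDegree_quadratic one_ne_zero

theorem ev_WW_two : ev k 0 1 (WW a₁ a₂ a₃ a₄ a₆) = wq a₁ a₂ a₃ a₄ a₆ := by
  have e0 : ev k 0 1 (MvPolynomial.X 0) = C X := ev_X_l₁ k 0 1
  have e1 : ev k 0 1 (MvPolynomial.X 1) = X := ev_X_l₂ k 0 1 (by decide)
  have e2 : ev k 0 1 (MvPolynomial.X 2) = 1 := ev_X_i k 2 0 1 (by decide) (by decide)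
  have eC : ∀ c : k, ev k 0 1 (MvPolynomial.C c) = C (C c) := ev_C k 0 1
  unfold WW wq
  simp only [map_add, map_sub, map_mul, map_pow, eC, e0, e1, e2, map_neg, map_one]
  ring

theorem ev_WW_one : ev k 2 0 (WW a₁ a₂ a₃ a₄ a₆) = -w1 a₁ a₂ a₃ a₄ a₆ := by
  have e0 : ev k 2 0 (MvPolynomial.X 0) = X := ev_X_l₂ k 2 0 (by decide)
  have e1 : ev k 2 0 (MvPolynomial.X 1) = 1 := ev_X_i k 1 2 0 (by decide) (by decide)
  have e2 : ev k 2 0 (MvPolynomial.X 2) = C X := ev_X_l₁ k 2 0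
  have eC : ∀ c : k, ev k 2 0 (MvPolynomial.C c) = C (C c) := ev_C k 2 0
  unfold WW w1 Cubic.toPoly
  simp only [map_add, map_sub, map_mul, map_pow, eC, e0, e1, e2, map_neg, map_one]
  ring

/-- the chart `X_2 ≠ 0` as the polynomial ring `k[x][y]`, `x = X_0/X_2`, `y = X_1/X_2` -/
noncomputable def chart2 : Away (CohB1.polyGrading 2 k)
    (MvPolynomial.X 2 : MvPolynomial (Fin 3) k) ≃+* Polynomial (Polynomial k) :=
  chartPoly k 2 0 1 (by decide) (by decide) (by decide) (by decide)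

/-- the chart `X_1 ≠ 0` as the polynomial ring `k[z][x]`, `z = X_2/X_1`, `x = X_0/X_1` -/
noncomputable def chart1 : Away (CohB1.polyGrading 2 k)
    (MvPolynomial.X 1 : MvPolynomial (Fin 3) k) ≃+* Polynomial (Polynomial k) :=
  chartPoly k 1 2 0 (by decide) (by decide) (by decide) (by decide)

/-- the Weierstrass cubic is prime in the chart `X_1 ≠ 0` -/
theorem isPrime_span_dehom_one :
    (Ideal.span {dehom k 2 1 (WW a₁ a₂ a₃ a₄ a₆)}).IsPrime := by
  rw [span_dehom_eq_comap k 1 2 0 (by decide) (by decide) (by decide) (by decide), ev_WW_one,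
    Ideal.span_singleton_neg]
  haveI := w1_prime a₁ a₂ a₃ a₄ a₆
  exact Ideal.comap_isPrime _ _

section K

variable {K : Type*} [Field K] [Algebra k K] (x₀ y₀ : K)

/-- the evaluation of the chart `X_2 ≠ 0` at `(x₀, y₀)` -/
noncomputable def psi : Away (CohB1.polyGrading 2 k)
    (MvPolynomial.X 2 : MvPolynomial (Fin 3) k) →+* K :=
  (ev2 x₀ y₀).comp (chart2 (k := k)).toRingHom

theorem psi_dehom (G : MvPolynomial (Fin 3) k) :
    psi x₀ y₀ (dehom k 2 2 G) = ev2 x₀ y₀ (ev k 0 1 G) := by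
  unfold psi chart2
  rw [RingHom.comp_apply]
  congr 1
  exact chartPoly_dehom k 2 0 1 (by decide) (by decide) (by decide) (by decide) G

theorem psi_konst (c : k) : psi x₀ y₀ (konst k 2 c) = algebraMap k K c := by
  unfold psi chart2
  rw [RingHom.comp_apply]
  have := chartPoly_konst k 2 0 1 (by decide) (by decide) (by decide) (by decide) c
  rw [RingEquiv.toRingHom_eq_coe, RingHom.coe_coe, this, ev2_C, Polynomial.aeval_C]

theorem psi_X0 : psi x₀ y₀ (dehom k 2 2 (MvPolynomial.X 0)) = x₀ := by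
  rw [psi_dehom, ev_X_l₁, ev2_C, Polynomial.aeval_X]

theorem psi_X1 : psi x₀ y₀ (dehom k 2 2 (MvPolynomial.X 1)) = y₀ := by
  rw [psi_dehom, ev_X_l₂ k 0 1 (by decide), ev2_X]

theorem ev2_wq : ev2 x₀ y₀ (wq a₁ a₂ a₃ a₄ a₆) =
    y₀ ^ 2 + algebraMap k K a₁ * x₀ * y₀ + algebraMap k K a₃ * y₀ -
      (x₀ ^ 3 + algebraMap k K a₂ * x₀ ^ 2 + algebraMap k K a₄ * x₀ + algebraMap k K a₆) := by
  unfold wq
  simp only [map_add, map_mul, map_pow, ev2_C, ev2_X, map_neg, map_one, Polynomial.aeval_C,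
    Polynomial.aeval_X, one_mul]
  ring

open scoped IntermediateField in
/-- the kernel of the evaluation at a generic point of the Weierstrass cubic -/
theorem ker_psi (htr : Transcendental k x₀) (hy : y₀ ∉ k⟮x₀⟯)
    (heq : y₀ ^ 2 + algebraMap k K a₁ * x₀ * y₀ + algebraMap k K a₃ * y₀ =
      x₀ ^ 3 + algebraMap k K a₂ * x₀ ^ 2 + algebraMap k K a₄ * x₀ + algebraMap k K a₆) :
    RingHom.ker (psi (k := k) x₀ y₀) = Ideal.span {dehom k 2 2 (WW a₁ a₂ a₃ a₄ a₆)} := by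
  have hw0 : ev2 x₀ y₀ (wq a₁ a₂ a₃ a₄ a₆) = 0 := by
    rw [ev2_wq, heq, sub_self]
  have hker : RingHom.ker (ev2 (k := k) x₀ y₀) = Ideal.span {wq a₁ a₂ a₃ a₄ a₆} := by
    apply le_antisymm
    · intro g hg
      rw [Ideal.mem_span_singleton]
      exact dvd_of_ev2_eq_zero htr hy _ (wq_monic ..) (wq_natDegree ..) hw0 g hg
    · rw [Ideal.span_singleton_le_iff_mem]
      exact hw0
  rw [span_dehom_eq_comap k 2 0 1 (by decide) (by decide) (by decide) (by decide), ev_WW_two,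
    ← hker]
  rfl

end K

end W

end Groth.Agent.Helper4.SN706
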