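import Mathlib
import Groth.Agent.Helper4.SN706
import Groth.Agent.Helper4.SN695
import Groth.Agent.Helper1.CIReg5
import Groth.Agent.Helper3.ProjSmooth

/-!
# The Weierstrass cubic curve is integral
-/

set_option autoImplicit false
set_option linter.unusedSectionVars false
set_option linter.style.haveILetI false

universe u

open CategoryTheory CategoryTheory.Limits AlgebraicGeometry TopologicalSpace Opposite

namespace Groth.Agent.Helper4.SN707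

open HomogeneousLocalization Groth.Agent.Helper1.Segre
open Groth.Agent.Helper4.SN704 Groth.Agent.Helper4.SN705 Groth.Agent.Helper4.SN706
open Groth.Agent.Helper1.Hyp Groth.Agent.Helper1.CIReg

section Gen

/-- the stalks of a scheme at the points of an affine open with integral ring of sections are
domains -/
theorem isDomain_stalk_of_isAffineOpen {X : Scheme.{u}} {V : X.Opens} (hV : IsAffineOpen V)
    [IsDomain Γ(X, V)] (x : X) (hx : x ∈ V) : IsDomain (X.presheaf.stalk x) := by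
  letI := X.presheaf.algebra_section_stalk ⟨x, hx⟩
  haveI := hV.isLocalization_stalk ⟨x, hx⟩
  exact IsLocalization.isDomain_of_atPrime (X.presheaf.stalk x)
    (hV.primeIdealOf ⟨x, hx⟩).asIdeal

/-- sections of a closed subscheme over the preimage of an affine open, when the ideal is prime -/
theorem isDomain_sections_subscheme {X : Scheme.{u}} (I : X.IdealSheafData) (U : X.affineOpens)
    (hI : (I.ideal U).IsPrime) : IsDomain Γ(I.subscheme, I.subschemeι ⁻¹ᵁ U) := by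
  haveI : IsDomain (Γ(X, U) ⧸ I.ideal U) := Ideal.Quotient.isDomain _
  exact MulEquiv.isDomain (Γ(X, U) ⧸ I.ideal U)
    (I.subschemeObjIso U).commRingCatIsoToRingEquiv.toMulEquiv

end Gen

section W

variable {k : Type u} [Field k] (a₁ a₂ a₃ a₄ a₆ : k)

/-- the Weierstrass cubic, as a form of degree three -/
noncomputable def Wf : LefPen.Form 2 k 3 :=
  ⟨WW a₁ a₂ a₃ a₄ a₆, (MvPolynomial.mem_homogeneousSubmodule _ _).mpr (WW_isHomogeneous ..)⟩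

theorem dehom_eq (i : Fin 3) :
    LefPen.dehom (Wf a₁ a₂ a₃ a₄ a₆) i = chartEquiv i (dehom k 2 i (WW a₁ a₂ a₃ a₄ a₆)) := by
  rw [← chartEquiv_mk i (Wf a₁ a₂ a₃ a₄ a₆)]
  congr 1
  exact mk_eq_dehom k 2 i 3 _ _

theorem ideal_chart (i : Fin 3) :
    (LefPen.hypIdeal (Wf a₁ a₂ a₃ a₄ a₆)).ideal (chartA i) =
      Ideal.map (chartEquiv (n := 2) (k := k) i : _ →+* _)
        (Ideal.span {dehom k 2 i (WW a₁ a₂ a₃ a₄ a₆)}) := by
  rw [ideal_hypIdeal_chart, dehom_eq, Ideal.map_span, Set.image_singleton]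
  rfl

/-- the Weierstrass cubic curve -/
noncomputable abbrev DD : Scheme.{u} := (LefPen.hypIdeal (Wf a₁ a₂ a₃ a₄ a₆)).subscheme

/-- its closed immersion into the plane -/
noncomputable abbrev ιD : DD a₁ a₂ a₃ a₄ a₆ ⟶ CohB1.ProjSpace 2 k :=
  (LefPen.hypIdeal (Wf a₁ a₂ a₃ a₄ a₆)).subschemeι

theorem isPrime_ideal_chart_one :
    ((LefPen.hypIdeal (Wf a₁ a₂ a₃ a₄ a₆)).ideal (chartA 1)).IsPrime := by
  rw [ideal_chart]
  haveI := isPrime_span_dehom_one a₁ a₂ a₃ a₄ a₆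
  exact Ideal.map_isPrime_of_equiv (chartEquiv (n := 2) (k := k) 1)

/-- every point of the curve lies in the chart `X_1 ≠ 0` or in the chart `X_2 ≠ 0` -/
theorem mem_chart_one_or_two (x : DD a₁ a₂ a₃ a₄ a₆) :
    ιD a₁ a₂ a₃ a₄ a₆ x ∈ LefPen.chart 2 k 1 ∨ ιD a₁ a₂ a₃ a₄ a₆ x ∈ LefPen.chart 2 k 2 := by
  by_contra hcon
  push Not at hcon
  obtain ⟨h1, h2⟩ := hcon
  set y := ιD a₁ a₂ a₃ a₄ a₆ x with hy
  have hsupp : y ∈ (LefPen.hypIdeal (Wf a₁ a₂ a₃ a₄ a₆)).support := by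
    have := Scheme.IdealSheafData.range_subschemeι (LefPen.hypIdeal (Wf a₁ a₂ a₃ a₄ a₆))
    rw [← SetLike.mem_coe, ← this]
    exact ⟨x, rfl⟩
  have hW := (mem_support_hypIdeal_iff (Wf a₁ a₂ a₃ a₄ a₆) y).1 hsupp
  have hX1 : (MvPolynomial.X 1 : MvPolynomial (Fin (2 + 1)) k) ∈ (toPS y).asHomogeneousIdeal := by
    by_contra h
    exact h1 ((ProjectiveSpectrum.mem_basicOpen _ _ _).2 h)
  have hX2 : (MvPolynomial.X 2 : MvPolynomial (Fin (2 + 1)) k) ∈ (toPS y).asHomogeneousIdeal := by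
    by_contra h
    exact h2 ((ProjectiveSpectrum.mem_basicOpen _ _ _).2 h)
  have hX0 : (MvPolynomial.X 0 : MvPolynomial (Fin (2 + 1)) k) ∈ (toPS y).asHomogeneousIdeal := by
    have h3 : (MvPolynomial.X 0 : MvPolynomial (Fin (2 + 1)) k) ^ 3 ∈
        (toPS y).asHomogeneousIdeal.toIdeal := by
      have e : (MvPolynomial.X 0 : MvPolynomial (Fin (2 + 1)) k) ^ 3 =
          -(WW a₁ a₂ a₃ a₄ a₆) +
          (MvPolynomial.X 1 * MvPolynomial.X 2 + MvPolynomial.C a₁ * MvPolynomial.X 0 * MvPolynomial.X 2) *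
            MvPolynomial.X 1 +
          (MvPolynomial.C a₃ * MvPolynomial.X 1 * MvPolynomial.X 2 -
            MvPolynomial.C a₂ * MvPolynomial.X 0 ^ 2 - MvPolynomial.C a₄ * MvPolynomial.X 0 * MvPolynomial.X 2 -
            MvPolynomial.C a₆ * MvPolynomial.X 2 ^ 2) * MvPolynomial.X 2 := by
        unfold WW
        ring
      rw [e]
      have hW' : WW a₁ a₂ a₃ a₄ a₆ ∈ (toPS y).asHomogeneousIdeal.toIdeal := hW
      have hX1' : (MvPolynomial.X 1 : MvPolynomial (Fin (2 + 1)) k) ∈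
          (toPS y).asHomogeneousIdeal.toIdeal := hX1
      have hX2' : (MvPolynomial.X 2 : MvPolynomial (Fin (2 + 1)) k) ∈
          (toPS y).asHomogeneousIdeal.toIdeal := hX2
      exact add_mem (add_mem (neg_mem hW') (Ideal.mul_mem_left _ _ hX1'))
        (Ideal.mul_mem_left _ _ hX2')
    exact (toPS y).isPrime.mem_of_pow_mem 3 h3
  apply (toPS y).not_irrelevant_le
  have hall : ∀ i : Fin (2 + 1), (MvPolynomial.X i : MvPolynomial (Fin (2 + 1)) k) ∈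
      (toPS y).asHomogeneousIdeal := by
    intro i
    fin_cases i
    · exact hX0
    · exact hX1
    · exact hX2
  refine (Groth.Agent.Helper3.ProjSmooth.irrelevant_le_span 2 k).trans ?_
  rw [Ideal.span_le]
  rintro _ ⟨i, rfl⟩
  exact hall i

theorem Wf_ne_zero : Wf a₁ a₂ a₃ a₄ a₆ ≠ 0 := by
  intro h
  have h1 : WW a₁ a₂ a₃ a₄ a₆ = 0 := congrArg Subtype.val h
  have h2 := ev_WW_two a₁ a₂ a₃ a₄ a₆
  rw [h1, map_zero] at h2
  exact (wq_monic a₁ a₂ a₃ a₄ a₆).ne_zero h2.symm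

/-- the structure morphism of the Weierstrass cubic curve -/
noncomputable instance overDD : (DD a₁ a₂ a₃ a₄ a₆).Over (Spec (CommRingCat.of k)) :=
  ⟨ιD a₁ a₂ a₃ a₄ a₆ ≫ CohB1.ProjSpace.toSpec 2 k⟩

theorem over_eq : (DD a₁ a₂ a₃ a₄ a₆) ↘ (Spec (CommRingCat.of k)) =
    ιD a₁ a₂ a₃ a₄ a₆ ≫ CohB1.ProjSpace.toSpec 2 k := rfl

instance isProper_DD : IsProper ((DD a₁ a₂ a₃ a₄ a₆) ↘ (Spec (CommRingCat.of k))) :=
  Groth.Agent.Helper4.SN695.isProper_planeCurve _ (over_eq a₁ a₂ a₃ a₄ a₆)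

theorem dim_DD : topologicalKrullDim (DD a₁ a₂ a₃ a₄ a₆) = 1 :=
  Groth.Agent.Helper4.SN695.dim_planeCurve _ (over_eq a₁ a₂ a₃ a₄ a₆) le_rfl
    (Wf_ne_zero a₁ a₂ a₃ a₄ a₆)

section K

variable {K : Type*} [Field K] [Algebra k K] (x₀ y₀ : K)

/-- evaluation of the functions on the chart `X_2 ≠ 0` of the plane at `(x₀ : y₀ : 1)` -/
noncomputable def psiΓ : Γ(CohB1.ProjSpace 2 k, LefPen.chart 2 k 2) →+* K :=
  (psi (k := k) x₀ y₀).comp (chartEquiv (n := 2) (k := k) 2).symm.toRingHom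

open scoped IntermediateField in
theorem ker_psiΓ (htr : Transcendental k x₀) (hy : y₀ ∉ k⟮x₀⟯)
    (heq : y₀ ^ 2 + algebraMap k K a₁ * x₀ * y₀ + algebraMap k K a₃ * y₀ =
      x₀ ^ 3 + algebraMap k K a₂ * x₀ ^ 2 + algebraMap k K a₄ * x₀ + algebraMap k K a₆) :
    RingHom.ker (psiΓ (k := k) x₀ y₀) =
      (LefPen.hypIdeal (Wf a₁ a₂ a₃ a₄ a₆)).ideal (chartA 2) := by
  rw [ideal_chart, ← ker_psi a₁ a₂ a₃ a₄ a₆ x₀ y₀ htr hy heq]
  unfold psiΓ
  rw [← RingHom.comap_ker]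
  exact Ideal.comap_symm (chartEquiv (n := 2) (k := k) 2)

/-- the preimage of the chart `X_i ≠ 0` in the curve -/
noncomputable abbrev VD (i : Fin 3) : (DD a₁ a₂ a₃ a₄ a₆).Opens :=
  ιD a₁ a₂ a₃ a₄ a₆ ⁻¹ᵁ LefPen.chart 2 k i

theorem isAffineOpen_VD (i : Fin 3) : IsAffineOpen (VD a₁ a₂ a₃ a₄ a₆ i) :=
  (chartA (r := 2) (k := k) i).2.preimage (ιD a₁ a₂ a₃ a₄ a₆)

/-- restriction of functions from the chart of the plane to the chart of the curve -/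
noncomputable def resD (i : Fin 3) :
    Γ(CohB1.ProjSpace 2 k, LefPen.chart 2 k i) →+* Γ(DD a₁ a₂ a₃ a₄ a₆, VD a₁ a₂ a₃ a₄ a₆ i) :=
  ((ιD a₁ a₂ a₃ a₄ a₆).app (LefPen.chart 2 k i)).hom

theorem resD_surjective (i : Fin 3) : Function.Surjective (resD a₁ a₂ a₃ a₄ a₆ i) :=
  (LefPen.hypIdeal (Wf a₁ a₂ a₃ a₄ a₆)).subschemeι_app_surjective (chartA i)

theorem ker_resD (i : Fin 3) : RingHom.ker (resD a₁ a₂ a₃ a₄ a₆ i) =
    (LefPen.hypIdeal (Wf a₁ a₂ a₃ a₄ a₆)).ideal (chartA i) :=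
  (LefPen.hypIdeal (Wf a₁ a₂ a₃ a₄ a₆)).ker_subschemeι_app (chartA i)

section K2

open scoped IntermediateField

variable {K : Type*} [Field K] [Algebra k K] (x₀ y₀ : K)
  (htr : Transcendental k x₀) (hy : y₀ ∉ k⟮x₀⟯)
  (heq : y₀ ^ 2 + algebraMap k K a₁ * x₀ * y₀ + algebraMap k K a₃ * y₀ =
    x₀ ^ 3 + algebraMap k K a₂ * x₀ ^ 2 + algebraMap k K a₄ * x₀ + algebraMap k K a₆)

/-- evaluation of the functions on the affine part of the curve at the generic point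
`(x₀, y₀)` -/
noncomputable def psiD : Γ(DD a₁ a₂ a₃ a₄ a₆, VD a₁ a₂ a₃ a₄ a₆ 2) →+* K :=
  (resD a₁ a₂ a₃ a₄ a₆ 2).liftOfSurjective (resD_surjective a₁ a₂ a₃ a₄ a₆ 2)
    ⟨psiΓ (k := k) x₀ y₀, by
      rw [ker_resD, ker_psiΓ a₁ a₂ a₃ a₄ a₆ x₀ y₀ htr hy heq]⟩

theorem psiD_resD (s : Γ(CohB1.ProjSpace 2 k, LefPen.chart 2 k 2)) :
    psiD a₁ a₂ a₃ a₄ a₆ x₀ y₀ htr hy heq (resD a₁ a₂ a₃ a₄ a₆ 2 s) = psiΓ (k := k) x₀ y₀ s :=
  RingHom.liftOfSurjective_comp_apply _ _ _ s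

theorem psiD_injective : Function.Injective (psiD a₁ a₂ a₃ a₄ a₆ x₀ y₀ htr hy heq) := by
  rw [injective_iff_map_eq_zero]
  intro t ht
  obtain ⟨s, rfl⟩ := resD_surjective a₁ a₂ a₃ a₄ a₆ 2 t
  rw [psiD_resD] at ht
  have h1 : s ∈ RingHom.ker (psiΓ (k := k) x₀ y₀) := ht
  rw [ker_psiΓ a₁ a₂ a₃ a₄ a₆ x₀ y₀ htr hy heq, ← ker_resD] at h1
  exact h1

include htr hy heq in
theorem isDomain_VD_two : IsDomain Γ(DD a₁ a₂ a₃ a₄ a₆, VD a₁ a₂ a₃ a₄ a₆ 2) :=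
  (psiD_injective a₁ a₂ a₃ a₄ a₆ x₀ y₀ htr hy heq).isDomain _

include htr hy heq in
/-- the Weierstrass cubic curve is integral (given a generic point in some field) -/
theorem isIntegral_DD : IsIntegral (DD a₁ a₂ a₃ a₄ a₆) := by
  haveI := Groth.Agent.Helper4.NApx82.isNoetherian_of_proper k (DD a₁ a₂ a₃ a₄ a₆)
  obtain ⟨-, hconn, -⟩ := Groth.Agent.S7840.result k 3 (by norm_num) (Wf a₁ a₂ a₃ a₄ a₆)
    (Wf_ne_zero a₁ a₂ a₃ a₄ a₆) (over_eq a₁ a₂ a₃ a₄ a₆)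
  haveI := hconn
  apply Groth.Agent.Helper4.SN.isIntegral_of_connected_of_isDomain_stalk
  intro x
  rcases mem_chart_one_or_two a₁ a₂ a₃ a₄ a₆ x with h | h
  · haveI := isDomain_sections_subscheme (LefPen.hypIdeal (Wf a₁ a₂ a₃ a₄ a₆)) (chartA 1)
      (isPrime_ideal_chart_one a₁ a₂ a₃ a₄ a₆)
    exact isDomain_stalk_of_isAffineOpen (isAffineOpen_VD a₁ a₂ a₃ a₄ a₆ 1) x h
  · haveI := isDomain_VD_two a₁ a₂ a₃ a₄ a₆ x₀ y₀ htr hy heq
    exact isDomain_stalk_of_isAffineOpen (isAffineOpen_VD a₁ a₂ a₃ a₄ a₆ 2) x h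

end K2

end K

end W

end Groth.Agent.Helper4.SN707
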