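import Mathlib
import Groth.Agent.Helper4.SN707
import Groth.Agent.Helper4.SN610

/-!
# The function field of the Weierstrass cubic curve maps to any field containing a generic point
-/

set_option autoImplicit false
set_option linter.unusedSectionVars false
set_option linter.style.haveILetI false

universe u

open CategoryTheory CategoryTheory.Limits AlgebraicGeometry TopologicalSpace Opposite

namespace Groth.Agent.Helper4.SN708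

open HomogeneousLocalization Groth.Agent.Helper1.Segre
open Groth.Agent.Helper4.SN704 Groth.Agent.Helper4.SN705 Groth.Agent.Helper4.SN706
  Groth.Agent.Helper4.SN707
open Groth.Agent.Helper1.Hyp Groth.Agent.Helper1.CIReg
open scoped IntermediateField

variable {k : Type u} [Field k] (a₁ a₂ a₃ a₄ a₆ : k)
  {K : Type*} [Field K] [Algebra k K] (x₀ y₀ : K)
  (htr : Transcendental k x₀) (hy : y₀ ∉ k⟮x₀⟯)
  (heq : y₀ ^ 2 + algebraMap k K a₁ * x₀ * y₀ + algebraMap k K a₃ * y₀ =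
    x₀ ^ 3 + algebraMap k K a₂ * x₀ ^ 2 + algebraMap k K a₄ * x₀ + algebraMap k K a₆)

theorem psiΓ_chartEquiv (a : Away (CohB1.polyGrading 2 k)
    (MvPolynomial.X 2 : MvPolynomial (Fin 3) k)) :
    psiΓ (k := k) x₀ y₀ (chartEquiv (n := 2) (k := k) 2 a) = psi (k := k) x₀ y₀ a := by
  unfold psiΓ
  rw [RingHom.comp_apply]
  congr 1
  exact (chartEquiv (n := 2) (k := k) 2).symm_apply_apply a

theorem psiΓ_konst (c : k) :
    psiΓ (k := k) x₀ y₀ (Groth.Agent.Helper4.SN610.konst (k := k) 2 2 c) =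
      algebraMap k K c := by
  rw [← Groth.Agent.Helper4.SN610.awayToSection_fromZero]
  exact (psiΓ_chartEquiv x₀ y₀ _).trans (psi_konst x₀ y₀ c)

include htr hy heq in
theorem nonempty_VD_two : Nonempty (VD a₁ a₂ a₃ a₄ a₆ 2) := by
  haveI := isDomain_VD_two a₁ a₂ a₃ a₄ a₆ x₀ y₀ htr hy heq
  by_contra hne
  rw [not_nonempty_iff] at hne
  have hbot : VD a₁ a₂ a₃ a₄ a₆ 2 = ⊥ := by
    ext z
    simp only [Opens.coe_bot, Set.mem_empty_iff_false, iff_false]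
    exact fun hz => hne.false ⟨z, hz⟩
  haveI : Subsingleton Γ(DD a₁ a₂ a₃ a₄ a₆, VD a₁ a₂ a₃ a₄ a₆ 2) := by
    rw [hbot]
    exact CommRingCat.subsingleton_of_isTerminal (DD a₁ a₂ a₃ a₄ a₆).sheaf.isTerminalOfEmpty
  exact not_subsingleton Γ(DD a₁ a₂ a₃ a₄ a₆, VD a₁ a₂ a₃ a₄ a₆ 2) inferInstance

/-- the constants on the affine part of the curve -/
theorem stalkMap_eq (c : k) [IsIntegral (DD a₁ a₂ a₃ a₄ a₆)] [Nonempty (VD a₁ a₂ a₃ a₄ a₆ 2)] :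
    Curv2.stalkMap k (DD a₁ a₂ a₃ a₄ a₆) (genericPoint (DD a₁ a₂ a₃ a₄ a₆)) c =
      algebraMap Γ(DD a₁ a₂ a₃ a₄ a₆, VD a₁ a₂ a₃ a₄ a₆ 2) (DD a₁ a₂ a₃ a₄ a₆).functionField
        (resD a₁ a₂ a₃ a₄ a₆ 2 (Groth.Agent.Helper4.SN610.konst (k := k) 2 2 c)) := by
  unfold Curv2.stalkMap
  rw [RingHom.comp_apply]
  have h1 : Coh.toGlobal ((DD a₁ a₂ a₃ a₄ a₆) ↘ Spec (CommRingCat.of k)) c =
      (ιD a₁ a₂ a₃ a₄ a₆).appTop (ProjUP.toGlobal (CohB1.ProjSpace.toSpec 2 k) c) :=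
    Groth.Agent.Helper4.SN610.toGlobal_comp (ιD a₁ a₂ a₃ a₄ a₆) (CohB1.ProjSpace.toSpec 2 k) c
  refine (congrArg ((DD a₁ a₂ a₃ a₄ a₆).presheaf.germ ⊤
    (genericPoint (DD a₁ a₂ a₃ a₄ a₆)) trivial).hom h1).trans ?_
  have hη : genericPoint (DD a₁ a₂ a₃ a₄ a₆) ∈ VD a₁ a₂ a₃ a₄ a₆ 2 :=
    ((genericPoint_spec (DD a₁ a₂ a₃ a₄ a₆)).mem_open_set_iff (VD a₁ a₂ a₃ a₄ a₆ 2).isOpen).mpr
      (by simpa using ‹Nonempty (VD a₁ a₂ a₃ a₄ a₆ 2)›)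
  show _ = ((DD a₁ a₂ a₃ a₄ a₆).presheaf.germ (VD a₁ a₂ a₃ a₄ a₆ 2) _ hη).hom
    (resD a₁ a₂ a₃ a₄ a₆ 2 (Groth.Agent.Helper4.SN610.konst (k := k) 2 2 c))
  unfold resD Groth.Agent.Helper4.SN610.konst
  have nat := congr($((ιD a₁ a₂ a₃ a₄ a₆).naturality
    (homOfLE (le_top : LefPen.chart 2 k 2 ≤ ⊤)).op)
    (ProjUP.toGlobal (CohB1.ProjSpace.toSpec 2 k) c))
  rw [CommRingCat.comp_apply, CommRingCat.comp_apply] at nat
  erw [nat]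
  exact ((DD a₁ a₂ a₃ a₄ a₆).presheaf.germ_res_apply _ _ hη _).symm

include htr hy heq in
/-- the function field of the Weierstrass cubic curve maps to `K`, hitting `x₀` and `y₀` -/
theorem exists_functionField_hom [IsIntegral (DD a₁ a₂ a₃ a₄ a₆)] :
    ∃ τ : (DD a₁ a₂ a₃ a₄ a₆).functionField →+* K,
      (∀ c : k, τ (Curv2.stalkMap k (DD a₁ a₂ a₃ a₄ a₆) (genericPoint (DD a₁ a₂ a₃ a₄ a₆)) c) =
        algebraMap k K c) ∧ x₀ ∈ Set.range τ ∧ y₀ ∈ Set.range τ := by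
  haveI := nonempty_VD_two a₁ a₂ a₃ a₄ a₆ x₀ y₀ htr hy heq
  haveI := functionField_isFractionRing_of_isAffineOpen (DD a₁ a₂ a₃ a₄ a₆)
    (VD a₁ a₂ a₃ a₄ a₆ 2) (isAffineOpen_VD a₁ a₂ a₃ a₄ a₆ 2)
  let τ : (DD a₁ a₂ a₃ a₄ a₆).functionField →+* K :=
    IsFractionRing.lift (psiD_injective a₁ a₂ a₃ a₄ a₆ x₀ y₀ htr hy heq)
  have hτ : ∀ s : Γ(CohB1.ProjSpace 2 k, LefPen.chart 2 k 2),
      τ (algebraMap Γ(DD a₁ a₂ a₃ a₄ a₆, VD a₁ a₂ a₃ a₄ a₆ 2) (DD a₁ a₂ a₃ a₄ a₆).functionField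
        (resD a₁ a₂ a₃ a₄ a₆ 2 s)) = psiΓ (k := k) x₀ y₀ s := by
    intro s
    rw [IsFractionRing.lift_algebraMap, psiD_resD]
  refine ⟨τ, fun c => ?_, ⟨_, (hτ _).trans
    ((psiΓ_chartEquiv x₀ y₀ _).trans (psi_X0 (k := k) x₀ y₀))⟩, ⟨_, (hτ _).trans
    ((psiΓ_chartEquiv x₀ y₀ _).trans (psi_X1 (k := k) x₀ y₀))⟩⟩
  rw [stalkMap_eq, hτ, psiΓ_konst]

end Groth.Agent.Helper4.SN708
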