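import Mathlib
import Groth.Agent.Helper4.SN708
import Groth.Agent.Helper4.SN701
import Groth.Agent.Helper4.SN691
import Groth.Agent.Helper4.SN688
import Groth.Agent.Helper4.SN600
import Groth.Agent.Helper5.FFWeier4

/-!
# S7841: an elliptic curve is a plane cubic in Weierstrass form
-/

set_option autoImplicit false
set_option linter.unusedSectionVars false
set_option linter.style.haveILetI false

universe u

open CategoryTheory CategoryTheory.Limits AlgebraicGeometry TopologicalSpace Opposite FunFld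

namespace Groth.Agent.Helper4.SN709

open Groth.Agent.Helper4.SN Groth.Agent.Helper4.SN704 Groth.Agent.Helper4.SN706
  Groth.Agent.Helper4.SN707 Groth.Agent.Helper4.SN708
open scoped IntermediateField

attribute [local instance] Curv2.stalkAlgebra Curv2.resAlgebra

section H0

variable (k : Type u) [Field k] {E : Scheme.{u}} [E.Over (Spec (CommRingCat.of k))]
  [IsIntegral E] [IsProper (E ↘ (Spec (CommRingCat.of k)))]

/-- a proper integral scheme over a field with a rational point has only constant global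
functions -/
theorem bijective_toGlobal_of_section (o : Spec (CommRingCat.of k) ⟶ E)
    (ho : o ≫ (E ↘ (Spec (CommRingCat.of k))) = 𝟙 _) :
    Function.Bijective (Coh.toGlobal (E ↘ (Spec (CommRingCat.of k)))) := by
  set p := E ↘ (Spec (CommRingCat.of k)) with hp
  letI : Field Γ(E, ⊤) := (isField_of_universallyClosed k p).toField
  let ρ : Γ(E, ⊤) →+* k :=
    (Scheme.ΓSpecIso (CommRingCat.of k)).hom.hom.comp o.appTop.hom
  have hρ : ∀ c : k, ρ (Coh.toGlobal p c) = c := by
    intro c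
    have h1 : ProjUP.toGlobal (o ≫ p) c = o.appTop (ProjUP.toGlobal p c) :=
      Groth.Agent.Helper4.SN610.toGlobal_comp o p c
    rw [ho] at h1
    have h2 : ProjUP.toGlobal (𝟙 (Spec (CommRingCat.of k))) c =
        (Scheme.ΓSpecIso (CommRingCat.of k)).inv c := by
      unfold ProjUP.toGlobal
      simp
    show (Scheme.ΓSpecIso (CommRingCat.of k)).hom (o.appTop (ProjUP.toGlobal p c)) = c
    rw [← h1, h2]
    simp
  refine ⟨Function.LeftInverse.injective (g := ρ) hρ, fun a => ⟨ρ a, ?_⟩⟩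
  apply ρ.injective
  rw [hρ]

end H0

section FF

open Groth.Agent.Helper5.FF

variable {k K : Type*} [Field k] [Field K] [Algebra k K]

/-- a function field of genus one with a place of degree one is generated by two functions
satisfying a Weierstrass equation in normal form -/
theorem exists_weierstrass_functions (hK : IsFunctionField k K) (hg : genus k K = 1)
    (P₀ : Place k K) (hP : P₀.deg = 1) :
    ∃ (a₁ a₂ a₃ a₄ a₆ : k) (x₀ y₀ : K), Transcendental k x₀ ∧ y₀ ∉ k⟮x₀⟯ ∧
      IntermediateField.adjoin k ({x₀, y₀} : Set K) = ⊤ ∧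
      y₀ ^ 2 + algebraMap k K a₁ * x₀ * y₀ + algebraMap k K a₃ * y₀ =
        x₀ ^ 3 + algebraMap k K a₂ * x₀ ^ 2 + algebraMap k K a₄ * x₀ + algebraMap k K a₆ := by
  obtain ⟨x, y, hxL, hyL, hxo, hyo, hgen, f, g, hf, hg3, hrel⟩ :=
    genus_one_weierstrass hK hg P₀ hP
  have hx0 : x ≠ 0 := by
    rintro rfl
    simp [Place.ord] at hxo
  obtain ⟨htr, hfr⟩ := finrank_adjoin_of_pole hK hP hx0 (by norm_num) hxL hxo
  have hfr2 : Module.finrank k⟮x⟯ K = 2 := by exact_mod_cast hfr
  obtain ⟨c, hc, a₁, a₂, a₃, a₄, a₆, heq⟩ := exists_weierstrass_normal_form x y f g hf hg3 hrel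
  have hc' : -c ≠ 0 := neg_ne_zero.mpr hc
  have hgen' := adjoin_pair_scale_eq_top (-c) c hc' hc x y hgen
  have htr' := transcendental_scale (-c) hc' x htr
  have hfr' : Module.finrank k⟮algebraMap k K (-c) * x⟯ K = 2 := by
    rw [adjoin_scale_eq (-c) hc' x]
    exact hfr2
  exact ⟨a₁, a₂, a₃, a₄, a₆, algebraMap k K (-c) * x, algebraMap k K c * y, htr',
    not_mem_adjoin_of_finrank hgen' hfr', hgen', heq⟩

end FF

section Main

open Groth.Agent.Helper4.SN637

variable (k : Type u) [Field k] (E : Scheme.{u}) [E.Over (Spec (CommRingCat.of k))]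
  [IsProper (E ↘ (Spec (CommRingCat.of k)))] [Smooth (E ↘ (Spec (CommRingCat.of k)))]

/-- **S7841** -/
theorem main7841 [ConnectedSpace E] (hdim : topologicalKrullDim E = 1)
    (o : Spec (CommRingCat.of k) ⟶ E) (ho : o ≫ (E ↘ (Spec (CommRingCat.of k))) = 𝟙 _)
    (hg : Curv2.genus k E = 1) :
    ∃ (a₁ a₂ a₃ a₄ a₆ : k) (W : LefPen.Form 2 k 3),
      (W : MvPolynomial (Fin (2 + 1)) k) = MvPolynomial.X 1 ^ 2 * MvPolynomial.X 2 + MvPolynomial.C a₁ * MvPolynomial.X 0 * MvPolynomial.X 1 * MvPolynomial.X 2 + MvPolynomial.C a₃ * MvPolynomial.X 1 * MvPolynomial.X 2 ^ 2 - MvPolynomial.X 0 ^ 3 - MvPolynomial.C a₂ * MvPolynomial.X 0 ^ 2 * MvPolynomial.X 2 - MvPolynomial.C a₄ * MvPolynomial.X 0 * MvPolynomial.X 2 ^ 2 - MvPolynomial.C a₆ * MvPolynomial.X 2 ^ 3 ∧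
      ∃ e : E ≅ (LefPen.hypIdeal W).subscheme,
        e.hom ≫ (LefPen.hypIdeal W).subschemeι ≫ CohB1.ProjSpace.toSpec 2 k =
          E ↘ (Spec (CommRingCat.of k)) := by
  haveI := Groth.Agent.Helper4.NApx82.isNoetherian_of_proper k E
  have hreg : ∀ x : E, IsRegularLocalRing (E.presheaf.stalk x) := fun x => regular_of_smooth k x
  haveI : IsIntegral E := isIntegral_of_connected_of_isDomain_stalk E (fun x => by
    haveI := hreg x
    exact Groth.Agent.Lead.RegLocal.isDomain_of_isRegularLocalRing _)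
  have h0 : Module.finrank k (Coh.HH E (Coh.structureModule E) 0) = 1 :=
    Groth.Agent.Helper4.SN701.finrank_h0_of_bijective_toGlobal _
      (bijective_toGlobal_of_section k o ho)
  obtain ⟨pd⟩ := Groth.Agent.Helper4.SN676.exists_placeData k E hdim h0
  have hgen := Groth.Agent.Helper4.SN560.genus_eq pd
  have hx : IsClosed ({o (IsLocalRing.closedPoint k)} : Set E) := isClosed_of_section k o ho
  have hκ : Module.finrank k (E.residueField (o (IsLocalRing.closedPoint k))) = 1 :=
    finrank_residueField_of_section k o ho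
  have hP : (pd.pl ⟨_, hx⟩).deg = 1 := by rw [pd.deg]; exact hκ
  obtain ⟨a₁, a₂, a₃, a₄, a₆, x₀, y₀, htr, hy, hgenK, heq⟩ :=
    exists_weierstrass_functions pd.hK (by rw [← hgen, hg]) _ hP
  refine ⟨a₁, a₂, a₃, a₄, a₆, Wf a₁ a₂ a₃ a₄ a₆, rfl, ?_⟩
  haveI := isIntegral_DD a₁ a₂ a₃ a₄ a₆ x₀ y₀ htr hy heq
  obtain ⟨τ, hτc, hτx, hτy⟩ := exists_functionField_hom a₁ a₂ a₃ a₄ a₆ x₀ y₀ htr hy heq
  have hnormC : ∀ x : E, IsIntegrallyClosed (E.presheaf.stalk x) := fun x =>
    haveI := hreg x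
    Groth.Agent.Helper4.RegNormal.isIntegrallyClosed_of_isRegularLocalRing _
  have hX : ∀ x : E, IsClosed ({x} : Set E) → ringKrullDim (E.presheaf.stalk x) = 1 :=
    fun x hx => Groth.Agent.Helper4.SN557.dim_stalk k E inferInstance hdim hnormC pd.hK x hx
  have hnorm : ∀ x : E, IsDomain (E.presheaf.stalk x) ∧ IsIntegrallyClosed (E.presheaf.stalk x) :=
    fun x => ⟨inferInstance, hnormC x⟩
  obtain ⟨σ, ⟨hσp, hξ, hφσ⟩, -⟩ := Groth.Agent.Helper5.CurveHom.s4445 k E (DD a₁ a₂ a₃ a₄ a₆)
    hX hnorm τ (by ext c; exact hτc c)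
  have hφσ' : (ffMap σ hξ).hom = τ := hφσ
  -- `τ` is surjective
  have hsurj : Function.Surjective τ := by
    let F : IntermediateField k E.functionField :=
      { τ.fieldRange with
        algebraMap_mem' := fun c => ⟨_, hτc c⟩ }
    have hF : F = ⊤ := by
      rw [eq_top_iff, ← hgenK, IntermediateField.adjoin_le_iff]
      rintro z (rfl | rfl)
      · exact hτx
      · exact hτy
    intro z
    have hz : z ∈ F := by rw [hF]; trivial
    exact hz
  -- the degree is one
  have hdeg : σ.residueDegree (genericPoint E) = 1 := by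
    obtain ⟨i, j, hij⟩ := Groth.Agent.Helper4.SN676.exists_equivs σ hξ
    letI alg : Algebra (DD a₁ a₂ a₃ a₄ a₆).functionField E.functionField :=
      (ffMap σ hξ).hom.toAlgebra
    letI algres : Algebra ((DD a₁ a₂ a₃ a₄ a₆).residueField (σ (genericPoint E)))
        (E.residueField (genericPoint E)) := (σ.residueFieldMap (genericPoint E)).hom.toAlgebra
    have hcompat : (algebraMap ((DD a₁ a₂ a₃ a₄ a₆).residueField (σ (genericPoint E)))
        (E.residueField (genericPoint E))).comp (i : _ ≃+* _) =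
        RingHom.comp (j : _ ≃+* _)
          (algebraMap (DD a₁ a₂ a₃ a₄ a₆).functionField E.functionField) := by
      ext a
      exact hij a
    have hfr : Module.finrank (DD a₁ a₂ a₃ a₄ a₆).functionField E.functionField = 1 := by
      rw [finrank_eq_one_iff_of_nonzero' (1 : E.functionField) one_ne_zero]
      intro w
      obtain ⟨c, hc⟩ := hsurj w
      refine ⟨c, ?_⟩
      rw [Algebra.smul_def, mul_one]
      show (ffMap σ hξ).hom c = w
      rw [hφσ', hc]
    rw [← hfr]
    exact (Algebra.finrank_eq_of_equiv_equiv i j hcompat).symm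
  -- the Euler characteristics agree
  have hdimD := dim_DD a₁ a₂ a₃ a₄ a₆
  haveI := Groth.Agent.Helper4.NApx82.isNoetherian_of_proper k (DD a₁ a₂ a₃ a₄ a₆)
  obtain ⟨hD0, -, hD1⟩ := Groth.Agent.S7840.result k 3 (by norm_num) (Wf a₁ a₂ a₃ a₄ a₆)
    (Wf_ne_zero a₁ a₂ a₃ a₄ a₆) (over_eq a₁ a₂ a₃ a₄ a₆)
  have hχ : Curv2.euler k E (Coh.structureModule E) =
      Curv2.euler k (DD a₁ a₂ a₃ a₄ a₆) (Coh.structureModule (DD a₁ a₂ a₃ a₄ a₆)) := by
    have h1 := chi_eq_h0_sub_h1 k hdim.le (Coh.structureModule E)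
    have h1' := chi_eq_h0_sub_h1 k hdimD.le (Coh.structureModule (DD a₁ a₂ a₃ a₄ a₆))
    unfold chi at h1 h1'
    have hg' : Module.finrank k (Coh.HH E (Coh.structureModule E) 1) = 1 := hg
    rw [h1, h1', h0, hg', hD0, hD1]
  haveI := Groth.Agent.Helper4.SN600.isIso_of_residueDegree_eq_one' k hdim hdimD hχ σ hσp hξ hdeg
  exact ⟨asIso σ, hσp⟩

end Main

end Groth.Agent.Helper4.SN709
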