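import Mathlib
import Groth.Agent.Helper4.SN69
import Groth.Agent.Helper4.GenLocIso
import Groth.Agent.Helper4.AmpleEventual

/-!
# Invertible modules of nonpositive degrees on a connected reduced curve
-/

set_option autoImplicit false
set_option linter.style.haveILetI false

namespace Groth.Agent.Helper4.SN

open CategoryTheory Limits AlgebraicGeometry Opposite TopologicalSpace
open Groth.Agent.Helper4.NApx82 Groth.Agent.Helper4.StalkDict Groth.Agent.Helper4.TensorInv
  Groth.Agent.Helper1.Dev

universe u

section Main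

variable (k : Type u) [Field k] {X : Scheme.{u}} [X.Over (Spec (CommRingCat.of k))]
  [IsProper (X ↘ (Spec (CommRingCat.of k)))]

/-- a global section of an invertible module of nonpositive degree on an integral closed curve
generates everywhere or nowhere on the curve -/
theorem subset_or_disjoint_genLocus [IsNoetherian X] (L : X.Modules) (hL : PicF.IsInvertible L)
    (s : Coh.structureModule X ⟶ L) (C : Set X) (hC : C ∈ irreducibleComponents X)
    (hCd : topologicalKrullDim C = 1)
    (hdeg : degOn k ((X.irreducibleComponentIdeal C hC).radical) L ≤ 0) :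
    C ⊆ (CohB1.genLocus L s : Set X) ∨ Disjoint C (CohB1.genLocus L s : Set X) := by
  rw [radical_irreducibleComponentIdeal] at hdeg
  have hCcl := isClosed_of_mem_irreducibleComponents C hC
  haveI : IsIntegral (Scheme.IdealSheafData.vanishingIdeal ⟨C, hCcl⟩).subscheme :=
    isIntegral_subscheme ⟨C, hCcl⟩ hC.1
  letI : (Scheme.IdealSheafData.vanishingIdeal ⟨C, hCcl⟩).subscheme.Over
      (Spec (CommRingCat.of k)) :=
    ⟨(Scheme.IdealSheafData.vanishingIdeal ⟨C, hCcl⟩).subschemeι ≫
      (X ↘ (Spec (CommRingCat.of k)))⟩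
  haveI : IsProper ((Scheme.IdealSheafData.vanishingIdeal ⟨C, hCcl⟩).subscheme ↘
      Spec (CommRingCat.of k)) :=
    (inferInstance : IsProper ((Scheme.IdealSheafData.vanishingIdeal ⟨C, hCcl⟩).subschemeι ≫
      (X ↘ (Spec (CommRingCat.of k)))))
  have hd : topologicalKrullDim (Scheme.IdealSheafData.vanishingIdeal ⟨C, hCcl⟩).subscheme = 1 := by
    rw [dim_subscheme_vanishingIdeal]
    exact hCd
  have hL' := PullSec.isInvertible_pullback
    (Scheme.IdealSheafData.vanishingIdeal ⟨C, hCcl⟩).subschemeι hL
  have hgl := PullSec.genLocus_pullSec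
    (Scheme.IdealSheafData.vanishingIdeal ⟨C, hCcl⟩).subschemeι hL s
  have hrange := range_ι_vanishingIdeal (⟨C, hCcl⟩ : Closeds X)
  by_cases ht : PullSec.pullSec (Scheme.IdealSheafData.vanishingIdeal ⟨C, hCcl⟩).subschemeι s = 0
  · right
    rw [Set.disjoint_left]
    intro x hxC hxg
    have hx' : x ∈ Set.range (Scheme.IdealSheafData.vanishingIdeal ⟨C, hCcl⟩).subschemeι := by
      rw [hrange]
      exact hxC
    obtain ⟨z, rfl⟩ := hx'
    have hz : z ∈ CohB1.genLocus _
        (PullSec.pullSec (Scheme.IdealSheafData.vanishingIdeal ⟨C, hCcl⟩).subschemeι s) := by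
      rw [hgl]
      exact hxg
    rw [ht] at hz
    exact AmpleFinite.notMem_genLocus_zero hL' z hz
  · left
    obtain ⟨h1, h2⟩ := main1521 k (Scheme.IdealSheafData.vanishingIdeal ⟨C, hCcl⟩).subscheme hd _ _
      isInvertible_structureModule hL' _ ht
    have h0 := deg_structureModule k
      (Scheme.IdealSheafData.vanishingIdeal ⟨C, hCcl⟩).subscheme
    haveI : IsIso (PullSec.pullSec
        (Scheme.IdealSheafData.vanishingIdeal ⟨C, hCcl⟩).subschemeι s) := by
      apply h2
      have : Curv2.deg k (Scheme.IdealSheafData.vanishingIdeal ⟨C, hCcl⟩).subscheme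
          ((Scheme.Modules.pullback
            (Scheme.IdealSheafData.vanishingIdeal ⟨C, hCcl⟩).subschemeι).obj L) 1 ≤ 0 := hdeg
      omega
    have htop := AmpleEventual.genLocus_eq_top_of_isIso (PullSec.pullSec
        (Scheme.IdealSheafData.vanishingIdeal ⟨C, hCcl⟩).subschemeι s)
    intro x hxC
    have hx' : x ∈ Set.range (Scheme.IdealSheafData.vanishingIdeal ⟨C, hCcl⟩).subschemeι := by
      rw [hrange]
      exact hxC
    obtain ⟨z, rfl⟩ := hx'
    have hz : z ∈ CohB1.genLocus _
        (PullSec.pullSec (Scheme.IdealSheafData.vanishingIdeal ⟨C, hCcl⟩).subschemeι s) := by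
      rw [htop]
      trivial
    rw [hgl] at hz
    exact hz

/-- **S7641** -/
theorem main7641 [IsReduced X] [ConnectedSpace X] [IsNoetherian X]
    (hdim : ∀ (C : Set X), C ∈ irreducibleComponents X → topologicalKrullDim C = 1)
    (L : X.Modules) (hL : PicF.IsInvertible L)
    (hdeg : ∀ (C : Set X) (hC : C ∈ irreducibleComponents X),
      degOn k ((X.irreducibleComponentIdeal C hC).radical) L ≤ 0) :
    Subsingleton (Coh.HH X L 0) ∨ Nonempty (L ≅ Coh.structureModule X) := by
  by_cases hsub : Subsingleton (Coh.HH X L 0)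
  · exact Or.inl hsub
  right
  rw [not_subsingleton_iff_nontrivial] at hsub
  obtain ⟨y, hy⟩ := exists_ne (0 : Coh.HH X L 0)
  obtain ⟨s, hs⟩ := evalH0_surjective k L y
  have hs0 : s ≠ 0 := by
    rintro rfl
    exact hy (by rw [← hs, map_zero])
  have key := fun C hC => subset_or_disjoint_genLocus k L hL s C hC (hdim C hC) (hdeg C hC)
  have hfin : (irreducibleComponents X).Finite := NoetherianSpace.finite_irreducibleComponents
  have heq : (CohB1.genLocus L s : Set X) =
      ⋃₀ {C ∈ irreducibleComponents X | C ⊆ (CohB1.genLocus L s : Set X)} := by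
    apply Set.Subset.antisymm
    · intro x hx
      refine ⟨irreducibleComponent x, ⟨irreducibleComponent_mem_irreducibleComponents x, ?_⟩,
        mem_irreducibleComponent⟩
      rcases key _ (irreducibleComponent_mem_irreducibleComponents x) with h | h
      · exact h
      · exact absurd hx (Set.disjoint_left.mp h mem_irreducibleComponent)
    · rintro x ⟨C, ⟨-, hC⟩, hxC⟩
      exact hC hxC
  have hcl : IsClosed (CohB1.genLocus L s : Set X) := by
    rw [heq, Set.sUnion_eq_biUnion]
    exact (hfin.subset (Set.sep_subset _ _)).isClosed_biUnion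
      (fun C hC => isClosed_of_mem_irreducibleComponents C hC.1)
  have hclopen : IsClopen (CohB1.genLocus L s : Set X) := ⟨hcl, (CohB1.genLocus L s).isOpen⟩
  rcases isClopen_iff.mp hclopen with h | h
  · exfalso
    apply hs0
    apply GenLocIso.eq_zero_of_genLocus_eq_bot L hL s
    ext x
    simp only [Opens.coe_bot, Set.mem_empty_iff_false, iff_false]
    intro hx
    have : x ∈ (CohB1.genLocus L s : Set X) := hx
    rw [h] at this
    exact this
  · have htop : CohB1.genLocus L s = ⊤ := by
      ext x
      simp only [Opens.coe_top, Set.mem_univ, iff_true]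
      change x ∈ (CohB1.genLocus L s : Set X)
      rw [h]
      trivial
    haveI := GenLocIso.isIso_of_genLocus_eq_top L s htop
    exact ⟨(asIso s).symm⟩

end Main

end Groth.Agent.Helper4.SN
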