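import Mathlib
import Groth.Agent.Helper4.SN709

/-!
# A smooth proper curve of genus one generated by Weierstrass functions is the Weierstrass cubic
-/

set_option autoImplicit false
set_option linter.unusedSectionVars false
set_option linter.style.haveILetI false

universe u

open CategoryTheory CategoryTheory.Limits AlgebraicGeometry TopologicalSpace Opposite FunFld

namespace Groth.Agent.Helper4.SN710

open Groth.Agent.Helper4.SN Groth.Agent.Helper4.SN704 Groth.Agent.Helper4.SN706
  Groth.Agent.Helper4.SN707 Groth.Agent.Helper4.SN708 Groth.Agent.Helper4.SN709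
  Groth.Agent.Helper4.SN637
open scoped IntermediateField

attribute [local instance] Curv2.stalkAlgebra Curv2.resAlgebra

variable (k : Type u) [Field k] (E : Scheme.{u}) [E.Over (Spec (CommRingCat.of k))]
  [IsProper (E ↘ (Spec (CommRingCat.of k)))] [Smooth (E ↘ (Spec (CommRingCat.of k)))]
  [IsIntegral E]

/-- a smooth proper curve with `H⁰ = k` and `H¹` of dimension one, whose function field is
generated by two functions satisfying a Weierstrass equation, is isomorphic to the Weierstrass
cubic -/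
theorem iso_of_weierstrass_functions (hdim : topologicalKrullDim E = 1)
    (h0 : Module.finrank k (Coh.HH E (Coh.structureModule E) 0) = 1)
    (hg : Curv2.genus k E = 1) (hK : IsFunctionField k E.functionField)
    (a₁ a₂ a₃ a₄ a₆ : k) (x₀ y₀ : E.functionField) (htr : Transcendental k x₀)
    (hy : y₀ ∉ k⟮x₀⟯) (hgenK : IntermediateField.adjoin k ({x₀, y₀} : Set E.functionField) = ⊤)
    (heq : y₀ ^ 2 + algebraMap k E.functionField a₁ * x₀ * y₀ +
        algebraMap k E.functionField a₃ * y₀ =
      x₀ ^ 3 + algebraMap k E.functionField a₂ * x₀ ^ 2 + algebraMap k E.functionField a₄ * x₀ +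
        algebraMap k E.functionField a₆) :
    ∃ e : E ≅ DD a₁ a₂ a₃ a₄ a₆,
      e.hom ≫ ιD a₁ a₂ a₃ a₄ a₆ ≫ CohB1.ProjSpace.toSpec 2 k =
        E ↘ (Spec (CommRingCat.of k)) := by
  haveI := Groth.Agent.Helper4.NApx82.isNoetherian_of_proper k E
  have hreg : ∀ x : E, IsRegularLocalRing (E.presheaf.stalk x) := fun x => regular_of_smooth k x
  haveI := isIntegral_DD a₁ a₂ a₃ a₄ a₆ x₀ y₀ htr hy heq
  obtain ⟨τ, hτc, hτx, hτy⟩ := exists_functionField_hom a₁ a₂ a₃ a₄ a₆ x₀ y₀ htr hy heq
  have hnormC : ∀ x : E, IsIntegrallyClosed (E.presheaf.stalk x) := fun x =>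
    haveI := hreg x
    Groth.Agent.Helper4.RegNormal.isIntegrallyClosed_of_isRegularLocalRing _
  have hX : ∀ x : E, IsClosed ({x} : Set E) → ringKrullDim (E.presheaf.stalk x) = 1 :=
    fun x hx => Groth.Agent.Helper4.SN557.dim_stalk k E inferInstance hdim hnormC hK x hx
  have hnorm : ∀ x : E, IsDomain (E.presheaf.stalk x) ∧ IsIntegrallyClosed (E.presheaf.stalk x) :=
    fun x => ⟨inferInstance, hnormC x⟩
  obtain ⟨σ, ⟨hσp, hξ, hφσ⟩, -⟩ := Groth.Agent.Helper5.CurveHom.s4445 k E (DD a₁ a₂ a₃ a₄ a₆)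
    hX hnorm τ (by ext c; exact hτc c)
  have hφσ' : (ffMap σ hξ).hom = τ := hφσ
  -- `τ` is surjective
  have hsurj : Function.Surjective τ := by
    let F : IntermediateField k E.functionField :=
      { τ.fieldRange with
        algebraMap_mem' := fun c => ⟨_, hτc c⟩ }
    have hF : F = ⊤ := by
      rw [eq_top_iff, ← hgenK, IntermediateField.adjoin_le_iff]
      rintro z (rfl | rfl)
      · exact hτx
      · exact hτy
    intro z
    have hz : z ∈ F := by rw [hF]; trivial
    exact hz
  -- the degree is one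
  have hdeg : σ.residueDegree (genericPoint E) = 1 := by
    obtain ⟨i, j, hij⟩ := Groth.Agent.Helper4.SN676.exists_equivs σ hξ
    letI alg : Algebra (DD a₁ a₂ a₃ a₄ a₆).functionField E.functionField :=
      (ffMap σ hξ).hom.toAlgebra
    letI algres : Algebra ((DD a₁ a₂ a₃ a₄ a₆).residueField (σ (genericPoint E)))
        (E.residueField (genericPoint E)) := (σ.residueFieldMap (genericPoint E)).hom.toAlgebra
    have hcompat : (algebraMap ((DD a₁ a₂ a₃ a₄ a₆).residueField (σ (genericPoint E)))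
        (E.residueField (genericPoint E))).comp (i : _ ≃+* _) =
        RingHom.comp (j : _ ≃+* _)
          (algebraMap (DD a₁ a₂ a₃ a₄ a₆).functionField E.functionField) := by
      ext a
      exact hij a
    have hfr : Module.finrank (DD a₁ a₂ a₃ a₄ a₆).functionField E.functionField = 1 := by
      rw [finrank_eq_one_iff_of_nonzero' (1 : E.functionField) one_ne_zero]
      intro w
      obtain ⟨c, hc⟩ := hsurj w
      refine ⟨c, ?_⟩
      rw [Algebra.smul_def, mul_one]
      show (ffMap σ hξ).hom c = w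
      rw [hφσ', hc]
    rw [← hfr]
    exact (Algebra.finrank_eq_of_equiv_equiv i j hcompat).symm
  -- the Euler characteristics agree
  have hdimD := dim_DD a₁ a₂ a₃ a₄ a₆
  haveI := Groth.Agent.Helper4.NApx82.isNoetherian_of_proper k (DD a₁ a₂ a₃ a₄ a₆)
  obtain ⟨hD0, -, hD1⟩ := Groth.Agent.S7840.result k 3 (by norm_num) (Wf a₁ a₂ a₃ a₄ a₆)
    (Wf_ne_zero a₁ a₂ a₃ a₄ a₆) (over_eq a₁ a₂ a₃ a₄ a₆)
  have hχ : Curv2.euler k E (Coh.structureModule E) =
      Curv2.euler k (DD a₁ a₂ a₃ a₄ a₆) (Coh.structureModule (DD a₁ a₂ a₃ a₄ a₆)) := by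
    have h1 := chi_eq_h0_sub_h1 k hdim.le (Coh.structureModule E)
    have h1' := chi_eq_h0_sub_h1 k hdimD.le (Coh.structureModule (DD a₁ a₂ a₃ a₄ a₆))
    unfold chi at h1 h1'
    have hg' : Module.finrank k (Coh.HH E (Coh.structureModule E) 1) = 1 := hg
    rw [h1, h1', h0, hg', hD0, hD1]
  haveI := Groth.Agent.Helper4.SN600.isIso_of_residueDegree_eq_one' k hdim hdimD hχ σ hσp hξ hdeg
  exact ⟨asIso σ, hσp⟩

end Groth.Agent.Helper4.SN710
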