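import Mathlib
import Groth.Agent.Helper4.SN709
import Groth.Agent.Helper5.FFRational
import Groth.Agent.Helper5.FFGaps2

/-!
# Legendre form of a function field of genus one over an algebraically closed field
-/

set_option autoImplicit false
set_option linter.unusedSectionVars false
set_option linter.style.haveILetI false

open FunFld Polynomial
open scoped IntermediateField

namespace Groth.Agent.Helper4.SN711

open Groth.Agent.Helper4.SN704 Groth.Agent.Helper4.SN709

variable {k K : Type*} [Field k] [Field K] [Algebra k K]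

/-- a monic cubic over an algebraically closed field is a product of three linear factors -/
theorem exists_three_roots [IsAlgClosed k] (b₂ b₄ b₆ : k) :
    ∃ e₁ e₂ e₃ : k, ∀ t : K, t ^ 3 + algebraMap k K b₂ * t ^ 2 + algebraMap k K b₄ * t +
      algebraMap k K b₆ = (t - algebraMap k K e₁) * (t - algebraMap k K e₂) *
        (t - algebraMap k K e₃) := by
  set f : Polynomial k := X ^ 3 + C b₂ * X ^ 2 + C b₄ * X + C b₆ with hf
  have hfe : f = (Cubic.mk 1 b₂ b₄ b₆).toPoly := by
    rw [hf, Cubic.toPoly]; simp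
  have hmonic : f.Monic := by rw [hfe]; exact Cubic.monic_of_a_eq_one rfl
  have hdeg : f.natDegree = 3 := by rw [hfe]; exact Cubic.natDegree_of_a_ne_zero one_ne_zero
  have hs := IsAlgClosed.splits f
  have hcard : f.roots.card = 3 := by rw [← hs.natDegree_eq_card_roots, hdeg]
  obtain ⟨e₁, e₂, e₃, hroots⟩ := Multiset.card_eq_three.mp hcard
  have hprod := hs.eq_prod_roots_of_monic hmonic
  rw [hroots] at hprod
  refine ⟨e₁, e₂, e₃, fun t => ?_⟩
  have h1 := congrArg (Polynomial.aeval t) hprod
  rw [hf] at h1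
  simp only [map_add, map_mul, map_pow, aeval_X, aeval_C, Multiset.insert_eq_cons,
    Multiset.map_cons, Multiset.map_singleton, Multiset.prod_cons, Multiset.prod_singleton,
    map_sub] at h1
  rw [h1]
  ring

/-- a double root of the cubic would make the function field rational -/
theorem false_of_double_root (hK : IsFunctionField k K) (hg : genus k K = 1) (x₀ y' : K)
    (htr : Transcendental k x₀)
    (hgen : IntermediateField.adjoin k ({x₀, y'} : Set K) = ⊤) (e e' : k)
    (h : y' ^ 2 = (x₀ - algebraMap k K e) ^ 2 * (x₀ - algebraMap k K e')) : False := by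
  have hne : x₀ - algebraMap k K e ≠ 0 := by
    intro h0
    apply htr
    rw [sub_eq_zero.mp h0]
    exact isAlgebraic_algebraMap e
  set t := y' / (x₀ - algebraMap k K e) with ht
  have ht2 : t ^ 2 = x₀ - algebraMap k K e' := by
    rw [ht, div_pow, h]
    field_simp
  have hx : x₀ ∈ k⟮t⟯ := by
    have : x₀ = t ^ 2 + algebraMap k K e' := by rw [ht2]; ring
    rw [this]
    exact add_mem (pow_mem (IntermediateField.mem_adjoin_simple_self k t) 2)
      (IntermediateField.algebraMap_mem _ _)
  have hy : y' ∈ k⟮t⟯ := by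
    have : y' = t * (x₀ - algebraMap k K e) := by rw [ht]; field_simp
    rw [this]
    exact mul_mem (IntermediateField.mem_adjoin_simple_self k t)
      (sub_mem hx (IntermediateField.algebraMap_mem _ _))
  have htop : k⟮t⟯ = ⊤ := by
    rw [eq_top_iff, ← hgen, IntermediateField.adjoin_le_iff]
    rintro z (rfl | rfl)
    · exact hx
    · exact hy
  have := ((Groth.Agent.Helper5.FF.genus_zero_iff hK).2 ⟨t, htop⟩).1
  omega

/-- a function field of genus one over an algebraically closed field of characteristic not two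
is generated by two functions satisfying a Legendre equation -/
theorem exists_legendre_functions [IsAlgClosed k] (h2 : (2 : k) ≠ 0)
    (hK : IsFunctionField k K) (hg : genus k K = 1) :
    ∃ (l : k) (x₁ y₁ : K), l ≠ 0 ∧ l ≠ 1 ∧ Transcendental k x₁ ∧ y₁ ∉ k⟮x₁⟯ ∧
      IntermediateField.adjoin k ({x₁, y₁} : Set K) = ⊤ ∧
      y₁ ^ 2 = x₁ * (x₁ - 1) * (x₁ - algebraMap k K l) := by
  obtain ⟨P₀⟩ := Groth.Agent.Helper5.FF.nonempty_place hK
  have hP := Groth.Agent.Helper5.FF.deg_eq_one_of_isAlgClosed hK P₀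
  obtain ⟨a₁, a₂, a₃, a₄, a₆, x₀, y₀, htr, hy, hgen, heq⟩ :=
    exists_weierstrass_functions hK hg P₀ hP
  -- complete the square
  set ι := algebraMap k K with hι
  set hh : K := ι 2⁻¹ with hhh
  have h2h : 2 * hh = 1 := by
    rw [hhh, ← map_ofNat ι 2, ← map_mul, mul_inv_cancel₀ h2, map_one]
  set q : K := ι a₁ * x₀ + ι a₃ with hq
  set y' : K := y₀ + hh * q with hy'
  have hqmem : ∀ F : IntermediateField k K, x₀ ∈ F → q ∈ F := fun F hx =>
    add_mem (mul_mem (F.algebraMap_mem _) hx) (F.algebraMap_mem _)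
  obtain ⟨e₁, e₂, e₃, hroots⟩ := exists_three_roots (K := K)
    (a₂ + 2⁻¹ ^ 2 * a₁ ^ 2) (a₄ + 2 * 2⁻¹ ^ 2 * a₁ * a₃) (a₆ + 2⁻¹ ^ 2 * a₃ ^ 2)
  have hy'2 : y' ^ 2 = (x₀ - ι e₁) * (x₀ - ι e₂) * (x₀ - ι e₃) := by
    rw [← hroots x₀]
    simp only [map_add, map_mul, map_pow, map_ofNat]
    rw [← hι, ← hhh]
    linear_combination heq + q * y₀ * h2h
  -- generation by `x₀` and `y'`
  have hgen' : IntermediateField.adjoin k ({x₀, y'} : Set K) = ⊤ := by
    rw [eq_top_iff, ← hgen, IntermediateField.adjoin_le_iff]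
    have hx : x₀ ∈ IntermediateField.adjoin k ({x₀, y'} : Set K) :=
      IntermediateField.subset_adjoin k _ (Set.mem_insert _ _)
    rintro z (rfl | rfl)
    · exact hx
    · have : z = y' - hh * q := by rw [hy']; ring
      rw [this]
      exact sub_mem (IntermediateField.subset_adjoin k _
        (Set.mem_insert_of_mem _ (Set.mem_singleton _)))
        (mul_mem (IntermediateField.algebraMap_mem _ _) (hqmem _ hx))
  -- the roots are distinct
  have h12 : e₁ ≠ e₂ := by
    rintro rfl
    exact false_of_double_root hK hg x₀ y' htr hgen' e₁ e₃ (by rw [hy'2]; ring)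
  have h13 : e₁ ≠ e₃ := by
    rintro rfl
    exact false_of_double_root hK hg x₀ y' htr hgen' e₁ e₂ (by rw [hy'2]; ring)
  have h23 : e₂ ≠ e₃ := by
    rintro rfl
    exact false_of_double_root hK hg x₀ y' htr hgen' e₂ e₁ (by rw [hy'2]; ring)
  -- the change of variables
  set c : k := e₂ - e₁ with hc
  have hc0 : c ≠ 0 := sub_ne_zero.mpr (Ne.symm h12)
  obtain ⟨d, hd⟩ := IsAlgClosed.exists_pow_nat_eq (c ^ 3) (n := 2) (by norm_num)
  have hd0 : d ≠ 0 := by
    rintro rfl
    rw [zero_pow (by norm_num)] at hd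
    exact pow_ne_zero 3 hc0 hd.symm
  have hιc : ι c ≠ 0 := (map_ne_zero ι).mpr hc0
  have hιd : ι d ≠ 0 := (map_ne_zero ι).mpr hd0
  set x₁ : K := (x₀ - ι e₁) / ι c with hx₁
  set y₁ : K := y' / ι d with hy₁
  have hx₀ : x₀ = ι c * x₁ + ι e₁ := by rw [hx₁]; field_simp; ring
  have hy'e : y' = ι d * y₁ := by rw [hy₁]; field_simp
  refine ⟨(e₃ - e₁) / c, x₁, y₁, div_ne_zero (sub_ne_zero.mpr (Ne.symm h13)) hc0, ?_, ?_, ?_, ?_, ?_⟩
  · intro h
    rw [div_eq_one_iff_eq hc0, hc] at h
    exact h23 (by linear_combination -h)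
  · intro halg
    apply htr
    rw [hx₀]
    exact ((isAlgebraic_algebraMap c).mul halg).add (isAlgebraic_algebraMap e₁)
  · intro hmem
    apply hy
    have hle : k⟮x₁⟯ ≤ k⟮x₀⟯ := by
      rw [IntermediateField.adjoin_simple_le_iff, hx₁]
      exact div_mem (sub_mem (IntermediateField.mem_adjoin_simple_self k x₀)
        (IntermediateField.algebraMap_mem _ _)) (IntermediateField.algebraMap_mem _ _)
    have hx : x₀ ∈ k⟮x₀⟯ := IntermediateField.mem_adjoin_simple_self k x₀
    have : y₀ = ι d * y₁ - hh * q := by rw [← hy'e, hy']; ring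
    rw [this]
    exact sub_mem (mul_mem (IntermediateField.algebraMap_mem _ _) (hle hmem))
      (mul_mem (IntermediateField.algebraMap_mem _ _) (hqmem _ hx))
  · rw [eq_top_iff, ← hgen', IntermediateField.adjoin_le_iff]
    rintro z (rfl | rfl)
    · rw [hx₀]
      exact add_mem (mul_mem (IntermediateField.algebraMap_mem _ _)
        (IntermediateField.subset_adjoin k _ (Set.mem_insert _ _)))
        (IntermediateField.algebraMap_mem _ _)
    · rw [hy'e]
      exact mul_mem (IntermediateField.algebraMap_mem _ _)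
        (IntermediateField.subset_adjoin k _ (Set.mem_insert_of_mem _ (Set.mem_singleton _)))
  · have hd' : ι d ^ 2 = ι c ^ 3 := by rw [← map_pow, hd, map_pow]
    have hl : ι ((e₃ - e₁) / c) = (ι e₃ - ι e₁) / ι c := by
      rw [map_div₀, map_sub]
    have hcc : ι c = ι e₂ - ι e₁ := by rw [hc, map_sub]
    rw [hl, hy₁, hx₁, div_pow, hy'2, hd']
    field_simp
    rw [hcc]
    ring

end Groth.Agent.Helper4.SN711
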