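import Mathlib
import Groth.Agent.Helper4.SN710
import Groth.Agent.Helper4.SN711
import Groth.Agent.Helper4.SN568

/-!
# S7848: Legendre form of an elliptic curve over an algebraically closed field
-/

set_option autoImplicit false
set_option linter.unusedSectionVars false
set_option linter.style.haveILetI false

universe u

open CategoryTheory CategoryTheory.Limits AlgebraicGeometry TopologicalSpace Opposite FunFld

namespace Groth.Agent.Helper4.SN712

open Groth.Agent.Helper4.SN Groth.Agent.Helper4.SN706 Groth.Agent.Helper4.SN707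
open scoped IntermediateField

attribute [local instance] Curv2.stalkAlgebra Curv2.resAlgebra

variable (k : Type u) [Field k] [IsAlgClosed k] (E : Scheme.{u}) [E.Over (Spec (CommRingCat.of k))]
  [IsProper (E ↘ (Spec (CommRingCat.of k)))] [Smooth (E ↘ (Spec (CommRingCat.of k)))]

theorem WW_legendre (l : k) :
    WW 0 (-(1 + l)) 0 l 0 = MvPolynomial.X 1 ^ 2 * MvPolynomial.X 2 -
      MvPolynomial.X 0 * (MvPolynomial.X 0 - MvPolynomial.X 2) *
        (MvPolynomial.X 0 - MvPolynomial.C l * MvPolynomial.X 2) := by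
  unfold WW
  simp only [map_zero, map_neg, map_add, map_one]
  ring

/-- **S7848** -/
theorem main7848 (h2 : (2 : k) ≠ 0) [ConnectedSpace E] (hdim : topologicalKrullDim E = 1)
    (hg : Curv2.genus k E = 1) :
    ∃ (l : k) (W : LefPen.Form 2 k 3), l ≠ 0 ∧ l ≠ 1 ∧
      (W : MvPolynomial (Fin (2 + 1)) k) = MvPolynomial.X 1 ^ 2 * MvPolynomial.X 2 - MvPolynomial.X 0 * (MvPolynomial.X 0 - MvPolynomial.X 2) * (MvPolynomial.X 0 - MvPolynomial.C l * MvPolynomial.X 2) ∧
      ∃ e : E ≅ (LefPen.hypIdeal W).subscheme,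
        e.hom ≫ (LefPen.hypIdeal W).subschemeι ≫ CohB1.ProjSpace.toSpec 2 k =
          E ↘ (Spec (CommRingCat.of k)) := by
  haveI := Groth.Agent.Helper4.NApx82.isNoetherian_of_proper k E
  have hreg : ∀ x : E, IsRegularLocalRing (E.presheaf.stalk x) := fun x => regular_of_smooth k x
  haveI : IsIntegral E := isIntegral_of_connected_of_isDomain_stalk E (fun x => by
    haveI := hreg x
    exact Groth.Agent.Lead.RegLocal.isDomain_of_isRegularLocalRing _)
  obtain ⟨pd⟩ := Groth.Agent.Helper4.SN568.nonempty_placeData k E hdim hreg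
  have h0 := Groth.Agent.Helper4.SN560.finrank_h0_structureModule pd
  have hgen := Groth.Agent.Helper4.SN560.genus_eq pd
  obtain ⟨l, x₁, y₁, hl0, hl1, htr, hy, hgenK, heq⟩ :=
    Groth.Agent.Helper4.SN711.exists_legendre_functions h2 pd.hK (by rw [← hgen, hg])
  obtain ⟨e, he⟩ := Groth.Agent.Helper4.SN710.iso_of_weierstrass_functions k E hdim h0 hg pd.hK
    0 (-(1 + l)) 0 l 0 x₁ y₁ htr hy hgenK (by
      rw [heq]
      simp only [map_zero, map_neg, map_add, map_one]
      ring)
  exact ⟨l, Wf 0 (-(1 + l)) 0 l 0, hl0, hl1, WW_legendre k l, e, he⟩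

end Groth.Agent.Helper4.SN712
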