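import Mathlib

/-!
# The Jacobian criterion for an affine hypersurface
-/

set_option autoImplicit false
set_option linter.unusedSectionVars false
set_option linter.style.haveILetI false

namespace Groth.Agent.Helper4.SN713

open KaehlerDifferential MvPolynomial TensorProduct

variable {k : Type*} [Field k] {σ : Type*} [Fintype σ] (f : MvPolynomial σ k)

theorem ker_eq : RingHom.ker (algebraMap (MvPolynomial σ k) (MvPolynomial σ k ⧸ Ideal.span {f})) =
    Ideal.span {f} := by
  rw [Ideal.Quotient.algebraMap_eq, Ideal.mk_ker]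

theorem mem_ker : f ∈ RingHom.ker
    (algebraMap (MvPolynomial σ k) (MvPolynomial σ k ⧸ Ideal.span {f})) := by
  rw [ker_eq]; exact Ideal.mem_span_singleton_self f

/-- the class of `f` in the conormal module -/
noncomputable def cc : (RingHom.ker
    (algebraMap (MvPolynomial σ k) (MvPolynomial σ k ⧸ Ideal.span {f}))).Cotangent :=
  Ideal.toCotangent _ ⟨f, mem_ker f⟩

/-- the conormal module is generated by the class of `f` -/
theorem exists_smul_cc (z : (RingHom.ker
    (algebraMap (MvPolynomial σ k) (MvPolynomial σ k ⧸ Ideal.span {f}))).Cotangent) :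
    ∃ p : MvPolynomial σ k, z = p • cc f := by
  obtain ⟨⟨g, hg⟩, rfl⟩ := Ideal.toCotangent_surjective _ z
  have hg' := hg
  rw [ker_eq, Ideal.mem_span_singleton'] at hg'
  obtain ⟨p, rfl⟩ := hg'
  refine ⟨p, ?_⟩
  unfold cc
  rw [← map_smul]
  rfl

/-- expansion of `dg` in the basis `dX_i` -/
theorem D_eq (g : MvPolynomial σ k) :
    D k (MvPolynomial σ k) g = ∑ i, pderiv i g • D k (MvPolynomial σ k) (X i) := by
  have h := (mvPolynomialBasis k σ).sum_repr (D k (MvPolynomial σ k) g)
  refine h.symm.trans ?_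
  refine Finset.sum_congr rfl (fun i _ => ?_)
  rw [mvPolynomialBasis_repr_apply, mvPolynomialBasis_apply]

theorem f_smul_cc : f • cc f = 0 :=
  Ideal.Cotangent.smul_eq_zero_of_mem (mem_ker f) _

theorem kappa_cc : kerCotangentToTensor k (MvPolynomial σ k) (MvPolynomial σ k ⧸ Ideal.span {f})
    (cc f) = ∑ i, pderiv i f •
      ((1 : MvPolynomial σ k ⧸ Ideal.span {f}) ⊗ₜ[MvPolynomial σ k]
        D k (MvPolynomial σ k) (X i)) := by
  unfold cc
  rw [kerCotangentToTensor_toCotangent]
  show (1 : MvPolynomial σ k ⧸ Ideal.span {f}) ⊗ₜ[MvPolynomial σ k] D k (MvPolynomial σ k) f = _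
  rw [D_eq f, TensorProduct.tmul_sum]
  refine Finset.sum_congr rfl (fun i _ => ?_)
  rw [TensorProduct.tmul_smul]

/-- **Jacobian criterion**, necessity -/
theorem span_eq_top_of_formallySmooth (hf : f ≠ 0)
    (h : Algebra.FormallySmooth k (MvPolynomial σ k ⧸ Ideal.span {f})) :
    Ideal.span (insert f (Set.range fun i => pderiv i f)) = ⊤ := by
  rw [Algebra.FormallySmooth.iff_split_injection (R := k) (P := MvPolynomial σ k)
    (A := MvPolynomial σ k ⧸ Ideal.span {f}) Ideal.Quotient.mk_surjective] at h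
  obtain ⟨l, hl⟩ := h
  have h1 : l (kerCotangentToTensor k (MvPolynomial σ k) (MvPolynomial σ k ⧸ Ideal.span {f})
      (cc f)) = cc f := congrArg (fun φ => φ (cc f)) hl
  rw [kappa_cc, map_sum] at h1
  choose u hu using fun i => exists_smul_cc f
    (l ((1 : MvPolynomial σ k ⧸ Ideal.span {f}) ⊗ₜ[MvPolynomial σ k]
      D k (MvPolynomial σ k) (X i)))
  have h2 : (∑ i, pderiv i f * u i) • cc f = cc f := by
    refine Eq.trans ?_ h1
    rw [Finset.sum_smul]
    refine Finset.sum_congr rfl (fun i _ => ?_)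
    rw [map_smul, hu i, mul_smul]
  have h3 : (1 - ∑ i, pderiv i f * u i) • cc f = 0 := by
    rw [sub_smul, one_smul, h2, sub_self]
  unfold cc at h3
  rw [← map_smul, Ideal.toCotangent_eq_zero] at h3
  have e2 : RingHom.ker (algebraMap (MvPolynomial σ k) (MvPolynomial σ k ⧸ Ideal.span {f})) ^ 2 =
      Ideal.span {f} ^ 2 := by rw [ker_eq]
  rw [e2] at h3
  have h4 : (1 - ∑ i, pderiv i f * u i) * f ∈ Ideal.span {f} ^ 2 := h3
  rw [Ideal.span_singleton_pow, Ideal.mem_span_singleton'] at h4
  obtain ⟨q, hq⟩ := h4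
  have h5 : q * f = 1 - ∑ i, pderiv i f * u i := by
    apply mul_right_cancel₀ hf
    rw [← hq]; ring
  rw [Ideal.eq_top_iff_one]
  have h6 : (1 : MvPolynomial σ k) = q * f + ∑ i, pderiv i f * u i := by
    rw [h5]; ring
  rw [h6]
  refine Ideal.add_mem _ (Ideal.mul_mem_left _ _ (Ideal.subset_span (Set.mem_insert _ _)))
    (Ideal.sum_mem _ (fun i _ => Ideal.mul_mem_right _ _
      (Ideal.subset_span (Set.mem_insert_of_mem _ ⟨i, rfl⟩))))


/-- **Jacobian criterion**, sufficiency -/
theorem formallySmooth_of_span_eq_top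
    (h : Ideal.span (insert f (Set.range fun i => pderiv i f)) = ⊤) :
    Algebra.FormallySmooth k (MvPolynomial σ k ⧸ Ideal.span {f}) := by
  rw [Ideal.eq_top_iff_one, Ideal.mem_span_insert] at h
  obtain ⟨q, z, hz, h1⟩ := h
  rw [Ideal.mem_span_range_iff_exists_fun] at hz
  obtain ⟨u, rfl⟩ := hz
  rw [Algebra.FormallySmooth.iff_split_injection (R := k) (P := MvPolynomial σ k)
    (A := MvPolynomial σ k ⧸ Ideal.span {f}) Ideal.Quotient.mk_surjective]
  have htor : Module.IsTorsionBySet (MvPolynomial σ k) (RingHom.ker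
      (algebraMap (MvPolynomial σ k) (MvPolynomial σ k ⧸ Ideal.span {f}))).Cotangent
      (Ideal.span {f} : Set (MvPolynomial σ k)) := by
    intro m x
    refine Ideal.Cotangent.smul_eq_zero_of_mem ?_ m
    rw [ker_eq]
    exact x.2
  letI := htor.module
  let l₀ : Ω[MvPolynomial σ k⁄k] →ₗ[MvPolynomial σ k] (RingHom.ker
      (algebraMap (MvPolynomial σ k) (MvPolynomial σ k ⧸ Ideal.span {f}))).Cotangent :=
    (mvPolynomialBasis k σ).constr (MvPolynomial σ k) (fun i => u i • cc f)
  have hl₀ : ∀ i, l₀ (D k (MvPolynomial σ k) (X i)) = u i • cc f := by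
    intro i
    rw [← mvPolynomialBasis_apply]
    exact (mvPolynomialBasis k σ).constr_basis (MvPolynomial σ k) _ i
  refine ⟨(LinearMap.liftBaseChange (MvPolynomial σ k ⧸ Ideal.span {f}) l₀).restrictScalars
    (MvPolynomial σ k), ?_⟩
  apply LinearMap.ext
  intro z
  obtain ⟨p, rfl⟩ := exists_smul_cc f z
  rw [map_smul, LinearMap.id_apply]
  congr 1
  rw [LinearMap.comp_apply, kappa_cc, map_sum]
  have h2 : ∀ i, ((LinearMap.liftBaseChange (MvPolynomial σ k ⧸ Ideal.span {f}) l₀).restrictScalars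
      (MvPolynomial σ k)) (pderiv i f •
        ((1 : MvPolynomial σ k ⧸ Ideal.span {f}) ⊗ₜ[MvPolynomial σ k]
          D k (MvPolynomial σ k) (X i))) = (u i * pderiv i f) • cc f := by
    intro i
    rw [map_smul, LinearMap.restrictScalars_apply, LinearMap.liftBaseChange_tmul, one_smul, hl₀,
      smul_smul, mul_comm]
  rw [Finset.sum_congr rfl (fun i _ => h2 i), ← Finset.sum_smul]
  have h3 : ∑ i, u i * pderiv i f = 1 - q * f := by
    rw [h1]; ring
  rw [h3, sub_smul, one_smul, mul_smul, f_smul_cc, smul_zero, sub_zero]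

theorem formallySmooth_iff (hf : f ≠ 0) :
    Algebra.FormallySmooth k (MvPolynomial σ k ⧸ Ideal.span {f}) ↔
      Ideal.span (insert f (Set.range fun i => pderiv i f)) = ⊤ :=
  ⟨span_eq_top_of_formallySmooth f hf, formallySmooth_of_span_eq_top f⟩

theorem finitePresentation_quot :
    Algebra.FinitePresentation k (MvPolynomial σ k ⧸ Ideal.span {f}) :=
  Algebra.FinitePresentation.quotient ⟨{f}, by simp⟩

theorem smooth_iff (hf : f ≠ 0) :
    Algebra.Smooth k (MvPolynomial σ k ⧸ Ideal.span {f}) ↔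
      Ideal.span (insert f (Set.range fun i => pderiv i f)) = ⊤ := by
  rw [← formallySmooth_iff f hf]
  exact ⟨fun h => h.formallySmooth, fun h => ⟨h, finitePresentation_quot f⟩⟩

/-- the two variable version -/
theorem smooth_iff_two (f : MvPolynomial (Fin 2) k) (hf : f ≠ 0) :
    Algebra.Smooth k (MvPolynomial (Fin 2) k ⧸ Ideal.span {f}) ↔
      Ideal.span {f, pderiv 0 f, pderiv 1 f} = ⊤ := by
  rw [smooth_iff f hf]
  have : Set.range (fun i : Fin 2 => pderiv i f) = {pderiv 0 f, pderiv 1 f} := by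
    ext z
    simp only [Set.mem_range, Set.mem_insert_iff, Set.mem_singleton_iff]
    constructor
    · rintro ⟨i, rfl⟩
      fin_cases i
      · left; rfl
      · right; rfl
    · rintro (rfl | rfl)
      · exact ⟨0, rfl⟩
      · exact ⟨1, rfl⟩
  rw [this]

end Groth.Agent.Helper4.SN713
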