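import Mathlib

/-!
# The Jacobian ideals of the affine charts of a short Weierstrass cubic
-/

set_option autoImplicit false
set_option linter.unusedSectionVars false
set_option linter.style.haveILetI false

namespace Groth.Agent.Helper4.SN714

open MvPolynomial

variable {k : Type*} [Field k] (a b : k)

/-- the affine equation `y² = x³ + a x - b` -/
noncomputable def f2 : MvPolynomial (Fin 2) k :=
  X 1 ^ 2 - X 0 ^ 3 - C a * X 0 + C b

/-- the equation in the chart `y = 1`: `z = x³ + a x z² - b z³` -/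
noncomputable def f1 : MvPolynomial (Fin 2) k :=
  X 1 - X 0 ^ 3 - C a * X 0 * X 1 ^ 2 + C b * X 1 ^ 3

theorem pderiv0_f2 : pderiv 0 (f2 a b) = - 3 * X 0 ^ 2 - C a := by
  unfold f2
  simp [Derivation.leibniz_pow]

theorem pderiv1_f2 : pderiv 1 (f2 a b) = 2 * X 1 := by
  unfold f2
  simp [Derivation.leibniz_pow]

theorem pderiv0_f1 : pderiv 0 (f1 a b) = - 3 * X 0 ^ 2 - C a * X 1 ^ 2 := by
  unfold f1
  simp [Derivation.leibniz_pow]
  ring

theorem pderiv1_f1 : pderiv 1 (f1 a b) = 1 - 2 * C a * X 0 * X 1 + 3 * C b * X 1 ^ 2 := by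
  unfold f1
  simp [Derivation.leibniz_pow]
  ring


theorem C_half_mul_two (h2 : (2 : k) ≠ 0) :
    (C (2⁻¹ : k) : MvPolynomial (Fin 2) k) * 2 = 1 := by
  rw [show (2 : MvPolynomial (Fin 2) k) = C 2 from (map_ofNat C 2).symm, ← C_mul,
    inv_mul_cancel₀ h2, C_1]

/-- the chart `y = 1` of a short Weierstrass cubic is always smooth (characteristic not two) -/
theorem span_f1_eq_top (h2 : (2 : k) ≠ 0) :
    Ideal.span {f1 a b, pderiv 0 (f1 a b), pderiv 1 (f1 a b)} = ⊤ := by
  have hc := C_half_mul_two (k := k) h2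
  rw [Ideal.eq_top_iff_one]
  set t : MvPolynomial (Fin 2) k := C (2⁻¹ : k) * (2 * C a * X 0 - 3 * C b * X 1) with ht
  refine Ideal.mem_span_insert.2 ⟨3 * t, (-(t * X 0)) * pderiv 0 (f1 a b) +
    (1 - t * X 1) * pderiv 1 (f1 a b), Ideal.mem_span_pair.2 ⟨_, _, rfl⟩, ?_⟩
  rw [pderiv0_f1, pderiv1_f1, ht]
  unfold f1
  linear_combination (-((2 * C a * X 0 - 3 * C b * X 1) * X 1)) * hc

/-- the chart `z = 1` of a short Weierstrass cubic with nonzero discriminant is smooth -/
theorem span_f2_eq_top (h2 : (2 : k) ≠ 0) (hΔ : 4 * a ^ 3 + 27 * b ^ 2 ≠ 0) :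
    Ideal.span {f2 a b, pderiv 0 (f2 a b), pderiv 1 (f2 a b)} = ⊤ := by
  have hc := C_half_mul_two (k := k) h2
  have hmem : (C (4 * a ^ 3 + 27 * b ^ 2) : MvPolynomial (Fin 2) k) ∈
      Ideal.span {f2 a b, pderiv 0 (f2 a b), pderiv 1 (f2 a b)} := by
    refine Ideal.mem_span_insert.2 ⟨3 * (6 * C a * X 0 + 9 * C b),
      (-(4 * C a ^ 2) - X 0 * (6 * C a * X 0 + 9 * C b)) * pderiv 0 (f2 a b) +
      (-(3 * C (2⁻¹ : k) * X 1 * (6 * C a * X 0 + 9 * C b))) * pderiv 1 (f2 a b),
      Ideal.mem_span_pair.2 ⟨_, _, rfl⟩, ?_⟩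
    rw [pderiv0_f2, pderiv1_f2]
    unfold f2
    simp only [map_add, map_mul, map_pow, map_ofNat]
    linear_combination (3 * X 1 ^ 2 * (6 * C a * X 0 + 9 * C b)) * hc
  rw [Ideal.eq_top_iff_one]
  have : (1 : MvPolynomial (Fin 2) k) = C ((4 * a ^ 3 + 27 * b ^ 2)⁻¹) *
      C (4 * a ^ 3 + 27 * b ^ 2) := by
    rw [← C_mul, inv_mul_cancel₀ hΔ, C_1]
  rw [this]
  exact Ideal.mul_mem_left _ _ hmem

/-- a cubic with vanishing discriminant has a multiple root over the algebraic closure -/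
theorem exists_common_root (h2 : (2 : k) ≠ 0) (hΔ : 4 * a ^ 3 + 27 * b ^ 2 = 0)
    (K : Type*) [Field K] [Algebra k K] [IsAlgClosed K] :
    ∃ x₀ : K, x₀ ^ 3 + algebraMap k K a * x₀ - algebraMap k K b = 0 ∧
      3 * x₀ ^ 2 + algebraMap k K a = 0 := by
  have h4 : (4 : k) ≠ 0 := by
    have : (4 : k) = 2 * 2 := by norm_num
    rw [this]; exact mul_ne_zero h2 h2
  by_cases ha : a = 0
  · subst ha
    by_cases hb : b = 0
    · subst hb
      exact ⟨0, by simp, by simp⟩
    · have h27 : (27 : k) = 0 := by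
        have : 27 * b ^ 2 = 0 := by linear_combination hΔ
        rcases mul_eq_zero.1 this with h | h
        · exact h
        · exact absurd ((pow_eq_zero_iff (two_ne_zero)).1 h) hb
      have h3 : (3 : k) = 0 := by
        have : (3 : k) ^ 3 = 0 := by rw [← h27]; norm_num
        exact pow_eq_zero_iff (by norm_num) |>.1 this
      have h3K : (3 : K) = 0 := by
        have := congrArg (algebraMap k K) h3
        rwa [map_ofNat, map_zero] at this
      obtain ⟨z, hz⟩ := IsAlgClosed.exists_pow_nat_eq (algebraMap k K b) (n := 3) (by norm_num)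
      refine ⟨z, ?_, ?_⟩
      · rw [hz, map_zero]; ring
      · rw [h3K, map_zero]; ring
  · have h3 : (3 : k) ≠ 0 := by
      intro h3
      have h27 : (27 : k) = 0 := by
        have : (27 : k) = 3 ^ 3 := by norm_num
        rw [this, h3]; norm_num
      have : 4 * a ^ 3 = 0 := by linear_combination hΔ - b ^ 2 * h27
      rcases mul_eq_zero.1 this with h | h
      · exact h4 h
      · exact ha (pow_eq_zero_iff (by norm_num) |>.1 h)
    set e : k := 3 * b / (2 * a) with he
    have hr : 2 * a * e - 3 * b = 0 := by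
      rw [he]; field_simp; ring
    have hd : 3 * e ^ 2 + a = 0 := by
      have h5 : 4 * a ^ 2 * (3 * e ^ 2 + a) = 0 := by
        have : 4 * a ^ 2 * (3 * e ^ 2 + a) = 3 * (2 * a * e) ^ 2 + 4 * a ^ 3 := by ring
        rw [this, show 2 * a * e = 3 * b from by linear_combination hr]
        linear_combination hΔ
      rcases mul_eq_zero.1 h5 with h | h
      · exact absurd h (mul_ne_zero h4 (pow_ne_zero 2 ha))
      · exact h
    have hg : e ^ 3 + a * e - b = 0 := by
      have : 3 * (e ^ 3 + a * e - b) = 0 := by linear_combination e * hd + hr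
      rcases mul_eq_zero.1 this with h | h
      · exact absurd h h3
      · exact h
    refine ⟨algebraMap k K e, ?_, ?_⟩
    · have := congrArg (algebraMap k K) hg
      simpa using this
    · have := congrArg (algebraMap k K) hd
      rwa [map_add, map_mul, map_pow, map_ofNat, map_zero] at this

/-- the chart `z = 1` of a short Weierstrass cubic with vanishing discriminant is not smooth -/
theorem span_f2_ne_top (h2 : (2 : k) ≠ 0) (hΔ : 4 * a ^ 3 + 27 * b ^ 2 = 0) :
    Ideal.span {f2 a b, pderiv 0 (f2 a b), pderiv 1 (f2 a b)} ≠ ⊤ := by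
  intro htop
  obtain ⟨x₀, hg, hd⟩ := exists_common_root a b h2 hΔ (AlgebraicClosure k)
  let φ : MvPolynomial (Fin 2) k →ₐ[k] AlgebraicClosure k := aeval ![x₀, 0]
  have hle : Ideal.span {f2 a b, pderiv 0 (f2 a b), pderiv 1 (f2 a b)} ≤
      RingHom.ker (φ : MvPolynomial (Fin 2) k →+* AlgebraicClosure k) := by
    rw [Ideal.span_le]
    rintro z (rfl | rfl | rfl)
    · show φ (f2 a b) = 0
      unfold f2
      simp only [φ, map_add, map_sub, map_mul, map_pow, aeval_X, aeval_C]
      simp only [Matrix.cons_val_zero, Matrix.cons_val_one]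
      linear_combination -hg
    · show φ (pderiv 0 (f2 a b)) = 0
      rw [pderiv0_f2]
      simp only [φ, map_sub, map_mul, map_pow, map_neg, map_ofNat, aeval_X, aeval_C]
      simp only [Matrix.cons_val_zero]
      linear_combination -hd
    · show φ (pderiv 1 (f2 a b)) = 0
      rw [pderiv1_f2]
      simp only [φ, map_mul, map_ofNat, aeval_X]
      simp
  rw [htop, top_le_iff, Ideal.eq_top_iff_one] at hle
  have : φ 1 = 0 := hle
  rw [map_one] at this
  exact one_ne_zero this

theorem span_f2_eq_top_iff (h2 : (2 : k) ≠ 0) :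
    Ideal.span {f2 a b, pderiv 0 (f2 a b), pderiv 1 (f2 a b)} = ⊤ ↔
      4 * a ^ 3 + 27 * b ^ 2 ≠ 0 :=
  ⟨fun h hΔ => span_f2_ne_top a b h2 hΔ h, span_f2_eq_top a b h2⟩

theorem f2_ne_zero (h2 : (2 : k) ≠ 0) : f2 a b ≠ 0 := by
  intro h
  have h1 := congrArg (pderiv 1) (congrArg (pderiv 1) h)
  rw [pderiv1_f2, map_zero, map_zero] at h1
  have h3 : pderiv 1 (2 * X 1 : MvPolynomial (Fin 2) k) = C 2 := by
    rw [show (2 : MvPolynomial (Fin 2) k) = C 2 from (map_ofNat C 2).symm, pderiv_C_mul,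
      pderiv_X_self, mul_one]
  rw [h3] at h1
  exact h2 (C_injective (Fin 2) k (h1.trans C_0.symm))

theorem f1_ne_zero : f1 a b ≠ 0 := by
  intro h
  have h1 := congrArg (eval ![0, 0]) (congrArg (pderiv 1) h)
  rw [pderiv1_f1, map_zero, map_zero] at h1
  simp at h1

end Groth.Agent.Helper4.SN714
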