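import Mathlib
import Groth.Agent.Helper4.SN705

/-!
# The standard charts of `P²` as `MvPolynomial (Fin 2) k`, and transfer of smoothness along
a presentation
-/

set_option autoImplicit false
set_option linter.unusedSectionVars false
set_option linter.style.haveILetI false

universe u

namespace Groth.Agent.Helper4.SN715

open HomogeneousLocalization Groth.Agent.Helper1.Segre Groth.Agent.Helper4.SN705

section Transfer

/-- smoothness of a ring homomorphism `k → B` can be tested on a presentation `P/J ≅ B` -/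
theorem smooth_iff_of_surjective {k P B : Type*} [CommRing k] [CommRing P] [CommRing B]
    [Algebra k P] (s : k →+* B) (π : P →+* B) (hπ : Function.Surjective π)
    (hs : ∀ c, π (algebraMap k P c) = s c) (J : Ideal P) (hJ : RingHom.ker π = J) :
    s.Smooth ↔ Algebra.Smooth k (P ⧸ J) := by
  letI : Algebra k B := s.toAlgebra
  let πA : P →ₐ[k] B := { π with commutes' := hs }
  have hπA : Function.Surjective πA := hπ
  let e₁ : (P ⧸ RingHom.ker πA) ≃ₐ[k] B := Ideal.quotientKerAlgEquivOfSurjective hπA
  have hJ' : RingHom.ker πA = J := hJ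
  let e₂ : (P ⧸ RingHom.ker πA) ≃ₐ[k] (P ⧸ J) := Ideal.quotientEquivAlgOfEq k hJ'
  show Algebra.Smooth k B ↔ _
  constructor
  · intro h
    exact Algebra.Smooth.of_equiv (e₁.symm.trans e₂)
  · intro h
    exact Algebra.Smooth.of_equiv (e₂.symm.trans e₁)

end Transfer

section Theta

variable (k : Type u) [CommRing k]

/-- `k[x][y] → k[X_0, X_1]` -/
noncomputable def thetaF : Polynomial (Polynomial k) →+* MvPolynomial (Fin 2) k :=
  Polynomial.eval₂RingHom (Polynomial.eval₂RingHom MvPolynomial.C (MvPolynomial.X 0))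
    (MvPolynomial.X 1)

/-- `k[X_0, X_1] → k[x][y]` -/
noncomputable def thetaG : MvPolynomial (Fin 2) k →+* Polynomial (Polynomial k) :=
  MvPolynomial.eval₂Hom ((Polynomial.C : Polynomial k →+* _).comp (Polynomial.C : k →+* _))
    ![Polynomial.C Polynomial.X, Polynomial.X]

theorem thetaF_CC (c : k) : thetaF k (Polynomial.C (Polynomial.C c)) = MvPolynomial.C c := by
  unfold thetaF
  simp

theorem thetaF_CX : thetaF k (Polynomial.C Polynomial.X) = MvPolynomial.X 0 := by
  unfold thetaF
  simp

theorem thetaF_X : thetaF k Polynomial.X = MvPolynomial.X 1 := by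
  unfold thetaF
  simp

theorem thetaG_thetaF : (thetaG k).comp (thetaF k) = RingHom.id _ := by
  apply Polynomial.ringHom_ext'
  · apply Polynomial.ringHom_ext
    · intro c
      simp only [RingHom.comp_apply, thetaF_CC, RingHom.id_apply]
      unfold thetaG
      simp
    · simp only [RingHom.comp_apply, thetaF_CX, RingHom.id_apply]
      unfold thetaG
      simp
  · simp only [RingHom.comp_apply, thetaF_X, RingHom.id_apply]
    unfold thetaG
    simp

theorem thetaF_thetaG : (thetaF k).comp (thetaG k) = RingHom.id _ := by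
  apply MvPolynomial.ringHom_ext
  · intro c
    unfold thetaG
    simp [thetaF_CC]
  · intro l
    unfold thetaG
    fin_cases l
    · simp [thetaF_CX]
    · simp [thetaF_X]

/-- `k[x][y] ≃ k[X_0, X_1]` -/
noncomputable def theta : Polynomial (Polynomial k) ≃+* MvPolynomial (Fin 2) k :=
  RingEquiv.ofRingHom (thetaF k) (thetaG k) (thetaF_thetaG k) (thetaG_thetaF k)

theorem theta_apply (p : Polynomial (Polynomial k)) : theta k p = thetaF k p := rfl

end Theta

section Chart

variable (k : Type u) [CommRing k] (i l₁ l₂ : Fin 3)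
variable (hcover : ∀ l : Fin 3, l = i ∨ l = l₁ ∨ l = l₂) (h1 : l₁ ≠ i) (h2 : l₂ ≠ i)
  (h12 : l₁ ≠ l₂)

/-- dehomogenisation to `k[X_0, X_1]`: `X_{l₁} ↦ X_0`, `X_{l₂} ↦ X_1`, the third variable `↦ 1` -/
noncomputable def evM : MvPolynomial (Fin 3) k →+* MvPolynomial (Fin 2) k :=
  MvPolynomial.eval₂Hom MvPolynomial.C
    (fun l => if l = l₁ then MvPolynomial.X 0 else if l = l₂ then MvPolynomial.X 1 else 1)

theorem thetaF_comp_ev : (thetaF k).comp (ev k l₁ l₂) = evM k l₁ l₂ := by
  apply MvPolynomial.ringHom_ext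
  · intro c
    rw [RingHom.comp_apply, ev_C, thetaF_CC]
    unfold evM
    simp
  · intro l
    unfold ev SN705.vv evM
    rw [RingHom.comp_apply, MvPolynomial.coe_eval₂Hom, MvPolynomial.eval₂_X,
      MvPolynomial.coe_eval₂Hom, MvPolynomial.eval₂_X]
    split_ifs
    · exact thetaF_CX k
    · exact thetaF_X k
    · exact map_one _

/-- the chart ring as `k[X_0, X_1]` -/
noncomputable def chartM : Away (CohB1.polyGrading 2 k)
    (MvPolynomial.X i : MvPolynomial (Fin 3) k) ≃+* MvPolynomial (Fin 2) k :=
  (chartPoly k i l₁ l₂ hcover h1 h2 h12).trans (theta k)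

theorem chartM_dehom (G : MvPolynomial (Fin 3) k) :
    chartM k i l₁ l₂ hcover h1 h2 h12 (dehom k 2 i G) = evM k l₁ l₂ G := by
  unfold chartM
  rw [RingEquiv.trans_apply, chartPoly_dehom, theta_apply, ← thetaF_comp_ev]
  rfl

theorem chartM_konst (c : k) :
    chartM k i l₁ l₂ hcover h1 h2 h12 (konst k i c) = MvPolynomial.C c := by
  unfold chartM
  rw [RingEquiv.trans_apply, chartPoly_konst, theta_apply, thetaF_CC]

theorem chartM_symm_C (c : k) :
    (chartM k i l₁ l₂ hcover h1 h2 h12).symm (MvPolynomial.C c) = konst k i c := by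
  rw [RingEquiv.symm_apply_eq, chartM_konst]

theorem span_dehom_eq_comap (G : MvPolynomial (Fin 3) k) :
    Ideal.span {dehom k 2 i G} =
      Ideal.comap (chartM k i l₁ l₂ hcover h1 h2 h12 : _ →+* _)
        (Ideal.span {evM k l₁ l₂ G}) := by
  have h : Ideal.span {evM k l₁ l₂ G} =
      Ideal.map (chartM k i l₁ l₂ hcover h1 h2 h12 : _ →+* _)
        (Ideal.span {dehom k 2 i G}) := by
    rw [Ideal.map_span, Set.image_singleton]
    congr 2
    exact (chartM_dehom k i l₁ l₂ hcover h1 h2 h12 G).symm
  rw [h]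
  exact (Ideal.comap_map_of_bijective _ (chartM k i l₁ l₂ hcover h1 h2 h12).bijective).symm

end Chart

end Groth.Agent.Helper4.SN715
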