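import Mathlib
import Groth.Agent.Helper4.SN708
import Groth.Agent.Helper4.SN713
import Groth.Agent.Helper4.SN714
import Groth.Agent.Helper4.SN715

/-!
# Smoothness of a Weierstrass cubic, chart by chart
-/

set_option autoImplicit false
set_option linter.unusedSectionVars false
set_option linter.style.haveILetI false

universe u

open CategoryTheory CategoryTheory.Limits AlgebraicGeometry TopologicalSpace Opposite

namespace Groth.Agent.Helper4.SN716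

open HomogeneousLocalization Groth.Agent.Helper1.Segre
open Groth.Agent.Helper4.SN704 Groth.Agent.Helper4.SN705 Groth.Agent.Helper4.SN706
  Groth.Agent.Helper4.SN707 Groth.Agent.Helper4.SN715
open Groth.Agent.Helper1.Hyp Groth.Agent.Helper1.CIReg

variable {k : Type u} [Field k] (a₁ a₂ a₃ a₄ a₆ : k)

/-- the structure map of the chart `VD i` of the curve, on constants -/
theorem appLE_konst (i : Fin 3) (c : k) :
    ((ιD a₁ a₂ a₃ a₄ a₆ ≫ CohB1.ProjSpace.toSpec 2 k).appLE ⊤ (VD a₁ a₂ a₃ a₄ a₆ i) le_top).hom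
      ((Scheme.ΓSpecIso (CommRingCat.of k)).inv.hom c) =
    resD a₁ a₂ a₃ a₄ a₆ i (Groth.Agent.Helper4.SN610.konst (k := k) 2 i c) := by
  have h1 : ProjUP.toGlobal (ιD a₁ a₂ a₃ a₄ a₆ ≫ CohB1.ProjSpace.toSpec 2 k) c =
      (ιD a₁ a₂ a₃ a₄ a₆).appTop (ProjUP.toGlobal (CohB1.ProjSpace.toSpec 2 k) c) :=
    Groth.Agent.Helper4.SN610.toGlobal_comp (ιD a₁ a₂ a₃ a₄ a₆) (CohB1.ProjSpace.toSpec 2 k) c
  have h0 : ((ιD a₁ a₂ a₃ a₄ a₆ ≫ CohB1.ProjSpace.toSpec 2 k).appLE ⊤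
      (VD a₁ a₂ a₃ a₄ a₆ i) le_top).hom
      ((Scheme.ΓSpecIso (CommRingCat.of k)).inv.hom c) =
      ((DD a₁ a₂ a₃ a₄ a₆).presheaf.map (homOfLE (le_top : VD a₁ a₂ a₃ a₄ a₆ i ≤ ⊤)).op).hom
        (ProjUP.toGlobal (ιD a₁ a₂ a₃ a₄ a₆ ≫ CohB1.ProjSpace.toSpec 2 k) c) := rfl
  rw [h0, h1]
  unfold resD Groth.Agent.Helper4.SN610.konst
  have nat := congr($((ιD a₁ a₂ a₃ a₄ a₆).naturality
    (homOfLE (le_top : LefPen.chart 2 k i ≤ ⊤)).op)
    (ProjUP.toGlobal (CohB1.ProjSpace.toSpec 2 k) c))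
  rw [CommRingCat.comp_apply, CommRingCat.comp_apply] at nat
  exact nat.symm


theorem mem_map_comap_iff {A B C : Type*} [CommRing A] [CommRing B] [CommRing C]
    (E : A ≃+* B) (M : A ≃+* C) (J : Ideal C) (p : C) :
    E (M.symm p) ∈ Ideal.map (E : A →+* B) (Ideal.comap (M : A →+* C) J) ↔ p ∈ J := by
  rw [Ideal.map_comap_of_equiv, Ideal.mem_comap, Ideal.mem_comap]
  show M (E.symm (E (M.symm p))) ∈ J ↔ _
  rw [RingEquiv.symm_apply_apply, RingEquiv.apply_symm_apply]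

section Chart

variable (i l₁ l₂ : Fin 3)
variable (hcover : ∀ l : Fin 3, l = i ∨ l = l₁ ∨ l = l₂) (h1 : l₁ ≠ i) (h2 : l₂ ≠ i)
  (h12 : l₁ ≠ l₂)

/-- the presentation of the ring of functions of the chart `VD i` of the curve -/
noncomputable def piD : MvPolynomial (Fin 2) k →+* Γ(DD a₁ a₂ a₃ a₄ a₆, VD a₁ a₂ a₃ a₄ a₆ i) :=
  (resD a₁ a₂ a₃ a₄ a₆ i).comp ((chartEquiv (n := 2) (k := k) i).toRingHom.comp
    (chartM k i l₁ l₂ hcover h1 h2 h12).symm.toRingHom)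

theorem piD_apply (p : MvPolynomial (Fin 2) k) :
    piD a₁ a₂ a₃ a₄ a₆ i l₁ l₂ hcover h1 h2 h12 p =
      resD a₁ a₂ a₃ a₄ a₆ i (chartEquiv (n := 2) (k := k) i
        ((chartM k i l₁ l₂ hcover h1 h2 h12).symm p)) := rfl

theorem piD_surjective : Function.Surjective (piD a₁ a₂ a₃ a₄ a₆ i l₁ l₂ hcover h1 h2 h12) := by
  intro t
  obtain ⟨s, rfl⟩ := resD_surjective a₁ a₂ a₃ a₄ a₆ i t
  refine ⟨chartM k i l₁ l₂ hcover h1 h2 h12 ((chartEquiv (n := 2) (k := k) i).symm s), ?_⟩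
  rw [piD_apply, RingEquiv.symm_apply_apply, RingEquiv.apply_symm_apply]

theorem piD_C (c : k) :
    piD a₁ a₂ a₃ a₄ a₆ i l₁ l₂ hcover h1 h2 h12 (MvPolynomial.C c) =
      resD a₁ a₂ a₃ a₄ a₆ i (Groth.Agent.Helper4.SN610.konst (k := k) 2 i c) := by
  rw [piD_apply, chartM_symm_C, ← Groth.Agent.Helper4.SN610.awayToSection_fromZero]
  rfl

theorem ker_piD : RingHom.ker (piD a₁ a₂ a₃ a₄ a₆ i l₁ l₂ hcover h1 h2 h12) =
    Ideal.span {evM k l₁ l₂ (WW a₁ a₂ a₃ a₄ a₆)} := by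
  ext p
  rw [RingHom.mem_ker, piD_apply, ← RingHom.mem_ker, ker_resD, ideal_chart,
    SN715.span_dehom_eq_comap k i l₁ l₂ hcover h1 h2 h12]
  exact mem_map_comap_iff _ _ _ p

include hcover h1 h2 h12 in
/-- smoothness of the structure map of a chart of the curve, in terms of the presentation -/
theorem smooth_appLE_iff :
    RingHom.Smooth ((ιD a₁ a₂ a₃ a₄ a₆ ≫ CohB1.ProjSpace.toSpec 2 k).appLE ⊤
      (VD a₁ a₂ a₃ a₄ a₆ i) le_top).hom ↔
      Algebra.Smooth k (MvPolynomial (Fin 2) k ⧸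
        Ideal.span {evM k l₁ l₂ (WW a₁ a₂ a₃ a₄ a₆)}) := by
  rw [← RingHom.Smooth.respectsIso.cancel_left_isIso
    (Scheme.ΓSpecIso (CommRingCat.of k)).inv]
  refine smooth_iff_of_surjective _ (piD a₁ a₂ a₃ a₄ a₆ i l₁ l₂ hcover h1 h2 h12)
    (piD_surjective a₁ a₂ a₃ a₄ a₆ i l₁ l₂ hcover h1 h2 h12) (fun c => ?_) _
    (ker_piD a₁ a₂ a₃ a₄ a₆ i l₁ l₂ hcover h1 h2 h12)
  rw [MvPolynomial.algebraMap_eq, piD_C, RingHom.comp_apply, appLE_konst]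

end Chart


/-- the two charts covering the curve -/
noncomputable def UU (b : Bool) : (DD a₁ a₂ a₃ a₄ a₆).affineOpens :=
  if b then ⟨VD a₁ a₂ a₃ a₄ a₆ 2, isAffineOpen_VD a₁ a₂ a₃ a₄ a₆ 2⟩
  else ⟨VD a₁ a₂ a₃ a₄ a₆ 1, isAffineOpen_VD a₁ a₂ a₃ a₄ a₆ 1⟩

theorem iSup_UU : ⨆ b, ((UU a₁ a₂ a₃ a₄ a₆ b : (DD a₁ a₂ a₃ a₄ a₆).affineOpens) :
    (DD a₁ a₂ a₃ a₄ a₆).Opens) = ⊤ := by
  rw [eq_top_iff]
  intro x _
  rw [Opens.mem_iSup]
  rcases mem_chart_one_or_two a₁ a₂ a₃ a₄ a₆ x with h | h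
  · exact ⟨false, h⟩
  · exact ⟨true, h⟩

/-- smoothness of the Weierstrass cubic can be tested on the two affine charts -/
theorem smooth_iff :
    Smooth (ιD a₁ a₂ a₃ a₄ a₆ ≫ CohB1.ProjSpace.toSpec 2 k) ↔
      Algebra.Smooth k (MvPolynomial (Fin 2) k ⧸
        Ideal.span {evM k 0 2 (WW a₁ a₂ a₃ a₄ a₆)}) ∧
      Algebra.Smooth k (MvPolynomial (Fin 2) k ⧸
        Ideal.span {evM k 0 1 (WW a₁ a₂ a₃ a₄ a₆)}) := by
  rw [HasRingHomProperty.iff_of_iSup_eq_top (P := @Smooth) (UU a₁ a₂ a₃ a₄ a₆)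
    (iSup_UU a₁ a₂ a₃ a₄ a₆), Bool.forall_bool]
  refine and_congr ?_ ?_
  · exact smooth_appLE_iff a₁ a₂ a₃ a₄ a₆ 1 0 2 (by decide) (by decide) (by decide) (by decide)
  · exact smooth_appLE_iff a₁ a₂ a₃ a₄ a₆ 2 0 1 (by decide) (by decide) (by decide) (by decide)


section Short

variable (a b : k)

theorem WW_short :
    WW 0 0 0 a (-b) = MvPolynomial.X 1 ^ 2 * MvPolynomial.X 2 - MvPolynomial.X 0 ^ 3 -
      MvPolynomial.C a * MvPolynomial.X 0 * MvPolynomial.X 2 ^ 2 +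
      MvPolynomial.C b * MvPolynomial.X 2 ^ 3 := by
  unfold WW
  simp only [map_zero, map_neg]
  ring

theorem evM_X (l₁ l₂ l : Fin 3) : evM k l₁ l₂ (MvPolynomial.X l) =
    if l = l₁ then MvPolynomial.X 0 else if l = l₂ then MvPolynomial.X 1 else 1 := by
  unfold evM
  rw [MvPolynomial.coe_eval₂Hom, MvPolynomial.eval₂_X]

theorem evM_C (l₁ l₂ : Fin 3) (c : k) : evM k l₁ l₂ (MvPolynomial.C c) = MvPolynomial.C c := by
  unfold evM
  rw [MvPolynomial.coe_eval₂Hom, MvPolynomial.eval₂_C]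

theorem evM_two : evM k 0 1 (WW 0 0 0 a (-b)) = SN714.f2 a b := by
  have e0 : evM k 0 1 (MvPolynomial.X 0) = MvPolynomial.X 0 := by rw [evM_X]; rfl
  have e1 : evM k 0 1 (MvPolynomial.X 1) = MvPolynomial.X 1 := by rw [evM_X]; rfl
  have e2 : evM k 0 1 (MvPolynomial.X 2) = 1 := by rw [evM_X]; rfl
  have eC : ∀ c : k, evM k 0 1 (MvPolynomial.C c : MvPolynomial (Fin (2 + 1)) k) =
      MvPolynomial.C c := evM_C 0 1
  rw [WW_short]
  unfold SN714.f2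
  simp only [map_add, map_sub, map_mul, map_pow, e0, e1, e2, eC]
  ring

theorem evM_one : evM k 0 2 (WW 0 0 0 a (-b)) = SN714.f1 a b := by
  have e0 : evM k 0 2 (MvPolynomial.X 0) = MvPolynomial.X 0 := by rw [evM_X]; rfl
  have e1 : evM k 0 2 (MvPolynomial.X 1) = 1 := by rw [evM_X]; rfl
  have e2 : evM k 0 2 (MvPolynomial.X 2) = MvPolynomial.X 1 := by rw [evM_X]; rfl
  have eC : ∀ c : k, evM k 0 2 (MvPolynomial.C c : MvPolynomial (Fin (2 + 1)) k) =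
      MvPolynomial.C c := evM_C 0 2
  rw [WW_short]
  unfold SN714.f1
  simp only [map_add, map_sub, map_mul, map_pow, e0, e1, e2, eC]
  ring

/-- **S7847** for the standard structure morphism -/
theorem smooth_short_iff (h2 : (2 : k) ≠ 0) :
    Smooth (ιD 0 0 0 a (-b) ≫ CohB1.ProjSpace.toSpec 2 k) ↔ 4 * a ^ 3 + 27 * b ^ 2 ≠ 0 := by
  rw [smooth_iff, evM_one, evM_two, SN713.smooth_iff_two _ (SN714.f1_ne_zero a b),
    SN713.smooth_iff_two _ (SN714.f2_ne_zero a b h2), SN714.span_f2_eq_top_iff a b h2]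
  exact and_iff_right (SN714.span_f1_eq_top a b h2)

/-- **S7847** -/
theorem main7847 (h2 : (2 : k) ≠ 0) (W : LefPen.Form 2 k 3)
    (hW : (W : MvPolynomial (Fin (2 + 1)) k) = MvPolynomial.X 1 ^ 2 * MvPolynomial.X 2 -
      MvPolynomial.X 0 ^ 3 - MvPolynomial.C a * MvPolynomial.X 0 * MvPolynomial.X 2 ^ 2 +
      MvPolynomial.C b * MvPolynomial.X 2 ^ 3)
    [inst : ((LefPen.hypIdeal W).subscheme).Over (Spec (CommRingCat.of k))]
    (hinst : (LefPen.hypIdeal W).subscheme ↘ (Spec (CommRingCat.of k)) =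
      (LefPen.hypIdeal W).subschemeι ≫ CohB1.ProjSpace.toSpec 2 k) :
    Smooth ((LefPen.hypIdeal W).subscheme ↘ (Spec (CommRingCat.of k))) ↔
      4 * a ^ 3 + 27 * b ^ 2 ≠ 0 := by
  have hWf : W = Wf 0 0 0 a (-b) := Subtype.ext (hW.trans (WW_short a b).symm)
  subst hWf
  rw [hinst]
  exact smooth_short_iff a b h2

end Short

end Groth.Agent.Helper4.SN716
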