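import Mathlib
import Groth.Prelude.Def_W4stktopologysheavesBas

set_option autoImplicit false
universe u
open TopologicalSpace ShB

namespace Groth.Agent.Helper4.ShBas1

variable {X : Type u} [TopologicalSpace X] {B : Set (Opens X)}

/-- the cofinality hypothesis -/
def Cofinal (C : ∀ U : B, Set (Cover B)) : Prop :=
  ∀ (U : B) (ι : Type u) (V : ι → B), (∀ i, (V i : Opens X) ≤ (U : Opens X)) →
    (U : Opens X) ≤ ⨆ i, (V i : Opens X) →
    ∃ c ∈ C U, ∀ i' : c.ι, ∃ i, (c.V i' : Opens X) ≤ (V i : Opens X)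

/-- locality from a cofinal system -/
theorem local_eq (F : Pre B) (C : ∀ U : B, Set (Cover B)) (hCU : ∀ U, ∀ c ∈ C U, c.U = U)
    (hC : Cofinal C) (hglue : ∀ U, ∀ c ∈ C U, GluesUniquely F c)
    (U : B) (t t' : F.obj U)
    (h : ∀ x ∈ (U : Opens X), ∃ (V : B) (hV : (V : Opens X) ≤ (U : Opens X)),
      x ∈ (V : Opens X) ∧ F.res hV t = F.res hV t') : t = t' := by
  choose V hV hxV hres using h
  obtain ⟨c, hc, href⟩ := hC U {x : X // x ∈ (U : Opens X)} (fun x => V x.1 x.2)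
    (fun x => hV x.1 x.2)
    (fun x hx => Opens.mem_iSup.mpr ⟨⟨x, hx⟩, hxV x hx⟩)
  have hcU := hCU U c hc
  subst hcU
  have hg := hglue c.U c hc
  obtain ⟨t₀, -, huniq⟩ := hg (fun i' => F.res (c.V_le i') t)
    (fun i j k => by rw [F.res_comp, F.res_comp])
  have h1 : t = t₀ := huniq t (fun i => rfl)
  have h2 : t' = t₀ := by
    refine huniq t' (fun i' => ?_)
    obtain ⟨x, hx⟩ := href i'
    have e1 : F.res (c.V_le i') t' = F.res hx (F.res (hV x.1 x.2) t') := (F.res_comp _ _ _).symm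
    have e2 : F.res (c.V_le i') t = F.res hx (F.res (hV x.1 x.2) t) := (F.res_comp _ _ _).symm
    rw [e1, e2, hres x.1 x.2]
  rw [h1, h2]

theorem transport_section (F : Pre B) {U U' : B} (h : U' = U) (t₀ : F.obj U') :
    ∃ t : F.obj U, ∀ (V : B) (h1 : (V : Opens X) ≤ (U' : Opens X))
      (h2 : (V : Opens X) ≤ (U : Opens X)), F.res h2 t = F.res h1 t₀ := by
  subst h
  exact ⟨t₀, fun _ _ _ => rfl⟩

/-- sections compatible on a covering datum agree on every member of `B` inside an overlap -/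
theorem agree_on_overlap (hB : Opens.IsBasis B) (F : Pre B) (C : ∀ U : B, Set (Cover B))
    (hCU : ∀ U, ∀ c ∈ C U, c.U = U) (hC : Cofinal C)
    (hglue : ∀ U, ∀ c ∈ C U, GluesUniquely F c) (c : Cover B) (s : ∀ i, F.obj (c.V i))
    (hs : ∀ i j k, F.res (c.W_le_left i j k) (s i) = F.res (c.W_le_right i j k) (s j))
    (i j : c.ι) (W : B) (h1 : (W : Opens X) ≤ (c.V i : Opens X))
    (h2 : (W : Opens X) ≤ (c.V j : Opens X)) : F.res h1 (s i) = F.res h2 (s j) := by
  apply local_eq F C hCU hC hglue W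
  intro x hx
  have hx' : x ∈ ⨆ k, (c.W i j k : Opens X) := c.W_cover i j ⟨h1 hx, h2 hx⟩
  obtain ⟨k, hk⟩ := Opens.mem_iSup.mp hx'
  obtain ⟨W', hW'B, hxW', hW'le⟩ := Opens.isBasis_iff_nbhd.mp hB
    (U := (W : Opens X) ⊓ (c.W i j k : Opens X)) ⟨hx, hk⟩
  refine ⟨⟨W', hW'B⟩, hW'le.trans inf_le_left, hxW', ?_⟩
  have hWk : ((⟨W', hW'B⟩ : B) : Opens X) ≤ (c.W i j k : Opens X) := hW'le.trans inf_le_right
  rw [F.res_comp, F.res_comp]
  have e1 : F.res ((hW'le.trans inf_le_left).trans h1) (s i) =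
      F.res hWk (F.res (c.W_le_left i j k) (s i)) := (F.res_comp _ _ _).symm
  have e2 : F.res ((hW'le.trans inf_le_left).trans h2) (s j) =
      F.res hWk (F.res (c.W_le_right i j k) (s j)) := (F.res_comp _ _ _).symm
  rw [e1, e2, hs]

theorem isSheaf_of_cofinal (hB : Opens.IsBasis B) (F : Pre B) (C : ∀ U : B, Set (Cover B))
    (hCU : ∀ U, ∀ c ∈ C U, c.U = U) (hC : Cofinal C)
    (hglue : ∀ U, ∀ c ∈ C U, GluesUniquely F c) : IsSheaf F := by
  intro c s hs
  have hA := agree_on_overlap hB F C hCU hC hglue c s hs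
  -- cofinal refinement of the cover `c.V`
  obtain ⟨c', hc', href⟩ := hC c.U c.ι c.V c.V_le c.V_cover
  have hcU := hCU c.U c' hc'
  choose r hr using href
  -- the refined family
  have hg := hglue c.U c' hc'
  have hle : ∀ i', (c'.V i' : Opens X) ≤ (c.U : Opens X) := fun i' => (hr i').trans (c.V_le _)
  obtain ⟨t₀, ht₀, -⟩ := hg (fun i' => F.res (hr i') (s (r i')))
    (fun i' j' k' => by
      rw [F.res_comp, F.res_comp]
      exact hA (r i') (r j') (c'.W i' j' k') _ _)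
  -- transport t₀ : F.obj c'.U to F.obj c.U
  have key : ∃ t : F.obj c.U, ∀ i', F.res (hle i') t = F.res (hr i') (s (r i')) := by
    obtain ⟨t, htt⟩ := transport_section F hcU t₀
    exact ⟨t, fun i' => (htt (c'.V i') (c'.V_le i') (hle i')).trans (ht₀ i')⟩
  obtain ⟨t, ht⟩ := key
  have hcov' : (c.U : Opens X) ≤ ⨆ i', (c'.V i' : Opens X) := by
    have := c'.V_cover
    rwa [hcU] at this
  refine ⟨t, fun i => ?_, fun t' ht' => ?_⟩
  · apply local_eq F C hCU hC hglue (c.V i)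
    intro x hx
    have hxU : x ∈ (c.U : Opens X) := c.V_le i hx
    obtain ⟨i', hi'⟩ := Opens.mem_iSup.mp (hcov' hxU)
    obtain ⟨W', hW'B, hxW', hW'le⟩ := Opens.isBasis_iff_nbhd.mp hB
      (U := (c.V i : Opens X) ⊓ (c'.V i' : Opens X)) ⟨hx, hi'⟩
    refine ⟨⟨W', hW'B⟩, hW'le.trans inf_le_left, hxW', ?_⟩
    have hW1 : ((⟨W', hW'B⟩ : B) : Opens X) ≤ (c'.V i' : Opens X) := hW'le.trans inf_le_right
    rw [F.res_comp]
    have e1 : F.res ((hW'le.trans inf_le_left).trans (c.V_le i)) t =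
        F.res hW1 (F.res (hle i') t) := (F.res_comp _ _ _).symm
    rw [e1, ht i', F.res_comp]
    exact hA (r i') i ⟨W', hW'B⟩ _ _
  · apply local_eq F C hCU hC hglue c.U
    intro x hxU
    obtain ⟨i', hi'⟩ := Opens.mem_iSup.mp (hcov' hxU)
    refine ⟨c'.V i', hle i', hi', ?_⟩
    rw [ht i']
    have e1 : F.res (hle i') t' = F.res (hr i') (F.res (c.V_le (r i')) t') :=
      (F.res_comp _ _ _).symm
    rw [e1, ht']

end Groth.Agent.Helper4.ShBas1
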