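import Mathlib
import Groth.Agent.Helper4.ShBas1

set_option autoImplicit false
universe u
open TopologicalSpace ShB

namespace Groth.Agent.Helper4.ShBas2

open Groth.Agent.Helper4.ShBas1

variable {X : Type u} [TopologicalSpace X] {B : Set (Opens X)}

/-- replace the intersection coverings of a covering datum by the intersections themselves -/
def simplify (hBi : ∀ U ∈ B, ∀ U' ∈ B, ∀ U'' ∈ B, U' ≤ U → U'' ≤ U → U' ⊓ U'' ∈ B)
    (c : Cover B) : Cover B where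
  U := c.U
  ι := c.ι
  V := c.V
  V_le := c.V_le
  V_cover := c.V_cover
  κ := fun _ _ => PUnit
  W := fun i j _ => ⟨(c.V i : Opens X) ⊓ c.V j,
    hBi c.U c.U.2 _ (c.V i).2 _ (c.V j).2 (c.V_le i) (c.V_le j)⟩
  W_le_left := fun _ _ _ => inf_le_left
  W_le_right := fun _ _ _ => inf_le_right
  W_cover := fun i j => le_iSup (fun _ : PUnit => (c.V i : Opens X) ⊓ c.V j) PUnit.unit

theorem s7586 (hB : Opens.IsBasis B)
    (hBi : ∀ U ∈ B, ∀ U' ∈ B, ∀ U'' ∈ B, U' ≤ U → U'' ≤ U → U' ⊓ U'' ∈ B)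
    (F : Pre B)
    (C : ∀ U : B, Set (Cover B)) (hCU : ∀ U, ∀ c ∈ C U, c.U = U)
    (hC : ∀ (U : B) (ι : Type u) (V : ι → B), (∀ i, (V i : Opens X) ≤ (U : Opens X)) →
      (U : Opens X) ≤ ⨆ i, (V i : Opens X) →
      ∃ c ∈ C U, ∀ i' : c.ι, ∃ i, (c.V i' : Opens X) ≤ (V i : Opens X)) :
    IsSheaf F ↔ ∀ (U : B), ∀ c ∈ C U, ∀ s : ∀ i, F.obj (c.V i),
      (∀ i j, F.res (U := c.V i) (V := ⟨(c.V i : Opens X) ⊓ c.V j,
          hBi c.U c.U.2 _ (c.V i).2 _ (c.V j).2 (c.V_le i) (c.V_le j)⟩) inf_le_left (s i) =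
        F.res (U := c.V j) (V := ⟨(c.V i : Opens X) ⊓ c.V j,
          hBi c.U c.U.2 _ (c.V i).2 _ (c.V j).2 (c.V_le i) (c.V_le j)⟩) inf_le_right (s j)) →
      ∃! t : F.obj c.U, ∀ i, F.res (c.V_le i) t = s i := by
  constructor
  · intro hF U c _ s hs
    exact hF (simplify hBi c) s (fun i j _ => hs i j)
  · intro h
    refine isSheaf_of_cofinal hB F (fun U => simplify hBi '' C U) ?_ ?_ ?_
    · rintro U _ ⟨c, hc, rfl⟩
      exact hCU U c hc
    · intro U ι V hV hcov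
      obtain ⟨c, hc, href⟩ := hC U ι V hV hcov
      exact ⟨simplify hBi c, ⟨c, hc, rfl⟩, href⟩
    · rintro U _ ⟨c, hc, rfl⟩ s hs
      exact h U c hc s (fun i j => hs i j PUnit.unit)

end Groth.Agent.Helper4.ShBas2
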