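import Mathlib
import Groth.Agent.Helper4.ShBas1

set_option autoImplicit false
universe u
open TopologicalSpace ShB

namespace Groth.Agent.Helper4.ShBas3

open Groth.Agent.Helper4.ShBas1

variable {X : Type u} [TopologicalSpace X] {B : Set (Opens X)}

/-- the covering datum with all members of `B` inside the overlaps -/
def fullCover (hB : Opens.IsBasis B) (U : B) (ι : Type u) (V : ι → B)
    (hV : ∀ i, (V i : Opens X) ≤ (U : Opens X)) (hcov : (U : Opens X) ≤ ⨆ i, (V i : Opens X)) :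
    Cover B where
  U := U
  ι := ι
  V := V
  V_le := hV
  V_cover := hcov
  κ := fun i j => {W : B // (W : Opens X) ≤ (V i : Opens X) ⊓ (V j : Opens X)}
  W := fun _ _ W => W.1
  W_le_left := fun _ _ W => W.2.trans inf_le_left
  W_le_right := fun _ _ W => W.2.trans inf_le_right
  W_cover := fun i j x hx => by
    obtain ⟨W, hWB, hxW, hWle⟩ := Opens.isBasis_iff_nbhd.mp hB hx
    exact Opens.mem_iSup.mpr ⟨⟨⟨W, hWB⟩, hWle⟩, hxW⟩

/-- locality for a sheaf on a basis -/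
theorem local_eq_of_isSheaf (hB : Opens.IsBasis B) (F : Pre B) (hF : IsSheaf F)
    (U : B) (t t' : F.obj U)
    (h : ∀ x ∈ (U : Opens X), ∃ (V : B) (hV : (V : Opens X) ≤ (U : Opens X)),
      x ∈ (V : Opens X) ∧ F.res hV t = F.res hV t') : t = t' := by
  refine local_eq F (fun U => {c | c.U = U}) (fun U c hc => hc) ?_ (fun U c _ => hF c) U t t' h
  intro U ι V hV hcov
  exact ⟨fullCover hB U ι V hV hcov, rfl, fun i' => ⟨i', le_rfl⟩⟩

theorem germ_eq_iff (hB : Opens.IsBasis B) (F : Pre B) {U U' : B} (x : X)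
    (hx : x ∈ (U : Opens X)) (hx' : x ∈ (U' : Opens X)) (s : F.obj U) (s' : F.obj U') :
    germ F x hx s = germ F x hx' s' ↔
      ∃ (W : B) (_ : x ∈ (W : Opens X)) (h1 : (W : Opens X) ≤ (U : Opens X))
        (h2 : (W : Opens X) ≤ (U' : Opens X)), F.res h1 s = F.res h2 s' := by
  constructor
  · intro h
    have h' := Quot.eqvGen_exact h
    have hequiv : Equivalence (StalkRel F x) := by
      refine ⟨fun a => ⟨a.1.1, a.1.2, le_rfl, le_rfl, rfl⟩, ?_, ?_⟩
      · rintro a b ⟨W, hW, ha, hb, e⟩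
        exact ⟨W, hW, hb, ha, e.symm⟩
      · rintro a b c ⟨W1, hW1, ha1, hb1, e1⟩ ⟨W2, hW2, hb2, hc2, e2⟩
        obtain ⟨W, hWB, hxW, hWle⟩ := Opens.isBasis_iff_nbhd.mp hB
          (U := (W1 : Opens X) ⊓ (W2 : Opens X)) ⟨hW1, hW2⟩
        refine ⟨⟨W, hWB⟩, hxW, (hWle.trans inf_le_left).trans ha1,
          (hWle.trans inf_le_right).trans hc2, ?_⟩
        have l1 : ((⟨W, hWB⟩ : B) : Opens X) ≤ (W1 : Opens X) := hWle.trans inf_le_left
        have l2 : ((⟨W, hWB⟩ : B) : Opens X) ≤ (W2 : Opens X) := hWle.trans inf_le_right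
        calc F.res ((hWle.trans inf_le_left).trans ha1) a.2
            = F.res l1 (F.res ha1 a.2) := (F.res_comp _ _ _).symm
          _ = F.res l1 (F.res hb1 b.2) := by rw [e1]
          _ = F.res (l1.trans hb1) b.2 := F.res_comp _ _ _
          _ = F.res l2 (F.res hb2 b.2) := (F.res_comp _ _ _).symm
          _ = F.res l2 (F.res hc2 c.2) := by rw [e2]
          _ = F.res ((hWle.trans inf_le_right).trans hc2) c.2 := F.res_comp _ _ _
    exact (hequiv.eqvGen_iff).mp h'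
  · rintro ⟨W, hW, h1, h2, e⟩
    exact Quot.sound ⟨W, hW, h1, h2, e⟩

theorem germ_res (F : Pre B) {U V : B} (h : (V : Opens X) ≤ (U : Opens X)) (x : X)
    (hx : x ∈ (V : Opens X)) (s : F.obj U) :
    germ F x hx (F.res h s) = germ F x (h hx) s :=
  Quot.sound ⟨V, hx, le_rfl, h, by rw [F.res_id]⟩

/-- two sections with the same germs on a member of `B` inside both domains agree there -/
theorem res_eq_of_germ_eq (hB : Opens.IsBasis B) (F : Pre B) (hF : IsSheaf F) {V V' W : B}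
    (h1 : (W : Opens X) ≤ (V : Opens X)) (h2 : (W : Opens X) ≤ (V' : Opens X))
    (σ : F.obj V) (σ' : F.obj V')
    (h : ∀ (y : X) (hy : y ∈ (W : Opens X)), germ F y (h1 hy) σ = germ F y (h2 hy) σ') :
    F.res h1 σ = F.res h2 σ' := by
  apply local_eq_of_isSheaf hB F hF W
  intro y hy
  obtain ⟨W', hyW', l1, l2, e⟩ := (germ_eq_iff hB F y (h1 hy) (h2 hy) σ σ').mp (h y hy)
  obtain ⟨W'', hW''B, hyW'', hW''le⟩ := Opens.isBasis_iff_nbhd.mp hB
    (U := (W : Opens X) ⊓ (W' : Opens X)) ⟨hy, hyW'⟩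
  refine ⟨⟨W'', hW''B⟩, hW''le.trans inf_le_left, hyW'', ?_⟩
  have l : ((⟨W'', hW''B⟩ : B) : Opens X) ≤ (W' : Opens X) := hW''le.trans inf_le_right
  rw [F.res_comp, F.res_comp]
  calc F.res ((hW''le.trans inf_le_left).trans h1) σ = F.res l (F.res l1 σ) :=
        (F.res_comp _ _ _).symm
    _ = F.res l (F.res l2 σ') := by rw [e]
    _ = F.res ((hW''le.trans inf_le_left).trans h2) σ' := F.res_comp _ _ _

theorem s7587 (hB : Opens.IsBasis B) (F : Pre B) (hF : IsSheaf F) (U : B) :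
    Function.Injective (fun (s : F.obj U) (x : (U : Opens X)) => germ F x.1 x.2 s) ∧
    ∀ f : ∀ x : (U : Opens X), Stalk F x.1,
      (∃ s : F.obj U, ∀ x, germ F x.1 x.2 s = f x) ↔
      ∀ x : (U : Opens X), ∃ (V : B) (hxV : x.1 ∈ (V : Opens X))
        (hVU : (V : Opens X) ≤ (U : Opens X)) (σ : F.obj V),
        ∀ (y : X) (hy : y ∈ (V : Opens X)), germ F y hy σ = f ⟨y, hVU hy⟩ := by
  refine ⟨?_, fun f => ⟨?_, ?_⟩⟩
  · intro s s' h
    have h' : F.res le_rfl s = F.res le_rfl s' :=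
      res_eq_of_germ_eq hB F hF (W := U) le_rfl le_rfl s s'
        (fun y hy => congr_fun h ⟨y, hy⟩)
    rwa [F.res_id, F.res_id] at h'
  · rintro ⟨s, hs⟩ x
    exact ⟨U, x.2, le_rfl, s, fun y hy => hs ⟨y, hy⟩⟩
  · intro h
    choose V hxV hVU σ hσ using h
    have hcov : (U : Opens X) ≤ ⨆ x : (U : Opens X), (V x : Opens X) :=
      fun x hx => Opens.mem_iSup.mpr ⟨⟨x, hx⟩, hxV ⟨x, hx⟩⟩
    let c := fullCover hB U (U : Opens X) V hVU hcov
    obtain ⟨t, ht, -⟩ := hF c σ (fun x x' W =>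
      res_eq_of_germ_eq hB F hF _ _ (σ x) (σ x')
        (fun y hy => by rw [hσ x y _, hσ x' y _]))
    refine ⟨t, fun x => ?_⟩
    have e1 := germ_res F (hVU x) x.1 (hxV x) t
    rw [← e1]
    have e2 : F.res (hVU x) t = σ x := ht x
    rw [e2]
    exact hσ x x.1 (hxV x)

end Groth.Agent.Helper4.ShBas3
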