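import Mathlib
import Groth.Agent.Helper4.ShBas3

set_option autoImplicit false
universe u
open TopologicalSpace ShB CategoryTheory Opposite

namespace Groth.Agent.Helper4.ShBas4

open Groth.Agent.Helper4.ShBas1 Groth.Agent.Helper4.ShBas3

variable {X : Type u} [TopologicalSpace X] {B : Set (Opens X)}

/-- a morphism of presheaves on `B` that is bijective on every member is an isomorphism -/
noncomputable def isoOfBijective {F G : Pre B} (φ : Hom F G)
    (h : ∀ U, Function.Bijective (φ.app U)) : Iso F G where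
  hom := φ
  inv :=
    { app := fun U t => ((Equiv.ofBijective _ (h U)).symm t)
      natural := fun {U V} hVU t => by
        apply (h V).1
        rw [← φ.natural]
        have e1 : φ.app U ((Equiv.ofBijective _ (h U)).symm t) = t :=
          (Equiv.ofBijective _ (h U)).apply_symm_apply t
        have e2 : φ.app V ((Equiv.ofBijective _ (h V)).symm (G.res hVU t)) = G.res hVU t :=
          (Equiv.ofBijective _ (h V)).apply_symm_apply _
        rw [e1, e2] }
  hom_inv := fun U s => (Equiv.ofBijective _ (h U)).symm_apply_apply s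
  inv_hom := fun U t => (Equiv.ofBijective _ (h U)).apply_symm_apply t

def Iso.symm' {F G : Pre B} (e : Iso F G) : Iso G F where
  hom := e.inv
  inv := e.hom
  hom_inv := e.inv_hom
  inv_hom := e.hom_inv

/-- the local predicate "locally the family of germs of a section over a member of `B`" -/
def extPred (hB : Opens.IsBasis B) (F : Pre B) :
    TopCat.LocalPredicate (X := TopCat.of X) (fun x => Stalk F x) where
  pred {U} f := ∀ x : U, ∃ (V : B) (_ : x.1 ∈ (V : Opens X))
    (hVU : (V : Opens X) ≤ U) (σ : F.obj V),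
    ∀ (y : X) (hy : y ∈ (V : Opens X)), germ F y hy σ = f ⟨y, hVU hy⟩
  res {U' U} i f hf x := by
    obtain ⟨V, hxV, hVU, σ, hσ⟩ := hf ⟨x.1, i.le x.2⟩
    obtain ⟨W, hWB, hxW, hWle⟩ := Opens.isBasis_iff_nbhd.mp hB
      (U := (V : Opens X) ⊓ U') ⟨hxV, x.2⟩
    have l : ((⟨W, hWB⟩ : B) : Opens X) ≤ (V : Opens X) := hWle.trans inf_le_left
    refine ⟨⟨W, hWB⟩, hxW, hWle.trans inf_le_right, F.res l σ, fun y hy => ?_⟩
    rw [germ_res F l y hy σ]
    exact hσ y (l hy)
  locality {U} f hf x := by
    obtain ⟨V', hxV', i, hV'⟩ := hf x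
    obtain ⟨V, hxV, hVV', σ, hσ⟩ := hV' ⟨x.1, hxV'⟩
    exact ⟨V, hxV, hVV'.trans i.le, σ, fun y hy => hσ y hy⟩

/-- the extension of a sheaf on a basis -/
noncomputable def ext (hB : Opens.IsBasis B) (F : Pre B) :
    TopCat.Sheaf (Type u) (TopCat.of X) :=
  TopCat.subsheafToTypes (extPred hB F)

/-- the germ map from `F` to the restriction of its extension -/
def toExt (hB : Opens.IsBasis B) (F : Pre B) :
    Hom F (restrict B (ext hB F).presheaf) where
  app U s := ⟨fun x => germ F x.1 x.2 s, fun x => ⟨U, x.2, le_rfl, s, fun _ _ => rfl⟩⟩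
  natural {U V} h s := by
    apply Subtype.ext
    funext x
    exact (germ_res F h x.1 x.2 s).symm

theorem toExt_bijective (hB : Opens.IsBasis B) (F : Pre B) (hF : IsSheaf F) (U : B) :
    Function.Bijective ((toExt hB F).app U) := by
  obtain ⟨hinj, hsurj⟩ := s7587 hB F hF U
  constructor
  · intro s s' h
    apply hinj
    exact congr_arg Subtype.val h
  · rintro ⟨f, hf⟩
    obtain ⟨s, hs⟩ := (hsurj f).mpr hf
    exact ⟨s, Subtype.ext (funext hs)⟩

theorem exists_ext (hB : Opens.IsBasis B) (F : Pre B) (hF : IsSheaf F) :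
    ∃ G : TopCat.Sheaf (Type u) (TopCat.of X), Nonempty (Iso (restrict B G.presheaf) F) :=
  ⟨ext hB F, ⟨Iso.symm' (isoOfBijective (toExt hB F) (toExt_bijective hB F hF))⟩⟩

end Groth.Agent.Helper4.ShBas4
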