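import Mathlib
import Groth.Prelude.Def_W4stktopologysheavesBas

set_option autoImplicit false
universe u
open TopologicalSpace ShB CategoryTheory Opposite

namespace Groth.Agent.Helper4.ShBas5

variable {X : Type u} [TopologicalSpace X] {B : Set (Opens X)}

theorem isBasis_range (hB : Opens.IsBasis B) :
    Opens.IsBasis (Set.range (Subtype.val : B → Opens (TopCat.of X))) := by
  rw [Subtype.range_coe]; exact hB

/-- the natural transformation on the basis induced by a morphism of restrictions -/
def alpha (G G' : TopCat.Sheaf (Type u) (TopCat.of X))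
    (ψ : Hom (restrict B G.presheaf) (restrict B G'.presheaf)) :
    (inducedFunctor (Subtype.val : B → Opens (TopCat.of X))).op ⋙ G.presheaf ⟶
      (inducedFunctor (Subtype.val : B → Opens (TopCat.of X))).op ⋙ G'.1 where
  app i := ↾(fun s => ψ.app i.unop s)
  naturality i j g := by
    ext s
    have h : ((show B from j.unop : B) : Opens X) ≤ ((show B from i.unop : B) : Opens X) :=
      leOfHom g.unop.hom
    have := ψ.natural h s
    exact this.symm

theorem exists_hom (hB : Opens.IsBasis B) (G G' : TopCat.Sheaf (Type u) (TopCat.of X))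
    (ψ : Hom (restrict B G.presheaf) (restrict B G'.presheaf)) :
    ∃ φ : G ⟶ G', ∀ (U : B) (s : G.presheaf.obj (op (U : Opens X))),
      φ.1.app (op (U : Opens X)) s = ψ.app U s := by
  refine ⟨⟨TopCat.Sheaf.restrictHomEquivHom G.presheaf G' (isBasis_range hB) (alpha G G' ψ)⟩, ?_⟩
  intro U s
  have := TopCat.Sheaf.extend_hom_app G.presheaf G' (isBasis_range hB) (alpha G G' ψ) U
  exact ConcreteCategory.congr_hom this s

theorem hom_ext' (hB : Opens.IsBasis B) (G G' : TopCat.Sheaf (Type u) (TopCat.of X))
    (φ φ' : G ⟶ G')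
    (h : ∀ (U : B) (s : G.presheaf.obj (op (U : Opens X))),
      φ.1.app (op (U : Opens X)) s = φ'.1.app (op (U : Opens X)) s) : φ = φ' := by
  apply Sheaf.hom_ext
  apply TopCat.Sheaf.hom_ext G.presheaf G' (isBasis_range hB)
  intro i
  ext s
  exact h i s

theorem isIso_of_bijective (hB : Opens.IsBasis B) (G G' : TopCat.Sheaf (Type u) (TopCat.of X))
    (φ : G ⟶ G')
    (h : ∀ (U : B), Function.Bijective (φ.1.app (op (U : Opens X)))) : IsIso φ := by
  apply TopCat.Sheaf.isIso_iff_isIso_basis (isBasis_range hB)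
  intro i
  rw [isIso_iff_bijective]
  exact h i

theorem unique_iso (hB : Opens.IsBasis B) (F : Pre B)
    (G G' : TopCat.Sheaf (Type u) (TopCat.of X)) (e : Iso (restrict B G.presheaf) F)
    (e' : Iso (restrict B G'.presheaf) F) :
    ∃! φ : G ⟶ G', IsIso φ ∧ ∀ (U : B) (s : G.presheaf.obj (op (U : Opens X))),
      e'.hom.app U (φ.1.app (op (U : Opens X)) s) = e.hom.app U s := by
  let ψ : Hom (restrict B G.presheaf) (restrict B G'.presheaf) :=
    { app := fun U s => e'.inv.app U (e.hom.app U s)
      natural := fun {U V} h s => by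
        rw [e'.inv.natural h, e.hom.natural h] }
  obtain ⟨φ, hφ⟩ := exists_hom hB G G' ψ
  refine ⟨φ, ⟨?_, ?_⟩, ?_⟩
  · apply isIso_of_bijective hB
    intro U
    have : ⇑(ConcreteCategory.hom (φ.1.app (op (U : Opens X)))) =
        fun s => e'.inv.app U (e.hom.app U s) :=
      funext (hφ U)
    rw [this]
    constructor
    · intro s s' hs
      have h1 := congr_arg (e'.hom.app U) hs
      simp only [e'.inv_hom] at h1
      have h2 := congr_arg (e.inv.app U) h1
      rw [e.hom_inv, e.hom_inv] at h2
      exact h2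
    · intro t
      refine ⟨e.inv.app U (e'.hom.app U t), ?_⟩
      simp only [e.inv_hom, e'.hom_inv]
  · intro U s
    rw [hφ U s]
    exact e'.inv_hom U _
  · rintro φ' ⟨-, hφ'⟩
    apply hom_ext' hB
    intro U s
    have h1 : e'.hom.app U (φ'.1.app (op (U : Opens X)) s) =
        e'.hom.app U (φ.1.app (op (U : Opens X)) s) := by
      rw [hφ' U s, hφ U s]
      exact (e'.inv_hom U _).symm
    have h2 := congr_arg (e'.inv.app U) h1
    rw [e'.hom_inv, e'.hom_inv] at h2
    exact h2

end Groth.Agent.Helper4.ShBas5
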