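import Mathlib
import Groth.Prelude.Def_PBC
import Groth.Agent.Helper4.StalkFinC
import Groth.Agent.Helper4.StalkLocus
import Groth.Agent.Helper4.NoethStrat

set_option autoImplicit false

/-!
# Constructibility from the cardinalities of the stalks (locally Noetherian schemes)
-/

universe u

open CategoryTheory CategoryTheory.Limits AlgebraicGeometry Opposite Topology

namespace Groth.Agent.Helper4.StalkFinD

open Groth.Agent.Helper4.SuppA Groth.Agent.Helper4.SuppB Groth.Agent.Helper4.StalkFinC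
open Groth.Agent.Helper4.StalkLocus Groth.Agent.Helper4.NoethStrat Groth.Agent.Helper4.FlcPull
open Groth.Agent.Helper4.StrataC
open Groth.Agent.Helper9.EtStalkPull Groth.Agent.Helper9.EtStalkExact

section Top

variable {α : Type*} [TopologicalSpace α]

/-- a constructible set containing `x` contains a neighbourhood of `x` in the closure of `x` -/
lemma exists_open_inter_closure_subset {A : Set α} (hA : IsConstructible A) {x : α}
    (hx : x ∈ A) : ∃ O : Set α, IsOpen O ∧ x ∈ O ∧ O ∩ closure {x} ⊆ A := by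
  revert hx
  induction A, hA using BooleanSubalgebra.closure_sdiff_sup_induction with
  | isSublattice =>
    exact ⟨fun s hs t ht ↦ ⟨hs.1.union ht.1, hs.2.union ht.2⟩,
      fun s hs t ht ↦ ⟨hs.1.inter ht.1, hs.2.inter_isOpen ht.2 ht.1⟩⟩
  | bot_mem => exact ⟨isOpen_empty, .empty⟩
  | top_mem => exact ⟨isOpen_univ, .univ⟩
  | sdiff U hU V hV =>
    rintro ⟨hxU, hxV⟩
    refine ⟨U, hU.1, hxU, ?_⟩
    rintro y ⟨hyU, hyc⟩
    refine ⟨hyU, fun hyV => hxV ?_⟩
    obtain ⟨z, hzV, hz⟩ := mem_closure_iff.1 hyc V hV.1 hyV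
    rwa [Set.mem_singleton_iff.1 hz] at hzV
  | sup s _ t _ hs' ht' =>
    rintro (hxs | hxt)
    · obtain ⟨O, hO, hxO, hsub⟩ := hs' hxs
      exact ⟨O, hO, hxO, hsub.trans Set.subset_union_left⟩
    · obtain ⟨O, hO, hxO, hsub⟩ := ht' hxt
      exact ⟨O, hO, hxO, hsub.trans Set.subset_union_right⟩

lemma exists_open_inter_closure_subset' {E : Set α} (hE : IsLocallyConstructible E) {x : α}
    (hx : x ∈ E) : ∃ O : Set α, IsOpen O ∧ x ∈ O ∧ O ∩ closure {x} ⊆ E := by
  obtain ⟨U, hxU, hU, hc⟩ := hE x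
  have hxU' : x ∈ U := mem_of_mem_nhds hxU
  obtain ⟨O', hO', hxO', hsub⟩ := exists_open_inter_closure_subset hc
    (x := (⟨x, hxU'⟩ : ↥U)) hx
  refine ⟨Subtype.val '' O', hU.isOpenMap_subtype_val _ hO', ⟨⟨x, hxU'⟩, hxO', rfl⟩, ?_⟩
  rintro _ ⟨⟨y', hy', rfl⟩, hyc⟩
  have h1 : y' ∈ closure ({⟨x, hxU'⟩} : Set ↥U) := by
    rw [closure_subtype, Set.image_singleton]
    exact hyc
  exact hsub ⟨hy', h1⟩

end Top

variable {X : Scheme.{u}}

/-- the locus where some geometric stalk has `n` elements -/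
abbrev cardLocus (F : EtCoh.Ab X) (n : ℕ) : Set X :=
  stalkLocus F (fun A => Nat.card A = n)

lemma card_congr {A B : AddCommGrpCat.{u + 1}} (e : A ≅ B) : Nat.card A = Nat.card B :=
  Nat.card_congr e.addCommGroupIsoToAddEquiv.toEquiv

theorem isLocallyConstructible_cardLocus (F : EtCoh.Ab X) (hF : EtPBC.IsConstructible F) (n : ℕ) :
    IsLocallyConstructible (cardLocus F n) :=
  isLocallyConstructible_stalkLocus _ (fun e h => (card_congr e).symm.trans h) F hF

theorem isConstructible_of_cardLocus [IsLocallyNoetherian X] (F : EtCoh.Ab X)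
    (hfin : ∀ (Ω : Type u) [Field Ω] [IsSepClosed Ω] (ξ : Spec (CommRingCat.of Ω) ⟶ X),
      Finite ((EtCoh.stalk ξ).obj F))
    (hE : ∀ n : ℕ, IsLocallyConstructible (cardLocus F n)) : EtPBC.IsConstructible F := by
  apply isConstructible_of_local F
  intro x
  obtain ⟨Z', ι, hι, hrange⟩ := exists_closedImmersion (closure {x}) isClosed_closure
  obtain ⟨z₀, hz₀x⟩ : x ∈ Set.range ι := by
    rw [hrange]
    exact subset_closure (Set.mem_singleton x)
  have hgen : IsGenericPoint z₀ (⊤ : Set Z') := by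
    rw [isGenericPoint_def, ι.isEmbedding.closure_eq_preimage_closure_image, Set.image_singleton,
      hz₀x, ← hrange]
    ext z
    simp
  let ζ := geomPt z₀
  let G := (EtCoh.pull ι).obj F
  let e₀ : (EtCoh.stalk ζ).obj G ≅ (EtCoh.stalk (ζ ≫ ι)).obj F := (stalkPullIso ι ζ).app F
  haveI hfinζ : Finite ((EtCoh.stalk ζ).obj G) :=
    haveI := hfin _ (ζ ≫ ι)
    Finite.of_equiv _ e₀.addCommGroupIsoToAddEquiv.symm.toEquiv
  let n := Nat.card ((EtCoh.stalk ζ).obj G)
  have hxn : x ∈ cardLocus F n := by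
    have h1 := mem_stalkLocus_of_stalk (fun A => Nat.card A = n) F (ζ ≫ ι) (card_congr e₀).symm
    have h2 : (ζ ≫ ι) default = x := by
      have : (ζ ≫ ι) default = ι (ζ default) := rfl
      rw [this, geomPt_default, hz₀x]
    rwa [h2] at h1
  obtain ⟨OX, hOX, hxOX, hsub⟩ := exists_open_inter_closure_subset' (hE n) hxn
  let O₁ : Z'.Opens := ι ⁻¹ᵁ ⟨OX, hOX⟩
  have hO₁ : z₀ ∈ O₁ := by
    show ι z₀ ∈ OX
    rw [hz₀x]
    exact hxOX
  have hcard : ∀ z ∈ O₁, ∃ (Ω' : Type u) (_ : Field Ω') (_ : IsSepClosed Ω')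
      (ξ' : Spec (CommRingCat.of Ω') ⟶ Z'), ξ' default = z ∧ Finite ((EtCoh.stalk ξ').obj G) ∧
        Nat.card ((EtCoh.stalk ξ').obj G) ≤ Nat.card ((EtCoh.stalk ζ).obj G) := by
    intro z hz
    have hz1 : ι z ∈ OX ∩ closure {x} := ⟨hz, by rw [← hrange]; exact ⟨z, rfl⟩⟩
    obtain ⟨Ω', _, _, ξ'', hξ'', hq⟩ := hsub hz1
    have hd : ξ'' default = ι z := default_eq_of_range ξ'' hξ''
    obtain ⟨ξ', rfl⟩ := exists_lift_of_isImmersion ι ξ'' z hd.symm
    have hξ' : ξ' default = z := ι.isEmbedding.injective hd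
    let e₁ : (EtCoh.stalk ξ').obj G ≅ (EtCoh.stalk (ξ' ≫ ι)).obj F := (stalkPullIso ι ξ').app F
    refine ⟨Ω', inferInstance, inferInstance, ξ', hξ', ?_, ?_⟩
    · haveI := hfin _ (ξ' ≫ ι)
      exact Finite.of_equiv _ e₁.addCommGroupIsoToAddEquiv.symm.toEquiv
    · rw [card_congr e₁, hq]
  obtain ⟨W₀, hzW, hflc⟩ := exists_open_flc G z₀ hgen ζ (geomPt_default z₀) O₁ hO₁ hcard
  obtain ⟨VX, hVX, hVW⟩ := ι.isEmbedding.isInducing.isOpen_iff.1 W₀.2
  refine ⟨⟨VX, hVX⟩, W₀, W₀.ι ≫ ι, inferInstance, ?_, ?_, ?_⟩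
  · show x ∈ VX
    have : z₀ ∈ ι ⁻¹' VX := by rw [hVW]; exact hzW
    rw [← hz₀x]
    exact this
  · have h1 : Set.range (W₀.ι ≫ ι) = ι '' Set.range W₀.ι := by
      rw [← Set.range_comp]
      rfl
    rw [h1, Scheme.Opens.range_ι]
    have h2 : (W₀ : Set Z') = ι ⁻¹' VX := hVW.symm
    rw [h2, Set.image_preimage_eq_inter_range, hrange]
    rfl
  · exact flc_of_iso (pullCompObj W₀.ι ι F) hflc

end Groth.Agent.Helper4.StalkFinD
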