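import Mathlib

/-!
# Symmetric 2-cocycles and the abelian extensions they define

Used to show that the kernel of `ℤ[P × P] → ℤ[P]`, `[p, q] ↦ [p + q] - [p] - [q]`, is generated by
the associativity and commutativity relations.
-/

set_option autoImplicit false

namespace Groth.Agent.Helper4

universe u

/-- A symmetric 2-cocycle on `P` with values in `Q`. -/
structure SymCocycle (P Q : Type u) [AddCommGroup P] [AddCommGroup Q] where
  c : P → P → Q
  cocycle : ∀ p q r, c (p + q) r - c p (q + r) + c p q - c q r = 0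
  symm : ∀ p q, c p q = c q p

namespace SymCocycle

variable {P Q : Type u} [AddCommGroup P] [AddCommGroup Q] (σ : SymCocycle P Q)

theorem c_zero_left (p : P) : σ.c 0 p = σ.c 0 0 := by
  have := σ.cocycle 0 0 p
  simp only [add_zero, zero_add, sub_self] at this
  exact (sub_eq_zero.mp this).symm

theorem c_zero_right (p : P) : σ.c p 0 = σ.c 0 0 := by
  rw [σ.symm, σ.c_zero_left]

theorem cocycle' (p q r : P) : σ.c p q + σ.c (p + q) r = σ.c q r + σ.c p (q + r) := by
  have := σ.cocycle p q r
  rw [← sub_eq_zero, ← this]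
  abel

/-- The extension of `P` by `Q` defined by the cocycle. -/
@[ext]
structure Ext (σ : SymCocycle P Q) where
  m : Q
  p : P

instance : Add σ.Ext := ⟨fun x y => ⟨x.m + y.m + σ.c x.p y.p, x.p + y.p⟩⟩
instance : Zero σ.Ext := ⟨⟨-σ.c 0 0, 0⟩⟩
instance : Neg σ.Ext := ⟨fun x => ⟨-x.m - σ.c (-x.p) x.p + σ.c 0 0 - σ.c 0 0 - σ.c 0 0, -x.p⟩⟩

@[simp] theorem add_m (x y : σ.Ext) : (x + y).m = x.m + y.m + σ.c x.p y.p := rfl
@[simp] theorem add_p (x y : σ.Ext) : (x + y).p = x.p + y.p := rfl
@[simp] theorem zero_m : (0 : σ.Ext).m = -σ.c 0 0 := rfl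
@[simp] theorem zero_p : (0 : σ.Ext).p = 0 := rfl
@[simp] theorem neg_m (x : σ.Ext) :
    (-x).m = -x.m - σ.c (-x.p) x.p + σ.c 0 0 - σ.c 0 0 - σ.c 0 0 := rfl
@[simp] theorem neg_p (x : σ.Ext) : (-x).p = -x.p := rfl

instance : AddCommGroup σ.Ext :=
  { AddGroup.ofLeftAxioms (G := σ.Ext)
      (by
        intro x y z
        ext
        · simp only [add_m, add_p]
          have := σ.cocycle' x.p y.p z.p
          rw [show x.m + y.m + σ.c x.p y.p + z.m + σ.c (x.p + y.p) z.p =
            x.m + y.m + z.m + (σ.c x.p y.p + σ.c (x.p + y.p) z.p) by abel, this]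
          abel
        · simp only [add_p, add_assoc])
      (by
        intro x
        ext
        · simp only [add_m, zero_m, zero_p, c_zero_left]; abel
        · simp)
      (by
        intro x
        ext
        · simp only [add_m, neg_m, neg_p, zero_m]; abel
        · simp) with
    add_comm := by
      intro x y
      ext
      · simp only [add_m, σ.symm x.p y.p]; abel
      · simp only [add_p, add_comm] }

/-- The inclusion of `Q`. -/
def incl : Q →+ σ.Ext where
  toFun m := ⟨m - σ.c 0 0, 0⟩
  map_zero' := by ext <;> simp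
  map_add' := by
    intro a b
    ext
    · simp only [add_m]; abel
    · simp

theorem incl_injective : Function.Injective σ.incl := by
  intro a b h
  have := congrArg Ext.m h
  simpa [incl] using this

/-- The set-theoretic section. -/
def sec (p : P) : σ.Ext := ⟨0, p⟩

theorem sec_add (p q : P) : σ.sec p + σ.sec q = σ.sec (p + q) + σ.incl (σ.c p q) := by
  ext
  · simp only [sec, incl, add_m, AddMonoidHom.coe_mk, ZeroHom.coe_mk, c_zero_right]; abel
  · simp [sec, incl]

end SymCocycle

section Complex

variable (P : Type u) [AddCommGroup P]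

/-- `[p, q] ↦ [p + q] - [p] - [q]`. -/
noncomputable def symD0 : (P × P →₀ ℤ) →ₗ[ℤ] (P →₀ ℤ) := Finsupp.linearCombination ℤ
  (fun pq : P × P => Finsupp.single (pq.1 + pq.2) 1 - Finsupp.single pq.1 1 - Finsupp.single pq.2 1)

/-- The associativity relations. -/
noncomputable def symD1 : (P × P × P →₀ ℤ) →ₗ[ℤ] (P × P →₀ ℤ) := Finsupp.linearCombination ℤ
  (fun t : P × P × P => Finsupp.single (t.1 + t.2.1, t.2.2) 1 - Finsupp.single (t.1, t.2.1 + t.2.2) 1
    + Finsupp.single (t.1, t.2.1) 1 - Finsupp.single (t.2.1, t.2.2) 1)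

/-- The commutativity relations. -/
noncomputable def symD1' : (P × P →₀ ℤ) →ₗ[ℤ] (P × P →₀ ℤ) := Finsupp.linearCombination ℤ
  (fun pq : P × P => Finsupp.single pq 1 - Finsupp.single (pq.2, pq.1) 1)

/-- The relation submodule. -/
noncomputable def symRel : Submodule ℤ (P × P →₀ ℤ) :=
  LinearMap.range (symD1 P) ⊔ LinearMap.range (symD1' P)

/-- The universal symmetric cocycle. -/
noncomputable def univCocycle : SymCocycle P ((P × P →₀ ℤ) ⧸ symRel P) where
  c p q := (symRel P).mkQ (Finsupp.single (p, q) 1)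
  cocycle p q r := by
    have : symD1 P (Finsupp.single (p, q, r) 1) ∈ symRel P :=
      Submodule.mem_sup_left (LinearMap.mem_range_self _ _)
    rw [← Submodule.Quotient.mk_eq_zero, symD1, Finsupp.linearCombination_single, one_smul] at this
    simpa using this
  symm p q := by
    have : symD1' P (Finsupp.single (p, q) 1) ∈ symRel P :=
      Submodule.mem_sup_right (LinearMap.mem_range_self _ _)
    rw [← Submodule.Quotient.mk_eq_zero, symD1', Finsupp.linearCombination_single, one_smul] at this
    simpa [sub_eq_zero] using this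

theorem ker_symD0_le : LinearMap.ker (symD0 P) ≤ symRel P := by
  let σ := univCocycle P
  let φ : (P →₀ ℤ) →ₗ[ℤ] σ.Ext := Finsupp.linearCombination ℤ (fun p => σ.sec p)
  have hid : φ ∘ₗ symD0 P = -(σ.incl.toIntLinearMap ∘ₗ (symRel P).mkQ) := by
    apply Finsupp.lhom_ext'
    intro pq
    apply LinearMap.ext_ring
    obtain ⟨p, q⟩ := pq
    simp only [LinearMap.comp_apply, Finsupp.lsingle_apply, symD0,
      Finsupp.linearCombination_single, one_smul, map_sub, φ, LinearMap.neg_apply,
      AddMonoidHom.coe_toIntLinearMap]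
    have h1 := σ.sec_add p q
    have h2 : σ.incl ((symRel P).mkQ (Finsupp.single (p, q) 1)) = σ.incl (σ.c p q) := rfl
    rw [h2, eq_neg_iff_add_eq_zero, sub_sub, h1]
    abel
  intro x hx
  have h0 : (φ ∘ₗ symD0 P) x = 0 := by
    rw [LinearMap.comp_apply, LinearMap.mem_ker.mp hx, map_zero]
  rw [hid, LinearMap.neg_apply, neg_eq_zero, LinearMap.comp_apply,
    AddMonoidHom.coe_toIntLinearMap] at h0
  have h1 : (symRel P).mkQ x = 0 := σ.incl_injective (h0.trans (map_zero _).symm)
  exact (Submodule.Quotient.mk_eq_zero _).mp h1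

end Complex

end Groth.Agent.Helper4
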