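import Groth.Agent.Helper4.TSFinA
import Mathlib

/-!
# A permutation-stable subalgebra of a tensor power is integral over its symmetric part; primes lift
(helper4)
-/

set_option autoImplicit false
universe u
open scoped TensorProduct

namespace Groth.Agent.Helper4.SymGrA

variable {A : Type u} [CommRing A] {B : Type u} [CommRing B] [Algebra A B] {d : ℕ}
variable (C : Subalgebra A (⨂[A] _ : Fin d, B))

/-- the permutation action on a stable subalgebra -/
noncomputable def act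
    (hC : ∀ (σ : Equiv.Perm (Fin d)) (c : ⨂[A] _ : Fin d, B), c ∈ C → SymTen.perm A B d σ c ∈ C) :
    MulSemiringAction (Equiv.Perm (Fin d)) C where
  smul σ c := ⟨SymTen.perm A B d σ c.1, hC σ c.1 c.2⟩
  one_smul c := Subtype.ext ((Groth.Agent.Helper4.TSFinA.permAction A B d).one_smul c.1)
  mul_smul σ τ c := Subtype.ext ((Groth.Agent.Helper4.TSFinA.permAction A B d).mul_smul σ τ c.1)
  smul_zero σ := Subtype.ext (map_zero _)
  smul_add σ x y := Subtype.ext (map_add _ x.1 y.1)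
  smul_one σ := Subtype.ext (map_one _)
  smul_mul σ x y := Subtype.ext (map_mul _ x.1 y.1)

/-- **Primes of the symmetric part lift to the stable subalgebra.** -/
theorem exists_prime_over
    (hC : ∀ (σ : Equiv.Perm (Fin d)) (c : ⨂[A] _ : Fin d, B), c ∈ C → SymTen.perm A B d σ c ∈ C)
    (q : Ideal ↥(C ⊓ SymTen.TS A B d)) [q.IsPrime] :
    ∃ Q : Ideal ↥C, Q.IsPrime ∧
      ∀ x : ↥(C ⊓ SymTen.TS A B d),
        (Subalgebra.inclusion (inf_le_left : C ⊓ SymTen.TS A B d ≤ C) x ∈ Q ↔ x ∈ q) := by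
  letI := act C hC
  letI : Algebra ↥(C ⊓ SymTen.TS A B d) ↥C :=
    (Subalgebra.inclusion (inf_le_left : C ⊓ SymTen.TS A B d ≤ C)).toRingHom.toAlgebra
  have hsm : ∀ (x : ↥(C ⊓ SymTen.TS A B d)) (c : ↥C),
      x • c = Subalgebra.inclusion (inf_le_left : C ⊓ SymTen.TS A B d ≤ C) x * c := fun x c => rfl
  haveI : SMulCommClass (Equiv.Perm (Fin d)) ↥(C ⊓ SymTen.TS A B d) ↥C := by
    constructor
    intro σ x c
    apply Subtype.ext
    show SymTen.perm A B d σ ((x : ⨂[A] _ : Fin d, B) * c.1) =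
      (x : ⨂[A] _ : Fin d, B) * SymTen.perm A B d σ c.1
    rw [map_mul, SymTen.perm_apply A B d σ (x : ⨂[A] _ : Fin d, B), x.2.2 σ]
  haveI : Algebra.IsInvariant ↥(C ⊓ SymTen.TS A B d) ↥C (Equiv.Perm (Fin d)) := by
    constructor
    intro c hc
    refine ⟨⟨c.1, c.2, fun σ => ?_⟩, Subtype.ext rfl⟩
    rw [← SymTen.perm_apply]
    exact congrArg Subtype.val (hc σ)
  haveI : Algebra.IsIntegral ↥(C ⊓ SymTen.TS A B d) ↥C :=
    Algebra.IsInvariant.isIntegral ↥(C ⊓ SymTen.TS A B d) ↥C (Equiv.Perm (Fin d))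
  have hker : RingHom.ker (algebraMap ↥(C ⊓ SymTen.TS A B d) ↥C) ≤ q := by
    intro x hx
    have h0 : x = 0 := by
      apply Subtype.ext
      have := congrArg Subtype.val (RingHom.mem_ker.1 hx)
      exact this
    rw [h0]
    exact zero_mem _
  obtain ⟨Q, -, hQ, hQq⟩ := Ideal.exists_ideal_over_prime_of_isIntegral q (⊥ : Ideal ↥C) hker
  refine ⟨Q, hQ, fun x => ?_⟩
  rw [← hQq]
  rfl

end Groth.Agent.Helper4.SymGrA
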