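import Groth.Agent.Helper4.SymGrA
import Groth.Agent.Helper4.SymGrB
import Mathlib

/-!
# Graded symmetric tensors: the positive part lies in every prime containing the diagonal tensors
(helper4)
-/

set_option autoImplicit false
universe u
open scoped TensorProduct

namespace Groth.Agent.Helper4.SymGrC

variable {A B : Type u} [CommRing A] [CommRing B] [Algebra A B]
  (𝒜 : ℕ → Submodule A B) [GradedAlgebra 𝒜] (d : ℕ)

/-- the pure tensors with all entries of one degree -/
def Gens : Set (⨂[A] _ : Fin d, B) :=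
  {t | ∃ (k : ℕ) (b : Fin d → B), (∀ i, b i ∈ 𝒜 k) ∧ t = PiTensorProduct.tprod A b}

/-- the subalgebra generated by them -/
noncomputable def Cc : Subalgebra A (⨂[A] _ : Fin d, B) := Algebra.adjoin A (Gens 𝒜 d)

theorem tprod_mem_Cc {k : ℕ} {b : Fin d → B} (hb : ∀ i, b i ∈ 𝒜 k) :
    PiTensorProduct.tprod A b ∈ Cc 𝒜 d :=
  Algebra.subset_adjoin ⟨k, b, hb, rfl⟩

theorem perm_mem (σ : Equiv.Perm (Fin d)) (c : ⨂[A] _ : Fin d, B) (hc : c ∈ Cc 𝒜 d) :
    SymTen.perm A B d σ c ∈ Cc 𝒜 d := by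
  unfold Cc at hc
  induction hc using Algebra.adjoin_induction with
  | mem x hx =>
    obtain ⟨k, b, hb, rfl⟩ := hx
    rw [SymTen.perm_tprod]
    exact tprod_mem_Cc 𝒜 d fun i => hb _
  | algebraMap r => rw [AlgHom.commutes]; exact Subalgebra.algebraMap_mem _ r
  | add x y _ _ hx hy => rw [map_add]; exact add_mem hx hy
  | mul x y _ _ hx hy => rw [map_mul]; exact mul_mem hx hy

section InQ

variable {𝒜 d} (Q : Ideal ↥(Cc 𝒜 d))

/-- membership in an ideal of the subalgebra, for elements of the tensor power -/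
def InQ (c : ⨂[A] _ : Fin d, B) : Prop := ∃ h : c ∈ Cc 𝒜 d, (⟨c, h⟩ : ↥(Cc 𝒜 d)) ∈ Q

theorem InQ_zero : InQ Q 0 := ⟨zero_mem _, zero_mem Q⟩

theorem InQ_add {c c' : ⨂[A] _ : Fin d, B} (h : InQ Q c) (h' : InQ Q c') : InQ Q (c + c') := by
  obtain ⟨hc, hq⟩ := h
  obtain ⟨hc', hq'⟩ := h'
  exact ⟨add_mem hc hc', Q.add_mem hq hq'⟩

theorem InQ_neg {c : ⨂[A] _ : Fin d, B} (h : InQ Q c) : InQ Q (-c) := by
  obtain ⟨hc, hq⟩ := h
  exact ⟨neg_mem hc, Q.neg_mem hq⟩

theorem InQ_mul_left {c c' : ⨂[A] _ : Fin d, B} (hc : c ∈ Cc 𝒜 d) (h' : InQ Q c') :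
    InQ Q (c * c') := by
  obtain ⟨hc', hq'⟩ := h'
  exact ⟨mul_mem hc hc', Q.mul_mem_left ⟨c, hc⟩ hq'⟩

theorem InQ_smul (a : A) {c : ⨂[A] _ : Fin d, B} (h : InQ Q c) : InQ Q (a • c) := by
  rw [Algebra.smul_def]
  exact InQ_mul_left Q (Subalgebra.algebraMap_mem _ a) h

variable [hQ : Q.IsPrime]

theorem not_InQ_one : ¬ InQ Q (1 : ⨂[A] _ : Fin d, B) := by
  rintro ⟨h, hq⟩
  exact hQ.ne_top ((Ideal.eq_top_iff_one Q).2 hq)

theorem InQ_mul_iff {c c' : ⨂[A] _ : Fin d, B} (hc : c ∈ Cc 𝒜 d) (hc' : c' ∈ Cc 𝒜 d) :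
    InQ Q (c * c') ↔ InQ Q c ∨ InQ Q c' := by
  constructor
  · rintro ⟨h, hq⟩
    have h2 : (⟨c, hc⟩ : ↥(Cc 𝒜 d)) * ⟨c', hc'⟩ ∈ Q := hq
    rcases hQ.mem_or_mem h2 with h3 | h3
    · exact Or.inl ⟨hc, h3⟩
    · exact Or.inr ⟨hc', h3⟩
  · rintro (h | h)
    · rw [mul_comm]; exact InQ_mul_left Q hc' h
    · exact InQ_mul_left Q hc h

theorem not_InQ_prod {κ : Type*} (t : Finset κ) (g : κ → ⨂[A] _ : Fin d, B)
    (hg : ∀ j ∈ t, g j ∈ Cc 𝒜 d) (hn : ∀ j ∈ t, ¬ InQ Q (g j)) : ¬ InQ Q (∏ j ∈ t, g j) := by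
  classical
  induction t using Finset.induction_on with
  | empty => rw [Finset.prod_empty]; exact not_InQ_one Q
  | insert a t ha ih =>
    rw [Finset.prod_insert ha, InQ_mul_iff Q (hg a (Finset.mem_insert_self a t))
      (Subalgebra.prod_mem _ fun j hj => hg j (Finset.mem_insert_of_mem hj))]
    rintro (h | h)
    · exact hn a (Finset.mem_insert_self a t) h
    · exact ih (fun j hj => hg j (Finset.mem_insert_of_mem hj))
        (fun j hj => hn j (Finset.mem_insert_of_mem hj)) h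

end InQ

section W

variable {𝒜 d} (b : Fin d → B)

/-- the tensor `b₁^m ⊗ ⋯ ⊗ y ⊗ ⋯ ⊗ b_d^m` with `y` in position `i` -/
noncomputable def W (i : Fin d) (y : B) (m : ℕ) : ⨂[A] _ : Fin d, B :=
  PiTensorProduct.tprod A (Function.update (fun j => b j ^ m) i y)

theorem W_mem {k : ℕ} (hb : ∀ i, b i ∈ 𝒜 k) (i : Fin d) {y : B} {m : ℕ} (hy : y ∈ 𝒜 (m * k)) :
    W (A := A) b i y m ∈ Cc 𝒜 d := by
  refine tprod_mem_Cc 𝒜 d (k := m * k) fun j => ?_
  by_cases hji : j = i
  · subst hji; rw [Function.update_self]; exact hy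
  · rw [Function.update_of_ne hji]
    have := SetLike.pow_mem_graded m (hb j)
    rwa [smul_eq_mul] at this

theorem W_mul (i : Fin d) (y y' : B) (m m' : ℕ) :
    W (A := A) b i (y * y') (m + m') = W (A := A) b i y m * W (A := A) b i y' m' := by
  unfold W
  rw [PiTensorProduct.tprod_mul_tprod]
  congr 1
  funext j
  by_cases hji : j = i
  · subst hji; simp [Function.update_self]
  · simp [Function.update_of_ne hji, pow_add]

theorem W_add (i : Fin d) (y y' : B) (m : ℕ) :
    W (A := A) b i (y + y') m = W (A := A) b i y m + W (A := A) b i y' m := by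
  unfold W
  exact MultilinearMap.map_update_add _ _ _ _ _

theorem W_neg (i : Fin d) (y : B) (m : ℕ) :
    W (A := A) b i (-y) m = -W (A := A) b i y m := by
  unfold W
  exact MultilinearMap.map_update_neg _ _ _ _

theorem W_one (i : Fin d) : W (A := A) b i 1 0 = 1 := by
  unfold W
  rw [PiTensorProduct.one_def]
  congr 1
  funext j
  by_cases hji : j = i
  · subst hji; simp [Function.update_self]
  · simp [Function.update_of_ne hji]

theorem W_self (i : Fin d) : W (A := A) b i (b i) 1 = PiTensorProduct.tprod A b := by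
  unfold W
  congr 1
  funext j
  by_cases hji : j = i
  · subst hji; simp [Function.update_self]
  · simp [Function.update_of_ne hji]

theorem prod_W (f : B) (m : ℕ) :
    ∏ i : Fin d, W (A := A) b i f m =
      PiTensorProduct.tprod A (fun _ : Fin d => f) *
        PiTensorProduct.tprod A (fun l => b l ^ (m * (d - 1))) := by
  unfold W
  rw [← PiTensorProduct.tprod_prod, PiTensorProduct.tprod_mul_tprod]
  congr 1
  funext l
  rw [Finset.prod_apply]
  simp only [Function.update_apply, Pi.mul_apply]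
  rw [Finset.prod_ite, Finset.prod_const, Finset.prod_const]
  have h1 : (Finset.univ.filter fun i : Fin d => l = i).card = 1 := by
    rw [Finset.card_eq_one]
    exact ⟨l, by ext i; simp [eq_comm]⟩
  have h2 : (Finset.univ.filter fun i : Fin d => ¬ l = i).card = d - 1 := by
    have := Finset.card_filter_add_card_filter_not (s := (Finset.univ : Finset (Fin d)))
      (fun i : Fin d => l = i)
    rw [h1, Finset.card_univ, Fintype.card_fin] at this
    omega
  rw [h1, h2, pow_one, pow_mul]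

end W

section main

variable {𝒜 d}

/-- the setup for graded prime avoidance attached to a prime and a pure tensor -/
noncomputable def setup (Q : Ideal ↥(Cc 𝒜 d)) [Q.IsPrime] {k : ℕ} (b : Fin d → B)
    (hb : ∀ i, b i ∈ 𝒜 k) : Groth.Agent.Helper4.SymGrB.Setup B (Fin d) where
  Hg m := (𝒜 (m * k)).toAddSubgroup
  Pr i m y := InQ Q (W (A := A) b i y m)
  one_mem := by
    show (1 : B) ∈ 𝒜 (0 * k)
    rw [Nat.zero_mul]
    exact SetLike.one_mem_graded 𝒜
  mul_mem m m' x y hx hy := by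
    show x * y ∈ 𝒜 ((m + m') * k)
    rw [Nat.add_mul]
    exact SetLike.mul_mem_graded hx hy
  P_one i := by
    rw [W_one]
    exact not_InQ_one Q
  P_add i m x y _ _ hx hy := by
    rw [W_add]
    exact InQ_add Q hx hy
  P_neg i m x _ hx := by
    rw [W_neg]
    exact InQ_neg Q hx
  P_mul i m m' x y hx hy := by
    rw [W_mul]
    exact InQ_mul_iff Q (W_mem b hb i hx) (W_mem b hb i hy)

/-- **Key lemma**: a prime of the generated subalgebra containing all diagonal tensors of positive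
degree contains all pure tensors of positive degree. -/
theorem InQ_tprod (Q : Ideal ↥(Cc 𝒜 d)) [Q.IsPrime]
    (hQ : ∀ (n : ℕ) (f : B), 0 < n → f ∈ 𝒜 n → InQ Q (PiTensorProduct.tprod A (fun _ : Fin d => f)))
    {k : ℕ} (hk : 0 < k) (b : Fin d → B) (hb : ∀ i, b i ∈ 𝒜 k) :
    InQ Q (PiTensorProduct.tprod A b) := by
  classical
  by_contra hcon
  obtain ⟨m, hm, f, hf, hav⟩ := (setup Q b hb).exists_avoid Finset.univ (by
    intro i _
    refine ⟨1, one_pos, b i, ?_, ?_⟩
    · show b i ∈ 𝒜 (1 * k)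
      rw [Nat.one_mul]; exact hb i
    · show ¬ InQ Q (W (A := A) b i (b i) 1)
      rw [W_self]; exact hcon)
  have hf' : f ∈ 𝒜 (m * k) := hf
  have h1 : ¬ InQ Q (∏ i : Fin d, W (A := A) b i f m) :=
    not_InQ_prod Q Finset.univ _ (fun i _ => W_mem b hb i hf') (fun i _ => hav i (Finset.mem_univ i))
  apply h1
  rw [prod_W, mul_comm]
  refine InQ_mul_left Q (tprod_mem_Cc 𝒜 d (k := (m * (d - 1)) * k) fun l => ?_)
    (hQ (m * k) f (Nat.mul_pos hm hk) hf')
  have := SetLike.pow_mem_graded (m * (d - 1)) (hb l)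
  rwa [smul_eq_mul] at this

end main

end Groth.Agent.Helper4.SymGrC
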