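import Groth.Agent.Helper4.SymGrC
import Mathlib

/-!
# Graded symmetric tensors: membership in radicals of ideals containing the diagonal tensors (helper4)
-/

set_option autoImplicit false
universe u
open scoped TensorProduct

namespace Groth.Agent.Helper4.SymGrD

open Groth.Agent.Helper4.SymGrC

variable {A B : Type u} [CommRing A] [CommRing B] [Algebra A B]
  (𝒜 : ℕ → Submodule A B) [GradedAlgebra 𝒜] (d : ℕ)

/-- a prime of the symmetric part comes from a prime of the generated subalgebra -/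
theorem mem_prime_of_forall (q : Ideal ↥(Cc 𝒜 d ⊓ SymTen.TS A B d)) [q.IsPrime]
    (hq : ∀ (Q : Ideal ↥(Cc 𝒜 d)) [Q.IsPrime],
      (∀ x : ↥(Cc 𝒜 d ⊓ SymTen.TS A B d),
        (Subalgebra.inclusion (inf_le_left : Cc 𝒜 d ⊓ SymTen.TS A B d ≤ Cc 𝒜 d) x ∈ Q ↔ x ∈ q)) →
      ∀ (n : ℕ) (f : B), 0 < n → f ∈ 𝒜 n →
        InQ Q (PiTensorProduct.tprod A (fun _ : Fin d => f)))
    {k : ℕ} (hk : 0 < k) (t : ⨂[A] _ : Fin d, B) (htD : t ∈ Cc 𝒜 d ⊓ SymTen.TS A B d)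
    (htk : t ∈ Submodule.span A
      {s | ∃ b : Fin d → B, (∀ i, b i ∈ 𝒜 k) ∧ s = PiTensorProduct.tprod A b}) :
    (⟨t, htD⟩ : ↥(Cc 𝒜 d ⊓ SymTen.TS A B d)) ∈ q := by
  obtain ⟨Q, hQ, hQq⟩ := Groth.Agent.Helper4.SymGrA.exists_prime_over (Cc 𝒜 d) (perm_mem 𝒜 d) q
  have key' : ∀ s ∈ Submodule.span A
      {s | ∃ b : Fin d → B, (∀ i, b i ∈ 𝒜 k) ∧ s = PiTensorProduct.tprod A b}, InQ Q s := by
    intro s hs
    induction hs using Submodule.span_induction with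
    | mem s hs =>
      obtain ⟨b, hb, rfl⟩ := hs
      exact InQ_tprod Q (hq Q hQq) hk b hb
    | zero => exact InQ_zero Q
    | add x y _ _ hx hy => exact InQ_add Q hx hy
    | smul a x _ hx => exact InQ_smul Q a hx
  obtain ⟨h, hmem⟩ := key' t htk
  exact (hQq ⟨t, htD⟩).1 hmem

/-- **Radical membership.** -/
theorem mem_radical (I : Ideal ↥(Cc 𝒜 d ⊓ SymTen.TS A B d))
    (hI : ∀ (q : Ideal ↥(Cc 𝒜 d ⊓ SymTen.TS A B d)) [q.IsPrime], I ≤ q →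
      ∀ (Q : Ideal ↥(Cc 𝒜 d)) [Q.IsPrime],
      (∀ x : ↥(Cc 𝒜 d ⊓ SymTen.TS A B d),
        (Subalgebra.inclusion (inf_le_left : Cc 𝒜 d ⊓ SymTen.TS A B d ≤ Cc 𝒜 d) x ∈ Q ↔ x ∈ q)) →
      ∀ (n : ℕ) (f : B), 0 < n → f ∈ 𝒜 n →
        InQ Q (PiTensorProduct.tprod A (fun _ : Fin d => f)))
    {k : ℕ} (hk : 0 < k) (t : ⨂[A] _ : Fin d, B) (htD : t ∈ Cc 𝒜 d ⊓ SymTen.TS A B d)
    (htk : t ∈ Submodule.span A
      {s | ∃ b : Fin d → B, (∀ i, b i ∈ 𝒜 k) ∧ s = PiTensorProduct.tprod A b}) :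
    ∃ m : ℕ, 0 < m ∧ (⟨t, htD⟩ : ↥(Cc 𝒜 d ⊓ SymTen.TS A B d)) ^ m ∈ I := by
  have hrad : (⟨t, htD⟩ : ↥(Cc 𝒜 d ⊓ SymTen.TS A B d)) ∈ I.radical := by
    rw [Ideal.radical_eq_sInf, Ideal.mem_sInf]
    rintro q ⟨hIq, hqp⟩
    haveI := hqp
    exact mem_prime_of_forall 𝒜 d q (hI q hIq) hk t htD htk
  obtain ⟨n, hn⟩ := hrad
  rcases Nat.eq_zero_or_pos n with rfl | hpos
  · rw [pow_zero] at hn
    refine ⟨1, one_pos, ?_⟩
    rw [(Ideal.eq_top_iff_one I).2 hn]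
    trivial
  · exact ⟨n, hpos, hn⟩

/-- the diagonal tensor as an element of the symmetric part -/
theorem tpow_mem {n : ℕ} {f : B} (hf : f ∈ 𝒜 n) :
    PiTensorProduct.tprod A (fun _ : Fin d => f) ∈ Cc 𝒜 d ⊓ SymTen.TS A B d :=
  ⟨tprod_mem_Cc 𝒜 d (k := n) fun _ => hf, (SymTen.tpow A B d f).2⟩

end Groth.Agent.Helper4.SymGrD
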