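import Mathlib

/-!
# Covering a module by finitely many saturated submodules; residue class representatives (helper4)
-/

set_option autoImplicit false
universe u v w

namespace Groth.Agent.Helper4.SymGrE

/-- If a submodule `M₀` is covered by finitely many submodules `N i`, each saturated with respect to
the complement of an ideal `p`, and there are at least as many residue classes modulo `p` as
submodules, then `M₀` lies in one of them. -/
theorem exists_le_of_cover {A : Type u} {M : Type v} {ι : Type w} [CommRing A] [AddCommGroup M]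
    [Module A M] [DecidableEq ι] (p : Ideal A) (N : ι → Submodule A M) (M₀ : Submodule A M)
    {n : ℕ} (c : Fin n → A) (hc : ∀ a b, a ≠ b → c a - c b ∉ p) (s : Finset ι) :
    s.card ≤ n →
    (∀ i ∈ s, ∀ a : A, a ∉ p → ∀ x ∈ M₀, a • x ∈ N i → x ∈ N i) →
    (∀ x ∈ M₀, ∃ i ∈ s, x ∈ N i) → ∃ i ∈ s, M₀ ≤ N i := by
  induction s using Finset.strongInduction with
  | H s ih =>
    intro hn hsat hcov
    by_contra hcon
    have hcon' : ∀ i ∈ s, ¬ M₀ ≤ N i := fun i hi h => hcon ⟨i, hi, h⟩
    -- for each `i` an element in `N i` only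
    have hu : ∀ i ∈ s, ∃ u ∈ M₀, ∀ j ∈ s.erase i, u ∉ N j := by
      intro i hi
      by_contra h
      have h' : ∀ u ∈ M₀, ∃ j ∈ s.erase i, u ∈ N j := by
        intro u hu
        by_contra h2
        exact h ⟨u, hu, fun j hj huj => h2 ⟨j, hj, huj⟩⟩
      obtain ⟨j, hj, hle⟩ := ih (s.erase i) (Finset.erase_ssubset hi)
        ((Finset.card_le_card (Finset.erase_subset i s)).trans hn)
        (fun j hj => hsat j (Finset.mem_of_mem_erase hj)) h'
      exact hcon' j (Finset.mem_of_mem_erase hj) hle
    choose! u hu0 hu1 using hu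
    -- `s` is nonempty
    obtain ⟨i₁, hi₁, -⟩ := hcov 0 (zero_mem _)
    -- `s` has a second element
    by_cases hsingle : ∀ j ∈ s, j = i₁
    · apply hcon' i₁ hi₁
      intro x hx
      obtain ⟨j, hj, hxj⟩ := hcov x hx
      rwa [hsingle j hj] at hxj
    · have hsingle' : ∃ j ∈ s, j ≠ i₁ := by
        by_contra h
        exact hsingle fun j hj => by
          by_contra h2
          exact h ⟨j, hj, h2⟩
      obtain ⟨i₂, hi₂, hne⟩ := hsingle'
      have hv : u i₂ ∉ N i₁ := hu1 i₂ hi₂ i₁ (Finset.mem_erase.2 ⟨hne.symm, hi₁⟩)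
      have hui₁ : u i₁ ∈ N i₁ := by
        obtain ⟨j, hj, hxj⟩ := hcov (u i₁) (hu0 i₁ hi₁)
        by_cases hji : j = i₁
        · rwa [hji] at hxj
        · exact absurd hxj (hu1 i₁ hi₁ j (Finset.mem_erase.2 ⟨hji, hj⟩))
      have hw : ∀ a : Fin n, ∃ j ∈ s.erase i₁, u i₂ + c a • u i₁ ∈ N j := by
        intro a
        obtain ⟨j, hj, hxj⟩ := hcov (u i₂ + c a • u i₁)
          (add_mem (hu0 i₂ hi₂) (M₀.smul_mem _ (hu0 i₁ hi₁)))
        refine ⟨j, Finset.mem_erase.2 ⟨?_, hj⟩, hxj⟩
        rintro rfl
        apply hv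
        have := (N j).sub_mem hxj ((N j).smul_mem (c a) hui₁)
        rwa [add_sub_cancel_right] at this
      choose jf hjf hjf' using hw
      have hcard : (s.erase i₁).card < (Finset.univ : Finset (Fin n)).card := by
        rw [Finset.card_erase_of_mem hi₁, Finset.card_univ, Fintype.card_fin]
        have : 0 < s.card := Finset.card_pos.2 ⟨i₁, hi₁⟩
        omega
      obtain ⟨a, -, b, -, hab, hjab⟩ := Finset.exists_ne_map_eq_of_card_lt_of_maps_to hcard
        (f := jf) (fun a _ => hjf a)
      have h1 := (N (jf a)).sub_mem (hjf' a) (hjab ▸ hjf' b)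
      have h2 : u i₂ + c a • u i₁ - (u i₂ + c b • u i₁) = (c a - c b) • u i₁ := by
        rw [sub_smul]; abel
      rw [h2] at h1
      have h3 := hsat (jf a) (Finset.mem_of_mem_erase (hjf a)) _ (hc a b hab) _ (hu0 i₁ hi₁) h1
      exact hu1 i₁ hi₁ (jf a) (hjf a) h3

/-- representatives of `d` distinct residue classes modulo a prime whose residue field has at least
`d` elements -/
theorem exists_reps {A : Type u} [CommRing A] (p : Ideal A) [p.IsPrime] (d : ℕ)
    (h : (d : Cardinal) ≤ Cardinal.mk p.ResidueField) :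
    ∃ c : Fin d → A, ∀ a b, a ≠ b → c a - c b ∉ p := by
  have hq : ∃ g : Fin d → A ⧸ p, Function.Injective g := by
    by_cases hfin : Finite (A ⧸ p)
    · haveI := hfin
      haveI := Fintype.ofFinite (A ⧸ p)
      haveI : p.IsMaximal :=
        Ideal.Quotient.maximal_of_isField p (Finite.isField_of_domain (A ⧸ p))
      have hb := p.bijective_algebraMap_quotient_residueField
      have hcard : Cardinal.mk (A ⧸ p) = Cardinal.mk p.ResidueField :=
        Cardinal.mk_congr (Equiv.ofBijective _ hb)
      rw [← hcard, Cardinal.mk_fintype, Nat.cast_le] at h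
      have : Fintype.card (Fin d) ≤ Fintype.card (A ⧸ p) := by rwa [Fintype.card_fin]
      obtain ⟨e⟩ := Function.Embedding.nonempty_of_card_le this
      exact ⟨e, e.injective⟩
    · haveI : Infinite (A ⧸ p) := not_finite_iff_infinite.1 hfin
      exact ⟨fun a => Infinite.natEmbedding (A ⧸ p) a.1,
        fun a b hab => Fin.ext ((Infinite.natEmbedding (A ⧸ p)).injective hab)⟩
  obtain ⟨g, hg⟩ := hq
  choose c hc using fun a => Ideal.Quotient.mk_surjective (g a)
  refine ⟨c, fun a b hab hmem => hab (hg ?_)⟩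
  rw [← hc a, ← hc b]
  exact Ideal.Quotient.eq.2 hmem

end Groth.Agent.Helper4.SymGrE
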