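import Groth.Agent.Helper4.SymGrD
import Groth.Agent.Helper4.SymGrE
import Mathlib

/-!
# Graded symmetric tensors: diagonal tensors of degree one suffice when residue fields are large
(helper4)
-/

set_option autoImplicit false
universe u
open scoped TensorProduct

namespace Groth.Agent.Helper4.SymGrF

open Groth.Agent.Helper4.SymGrC

variable {A B : Type u} [CommRing A] [CommRing B] [Algebra A B]
  (𝒜 : ℕ → Submodule A B) [GradedAlgebra 𝒜] (d : ℕ)

section span

theorem list_prod_mem (l : List B) (hl : ∀ x ∈ l, x ∈ 𝒜 1) : l.prod ∈ 𝒜 l.length := by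
  induction l with
  | nil => rw [List.prod_nil, List.length_nil]; exact SetLike.one_mem_graded 𝒜
  | cons x l ih =>
    rw [List.prod_cons, List.length_cons, Nat.add_comm]
    exact SetLike.mul_mem_graded (hl x List.mem_cons_self)
      (ih fun y hy => hl y (List.mem_cons_of_mem x hy))

/-- a graded algebra generated in degree one: `B_{n+1} = B_1 B_n` -/
theorem le_mul (hgen : Algebra.adjoin A (𝒜 1 : Set B) = ⊤) (n : ℕ) :
    𝒜 (n + 1) ≤ 𝒜 1 * 𝒜 n := by
  have key : ∀ x ∈ Submodule.span A (Submonoid.closure (𝒜 1 : Set B) : Set B), ∀ n : ℕ,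
      ((DirectSum.decompose 𝒜 x (n + 1) : 𝒜 (n + 1)) : B) ∈ 𝒜 1 * 𝒜 n := by
    intro x hx
    induction hx using Submodule.span_induction with
    | mem w hw =>
      intro n
      obtain ⟨l, hl, rfl⟩ := Submonoid.exists_list_of_mem_closure hw
      have hmem := list_prod_mem 𝒜 l hl
      by_cases hln : l.length = n + 1
      · rw [DirectSum.decompose_of_mem_same 𝒜 (hln ▸ hmem)]
        cases l with
        | nil => simp at hln
        | cons y l' =>
          rw [List.prod_cons]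
          have hl' : l'.length = n := by simpa using hln
          exact Submodule.mul_mem_mul (hl y List.mem_cons_self)
            (hl' ▸ list_prod_mem 𝒜 l' fun z hz => hl z (List.mem_cons_of_mem y hz))
      · rw [DirectSum.decompose_of_mem_ne 𝒜 hmem hln]
        exact zero_mem _
    | zero => intro n; simp
    | add x y _ _ hx hy =>
      intro n
      rw [DirectSum.decompose_add, DirectSum.add_apply, Submodule.coe_add]
      exact add_mem (hx n) (hy n)
    | smul a x _ hx =>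
      intro n
      rw [DirectSum.decompose_smul, DirectSum.smul_apply, Submodule.coe_smul]
      exact Submodule.smul_mem _ a (hx n)
  intro b hb
  have hb' : b ∈ Submodule.span A (Submonoid.closure (𝒜 1 : Set B) : Set B) := by
    rw [← Algebra.adjoin_eq_span, hgen]; trivial
  have := key b hb' n
  rwa [DirectSum.decompose_of_mem_same 𝒜 hb] at this

end span

section W

variable {𝒜 d} (b : Fin d → B)

theorem W_smul (i : Fin d) (a : A) (y : B) (m : ℕ) :
    W (A := A) b i (a • y) m = a • W (A := A) b i y m := by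
  unfold W
  exact MultilinearMap.map_update_smul _ _ _ _ _

theorem W_zero (i : Fin d) (m : ℕ) : W (A := A) b i 0 m = 0 := by
  unfold W
  exact MultilinearMap.map_update_zero _ _ _

end W

theorem tprod_const_pow (f : B) (n : ℕ) :
    PiTensorProduct.tprod A (fun _ : Fin d => f ^ n) =
      (PiTensorProduct.tprod A (fun _ : Fin d => f)) ^ n := by
  induction n with
  | zero => simp only [pow_zero]; rw [PiTensorProduct.one_def]; rfl
  | succ n ih =>
    have : (fun _ : Fin d => f ^ (n + 1)) = (fun _ : Fin d => f ^ n) * (fun _ : Fin d => f) := by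
      funext j; simp [pow_succ]
    rw [this, ← PiTensorProduct.tprod_mul_tprod, ih, ← pow_succ]

variable {𝒜 d}

theorem InQ_algebraMap (Q : Ideal ↥(Cc 𝒜 d)) (a : A)
    (h : InQ Q (algebraMap A (⨂[A] _ : Fin d, B) a)) :
    a ∈ Q.comap (algebraMap A ↥(Cc 𝒜 d)) := by
  obtain ⟨h1, h2⟩ := h
  rw [Ideal.mem_comap]
  have : algebraMap A ↥(Cc 𝒜 d) a = ⟨_, h1⟩ := Subtype.ext rfl
  rw [this]; exact h2

/-- **Key lemma, degree one version**: if every residue field of `A` has at least `d` elements and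
`B` is generated in degree one, a prime of the generated subalgebra containing all diagonal
tensors of degree one contains all pure tensors of positive degree. -/
theorem InQ_tprod' (hgen : Algebra.adjoin A (𝒜 1 : Set B) = ⊤)
    (hres : ∀ p : PrimeSpectrum A, (d : Cardinal) ≤ Cardinal.mk p.asIdeal.ResidueField)
    (Q : Ideal ↥(Cc 𝒜 d)) [Q.IsPrime]
    (hQ : ∀ (f : B), f ∈ 𝒜 1 → InQ Q (PiTensorProduct.tprod A (fun _ : Fin d => f)))
    {k : ℕ} (hk : 0 < k) (b : Fin d → B) (hb : ∀ i, b i ∈ 𝒜 k) :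
    InQ Q (PiTensorProduct.tprod A b) := by
  classical
  by_contra hcon
  obtain ⟨k', rfl⟩ : ∃ k', k = k' + 1 := ⟨k - 1, by omega⟩
  set S := setup Q b hb with hS
  have hp : (Q.comap (algebraMap A ↥(Cc 𝒜 d))).IsPrime := Ideal.comap_isPrime _ _
  obtain ⟨c, hc⟩ := Groth.Agent.Helper4.SymGrE.exists_reps
    (Q.comap (algebraMap A ↥(Cc 𝒜 d))) d (hres ⟨_, hp⟩)
  -- the submodules
  let N : Fin d → Submodule A B := fun i =>
    { carrier := {x | ∀ z ∈ 𝒜 k', InQ Q (W (A := A) b i (x * z) 1)}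
      add_mem' := by
        intro x x' hx hx' z hz
        rw [add_mul, W_add]
        exact InQ_add Q (hx z hz) (hx' z hz)
      zero_mem' := by
        intro z hz
        rw [zero_mul, W_zero]
        exact InQ_zero Q
      smul_mem' := by
        intro a x hx z hz
        rw [smul_mul_assoc, W_smul]
        exact InQ_smul Q a (hx z hz) }
  have hdeg : ∀ x ∈ 𝒜 1, ∀ z ∈ 𝒜 k', x * z ∈ 𝒜 (1 * (k' + 1)) := by
    intro x hx z hz
    rw [Nat.one_mul, Nat.add_comm]
    exact SetLike.mul_mem_graded hx hz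
  -- an element of degree one outside all of them
  have hex : ∃ f ∈ 𝒜 1, ∀ i, f ∉ N i := by
    by_contra hno
    have hcov : ∀ x ∈ 𝒜 1, ∃ i ∈ (Finset.univ : Finset (Fin d)), x ∈ N i := by
      intro x hx
      by_contra h
      exact hno ⟨x, hx, fun i hi => h ⟨i, Finset.mem_univ i, hi⟩⟩
    obtain ⟨i, -, hle⟩ := Groth.Agent.Helper4.SymGrE.exists_le_of_cover
      (Q.comap (algebraMap A ↥(Cc 𝒜 d))) N (𝒜 1) c hc Finset.univ
      (by rw [Finset.card_univ, Fintype.card_fin])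
      (by
        intro i _ a ha x hx hax z hz
        have h1 := hax z hz
        rw [smul_mul_assoc, W_smul, Algebra.smul_def,
          InQ_mul_iff Q (Subalgebra.algebraMap_mem _ a) (W_mem b hb i (hdeg x hx z hz))] at h1
        rcases h1 with h1 | h1
        · exact absurd (InQ_algebraMap Q a h1) ha
        · exact h1)
      hcov
    have hall : ∀ y ∈ 𝒜 1 * 𝒜 k', InQ Q (W (A := A) b i y 1) := by
      intro y hy
      induction hy using Submodule.mul_induction_on' with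
      | mem_mul_mem x hx z hz => exact hle hx z hz
      | add x _ y _ hx hy => rw [W_add]; exact InQ_add Q hx hy
    apply hcon
    have := hall (b i) (by rw [Nat.add_comm] at hb; exact le_mul 𝒜 hgen k' (by rw [Nat.add_comm]; exact hb i))
    rwa [W_self] at this
  obtain ⟨f, hf, hfN⟩ := hex
  have hfz : ∀ i, ∃ z ∈ 𝒜 k', ¬ InQ Q (W (A := A) b i (f * z) 1) := by
    intro i
    by_contra h
    apply hfN i
    intro z hz
    by_contra h2
    exact h ⟨z, hz, h2⟩
  choose z hz hzQ using hfz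
  -- the powers
  have hfk : f ^ (k' + 1) ∈ S.Hg 1 := by
    show f ^ (k' + 1) ∈ 𝒜 (1 * (k' + 1))
    rw [Nat.one_mul]
    have := SetLike.pow_mem_graded (k' + 1) hf
    rwa [smul_eq_mul, Nat.mul_one] at this
  have hzk : ∀ i, z i ^ (k' + 1) ∈ S.Hg k' := by
    intro i
    show z i ^ (k' + 1) ∈ 𝒜 (k' * (k' + 1))
    have := SetLike.pow_mem_graded (k' + 1) (hz i)
    rwa [smul_eq_mul, Nat.mul_comm] at this
  have hfP : ∀ i, ¬ S.Pr i 1 (f ^ (k' + 1)) := by
    intro i hP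
    have h1 : f * z i ∈ S.Hg 1 := hdeg f hf (z i) (hz i)
    have h2 : ¬ S.Pr i ((k' + 1) * 1) ((f * z i) ^ (k' + 1)) :=
      (S.P_pow i h1 (a := k' + 1) (Nat.succ_pos k')).not.2 (hzQ i)
    apply h2
    have e : (k' + 1) * 1 = 1 + k' := by omega
    rw [mul_pow, e, S.P_mul i 1 k' _ _ hfk (hzk i)]
    exact Or.inl hP
  have h1 : ¬ InQ Q (∏ i : Fin d, W (A := A) b i (f ^ (k' + 1)) 1) :=
    not_InQ_prod Q Finset.univ _ (fun i _ => W_mem b hb i hfk) (fun i _ => hfP i)
  apply h1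
  rw [prod_W, mul_comm, tprod_const_pow, pow_succ]
  have hfC : PiTensorProduct.tprod A (fun _ : Fin d => f) ∈ Cc 𝒜 d :=
    tprod_mem_Cc 𝒜 d (k := 1) fun _ => hf
  refine InQ_mul_left Q (tprod_mem_Cc 𝒜 d (k := (1 * (d - 1)) * (k' + 1)) fun l => ?_)
    (InQ_mul_left Q (pow_mem hfC k') (hQ f hf))
  have := SetLike.pow_mem_graded (1 * (d - 1)) (hb l)
  rwa [smul_eq_mul] at this

variable (𝒜 d)

/-- a prime of the symmetric part comes from a prime of the generated subalgebra -/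
theorem mem_prime_of_forall' (q : Ideal ↥(Cc 𝒜 d ⊓ SymTen.TS A B d)) [q.IsPrime] {k : ℕ}
    (hq : ∀ (Q : Ideal ↥(Cc 𝒜 d)) [Q.IsPrime],
      (∀ x : ↥(Cc 𝒜 d ⊓ SymTen.TS A B d),
        (Subalgebra.inclusion (inf_le_left : Cc 𝒜 d ⊓ SymTen.TS A B d ≤ Cc 𝒜 d) x ∈ Q ↔ x ∈ q)) →
      ∀ (b : Fin d → B), (∀ i, b i ∈ 𝒜 k) → InQ Q (PiTensorProduct.tprod A b))
    (t : ⨂[A] _ : Fin d, B) (htD : t ∈ Cc 𝒜 d ⊓ SymTen.TS A B d)
    (htk : t ∈ Submodule.span A
      {s | ∃ b : Fin d → B, (∀ i, b i ∈ 𝒜 k) ∧ s = PiTensorProduct.tprod A b}) :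
    (⟨t, htD⟩ : ↥(Cc 𝒜 d ⊓ SymTen.TS A B d)) ∈ q := by
  obtain ⟨Q, hQ, hQq⟩ := Groth.Agent.Helper4.SymGrA.exists_prime_over (Cc 𝒜 d) (perm_mem 𝒜 d) q
  have key' : ∀ s ∈ Submodule.span A
      {s | ∃ b : Fin d → B, (∀ i, b i ∈ 𝒜 k) ∧ s = PiTensorProduct.tprod A b}, InQ Q s := by
    intro s hs
    induction hs using Submodule.span_induction with
    | mem s hs =>
      obtain ⟨b, hb, rfl⟩ := hs
      exact hq Q hQq b hb
    | zero => exact InQ_zero Q
    | add x y _ _ hx hy => exact InQ_add Q hx hy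
    | smul a x _ hx => exact InQ_smul Q a hx
  obtain ⟨h, hmem⟩ := key' t htk
  exact (hQq ⟨t, htD⟩).1 hmem

/-- **Radical membership.** -/
theorem mem_radical' (I : Ideal ↥(Cc 𝒜 d ⊓ SymTen.TS A B d)) {k : ℕ}
    (hI : ∀ (q : Ideal ↥(Cc 𝒜 d ⊓ SymTen.TS A B d)) [q.IsPrime], I ≤ q →
      ∀ (Q : Ideal ↥(Cc 𝒜 d)) [Q.IsPrime],
      (∀ x : ↥(Cc 𝒜 d ⊓ SymTen.TS A B d),
        (Subalgebra.inclusion (inf_le_left : Cc 𝒜 d ⊓ SymTen.TS A B d ≤ Cc 𝒜 d) x ∈ Q ↔ x ∈ q)) →
      ∀ (b : Fin d → B), (∀ i, b i ∈ 𝒜 k) → InQ Q (PiTensorProduct.tprod A b))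
    (t : ⨂[A] _ : Fin d, B) (htD : t ∈ Cc 𝒜 d ⊓ SymTen.TS A B d)
    (htk : t ∈ Submodule.span A
      {s | ∃ b : Fin d → B, (∀ i, b i ∈ 𝒜 k) ∧ s = PiTensorProduct.tprod A b}) :
    ∃ m : ℕ, 0 < m ∧ (⟨t, htD⟩ : ↥(Cc 𝒜 d ⊓ SymTen.TS A B d)) ^ m ∈ I := by
  have hrad : (⟨t, htD⟩ : ↥(Cc 𝒜 d ⊓ SymTen.TS A B d)) ∈ I.radical := by
    rw [Ideal.radical_eq_sInf, Ideal.mem_sInf]
    rintro q ⟨hIq, hqp⟩
    haveI := hqp
    exact mem_prime_of_forall' 𝒜 d q (hI q hIq) t htD htk
  obtain ⟨n, hn⟩ := hrad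
  rcases Nat.eq_zero_or_pos n with rfl | hpos
  · rw [pow_zero] at hn
    refine ⟨1, one_pos, ?_⟩
    rw [(Ideal.eq_top_iff_one I).2 hn]
    trivial
  · exact ⟨n, hpos, hn⟩

end Groth.Agent.Helper4.SymGrF
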