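import Groth.Agent.Helper4.SymGrF
import Mathlib

/-!
# Graded symmetric tensors: the symmetric tensors of degree one suffice (polarisation) (helper4)
-/

set_option autoImplicit false
universe u
open scoped TensorProduct

namespace Groth.Agent.Helper4.SymGrG

open Groth.Agent.Helper4.SymGrC Groth.Agent.Helper4.SymGrF

section abstract

/-- the multiplicity vector of a map `γ : Fin d → Fin d` -/
noncomputable def cnt {d : ℕ} (γ : Fin d → Fin d) : Fin d →₀ ℕ := ∑ i, Finsupp.single (γ i) 1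

theorem cnt_comp {d : ℕ} (γ : Fin d → Fin d) (σ : Equiv.Perm (Fin d)) :
    cnt (fun i => γ (σ i)) = cnt γ := by
  unfold cnt
  exact Equiv.sum_comp σ (fun i => Finsupp.single (γ i) (1 : ℕ))

/-- a product of `d` linear forms over a domain, the `i`-th with nonzero `i`-th coefficient, has a
nonzero coefficient -/
theorem exists_coeff_ne_zero {R : Type*} [CommRing R] [IsDomain R] (d : ℕ) (m : Fin d → Fin d → R)
    (hm : ∀ i, m i i ≠ 0) :
    ∃ α : Fin d →₀ ℕ,
      ∑ γ ∈ (Finset.univ : Finset (Fin d → Fin d)).filter (fun γ => cnt γ = α),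
        ∏ i, m i (γ i) ≠ 0 := by
  classical
  by_contra hcon
  have hcon' : ∀ α : Fin d →₀ ℕ,
      ∑ γ ∈ (Finset.univ : Finset (Fin d → Fin d)).filter (fun γ => cnt γ = α),
        ∏ i, m i (γ i) = 0 := by
    intro α
    by_contra h
    exact hcon ⟨α, h⟩
  let L : Fin d → MvPolynomial (Fin d) R := fun i => ∑ j, MvPolynomial.C (m i j) * MvPolynomial.X j
  have hL : ∀ i, L i ≠ 0 := by
    intro i h
    apply hm i
    have h2 := congrArg (MvPolynomial.eval (Pi.single i (1 : R))) h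
    simp only [L, map_sum, map_mul, MvPolynomial.eval_C, MvPolynomial.eval_X, map_zero,
      Pi.single_apply, mul_ite, mul_one, mul_zero, Finset.sum_ite_eq', Finset.mem_univ,
      if_true] at h2
    exact h2
  have hprod : ∏ i, L i ≠ 0 := Finset.prod_ne_zero_iff.2 fun i _ => hL i
  apply hprod
  have h1 : ∏ i, L i = ∑ γ : Fin d → Fin d,
      MvPolynomial.monomial (cnt γ) (∏ i, m i (γ i)) := by
    simp only [L]
    rw [Finset.prod_univ_sum, Fintype.piFinset_univ]
    refine Finset.sum_congr rfl fun γ _ => ?_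
    unfold cnt
    rw [MvPolynomial.monomial_sum_prod]
    refine Finset.prod_congr rfl fun i _ => ?_
    rw [MvPolynomial.C_mul_X_eq_monomial]
  rw [h1, ← Finset.sum_fiberwise_of_maps_to (s := Finset.univ)
    (t := (Finset.univ : Finset (Fin d → Fin d)).image cnt) (g := cnt)
    (fun γ _ => Finset.mem_image_of_mem cnt (Finset.mem_univ γ))]
  refine Finset.sum_eq_zero fun α _ => ?_
  have h2 : ∑ γ ∈ (Finset.univ : Finset (Fin d → Fin d)).filter (fun γ => cnt γ = α),
      MvPolynomial.monomial (cnt γ) (∏ i, m i (γ i)) =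
      MvPolynomial.monomial α (∑ γ ∈ (Finset.univ : Finset (Fin d → Fin d)).filter
        (fun γ => cnt γ = α), ∏ i, m i (γ i)) := by
    rw [map_sum]
    refine Finset.sum_congr rfl fun γ hγ => ?_
    rw [(Finset.mem_filter.1 hγ).2]
  rw [h2, hcon' α, map_zero]

end abstract

variable {A B : Type u} [CommRing A] [CommRing B] [Algebra A B]
  (𝒜 : ℕ → Submodule A B) [GradedAlgebra 𝒜] (d : ℕ)

section pol

variable (A) in
/-- the polarisation `P_α(f_1, …, f_d)`: the sum of the pure tensors `f_{γ 1} ⊗ ⋯ ⊗ f_{γ d}` over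
all `γ` with multiplicity vector `α` -/
noncomputable def Pol (f : Fin d → B) (α : Fin d →₀ ℕ) : ⨂[A] _ : Fin d, B :=
  ∑ γ ∈ (Finset.univ : Finset (Fin d → Fin d)).filter (fun γ => cnt γ = α),
    PiTensorProduct.tprod A (fun i => f (γ i))

theorem Pol_mem_TS (f : Fin d → B) (α : Fin d →₀ ℕ) : Pol A d f α ∈ SymTen.TS A B d := by
  classical
  intro σ
  unfold Pol
  rw [map_sum]
  simp only [PiTensorProduct.reindex_tprod]
  refine Finset.sum_bij' (fun γ _ => fun i => γ (σ.symm i)) (fun γ _ => fun i => γ (σ i))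
    ?_ ?_ ?_ ?_ ?_
  · intro γ hγ
    rw [Finset.mem_filter] at hγ ⊢
    exact ⟨Finset.mem_univ _, (cnt_comp γ σ.symm).trans hγ.2⟩
  · intro γ hγ
    rw [Finset.mem_filter] at hγ ⊢
    exact ⟨Finset.mem_univ _, (cnt_comp γ σ).trans hγ.2⟩
  · intro γ _; funext i; simp
  · intro γ _; funext i; simp
  · intro γ _; rfl

theorem Pol_mem_span {f : Fin d → B} (hf : ∀ j, f j ∈ 𝒜 1) (α : Fin d →₀ ℕ) :
    Pol A d f α ∈ Submodule.span A
      {s | ∃ b : Fin d → B, (∀ i, b i ∈ 𝒜 1) ∧ s = PiTensorProduct.tprod A b} := by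
  unfold Pol
  exact Submodule.sum_mem _ fun γ _ => Submodule.subset_span ⟨fun i => f (γ i), fun i => hf _, rfl⟩

theorem span_le_Cc (k : ℕ) : Submodule.span A
      {s | ∃ b : Fin d → B, (∀ i, b i ∈ 𝒜 k) ∧ s = PiTensorProduct.tprod A b} ≤
    Subalgebra.toSubmodule (Cc 𝒜 d) := by
  rw [Submodule.span_le]
  rintro s ⟨b, hb, rfl⟩
  exact tprod_mem_Cc 𝒜 d hb

end pol

section W

variable {𝒜 d} (b : Fin d → B)

theorem prod_W' (y : Fin d → B) (m : ℕ) :
    ∏ i : Fin d, W (A := A) b i (y i) m =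
      PiTensorProduct.tprod A y *
        PiTensorProduct.tprod A (fun l => b l ^ (m * (d - 1))) := by
  classical
  unfold W
  rw [← PiTensorProduct.tprod_prod, PiTensorProduct.tprod_mul_tprod]
  congr 1
  funext l
  rw [Finset.prod_apply]
  simp only [Function.update_apply, Pi.mul_apply]
  rw [Finset.prod_ite]
  have h1 : (Finset.univ.filter fun i : Fin d => l = i) = {l} := by
    ext i; simp [eq_comm]
  have h2 : (Finset.univ.filter fun i : Fin d => ¬ l = i).card = d - 1 := by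
    have := Finset.card_filter_add_card_filter_not (s := (Finset.univ : Finset (Fin d)))
      (fun i : Fin d => l = i)
    rw [h1, Finset.card_singleton, Finset.card_univ, Fintype.card_fin] at this
    omega
  rw [h1, Finset.prod_singleton, Finset.prod_const, h2, pow_mul]

end W

variable {𝒜 d}

/-- **Key lemma, polarised version**: if `B` is generated in degree one, a prime of the generated
subalgebra containing all symmetric tensors of degree one contains all pure tensors of positive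
degree. -/
theorem InQ_tprod'' (hgen : Algebra.adjoin A (𝒜 1 : Set B) = ⊤)
    (Q : Ideal ↥(Cc 𝒜 d)) [Q.IsPrime]
    (hQ : ∀ t : ⨂[A] _ : Fin d, B, t ∈ SymTen.TS A B d →
      t ∈ Submodule.span A
        {s | ∃ b : Fin d → B, (∀ i, b i ∈ 𝒜 1) ∧ s = PiTensorProduct.tprod A b} → InQ Q t)
    {k : ℕ} (hk : 0 < k) (b : Fin d → B) (hb : ∀ i, b i ∈ 𝒜 k) :
    InQ Q (PiTensorProduct.tprod A b) := by
  classical
  by_contra hcon
  obtain ⟨k', rfl⟩ : ∃ k', k = k' + 1 := ⟨k - 1, by omega⟩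
  have hdeg : ∀ x ∈ 𝒜 1, ∀ z ∈ 𝒜 k', x * z ∈ 𝒜 (1 * (k' + 1)) := by
    intro x hx z hz
    rw [Nat.one_mul, Nat.add_comm]
    exact SetLike.mul_mem_graded hx hz
  have hfz : ∀ i, ∃ x ∈ 𝒜 1, ∃ z ∈ 𝒜 k', ¬ InQ Q (W (A := A) b i (x * z) 1) := by
    intro i
    by_contra h
    have h' : ∀ x ∈ 𝒜 1, ∀ z ∈ 𝒜 k', InQ Q (W (A := A) b i (x * z) 1) := by
      intro x hx z hz
      by_contra h2
      exact h ⟨x, hx, z, hz, h2⟩
    have hall : ∀ y ∈ 𝒜 1 * 𝒜 k', InQ Q (W (A := A) b i y 1) := by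
      intro y hy
      induction hy using Submodule.mul_induction_on' with
      | mem_mul_mem x hx z hz => exact h' x hx z hz
      | add x _ y _ hx hy => rw [W_add]; exact InQ_add Q hx hy
    apply hcon
    have := hall (b i) (le_mul 𝒜 hgen k' (hb i))
    rwa [W_self] at this
  choose f hf z hz hfz using hfz
  let wc : Fin d → Fin d → ↥(Cc 𝒜 d) := fun i j =>
    ⟨W (A := A) b i (f j * z i) 1, W_mem b hb i (hdeg (f j) (hf j) (z i) (hz i))⟩
  haveI : IsDomain (↥(Cc 𝒜 d) ⧸ Q) := Ideal.Quotient.isDomain Q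
  obtain ⟨α, hα⟩ := exists_coeff_ne_zero d (fun i j => Ideal.Quotient.mk Q (wc i j)) (by
    intro i h
    rw [Ideal.Quotient.eq_zero_iff_mem] at h
    exact hfz i ⟨_, h⟩)
  apply hα
  simp only [← map_prod, ← map_sum]
  rw [Ideal.Quotient.eq_zero_iff_mem]
  obtain ⟨hPC, hPQ⟩ := hQ (Pol A d f α) (Pol_mem_TS d f α) (Pol_mem_span 𝒜 d hf α)
  have hE : PiTensorProduct.tprod A z * PiTensorProduct.tprod A (fun l => b l ^ (1 * (d - 1))) ∈
      Cc 𝒜 d := by
    refine mul_mem (tprod_mem_Cc 𝒜 d hz)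
      (tprod_mem_Cc 𝒜 d (k := (1 * (d - 1)) * (k' + 1)) fun l => ?_)
    have := SetLike.pow_mem_graded (1 * (d - 1)) (hb l)
    rwa [smul_eq_mul] at this
  have key : (∑ γ ∈ (Finset.univ : Finset (Fin d → Fin d)).filter (fun γ => cnt γ = α),
      ∏ i, wc i (γ i)) = ⟨Pol A d f α, hPC⟩ * ⟨_, hE⟩ := by
    apply Subtype.ext
    rw [MulMemClass.coe_mul, AddSubmonoidClass.coe_finset_sum]
    simp only [SubmonoidClass.coe_finset_prod]
    show ∑ γ ∈ (Finset.univ : Finset (Fin d → Fin d)).filter (fun γ => cnt γ = α),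
      ∏ i, W (A := A) b i (f (γ i) * z i) 1 = _
    unfold Pol
    rw [Finset.sum_mul]
    refine Finset.sum_congr rfl fun γ _ => ?_
    rw [prod_W' b (fun i => f (γ i) * z i) 1]
    have : (fun i => f (γ i) * z i) = (fun i => f (γ i)) * z := rfl
    rw [this, ← PiTensorProduct.tprod_mul_tprod, mul_assoc]
  rw [key]
  exact Q.mul_mem_right _ hPQ

end Groth.Agent.Helper4.SymGrG
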