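import Groth.Prelude.Def_SymProd
import Mathlib

/-!
# Fibre powers of an affine open over an affine open are affine opens of the fibre power (helper4)
-/

set_option autoImplicit false
universe u
open CategoryTheory CategoryTheory.Limits AlgebraicGeometry

namespace Groth.Agent.Helper4.SymOrbB

theorem isAffineOpen_W {X S : Scheme.{u}} (f : X ⟶ S) (d : ℕ) (U : X.Opens) (hU : IsAffineOpen U)
    (V : S.Opens) (hV : IsAffineOpen V) (hUV : U ≤ f ⁻¹ᵁ V) (W : (SymProd.fibPow f d).Opens)
    (hW : ∀ z, z ∈ W ↔ (WidePullback.base (fun _ : Fin d => f)) z ∈ V ∧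
      ∀ i, (WidePullback.π (fun _ : Fin d => f) i) z ∈ U) :
    IsAffineOpen W := by
  haveI : IsAffine U.toScheme := hU
  haveI : IsAffine V.toScheme := hV
  let fU : U.toScheme ⟶ V.toScheme := f.resLE V U hUV
  have hWb : W ≤ (WidePullback.base (fun _ : Fin d => f)) ⁻¹ᵁ V := fun z hz => ((hW z).1 hz).1
  have hWi : ∀ i, W ≤ (WidePullback.π (fun _ : Fin d => f) i) ⁻¹ᵁ U :=
    fun i z hz => ((hW z).1 hz).2 i
  let b : W.toScheme ⟶ V.toScheme := (WidePullback.base (fun _ : Fin d => f)).resLE V W hWb
  let a : ∀ i : Fin d, W.toScheme ⟶ U.toScheme :=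
    fun i => (WidePullback.π (fun _ : Fin d => f) i).resLE U W (hWi i)
  have hab : ∀ i, a i ≫ fU = b := by
    intro i
    rw [← cancel_mono V.ι]
    simp only [a, b, fU, Category.assoc, Scheme.Hom.resLE_comp_ι, Scheme.Hom.resLE_comp_ι_assoc,
      WidePullback.π_arrow]
  let PU : Scheme.{u} := widePullback V.toScheme (fun _ : Fin d => U.toScheme) (fun _ => fU)
  haveI : IsAffine PU := by
    haveI : ∀ i : WidePullbackShape (Fin d), IsAffine
        ((WidePullbackShape.wideCospan V.toScheme (fun _ : Fin d => U.toScheme) fun _ => fU).obj i) := by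
      intro i
      cases i with
      | none => exact hV
      | some i => exact hU
    exact Scheme.isAffine_of_isLimit (limit.cone _) (limit.isLimit _)
  let k : W.toScheme ⟶ PU := WidePullback.lift b a hab
  let j : PU ⟶ SymProd.fibPow f d :=
    WidePullback.lift (WidePullback.base (fun _ : Fin d => fU) ≫ V.ι)
      (fun i => WidePullback.π (fun _ : Fin d => fU) i ≫ U.ι) (by
        intro i
        rw [Category.assoc, ← Scheme.Hom.resLE_comp_ι f hUV, ← Category.assoc]
        congr 1
        exact WidePullback.π_arrow _ i)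
  have hj : Set.range j ⊆ (W : Set ↥(SymProd.fibPow f d)) := by
    rintro _ ⟨y, rfl⟩
    show j y ∈ W
    rw [hW]
    constructor
    · rw [← Scheme.Hom.comp_apply]
      simp only [j, WidePullback.lift_base, Scheme.Hom.comp_apply]
      exact (WidePullback.base (fun _ : Fin d => fU) y).2
    · intro i
      rw [← Scheme.Hom.comp_apply]
      simp only [j, WidePullback.lift_π, Scheme.Hom.comp_apply]
      exact (WidePullback.π (fun _ : Fin d => fU) i y).2
  let j' : PU ⟶ W.toScheme := IsOpenImmersion.lift W.ι j (by
    rw [Scheme.Opens.range_ι]; exact hj)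
  have hj' : j' ≫ W.ι = j := IsOpenImmersion.lift_fac _ _ _
  have h1 : k ≫ j' = 𝟙 _ := by
    rw [← cancel_mono W.ι, Category.assoc, hj', Category.id_comp]
    apply WidePullback.hom_ext
    · intro i
      simp only [k, j, a, Category.assoc, WidePullback.lift_π, WidePullback.lift_π_assoc,
        Scheme.Hom.resLE_comp_ι]
    · simp only [k, j, b, Category.assoc, WidePullback.lift_base, WidePullback.lift_base_assoc,
        Scheme.Hom.resLE_comp_ι]
  have h2 : j' ≫ k = 𝟙 _ := by
    apply WidePullback.hom_ext
    · intro i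
      rw [← cancel_mono U.ι]
      simp only [k, a, Category.assoc, WidePullback.lift_π, Category.id_comp,
        Scheme.Hom.resLE_comp_ι]
      rw [← Category.assoc, hj']
      simp only [j, WidePullback.lift_π]
    · rw [← cancel_mono V.ι]
      simp only [k, b, Category.assoc, WidePullback.lift_base, Category.id_comp,
        Scheme.Hom.resLE_comp_ι]
      rw [← Category.assoc, hj']
      simp only [j, WidePullback.lift_base]
  haveI : IsIso k := ⟨j', h1, h2⟩
  exact IsAffine.of_isIso k

end Groth.Agent.Helper4.SymOrbB
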