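import Groth.Agent.Helper4.GeomRedT
import Groth.Agent.Helper4.LazLiteA
import Mathlib

/-!
# Tensor powers of an algebra with geometrically reduced fibres (helper4)
-/

set_option autoImplicit false
universe u
open scoped TensorProduct

namespace Groth.Agent.Helper4.TPowAlg

open Groth.Agent.Helper4.GeomRedT Groth.Agent.Helper4.LazLiteA

variable {A : Type u} [CommRing A] {B : Type u} [CommRing B] [Algebra A B]

/-- the tensor power over an empty index type is the base ring -/
noncomputable def emptyAlgEquiv (ι : Type) [IsEmpty ι] : (⨂[A] _ : ι, B) ≃ₐ[A] A :=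
  AlgEquiv.ofLinearEquiv (PiTensorProduct.isEmptyEquiv ι)
    (by rw [PiTensorProduct.one_def, PiTensorProduct.isEmptyEquiv_apply_tprod])
    ((LinearMap.map_mul_iff _).mpr <| by
      ext u v
      simp [PiTensorProduct.tprod_mul_tprod])

/-- the index equivalence -/
def eIdx (d : ℕ) : Fin d ⊕ PUnit.{1} ≃ Fin (d + 1) :=
  (Equiv.optionEquivSumPUnit (Fin d)).symm.trans (finSuccEquivLast (n := d)).symm

/-- the linear equivalence `T^d(B) ⊗ B ≃ T^{d+1}(B)` -/
noncomputable def stepLin (d : ℕ) :
    (⨂[A] _ : Fin d, B) ⊗[A] B ≃ₗ[A] ⨂[A] _ : Fin (d + 1), B :=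
  (Ψ (A := A) (ι := Fin d) B).trans (PiTensorProduct.reindex A (fun _ => B) (eIdx d))

theorem stepLin_tmul (d : ℕ) (u : Fin d → B) (b : B) :
    stepLin (A := A) d (PiTensorProduct.tprod A u ⊗ₜ[A] b) =
      PiTensorProduct.tprod A (fun i => Sum.elim u (fun _ => b) ((eIdx d).symm i)) := by
  unfold stepLin
  rw [LinearEquiv.trans_apply, Ψ_tmul, PiTensorProduct.reindex_tprod]

/-- the algebra isomorphism `T^d(B) ⊗ B ≃ T^{d+1}(B)` -/
noncomputable def stepAlgEquiv (d : ℕ) :
    (⨂[A] _ : Fin d, B) ⊗[A] B ≃ₐ[A] ⨂[A] _ : Fin (d + 1), B :=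
  AlgEquiv.ofLinearEquiv (stepLin d)
    (by
      rw [Algebra.TensorProduct.one_def, PiTensorProduct.one_def, stepLin_tmul,
        PiTensorProduct.one_def]
      congr 1
      funext i
      cases (eIdx d).symm i <;> rfl)
    ((LinearMap.map_mul_iff _).mpr <| by
      ext u b u' b'
      simp only [LinearMap.compr₂_apply, LinearMap.compl₂_apply, LinearMap.comp_apply,
        LinearMap.mul_apply', TensorProduct.AlgebraTensorModule.curry_apply,
        TensorProduct.curry_apply, LinearMap.coe_restrictScalars, LinearMap.compMultilinearMap_apply,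
        LinearEquiv.coe_coe, Algebra.TensorProduct.tmul_mul_tmul, PiTensorProduct.tprod_mul_tprod,
        stepLin_tmul]
      congr 1
      funext i
      show _ = Sum.elim u (fun _ => b) ((eIdx d).symm i) *
        Sum.elim u' (fun _ => b') ((eIdx d).symm i)
      generalize (eIdx d).symm i = j
      cases j <;> rfl)

/-- **Tensor powers inherit geometrically reduced fibres.** -/
theorem GR_tpow (hB : GR A B) (d : ℕ) : GR A (⨂[A] _ : Fin d, B) := by
  induction d with
  | zero => exact GR_of_algEquiv (emptyAlgEquiv (A := A) (B := B) (Fin 0)).symm GR_self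
  | succ d ih => exact GR_of_algEquiv (stepAlgEquiv d) (GR_tensor ih hB)

end Groth.Agent.Helper4.TPowAlg
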