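import Groth.Prelude.Def_SymTen
import Mathlib

/-!
# Symmetric tensors of a finite type algebra over a Noetherian ring are of finite type (helper4)
-/

set_option autoImplicit false
universe u
open scoped TensorProduct

namespace Groth.Agent.Helper4.TSFinA

variable (A : Type u) [CommRing A] (B : Type u) [CommRing B] [Algebra A B] (d : ℕ)

/-- the tensor power of a finite type algebra is of finite type -/
theorem finiteType_tensorPower [Algebra.FiniteType A B] :
    Algebra.FiniteType A (⨂[A] _ : Fin d, B) := by
  classical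
  obtain ⟨s, hs⟩ := (Algebra.FiniteType.out : (⊤ : Subalgebra A B).FG)
  refine ⟨⟨(Finset.univ ×ˢ s).image
    (fun p : Fin d × B => PiTensorProduct.singleAlgHom (R := A) (A := fun _ : Fin d => B) p.1 p.2), ?_⟩⟩
  rw [eq_top_iff]
  set T := Algebra.adjoin A (((Finset.univ ×ˢ s).image
    (fun p : Fin d × B => PiTensorProduct.singleAlgHom (R := A) (A := fun _ : Fin d => B) p.1 p.2) :
      Finset (⨂[A] _ : Fin d, B)) : Set (⨂[A] _ : Fin d, B)) with hT
  have h1 : ∀ (j : Fin d) (b : B),
      PiTensorProduct.singleAlgHom (R := A) (A := fun _ : Fin d => B) j b ∈ T := by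
    intro j b
    have hb : b ∈ Algebra.adjoin A (s : Set B) := by rw [hs]; trivial
    have h2 : (Algebra.adjoin A (s : Set B)).map
        (PiTensorProduct.singleAlgHom (R := A) (A := fun _ : Fin d => B) j) ≤ T := by
      rw [AlgHom.map_adjoin]
      apply Algebra.adjoin_mono
      rintro _ ⟨b', hb', rfl⟩
      exact Finset.mem_coe.2 (Finset.mem_image.2 ⟨(j, b'), by simpa using hb', rfl⟩)
    exact h2 ⟨b, hb, rfl⟩
  have h3 : ∀ f : Fin d → B, PiTensorProduct.tprod A f ∈ T := by
    intro f
    have : PiTensorProduct.tprod A f =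
        ∏ j, PiTensorProduct.singleAlgHom (R := A) (A := fun _ : Fin d => B) j (f j) := by
      simp only [PiTensorProduct.singleAlgHom_apply, MonoidHom.mulSingle_apply]
      rw [← PiTensorProduct.tprod_prod]
      exact congrArg _ (Finset.univ_prod_mulSingle f).symm
    rw [this]
    exact Subalgebra.prod_mem _ fun j _ => h1 j (f j)
  intro t _
  have ht : t ∈ Submodule.span A (Set.range (PiTensorProduct.tprod A (s := fun _ : Fin d => B))) := by
    rw [PiTensorProduct.span_tprod_eq_top]
    trivial
  have hle : Submodule.span A (Set.range (PiTensorProduct.tprod A (s := fun _ : Fin d => B))) ≤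
      Subalgebra.toSubmodule T := by
    rw [Submodule.span_le]
    rintro _ ⟨f, rfl⟩
    exact h3 f
  exact hle ht

/-- the permutation action on the tensor power -/
noncomputable def permAction : MulSemiringAction (Equiv.Perm (Fin d)) (⨂[A] _ : Fin d, B) where
  smul σ t := SymTen.perm A B d σ t
  one_smul t := by
    show SymTen.perm A B d 1 t = t
    rw [SymTen.perm_apply]
    show PiTensorProduct.reindex A (fun _ : Fin d => B) (Equiv.refl _) t = t
    rw [PiTensorProduct.reindex_refl]
    rfl
  mul_smul σ τ t := by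
    show SymTen.perm A B d (σ * τ) t = SymTen.perm A B d σ (SymTen.perm A B d τ t)
    rw [SymTen.perm_apply, SymTen.perm_apply, SymTen.perm_apply]
    show PiTensorProduct.reindex A (fun _ : Fin d => B) (τ.trans σ) t = _
    rw [← PiTensorProduct.reindex_reindex]
  smul_zero σ := map_zero _
  smul_add σ x y := map_add _ x y
  smul_one σ := map_one _
  smul_mul σ x y := map_mul _ x y

theorem permAction_smul (σ : Equiv.Perm (Fin d)) (t : ⨂[A] _ : Fin d, B) :
    (permAction A B d).toMulAction.toSMul.smul σ t = SymTen.perm A B d σ t := rfl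

/-- **Symmetric tensors of a finite type algebra over a Noetherian ring are of finite type.** -/
theorem finiteType_TS [IsNoetherianRing A] [Algebra.FiniteType A B] :
    Algebra.FiniteType A (SymTen.TS A B d) := by
  letI := permAction A B d
  haveI : SMulCommClass (Equiv.Perm (Fin d)) (SymTen.TS A B d) (⨂[A] _ : Fin d, B) := by
    constructor
    intro σ x t
    show SymTen.perm A B d σ ((x : ⨂[A] _ : Fin d, B) * t) =
      (x : ⨂[A] _ : Fin d, B) * SymTen.perm A B d σ t
    rw [map_mul, SymTen.perm_apply A B d σ (x : ⨂[A] _ : Fin d, B), x.2 σ]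
  haveI : Algebra.IsInvariant (SymTen.TS A B d) (⨂[A] _ : Fin d, B) (Equiv.Perm (Fin d)) := by
    constructor
    intro t ht
    refine ⟨⟨t, fun σ => ?_⟩, rfl⟩
    rw [← SymTen.perm_apply]
    exact ht σ
  haveI : Algebra.IsIntegral (SymTen.TS A B d) (⨂[A] _ : Fin d, B) :=
    Algebra.IsInvariant.isIntegral (SymTen.TS A B d) (⨂[A] _ : Fin d, B) (Equiv.Perm (Fin d))
  haveI hft : Algebra.FiniteType A (⨂[A] _ : Fin d, B) := finiteType_tensorPower A B d
  haveI : Algebra.FiniteType (SymTen.TS A B d) (⨂[A] _ : Fin d, B) :=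
    Algebra.FiniteType.of_restrictScalars_finiteType A _ _
  haveI : Module.Finite (SymTen.TS A B d) (⨂[A] _ : Fin d, B) := Algebra.IsIntegral.finite
  exact ⟨fg_of_fg_of_fg A (SymTen.TS A B d) (⨂[A] _ : Fin d, B) hft.out Module.Finite.fg_top
    Subtype.val_injective⟩

end Groth.Agent.Helper4.TSFinA
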