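import Groth.Agent.Helper4.TSFinA
import Groth.Agent.Helper4.ZCInvA
import Groth.Agent.Helper4.ZCGamC
import Mathlib

/-!
# Comparison of tensor powers over `ℤ` and over `A`; symmetric tensors of a polynomial ring in
finitely many variables form a finite type algebra over any base ring (helper4)
-/

set_option autoImplicit false
universe u
open scoped TensorProduct

namespace Groth.Agent.Helper4.TSFinB

open Groth.Agent.Helper4.NormExpA Groth.Agent.Helper4.NormExpB Groth.Agent.Helper4.GammaSpan

section comparison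

variable {P : Type} [CommRing P] {A : Type u} [CommRing A] {Q : Type u} [CommRing Q] [Algebra A Q]
  (d : ℕ) (φ : P →+* Q)

/-- the `ℤ`-multilinear map `(p_i) ↦ φ p_1 ⊗ ⋯ ⊗ φ p_d` -/
noncomputable def ml : MultilinearMap ℤ (fun _ : Fin d => P) (⨂[A] _ : Fin d, Q) where
  toFun p := PiTensorProduct.tprod A (fun i => φ (p i))
  map_update_add' := by
    intro _ p i x y
    have h : ∀ z, (fun j => φ (Function.update p i z j)) =
        Function.update (fun j => φ (p j)) i (φ z) := by
      intro z; funext j; exact Function.apply_update (fun _ => φ) p i z j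
    rw [h, h, h, map_add, MultilinearMap.map_update_add]
  map_update_smul' := by
    intro _ p i c x
    have h : ∀ z, (fun j => φ (Function.update p i z j)) =
        Function.update (fun j => φ (p j)) i (φ z) := by
      intro z; funext j; exact Function.apply_update (fun _ => φ) p i z j
    rw [h, h, map_zsmul, ← Int.cast_smul_eq_zsmul A, MultilinearMap.map_update_smul,
      Int.cast_smul_eq_zsmul]

theorem ml_apply (p : Fin d → P) :
    ml (A := A) d φ p = PiTensorProduct.tprod A (fun i => φ (p i)) := rfl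

theorem ml_one : ml (A := A) d φ (fun _ => 1) = 1 := by
  rw [ml_apply, PiTensorProduct.one_def]
  congr 1
  funext i
  exact map_one φ

theorem ml_mul (x y : Fin d → P) :
    ml (A := A) d φ (x * y) = ml (A := A) d φ x * ml (A := A) d φ y := by
  rw [ml_apply, ml_apply, ml_apply, PiTensorProduct.tprod_mul_tprod]
  congr 1
  funext i
  exact map_mul φ _ _

/-- the comparison ring map between tensor powers -/
noncomputable def Ψ : (⨂[ℤ] _ : Fin d, P) →+* (⨂[A] _ : Fin d, Q) :=
  letI : Algebra ℤ (⨂[A] _ : Fin d, Q) := Ring.toIntAlgebra _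
  (PiTensorProduct.liftAlgHom (R := ℤ) (S := ⨂[A] _ : Fin d, Q) (ml (A := A) d φ) (ml_one d φ)
    (ml_mul d φ)).toRingHom

theorem Ψ_tprod (p : Fin d → P) :
    Ψ (A := A) d φ (PiTensorProduct.tprod ℤ p) = PiTensorProduct.tprod A (fun i => φ (p i)) := by
  unfold Ψ
  simp only [AlgHom.toRingHom_eq_coe, RingHom.coe_coe, PiTensorProduct.liftAlgHom_apply]
  rw [PiTensorProduct.lift.tprod]
  rfl

theorem Ψ_perm (σ : Equiv.Perm (Fin d)) (t : ⨂[ℤ] _ : Fin d, P) :
    Ψ (A := A) d φ (SymTen.perm ℤ P d σ t) = SymTen.perm A Q d σ (Ψ (A := A) d φ t) := by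
  induction t using PiTensorProduct.induction_on with
  | smul_tprod r x =>
    have hr : r • PiTensorProduct.tprod ℤ x = (r : ⨂[ℤ] _ : Fin d, P) * PiTensorProduct.tprod ℤ x := by
      rw [← zsmul_eq_mul]
    simp only [hr, map_mul, map_intCast, SymTen.perm_tprod, Ψ_tprod]
  | add x y hx hy => rw [map_add, map_add, map_add, map_add, hx, hy]

theorem Ψ_mem_TS {t : ⨂[ℤ] _ : Fin d, P} (ht : t ∈ SymTen.TS ℤ P d) :
    Ψ (A := A) d φ t ∈ SymTen.TS A Q d := by
  intro σ
  rw [← SymTen.perm_apply, ← Ψ_perm, SymTen.perm_apply, ht σ]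

theorem Ψ_orb {L : Type*} [Fintype L] [DecidableEq L] (m : L → P) (ν : L →₀ ℕ) :
    Ψ (A := A) d φ (orb m ν) = orb (fun l => φ (m l)) ν := by
  unfold orb
  rw [map_sum]
  refine Finset.sum_congr rfl fun w _ => ?_
  split_ifs
  · rw [Ψ_tprod]
  · rw [map_zero]

end comparison

section span

variable {A : Type u} [CommRing A] {P : Type u} [CommRing P] [Algebra A P] {d : ℕ}
  {I : Type u} (e : Module.Basis I A P)

/-- invariant tensors over a free algebra are combinations of orbit sums of basis elements -/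
theorem mem_span_orb {t : ⨂[A] _ : Fin d, P} (ht : t ∈ SymTen.TS A P d) :
    ∃ Ls : Finset I, ∀ [DecidableEq Ls], t ∈ Submodule.span A
      (Set.range fun ν : Ls →₀ ℕ => (orb (fun l : Ls => e l) ν : ⨂[A] _ : Fin d, P)) := by
  classical
  obtain ⟨Ls, c, hzc, hc⟩ := Groth.Agent.Helper4.ZCInvA.exists_letters e A ((1 : A) ⊗ₜ[A] t)
  have hsym : ∀ (w : Fin d → Ls) (σ : Equiv.Perm (Fin d)), c (w ∘ σ) = c w := by
    intro w σ
    rw [hc, hc]
    have := Groth.Agent.Helper4.ZCInvA.Θ_perm e A σ ((1 : A) ⊗ₜ[A] t) (fun i => (w i : I))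
    rw [LinearMap.lTensor_tmul, AlgHom.toLinearMap_apply, SymTen.perm_apply, ht σ] at this
    exact this.symm
  rw [Groth.Agent.Helper4.ZCInvA.sum_eq_sum_orb (fun l : Ls => e l) c hsym] at hzc
  refine ⟨Ls, ?_⟩
  intro inst
  have h2 := congrArg (TensorProduct.lid A _) hzc
  rw [TensorProduct.lid_tmul, one_smul, map_sum] at h2
  rw [h2]
  refine Submodule.sum_mem _ fun ν _ => ?_
  rw [TensorProduct.lid_tmul]
  exact Submodule.smul_mem _ _ (Submodule.subset_span ⟨ν, by congr!⟩)

end span

section main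

variable (A : Type u) [CommRing A] (r d : ℕ)

/-- the comparison map of polynomial rings -/
noncomputable def φ : MvPolynomial (Fin r) ℤ →+* MvPolynomial (ULift.{u} (Fin r)) A :=
  (MvPolynomial.map (Int.castRingHom A)).comp
    (MvPolynomial.rename (R := ℤ) (ULift.up : Fin r → ULift.{u} (Fin r))).toRingHom

theorem φ_monomial (l : ULift.{u} (Fin r) →₀ ℕ) :
    φ A r (MvPolynomial.monomial (l.mapDomain ULift.down) 1) = MvPolynomial.monomial l 1 := by
  unfold φ
  rw [RingHom.comp_apply]
  show MvPolynomial.map (Int.castRingHom A) (MvPolynomial.rename ULift.up _) = _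
  rw [MvPolynomial.rename_monomial, MvPolynomial.map_monomial, ← Finsupp.mapDomain_comp]
  have : (ULift.up ∘ ULift.down : ULift.{u} (Fin r) → ULift.{u} (Fin r)) = id := rfl
  rw [this, Finsupp.mapDomain_id, map_one]

/-- **Symmetric tensors of a polynomial ring in finitely many variables are of finite type over
any base ring.** -/
theorem fg_TS_mvPolynomial :
    (SymTen.TS A (MvPolynomial (ULift.{u} (Fin r)) A) d).FG := by
  classical
  haveI : Algebra.FiniteType ℤ (SymTen.TS ℤ (MvPolynomial (Fin r) ℤ) d) :=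
    Groth.Agent.Helper4.TSFinA.finiteType_TS ℤ _ d
  obtain ⟨G, hG⟩ := (Subalgebra.fg_iff_finiteType _).2 this
  refine ⟨G.image (Ψ (A := A) d (φ A r)), ?_⟩
  have key : ∀ x ∈ Algebra.adjoin ℤ (G : Set (⨂[ℤ] _ : Fin d, MvPolynomial (Fin r) ℤ)),
      Ψ (A := A) d (φ A r) x ∈ Algebra.adjoin A ((G.image (Ψ (A := A) d (φ A r)) : Finset _) :
        Set (⨂[A] _ : Fin d, MvPolynomial (ULift.{u} (Fin r)) A)) := by
    intro x hx
    induction hx using Algebra.adjoin_induction with
    | mem x hx => exact Algebra.subset_adjoin (Finset.mem_coe.2 (Finset.mem_image_of_mem _ hx))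
    | algebraMap n => rw [eq_intCast, map_intCast]; exact intCast_mem _ n
    | add x y _ _ hx hy => rw [map_add]; exact add_mem hx hy
    | mul x y _ _ hx hy => rw [map_mul]; exact mul_mem hx hy
  apply le_antisymm
  · rw [Algebra.adjoin_le_iff]
    intro x hx
    obtain ⟨g, hg, rfl⟩ := Finset.mem_image.1 (Finset.mem_coe.1 hx)
    exact Ψ_mem_TS d (φ A r) (hG ▸ Algebra.subset_adjoin (Finset.mem_coe.2 hg))
  · intro t ht
    obtain ⟨Ls, hspan'⟩ := mem_span_orb (MvPolynomial.basisMonomials (ULift.{u} (Fin r)) A) ht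
    have hspan := hspan'
    refine (Submodule.span_le (p := Subalgebra.toSubmodule (Algebra.adjoin A _))).2 ?_ hspan
    rintro _ ⟨ν, rfl⟩
    have h1 : (fun l : Ls => MvPolynomial.basisMonomials (ULift.{u} (Fin r)) A l) =
        fun l : Ls => φ A r (MvPolynomial.monomial ((l : ULift.{u} (Fin r) →₀ ℕ).mapDomain ULift.down) 1) := by
      funext l
      rw [φ_monomial, MvPolynomial.coe_basisMonomials]
    show orb _ ν ∈ Algebra.adjoin A _
    rw [h1, ← Ψ_orb]
    apply key
    rw [hG]
    exact Groth.Agent.Helper4.ZCGamA.Cgen_le_TS ℤ (MvPolynomial (Fin r) ℤ) d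
      (Groth.Agent.Helper4.ZCInvA.orb_mem_span' _ ν)

end main

end Groth.Agent.Helper4.TSFinB
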