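import Groth.Agent.Helper4.NormExpE
import Groth.Agent.Helper4.FreeGammaC
import Groth.Agent.Helper4.LawDescend

/-!
# Construction of the degree `d!` multiplicative law `T^d(B) → Γ^d(B)`, part A: the free cover and
the linear map `g` (helper4)
-/

set_option autoImplicit false
universe u
open scoped TensorProduct

namespace Groth.Agent.Helper4.ZCNormA

open Groth.Agent.Helper4.NormExpA Groth.Agent.Helper4.NormExpB Groth.Agent.Helper4.NormExpC
  Groth.Agent.Helper4.NormExpD Groth.Agent.Helper4.NormExpE Groth.Agent.Helper4.PolLaw1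
  Groth.Agent.Helper4.GammaSpan

variable {A : Type u} [CommRing A] {B : Type u} [CommRing B] [Algebra A B]
  {Ct : Type u} [CommRing Ct] [Algebra A Ct] {d : ℕ}

variable (A B) in
/-- the free cover of `B` -/
noncomputable def π : MvPolynomial B A →ₐ[A] B := MvPolynomial.aeval id

theorem π_surj : Function.Surjective (π A B) := fun b => ⟨MvPolynomial.X b, by simp [π]⟩

variable (γ : PolLaw.MulLaw A B Ct d)

/-- the universal law pulled back to the free cover -/
noncomputable def Fπ : PolLaw.MulLaw A (MvPolynomial B A) Ct d := γ.precomp (π A B)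

theorem Fπ_toFun' (S : Type u) [CommSemiring S] [Algebra A S] (z : S ⊗[A] MvPolynomial B A) :
    (Fπ γ).law.toFun' S z = γ.law.toFun' S ((π A B).toLinearMap.lTensor S z) := rfl

/-- the linear map from the tensor power of the free cover -/
noncomputable def gF : (⨂[A] _ : Fin d, MvPolynomial B A) →ₗ[A] Ct :=
  Groth.Agent.Helper4.FreeLawC.g (MvPolynomial.basisMonomials B A) (Fπ γ).law d

variable (A B d) in
/-- the span of the values of the tensor power law of the free cover -/
noncomputable def TSS : Submodule A (⨂[A] _ : Fin d, MvPolynomial B A) :=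
  Submodule.span A (GenSet (SymTen.tpowLaw A (MvPolynomial B A) d).law)

theorem one_mem_TSS : (1 : ⨂[A] _ : Fin d, MvPolynomial B A) ∈ TSS A B d :=
  (Cgen (SymTen.tpowLaw A (MvPolynomial B A) d)).one_mem

theorem mul_mem_TSS {t t' : ⨂[A] _ : Fin d, MvPolynomial B A} (ht : t ∈ TSS A B d)
    (ht' : t' ∈ TSS A B d) : t * t' ∈ TSS A B d :=
  (Cgen (SymTen.tpowLaw A (MvPolynomial B A) d)).mul_mem ht ht'

theorem gF_one : gF γ 1 = 1 := Groth.Agent.Helper4.FreeGammaC.g_one _ _

theorem gF_mul {t t' : ⨂[A] _ : Fin d, MvPolynomial B A} (ht : t ∈ TSS A B d)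
    (ht' : t' ∈ TSS A B d) : gF γ (t * t') = gF γ t * gF γ t' :=
  Groth.Agent.Helper4.FreeGammaC.g_mul_span _ _ ht ht'

theorem gF_ev (S : Type u) [CommRing S] [Algebra A S] (ℓ : S →ₗ[A] A)
    (z : S ⊗[A] MvPolynomial B A) :
    gF γ (ev ℓ ((SymTen.tpowLaw A (MvPolynomial B A) d).law.toFun' S z)) =
      ev ℓ (γ.law.toFun' S ((π A B).toLinearMap.lTensor S z)) :=
  Groth.Agent.Helper4.FreeGammaC.g_ev (MvPolynomial.basisMonomials B A) (Fπ γ) S ℓ z

theorem perm_TSS {t : ⨂[A] _ : Fin d, MvPolynomial B A} (ht : t ∈ TSS A B d)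
    (σ : Equiv.Perm (Fin d)) : SymTen.perm A (MvPolynomial B A) d σ t = t := by
  rw [SymTen.perm_apply]
  exact Groth.Agent.Helper4.ZCPowA.span_GenSet_le_TS ht σ

theorem π_gen {L : Type} [Fintype L] (m : L → MvPolynomial B A) :
    (π A B).toLinearMap.lTensor (MvPolynomial L A) (gen m) = gen (fun l => π A B (m l)) := by
  simp [gen, map_sum]

theorem gF_orb {L : Type} [Fintype L] [DecidableEq L] (m : L → MvPolynomial B A) (ν : L →₀ ℕ) :
    gF γ (orb m ν) = cf ν (γ.law.toFun' (MvPolynomial L A) (gen (fun l => π A B (m l)))) := by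
  rw [orb_eq_cf]
  have h := gF_ev γ (MvPolynomial L A) (MvPolynomial.lcoeff A ν) (gen m)
  rw [π_gen] at h
  exact h

theorem gF_orb_eq_zero {L : Type} [Fintype L] [DecidableEq L] (m : L → MvPolynomial B A)
    (ν : L →₀ ℕ) (l : L) (hl : ν l ≠ 0) (hm : π A B (m l) = 0) : gF γ (orb m ν) = 0 := by
  rw [gF_orb]
  exact cf_eq_zero_of_kill γ.law (fun l => π A B (m l)) l hm ν hl

/-- surjectivity of `g` on the span, from the universal property -/
theorem gF_surj (hγ : PolLaw.IsGammaD γ) (x : Ct) : ∃ t ∈ TSS A B d, gF γ t = x := by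
  have hx : x ∈ Submodule.span A (GenSet γ.law) := by
    rw [← mem_Cgen_iff, Cgen_eq_top γ hγ]
    trivial
  induction hx using Submodule.span_induction with
  | mem x hx =>
    obtain ⟨S, _, _, ℓ, z', rfl⟩ := hx
    obtain ⟨z, rfl⟩ := LinearMap.lTensor_surjective S (g := (π A B).toLinearMap) π_surj z'
    exact ⟨ev ℓ ((SymTen.tpowLaw A (MvPolynomial B A) d).law.toFun' S z),
      Submodule.subset_span ⟨S, inferInstance, inferInstance, ℓ, z, rfl⟩, gF_ev γ S ℓ z⟩
  | zero => exact ⟨0, zero_mem _, map_zero _⟩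
  | add x y _ _ hx hy =>
    obtain ⟨t, ht, rfl⟩ := hx
    obtain ⟨t', ht', rfl⟩ := hy
    exact ⟨t + t', add_mem ht ht', map_add _ _ _⟩
  | smul r x _ hx =>
    obtain ⟨t, ht, rfl⟩ := hx
    exact ⟨r • t, Submodule.smul_mem _ r ht, map_smul _ _ _⟩

/-- compatibility of `g` with the comparison map -/
theorem Φ_gF (Φ : Ct →ₐ[A] (⨂[A] _ : Fin d, B))
    (hΦ : ∀ (S : Type u) [CommSemiring S] [Algebra A S] (z : S ⊗[A] B),
      Φ.toLinearMap.lTensor S (γ.law.toFun' S z) = (SymTen.tpowLaw A B d).law.toFun' S z)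
    {t : ⨂[A] _ : Fin d, MvPolynomial B A} (ht : t ∈ TSS A B d) :
    Φ (gF γ t) = SymTen.tmap A d (π A B) t := by
  induction ht using Submodule.span_induction with
  | mem t ht =>
    obtain ⟨S, _, _, ℓ, z, rfl⟩ := ht
    rw [gF_ev]
    have h2 := Groth.Agent.Helper4.PolarTS.ev_lTensor ℓ Φ.toLinearMap
      (γ.law.toFun' S ((π A B).toLinearMap.lTensor S z))
    have h3 := Groth.Agent.Helper4.PolarTS.ev_lTensor ℓ (SymTen.tmap A d (π A B)).toLinearMap
      ((SymTen.tpowLaw A (MvPolynomial B A) d).law.toFun' S z)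
    rw [hΦ] at h2
    rw [Groth.Agent.Helper4.ZCPowA.tmap_tpow] at h3
    exact h2.symm.trans h3
  | zero => simp
  | add x y _ _ hx hy => rw [map_add, map_add, map_add, hx, hy]
  | smul r x _ hx => rw [map_smul, map_smul, map_smul, hx]

end Groth.Agent.Helper4.ZCNormA
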