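import Groth.Agent.Helper4.TSFinB
import Groth.Agent.Helper4.ZCNormA
import Mathlib

/-!
# `Γ^d_A(B)` is of finite type when `B` is (helper4)
-/

set_option autoImplicit false
universe u
open scoped TensorProduct

namespace Groth.Agent.Helper4.TSFinC

open Groth.Agent.Helper4.GammaSpan Groth.Agent.Helper4.PolLaw1

variable {A : Type u} [CommRing A] {B : Type u} [CommRing B] [Algebra A B]
  {Ct : Type u} [CommRing Ct] [Algebra A Ct] {d : ℕ}
  {P : Type u} [CommRing P] [Algebra A P] {I : Type u} (e : Module.Basis I A P)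
  (ρ : P →ₐ[A] B) (γ : PolLaw.MulLaw A B Ct d)

/-- the algebra map from the span of the values of the tensor power law of a free cover -/
noncomputable def gAlg : Cgen (SymTen.tpowLaw A P d) →ₐ[A] Ct where
  toFun x := Groth.Agent.Helper4.FreeLawC.g e (γ.precomp ρ).law d x.1
  map_one' := Groth.Agent.Helper4.FreeGammaC.g_one e (γ.precomp ρ)
  map_mul' x y := Groth.Agent.Helper4.FreeGammaC.g_mul_span e (γ.precomp ρ) x.2 y.2
  map_zero' := map_zero _
  map_add' x y := map_add _ _ _
  commutes' a := by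
    show Groth.Agent.Helper4.FreeLawC.g e (γ.precomp ρ).law d
      (algebraMap A (⨂[A] _ : Fin d, P) a) = _
    rw [Algebra.algebraMap_eq_smul_one, map_smul, Groth.Agent.Helper4.FreeGammaC.g_one e (γ.precomp ρ),
      Algebra.algebraMap_eq_smul_one]

theorem gAlg_surj (hρ : Function.Surjective ρ) (hγ : PolLaw.IsGammaD γ) :
    Function.Surjective (gAlg e ρ γ) := by
  intro x
  have hx : x ∈ Submodule.span A (GenSet γ.law) := by
    rw [← mem_Cgen_iff, Cgen_eq_top γ hγ]
    trivial
  induction hx using Submodule.span_induction with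
  | mem x hx =>
    obtain ⟨S, _, _, ℓ, z', rfl⟩ := hx
    obtain ⟨z, rfl⟩ := LinearMap.lTensor_surjective S (g := ρ.toLinearMap) hρ z'
    exact ⟨⟨ev ℓ ((SymTen.tpowLaw A P d).law.toFun' S z),
      Submodule.subset_span ⟨S, inferInstance, inferInstance, ℓ, z, rfl⟩⟩,
      Groth.Agent.Helper4.FreeGammaC.g_ev e (γ.precomp ρ) S ℓ z⟩
  | zero => exact ⟨0, map_zero _⟩
  | add x y _ _ hx hy =>
    obtain ⟨t, rfl⟩ := hx
    obtain ⟨t', rfl⟩ := hy
    exact ⟨t + t', map_add _ _ _⟩
  | smul r x _ hx =>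
    obtain ⟨t, rfl⟩ := hx
    exact ⟨r • t, map_smul _ _ _⟩

include e in
theorem finiteType_of_cover (hρ : Function.Surjective ρ) (hγ : PolLaw.IsGammaD γ)
    (hfg : (Cgen (SymTen.tpowLaw A P d)).FG) : Algebra.FiniteType A Ct := by
  haveI : Algebra.FiniteType A (Cgen (SymTen.tpowLaw A P d)) :=
    (Subalgebra.fg_iff_finiteType _).1 hfg
  exact Algebra.FiniteType.of_surjective (gAlg e ρ γ) (gAlg_surj e ρ γ hρ hγ)

/-- **`Γ^d_A(B)` is of finite type over `A` when `B` is.** -/
theorem finiteType_gamma [Algebra.FiniteType A B] (hγ : PolLaw.IsGammaD γ) :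
    Algebra.FiniteType A Ct := by
  obtain ⟨r, f, hf⟩ := Algebra.FiniteType.iff_quotient_mvPolynomial''.1
    (inferInstance : Algebra.FiniteType A B)
  let ρ : MvPolynomial (ULift.{u} (Fin r)) A →ₐ[A] B :=
    f.comp (MvPolynomial.rename ULift.down)
  have hρ : Function.Surjective ρ := by
    intro b
    obtain ⟨p, rfl⟩ := hf b
    refine ⟨MvPolynomial.rename ULift.up p, ?_⟩
    show f (MvPolynomial.rename ULift.down (MvPolynomial.rename ULift.up p)) = f p
    rw [MvPolynomial.rename_rename]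
    have : (ULift.down ∘ ULift.up : Fin r → Fin r) = id := rfl
    rw [this, MvPolynomial.rename_id_apply]
  refine finiteType_of_cover (MvPolynomial.basisMonomials (ULift.{u} (Fin r)) A) ρ γ hρ hγ ?_
  have hEq : Cgen (SymTen.tpowLaw A (MvPolynomial (ULift.{u} (Fin r)) A) d) =
      SymTen.TS A (MvPolynomial (ULift.{u} (Fin r)) A) d :=
    le_antisymm (Groth.Agent.Helper4.ZCGamA.Cgen_le_TS A _ d)
      (Groth.Agent.Helper4.ZCGamA.TS_le_Cgen Groth.Agent.Helper4.ZCGamC.Sur_of_flat)
  rw [hEq]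
  exact Groth.Agent.Helper4.TSFinB.fg_TS_mvPolynomial A r d

end Groth.Agent.Helper4.TSFinC
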