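import Groth.Agent.Helper4.LazLiteC
import Groth.Agent.Helper4.FlatQuotPure
import Mathlib

/-!
# Symmetric tensors of a flat module form a pure submodule of the tensor power (helper4)
-/

set_option autoImplicit false
universe u
open scoped TensorProduct

namespace Groth.Agent.Helper4.TSPure

open Groth.Agent.Helper4.LazLiteA Groth.Agent.Helper4.LazLiteB Groth.Agent.Helper4.LazLiteC

variable {A : Type u} [CommRing A] {M : Type u} [AddCommGroup M] [Module A M] {n : ℕ}

section free

variable {k : ℕ}

/-- the quotient of the tensor power of a finite free module by the symmetric tensors is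
projective -/
instance projective_quot :
    Module.Projective A ((⨂[A] _ : Fin n, (Fin k → A)) ⧸ TSsub A (Fin k → A) n) := by
  let c : (⨂[A] _ : Fin n, (Fin k → A)) →ₗ[A] (⨂[A] _ : Fin n, (Fin k → A)) :=
    LinearMap.id - retr₀
  have hc : TSsub A (Fin k → A) n ≤ LinearMap.ker c := by
    intro x hx
    rw [LinearMap.mem_ker, LinearMap.sub_apply, LinearMap.id_apply, retr₀_of_mem hx, sub_self]
  refine Module.Projective.of_split ((TSsub A (Fin k → A) n).liftQ c hc)
    (TSsub A (Fin k → A) n).mkQ ?_
  apply LinearMap.ext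
  intro q
  obtain ⟨x, rfl⟩ := Submodule.mkQ_surjective _ q
  show Submodule.Quotient.mk (c x) = Submodule.Quotient.mk x
  rw [Submodule.Quotient.eq]
  have : c x - x = -retr₀ x := by
    show (x - retr₀ x) - x = -retr₀ x
    abel
  rw [this]
  exact neg_mem (retr₀_mem x)

end free

theorem map_mem_TSsub {M' : Type u} [AddCommGroup M'] [Module A M'] (f : M →ₗ[A] M') :
    TSsub A M n ≤ (TSsub A M' n).comap (PiTensorProduct.map (fun _ : Fin n => f)) := by
  intro t ht
  rw [Submodule.mem_comap, mem_TSsub_iff]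
  intro σ
  rw [← map_reindex', (mem_TSsub_iff _).1 ht σ]

/-- **The quotient of the tensor power of a flat module by the symmetric tensors is flat.** -/
theorem flat_quot [Module.Flat A M] : Module.Flat A ((⨂[A] _ : Fin n, M) ⧸ TSsub A M n) := by
  apply Module.Flat.of_forall_isTrivialRelation
  intro l f x hfx
  choose t ht using fun i => Submodule.mkQ_surjective (TSsub A M n) (x i)
  have hs : ∑ i, f i • t i ∈ TSsub A M n := by
    rw [← Submodule.Quotient.mk_eq_zero, ← Submodule.mkQ_apply, map_sum]
    simp_rw [map_smul, ht]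
    exact hfx
  obtain ⟨m, φ, X, hX⟩ := exists_rep (A := A) (N := M) n l t
  have hz : ∀ σ : Equiv.Perm (Fin n), PiTensorProduct.map (fun _ : Fin n => φ)
      (PiTensorProduct.reindex A (fun _ : Fin n => (Fin m → A)) σ (∑ i, f i • X i) -
        ∑ i, f i • X i) = 0 := by
    intro σ
    have h1 : PiTensorProduct.map (fun _ : Fin n => φ) (∑ i, f i • X i) = ∑ i, f i • t i := by
      rw [map_sum]
      simp_rw [map_smul, hX]
    rw [map_sub, map_reindex', h1, (mem_TSsub_iff _).1 hs σ, sub_self]
  obtain ⟨k, a, φ', h1, h2⟩ := exists_factorization' φ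
    (fun σ : Equiv.Perm (Fin n) =>
      PiTensorProduct.reindex A (fun _ : Fin n => (Fin m → A)) σ (∑ i, f i • X i) -
        ∑ i, f i • X i) hz
  have hS' : ∑ i, f i • PiTensorProduct.map (fun _ : Fin n => a) (X i) ∈
      TSsub A (Fin k → A) n := by
    rw [mem_TSsub_iff]
    intro σ
    have := h2 σ
    rw [map_sub, sub_eq_zero, map_reindex', map_sum] at this
    simp_rw [map_smul] at this
    exact this
  have hrel : ∑ i, f i • (TSsub A (Fin k → A) n).mkQ
      (PiTensorProduct.map (fun _ : Fin n => a) (X i)) = 0 := by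
    have h3 : ∑ i, f i • (TSsub A (Fin k → A) n).mkQ
        (PiTensorProduct.map (fun _ : Fin n => a) (X i)) =
        (TSsub A (Fin k → A) n).mkQ
          (∑ i, f i • PiTensorProduct.map (fun _ : Fin n => a) (X i)) := by
      rw [map_sum]
      simp_rw [map_smul]
    rw [h3, Submodule.mkQ_apply, Submodule.Quotient.mk_eq_zero]
    exact hS'
  obtain ⟨k', a', Y, hY1, hY2⟩ := Module.Flat.isTrivialRelation_of_sum_smul_eq_zero (R := A)
    (M := (⨂[A] _ : Fin n, (Fin k → A)) ⧸ TSsub A (Fin k → A) n) (f := f)
    (x := fun i => (TSsub A (Fin k → A) n).mkQ (PiTensorProduct.map (fun _ : Fin n => a) (X i)))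
    hrel
  let P : ((⨂[A] _ : Fin n, (Fin k → A)) ⧸ TSsub A (Fin k → A) n) →ₗ[A]
      ((⨂[A] _ : Fin n, M) ⧸ TSsub A M n) :=
    Submodule.mapQ _ _ (PiTensorProduct.map (fun _ : Fin n => φ')) (map_mem_TSsub φ')
  refine ⟨k', a', fun j => P (Y j), fun i => ?_, hY2⟩
  have h3 : x i = P ((TSsub A (Fin k → A) n).mkQ
      (PiTensorProduct.map (fun _ : Fin n => a) (X i))) := by
    rw [Submodule.mkQ_apply, Submodule.mapQ_apply, map_map, h1, hX, ← ht i, Submodule.mkQ_apply]
  have hY1' : (TSsub A (Fin k → A) n).mkQ (PiTensorProduct.map (fun _ : Fin n => a) (X i)) =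
      ∑ j, a' i j • Y j := hY1 i
  rw [h3, hY1', map_sum]
  simp_rw [map_smul]

/-- **Purity of the symmetric tensors** of a flat module. -/
theorem lTensor_subtype_injective [Module.Flat A M] (Q : Type u) [AddCommGroup Q] [Module A Q] :
    Function.Injective ((TSsub A M n).subtype.lTensor Q) := by
  haveI := flat_quot (A := A) (M := M) (n := n)
  exact Groth.Agent.Helper4.FlatQuotPure.submodule_lTensor_injective (TSsub A M n) Q

end Groth.Agent.Helper4.TSPure
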