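import Mathlib
import Groth.Prelude.Def_SymTen

/-!
# Tensor powers commute with directed colimits of algebras (helper4)
-/

set_option autoImplicit false
universe u
open scoped TensorProduct

namespace Groth.Agent.Helper4.TensorColim

open SymTen

section basic

variable {A : Type u} [CommRing A] {B C D : Type u} [CommRing B] [Algebra A B] [CommRing C]
  [Algebra A C] [CommRing D] [Algebra A D] (d : ℕ)

theorem tmap_id_apply (y : ⨂[A] _ : Fin d, B) : tmap A d (AlgHom.id A B) y = y := by
  induction y using PiTensorProduct.induction_on with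
  | smul_tprod r g => simp
  | add x y hx hy => simp [hx, hy]

theorem tmap_comp_apply (f : B →ₐ[A] C) (g : C →ₐ[A] D) (y : ⨂[A] _ : Fin d, B) :
    tmap A d g (tmap A d f y) = tmap A d (g.comp f) y := by
  induction y using PiTensorProduct.induction_on with
  | smul_tprod r g => simp
  | add x y hx hy => simp [hx, hy]

end basic

section colim

variable {A : Type u} [CommRing A] {B : Type u} [CommRing B] [Algebra A B]
    {ι : Type u} [Preorder ι] [IsDirected ι (fun i j => i ≤ j)] [Nonempty ι]
    (Bi : ι → Type u) [∀ i, CommRing (Bi i)] [∀ i, Algebra A (Bi i)]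
    (t : ∀ i j : ι, i ≤ j → (Bi i →ₐ[A] Bi j)) (φ : ∀ i : ι, Bi i →ₐ[A] B)
    (hcomp : ∀ (i j : ι) (h : i ≤ j), (φ j).comp (t i j h) = φ i)
    (hsurj : ∀ b : B, ∃ (i : ι) (x : Bi i), φ i x = b)
    (hzero : ∀ (i : ι) (x : Bi i), φ i x = 0 → ∃ (j : ι) (h : i ≤ j), t i j h x = 0)
    (hid : ∀ (i : ι) (h : i ≤ i), t i i h = AlgHom.id A (Bi i))
    (htrans : ∀ (i j k : ι) (hij : i ≤ j) (hjk : j ≤ k),
      (t j k hjk).comp (t i j hij) = t i k (hij.trans hjk)) (d : ℕ)

include hcomp in
theorem φ_t (i j : ι) (h : i ≤ j) (x : Bi i) : φ j (t i j h x) = φ i x := by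
  rw [← hcomp i j h]; rfl

include htrans in
theorem t_t (i j k : ι) (hij : i ≤ j) (hjk : j ≤ k) (x : Bi i) :
    t j k hjk (t i j hij x) = t i k (hij.trans hjk) x := by
  rw [← htrans i j k hij hjk]; rfl

include hcomp hsurj in
/-- common lifts of finitely many elements -/
theorem exists_lift {κ : Type} [Finite κ] (b : κ → B) :
    ∃ (i : ι) (x : κ → Bi i), ∀ k, φ i (x k) = b k := by
  choose i0 x0 h0 using fun k => hsurj (b k)
  obtain ⟨i, hi⟩ := Finite.exists_le i0
  exact ⟨i, fun k => t (i0 k) i (hi k) (x0 k), fun k => by rw [φ_t Bi t φ hcomp, h0]⟩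

include hcomp hzero htrans in
/-- two families with the same images agree at a later stage -/
theorem exists_eq_stage {κ : Type} [Finite κ] (i i' : ι) (x : κ → Bi i) (x' : κ → Bi i')
    (h : ∀ k, φ i (x k) = φ i' (x' k)) :
    ∃ (j : ι) (h1 : i ≤ j) (h2 : i' ≤ j), ∀ k, t i j h1 (x k) = t i' j h2 (x' k) := by
  obtain ⟨j0, h1, h2⟩ := exists_ge_ge i i'
  have hz : ∀ k, ∃ (j : ι) (hj : j0 ≤ j), t j0 j hj (t i j0 h1 (x k) - t i' j0 h2 (x' k)) = 0 := by
    intro k
    apply hzero
    rw [map_sub, φ_t Bi t φ hcomp, φ_t Bi t φ hcomp, h k, sub_self]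
  choose jk hjk hk using hz
  obtain ⟨j, hj⟩ := Finite.exists_le jk
  obtain ⟨j', hj0, hjj⟩ := exists_ge_ge j0 j
  refine ⟨j', h1.trans hj0, h2.trans hj0, fun k => ?_⟩
  have := congrArg (t (jk k) j' ((hj k).trans hjj)) (hk k)
  rw [t_t Bi t htrans, map_zero, map_sub, t_t Bi t htrans, t_t Bi t htrans, sub_eq_zero] at this
  exact this

open Classical in
include hcomp hsurj hzero hid htrans in
/-- the key injectivity: a tensor at stage `i` vanishing in the colimit vanishes at a later stage -/
theorem tmap_eq_zero (i : ι) (y : ⨂[A] _ : Fin d, Bi i) (hy : tmap A d (φ i) y = 0) :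
    ∃ (j : ι) (h : i ≤ j), tmap A d (t i j h) y = 0 := by
  -- the directed system of tensor powers
  let G : ι → Type u := fun i => ⨂[A] _ : Fin d, Bi i
  let f : ∀ i j, i ≤ j → G i →ₗ[A] G j := fun i j h => (tmap A d (t i j h)).toLinearMap
  haveI : DirectedSystem G (f · · ·) := by
    constructor
    · intro i x
      change tmap A d (t i i _) x = x
      rw [hid, tmap_id_apply]
    · intro k j i hij hjk x
      change tmap A d (t j k _) (tmap A d (t i j _) x) = tmap A d (t i k _) x
      rw [tmap_comp_apply, htrans]
  -- the canonical map to the tensor power of `B`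
  let c : Module.DirectLimit G f →ₗ[A] (⨂[A] _ : Fin d, B) :=
    Module.DirectLimit.lift A ι G f (fun i => (tmap A d (φ i)).toLinearMap) (by
      intro i j hij x
      change tmap A d (φ j) (tmap A d (t i j hij) x) = tmap A d (φ i) x
      rw [tmap_comp_apply, hcomp])
  -- the inverse on pure tensors
  have hl := fun b : Fin d → B => exists_lift Bi t φ hcomp hsurj b
  choose li lx hlx using hl
  let m0 : (Fin d → B) → Module.DirectLimit G f := fun b =>
    Module.DirectLimit.of A ι G f (li b) (PiTensorProduct.tprod A (lx b))
  have m0_eq : ∀ (b : Fin d → B) (i : ι) (x : Fin d → Bi i), (∀ k, φ i (x k) = b k) →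
      m0 b = Module.DirectLimit.of A ι G f i (PiTensorProduct.tprod A x) := by
    intro b i x hx
    obtain ⟨j, h1, h2, hj⟩ := exists_eq_stage Bi t φ hcomp hzero htrans (li b) i (lx b) x
      (fun k => by rw [hlx, hx])
    change Module.DirectLimit.of A ι G f (li b) (PiTensorProduct.tprod A (lx b)) = _
    rw [← Module.DirectLimit.of_f (hij := h1), ← Module.DirectLimit.of_f (hij := h2)]
    congr 1
    change tmap A d (t (li b) j h1) (PiTensorProduct.tprod A (lx b)) =
      tmap A d (t i j h2) (PiTensorProduct.tprod A x)
    rw [tmap_tprod, tmap_tprod]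
    congr 1
    funext k
    exact hj k
  let m : MultilinearMap A (fun _ : Fin d => B) (Module.DirectLimit G f) :=
    { toFun := m0
      map_update_add' := by
        intro _ b k u v
        obtain ⟨i, x, hx⟩ := exists_lift Bi t φ hcomp hsurj
          (fun o : Option (Option (Fin d)) => match o with
            | none => u
            | some none => v
            | some (some k') => b k')
        have hxb : ∀ k', φ i (x (some (some k'))) = b k' := fun k' => hx (some (some k'))
        have hxu : φ i (x none) = u := hx none
        have hxv : φ i (x (some none)) = v := hx (some none)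
        rw [m0_eq _ i (Function.update (fun k' => x (some (some k'))) k (x none + x (some none))),
          m0_eq _ i (Function.update (fun k' => x (some (some k'))) k (x none)),
          m0_eq _ i (Function.update (fun k' => x (some (some k'))) k (x (some none))),
          MultilinearMap.map_update_add, map_add]
        · intro k'
          by_cases hk : k' = k
          · subst hk; simp [hxv]
          · simp [Function.update_of_ne hk, hxb]
        · intro k'
          by_cases hk : k' = k
          · subst hk; simp [hxu]
          · simp [Function.update_of_ne hk, hxb]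
        · intro k'
          by_cases hk : k' = k
          · subst hk; simp [hxu, hxv]
          · simp [Function.update_of_ne hk, hxb]
      map_update_smul' := by
        intro _ b k r u
        obtain ⟨i, x, hx⟩ := exists_lift Bi t φ hcomp hsurj
          (fun o : Option (Fin d) => match o with
            | none => u
            | some k' => b k')
        have hxb : ∀ k', φ i (x (some k')) = b k' := fun k' => hx (some k')
        have hxu : φ i (x none) = u := hx none
        rw [m0_eq _ i (Function.update (fun k' => x (some k')) k (r • x none)),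
          m0_eq _ i (Function.update (fun k' => x (some k')) k (x none)),
          MultilinearMap.map_update_smul, map_smul]
        · intro k'
          by_cases hk : k' = k
          · subst hk; simp [hxu]
          · simp [Function.update_of_ne hk, hxb]
        · intro k'
          by_cases hk : k' = k
          · subst hk; simp [hxu]
          · simp [Function.update_of_ne hk, hxb] }
  let ψ : (⨂[A] _ : Fin d, B) →ₗ[A] Module.DirectLimit G f := PiTensorProduct.lift m
  have hψc : ψ.comp c = LinearMap.id := by
    apply Module.DirectLimit.hom_ext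
    intro i
    apply PiTensorProduct.ext
    apply MultilinearMap.ext
    intro x
    simp only [LinearMap.compMultilinearMap_apply, LinearMap.coe_comp, Function.comp_apply,
      LinearMap.id_coe, id_eq]
    change ψ (c (Module.DirectLimit.of A ι G f i (PiTensorProduct.tprod A x))) = _
    rw [Module.DirectLimit.lift_of]
    change ψ (tmap A d (φ i) (PiTensorProduct.tprod A x)) = _
    rw [tmap_tprod]
    change PiTensorProduct.lift m (PiTensorProduct.tprod A _) = _
    rw [PiTensorProduct.lift.tprod]
    exact m0_eq _ i x (fun k => rfl)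
  have h0 : Module.DirectLimit.of A ι G f i y = 0 := by
    have h1 : c (Module.DirectLimit.of A ι G f i y) = 0 := by
      rw [Module.DirectLimit.lift_of]; exact hy
    have h2 := congrArg ψ h1
    rw [map_zero] at h2
    have h3 := LinearMap.congr_fun hψc (Module.DirectLimit.of A ι G f i y)
    rw [LinearMap.comp_apply, h2] at h3
    exact h3.symm
  obtain ⟨j, hij, hj⟩ := Module.DirectLimit.of.zero_exact h0
  exact ⟨j, hij, hj⟩

include hcomp hsurj in
/-- every tensor comes from a finite stage -/
theorem tmap_surj (z : ⨂[A] _ : Fin d, B) :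
    ∃ (i : ι) (y : ⨂[A] _ : Fin d, Bi i), tmap A d (φ i) y = z := by
  induction z using PiTensorProduct.induction_on with
  | smul_tprod r b =>
    obtain ⟨i, x, hx⟩ := exists_lift Bi t φ hcomp hsurj b
    refine ⟨i, r • PiTensorProduct.tprod A x, ?_⟩
    rw [map_smul, tmap_tprod]
    congr 2
    funext k
    exact hx k
  | add z1 z2 h1 h2 =>
    obtain ⟨i1, y1, rfl⟩ := h1
    obtain ⟨i2, y2, rfl⟩ := h2
    obtain ⟨j, hj1, hj2⟩ := exists_ge_ge i1 i2
    refine ⟨j, tmap A d (t i1 j hj1) y1 + tmap A d (t i2 j hj2) y2, ?_⟩
    rw [map_add, tmap_comp_apply, tmap_comp_apply, hcomp, hcomp]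

end colim

end Groth.Agent.Helper4.TensorColim
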