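import Mathlib

/-!
# `B ⊗[A] C` is local for local `A`-algebras with `C` integral and a purely inseparable residue
extension
-/

set_option autoImplicit false

namespace Groth.Agent.Helper4.TensorLocal
open TensorProduct

universe u

/-- Tensor product of two field extensions, one purely inseparable, over a ring surjecting onto the
base field, has exactly one prime. -/
lemma unique_prime (R K L E : Type*) [CommRing R] [Field K] [Field L] [Field E]
    [Algebra R K] [Algebra R L] [Algebra K L] [IsScalarTower R K L]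
    [Algebra R E] [Algebra K E] [IsScalarTower R K E]
    (hsurj : Function.Surjective (algebraMap R K)) [IsPurelyInseparable K L] :
    Subsingleton (PrimeSpectrum (L ⊗[R] E)) ∧ Nontrivial (L ⊗[R] E) := by
  have hc : TensorProduct.CompatibleSMul R K K E :=
    TensorProduct.CompatibleSMul.of_algebraMap_surjective _ _ hsurj
  let e : K ⊗[R] E ≃ₐ[K] E := Algebra.TensorProduct.lidOfCompatibleSMul R K E
  have hsub : Subsingleton (PrimeSpectrum (K ⊗[R] E)) :=
    (PrimeSpectrum.comapEquiv e.toRingEquiv).subsingleton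
  have hne : Nonempty (PrimeSpectrum (K ⊗[R] E)) :=
    ⟨(PrimeSpectrum.comapEquiv e.toRingEquiv).symm ⟨⊥, Ideal.isPrime_bot⟩⟩
  have hhomeo := PrimeSpectrum.isHomeomorph_comap_tensorProductMap_of_isPurelyInseparable
    K R E L
  constructor
  · exact hhomeo.injective.subsingleton
  · obtain ⟨P⟩ := hne
    obtain ⟨Q, -⟩ := hhomeo.surjective P
    exact ⟨⟨0, 1, fun h => Q.2.ne_top ((Ideal.eq_top_iff_one _).mpr (h ▸ Q.asIdeal.zero_mem))⟩⟩

section Main

variable (A : Type u) [CommRing A] [IsLocalRing A] (B : Type u) [CommRing B] [IsLocalRing B]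
  [Algebra A B] [IsLocalHom (algebraMap A B)] (C : Type u) [CommRing C] [IsLocalRing C]
  [Algebra A C] [IsLocalHom (algebraMap A C)]

open IsLocalRing

/-- The map to the tensor product of residue fields. -/
noncomputable def ψ : B ⊗[A] C →ₐ[A] ResidueField B ⊗[A] ResidueField C :=
  Algebra.TensorProduct.map (IsScalarTower.toAlgHom A B (ResidueField B))
    (IsScalarTower.toAlgHom A C (ResidueField C))

lemma ψ_surjective : Function.Surjective (ψ A B C) :=
  Algebra.TensorProduct.map_surjective _ _ residue_surjective residue_surjective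

lemma ker_ψ : RingHom.ker (ψ A B C) =
    (maximalIdeal B).map (Algebra.TensorProduct.includeLeft : B →ₐ[A] B ⊗[A] C) ⊔
    (maximalIdeal C).map (Algebra.TensorProduct.includeRight : C →ₐ[A] B ⊗[A] C) := by
  have h := Algebra.TensorProduct.map_ker (IsScalarTower.toAlgHom A B (ResidueField B))
    (IsScalarTower.toAlgHom A C (ResidueField C)) residue_surjective residue_surjective
  have h1 : RingHom.ker (IsScalarTower.toAlgHom A B (ResidueField B)) = maximalIdeal B :=
    IsLocalRing.ker_residue
  have h2 : RingHom.ker (IsScalarTower.toAlgHom A C (ResidueField C)) = maximalIdeal C :=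
    IsLocalRing.ker_residue
  rw [h1, h2] at h
  exact h

lemma ker_le_maximal [Algebra.IsIntegral A C] (M : Ideal (B ⊗[A] C)) [hM : M.IsMaximal] :
    RingHom.ker (ψ A B C) ≤ M := by
  rw [ker_ψ, sup_le_iff, Ideal.map_le_iff_le_comap, Ideal.map_le_iff_le_comap]
  have hB : M.comap (algebraMap B (B ⊗[A] C)) = maximalIdeal B :=
    IsLocalRing.eq_maximalIdeal (Ideal.isMaximal_comap_of_isIntegral_of_isMaximal M)
  have hB' : M.comap (Algebra.TensorProduct.includeLeft : B →ₐ[A] B ⊗[A] C) = maximalIdeal B :=
    hB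
  refine ⟨hB'.ge, ?_⟩
  have hP : (M.comap (Algebra.TensorProduct.includeRight : C →ₐ[A] B ⊗[A] C)).IsPrime :=
    Ideal.comap_isPrime _ _
  have hA : (M.comap (Algebra.TensorProduct.includeRight : C →ₐ[A] B ⊗[A] C)).comap
      (algebraMap A C) = maximalIdeal A := by
    have hloc : (maximalIdeal B).comap (algebraMap A B) = maximalIdeal A :=
      ((IsLocalRing.local_hom_TFAE (algebraMap A B)).out 0 4).mp ‹_›
    ext a
    rw [← hloc, ← hB']
    simp only [Ideal.mem_comap]
    have : (Algebra.TensorProduct.includeRight : C →ₐ[A] B ⊗[A] C) (algebraMap A C a) =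
        (Algebra.TensorProduct.includeLeft : B →ₐ[A] B ⊗[A] C) (algebraMap A B a) := by
      rw [AlgHom.commutes, AlgHom.commutes]
    rw [this]
  have hmax : (M.comap (Algebra.TensorProduct.includeRight : C →ₐ[A] B ⊗[A] C)).IsMaximal := by
    apply Ideal.isMaximal_of_isIntegral_of_isMaximal_comap (R := A)
    rw [hA]; infer_instance
  exact (IsLocalRing.eq_maximalIdeal hmax).ge

lemma main_of_unique [Algebra.IsIntegral A C]
    (hsub : Subsingleton (PrimeSpectrum (ResidueField B ⊗[A] ResidueField C)))
    (hnt : Nontrivial (ResidueField B ⊗[A] ResidueField C)) :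
    IsLocalRing (B ⊗[A] C) ∧
      IsLocalHom (Algebra.TensorProduct.includeLeft : B →ₐ[A] B ⊗[A] C).toRingHom ∧
      IsLocalHom (Algebra.TensorProduct.includeRight : C →ₐ[A] B ⊗[A] C).toRingHom := by
  have hntT : Nontrivial (B ⊗[A] C) := (ψ_surjective A B C).nontrivial
  -- uniqueness of maximal ideals
  have huniq : ∀ M₁ M₂ : Ideal (B ⊗[A] C), M₁.IsMaximal → M₂.IsMaximal → M₁ = M₂ := by
    intro M₁ M₂ h₁ h₂
    have key : ∀ M : Ideal (B ⊗[A] C), M.IsMaximal →
        (M.map (ψ A B C)).IsPrime ∧ (M.map (ψ A B C)).comap (ψ A B C) = M := by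
      intro M hM
      have hc : (M.map (ψ A B C)).comap (ψ A B C) = M := by
        rw [Ideal.comap_map_of_surjective _ (ψ_surjective A B C)]
        have : Ideal.comap (ψ A B C) ⊥ = RingHom.ker (ψ A B C) := rfl
        rw [this]
        exact sup_eq_left.mpr (ker_le_maximal A B C M)
      refine ⟨?_, hc⟩
      rcases Ideal.map_eq_top_or_isMaximal_of_surjective _ (ψ_surjective A B C) hM with h | h
      · exfalso
        rw [h, Ideal.comap_top] at hc
        exact hM.ne_top hc.symm
      · exact h.isPrime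
    obtain ⟨p₁, c₁⟩ := key M₁ h₁
    obtain ⟨p₂, c₂⟩ := key M₂ h₂
    have := congrArg PrimeSpectrum.asIdeal
      (hsub.elim ⟨_, p₁⟩ ⟨_, p₂⟩)
    simp only at this
    rw [← c₁, ← c₂, this]
  obtain ⟨M, hM⟩ := Ideal.exists_maximal (B ⊗[A] C)
  have hloc : IsLocalRing (B ⊗[A] C) :=
    IsLocalRing.of_unique_max_ideal ⟨M, hM, fun M' hM' => huniq M' M hM' hM⟩
  have hmax : maximalIdeal (B ⊗[A] C) = M := huniq _ _ (maximalIdeal.isMaximal _) hM
  have hker : RingHom.ker (ψ A B C) ≤ maximalIdeal (B ⊗[A] C) := by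
    rw [hmax]; exact ker_le_maximal A B C M
  rw [ker_ψ, sup_le_iff, Ideal.map_le_iff_le_comap, Ideal.map_le_iff_le_comap] at hker
  refine ⟨hloc, ⟨fun b hb => ?_⟩, ⟨fun c hc => ?_⟩⟩
  · by_contra hnu
    have h1 : b ∈ maximalIdeal B := hnu
    have h2 := hker.1 h1
    exact h2 hb
  · by_contra hnu
    have h1 : c ∈ maximalIdeal C := hnu
    have h2 := hker.2 h1
    exact h2 hc

theorem main [Algebra.IsIntegral A C]
    (h : IsPurelyInseparable (ResidueField A) (ResidueField C) ∨
      IsPurelyInseparable (ResidueField A) (ResidueField B)) :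
    IsLocalRing (B ⊗[A] C) ∧
      IsLocalHom (Algebra.TensorProduct.includeLeft : B →ₐ[A] B ⊗[A] C).toRingHom ∧
      IsLocalHom (Algebra.TensorProduct.includeRight : C →ₐ[A] B ⊗[A] C).toRingHom := by
  rcases h with h | h
  · obtain ⟨h1, h2⟩ := unique_prime A (ResidueField A) (ResidueField C) (ResidueField B)
      residue_surjective
    let e : ResidueField C ⊗[A] ResidueField B ≃ₐ[A] ResidueField B ⊗[A] ResidueField C :=
      Algebra.TensorProduct.comm A _ _
    exact main_of_unique A B C (PrimeSpectrum.comapEquiv e.toRingEquiv).symm.subsingleton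
      e.symm.toEquiv.nontrivial
  · obtain ⟨h1, h2⟩ := unique_prime A (ResidueField A) (ResidueField B) (ResidueField C)
      residue_surjective
    exact main_of_unique A B C h1 h2

end Main

end Groth.Agent.Helper4.TensorLocal
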