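import Groth.Prelude.Def_W4c5normfunctorschNorm
import Groth.Agent.Helper4.GammaSpan

/-!
# The action of symmetric tensors on the top exterior power (helper4)
-/

set_option autoImplicit false
universe u
open scoped TensorProduct

namespace Groth.Agent.Helper4.TopExt

section basic

variable {R : Type u} [CommRing R] {R' : Type u} [CommRing R'] [Algebra R R'] {d : ℕ}

/-- the factorwise action of the tensor power on itself is multiplication -/
theorem tpowAct_eq_mul (a x : ⨂[R] _ : Fin d, R') : SymTen.tpowAct R R' R' d a x = a * x := by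
  have h : SymTen.tpowAct R R' R' d = (LinearMap.mul R (⨂[R] _ : Fin d, R')) := by
    apply PiTensorProduct.ext
    apply MultilinearMap.ext
    intro a
    apply PiTensorProduct.ext
    apply MultilinearMap.ext
    intro x
    simp only [LinearMap.compMultilinearMap_apply, LinearMap.mul_apply']
    rw [PiTensorProduct.tprod_mul_tprod]
    simp [SymTen.tpowAct, PiTensorProduct.lift.tprod, PiTensorProduct.mapMultilinear_apply,
      PiTensorProduct.map_tprod]
    rfl
  rw [h, LinearMap.mul_apply']

/-- the determinant functional on the tensor power attached to a basis -/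
noncomputable def D (b : Module.Basis (Fin d) R R') : (⨂[R] _ : Fin d, R') →ₗ[R] R :=
  PiTensorProduct.lift b.det.toMultilinearMap

@[simp] theorem D_tprod (b : Module.Basis (Fin d) R R') (y : Fin d → R') :
    D b (PiTensorProduct.tprod R y) = b.det y := by
  simp [D, PiTensorProduct.lift.tprod]

variable (R R' d) in
/-- the class of a pure tensor in the quotient by `altSpan`, as an alternating map -/
noncomputable def altQ : R' [⋀^Fin d]→ₗ[R] ((⨂[R] _ : Fin d, R') ⧸ SymTen.altSpan R R' d) :=
  { (SymTen.altSpan R R' d).mkQ.compMultilinearMap (PiTensorProduct.tprod R) with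
    map_eq_zero_of_eq' := by
      intro v i j hv hij
      simp only [MultilinearMap.toFun_eq_coe, LinearMap.compMultilinearMap_apply,
        Submodule.mkQ_apply, Submodule.Quotient.mk_eq_zero]
      exact Submodule.subset_span ⟨v, i, j, hij, hv, rfl⟩ }

theorem altQ_apply (y : Fin d → R') :
    altQ R R' d y = Submodule.Quotient.mk (PiTensorProduct.tprod R y) := rfl

theorem altQ_eq (b : Module.Basis (Fin d) R R') (y : Fin d → R') :
    altQ R R' d y = b.det y • altQ R R' d b := by
  have h : altQ R R' d =
      (LinearMap.toSpanSingleton R _ (altQ R R' d b)).compAlternatingMap b.det := by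
    refine Module.Basis.ext_alternating b fun v hv => ?_
    let σ : Equiv.Perm (Fin d) := Equiv.ofBijective v (Finite.injective_iff_bijective.1 hv)
    change altQ R R' d (b ∘ σ) = _
    rw [LinearMap.compAlternatingMap_apply, LinearMap.toSpanSingleton_apply]
    change _ = b.det (b ∘ σ) • _
    rw [AlternatingMap.map_perm, AlternatingMap.map_perm, Module.Basis.det_self]
    simp
  rw [h, LinearMap.compAlternatingMap_apply, LinearMap.toSpanSingleton_apply, ← h]

/-- every tensor is congruent to a multiple of the basis tensor modulo `altSpan` -/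
theorem sub_D_smul_mem (b : Module.Basis (Fin d) R R') (t : ⨂[R] _ : Fin d, R') :
    t - D b t • PiTensorProduct.tprod R b ∈ SymTen.altSpan R R' d := by
  induction t using PiTensorProduct.induction_on with
  | smul_tprod r y =>
    rw [map_smul, D_tprod, smul_assoc, ← smul_sub]
    refine Submodule.smul_mem _ _ ?_
    rw [← Submodule.Quotient.mk_eq_zero, Submodule.Quotient.mk_sub, Submodule.Quotient.mk_smul,
      ← altQ_apply, ← altQ_apply, altQ_eq b y, sub_self]
  | add x y hx hy =>
    rw [map_add, add_smul]
    have : x + y - (D b x • PiTensorProduct.tprod R b + D b y • PiTensorProduct.tprod R b) =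
      (x - D b x • PiTensorProduct.tprod R b) + (y - D b y • PiTensorProduct.tprod R b) := by abel
    rw [this]
    exact Submodule.add_mem _ hx hy

theorem mem_altSpan_of_D_eq_zero (b : Module.Basis (Fin d) R R') (t : ⨂[R] _ : Fin d, R')
    (h : D b t = 0) : t ∈ SymTen.altSpan R R' d := by
  have := sub_D_smul_mem b t
  rwa [h, zero_smul, sub_zero] at this

end basic

section law

variable {R : Type u} [CommRing R] {R' : Type u} [CommRing R'] [Algebra R R'] {d : ℕ}

/-- determinant w.r.t. the base-changed basis of constant vectors -/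
theorem det_basis_tmul (b : Module.Basis (Fin d) R R') (P : Type u) [CommRing P] [Algebra R P]
    (w : Fin d → R') :
    (Algebra.TensorProduct.basis P b).det (fun j => (1 : P) ⊗ₜ[R] w j) = algebraMap R P (b.det w) := by
  rw [Module.Basis.det_apply, Module.Basis.det_apply, RingHom.map_det]
  congr 1
  ext i j
  simp [Module.Basis.toMatrix_apply, Algebra.TensorProduct.basis_repr_tmul]

/-- the functional `t ↦ D (t * tprod y)` -/
noncomputable def Dy (b : Module.Basis (Fin d) R R') (y : Fin d → R') :
    (⨂[R] _ : Fin d, R') →ₗ[R] R :=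
  D b ∘ₗ LinearMap.mulRight R (PiTensorProduct.tprod R y)

theorem Dy_apply (b : Module.Basis (Fin d) R R') (y : Fin d → R') (t : ⨂[R] _ : Fin d, R') :
    Dy b y t = D b (t * PiTensorProduct.tprod R y) := rfl

variable (P : Type u) [CommRing P] [Algebra R P]

/-- first multilinear map -/
noncomputable def M₁ (b : Module.Basis (Fin d) R R') (y : Fin d → R') :
    MultilinearMap P (fun _ : Fin d => P ⊗[R] R') P :=
  ((Algebra.TensorProduct.rid R P P).toLinearMap ∘ₗ (LinearMap.baseChange P (Dy b y))).compMultilinearMap
    ((MultilinearMap.mkPiAlgebra P (Fin d) (P ⊗[R] (⨂[R] _ : Fin d, R'))).compLinearMap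
      (fun j => (Algebra.TensorProduct.map (AlgHom.id P P)
        (PiTensorProduct.singleAlgHom (R := R) (A := fun _ : Fin d => R') j)).toLinearMap))

/-- second multilinear map -/
noncomputable def M₂ (b : Module.Basis (Fin d) R R') (y : Fin d → R') :
    MultilinearMap P (fun _ : Fin d => P ⊗[R] R') P :=
  (Algebra.TensorProduct.basis P b).det.toMultilinearMap.compLinearMap
    (fun j => LinearMap.mulRight P ((1 : P) ⊗ₜ[R] y j))

theorem M₁_eq_M₂ (b : Module.Basis (Fin d) R R') (y : Fin d → R') : M₁ P b y = M₂ P b y := by
  refine Module.Basis.ext_multilinear (fun _ => Algebra.TensorProduct.basis P b) fun v => ?_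
  simp only [M₁, M₂, LinearMap.compMultilinearMap_apply, MultilinearMap.compLinearMap_apply,
    MultilinearMap.mkPiAlgebra_apply, Algebra.TensorProduct.basis_apply, AlgHom.toLinearMap_apply,
    Algebra.TensorProduct.map_tmul, AlgHom.id_apply, LinearMap.mulRight_apply,
    Algebra.TensorProduct.tmul_mul_tmul, mul_one, AlternatingMap.coe_multilinearMap]
  rw [det_basis_tmul]
  have h1 : ∏ j, ((1 : P) ⊗ₜ[R] (PiTensorProduct.singleAlgHom (R := R) (A := fun _ : Fin d => R') j) (b (v j))) =
      (1 : P) ⊗ₜ[R] PiTensorProduct.tprod R (fun j => b (v j)) := by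
    have : ∀ (s : Finset (Fin d)), ∏ j ∈ s, ((1 : P) ⊗ₜ[R]
        (PiTensorProduct.singleAlgHom (R := R) (A := fun _ : Fin d => R') j) (b (v j))) =
        (1 : P) ⊗ₜ[R] ∏ j ∈ s, (PiTensorProduct.singleAlgHom (R := R) (A := fun _ : Fin d => R') j) (b (v j)) := by
      intro s
      classical
      induction s using Finset.induction_on with
      | empty => simp [Algebra.TensorProduct.one_def]
      | insert j s hj ih => rw [Finset.prod_insert hj, Finset.prod_insert hj, ih,
          Algebra.TensorProduct.tmul_mul_tmul, mul_one]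
    rw [this]
    congr 1
    simp only [PiTensorProduct.singleAlgHom_apply, MonoidHom.mulSingle_apply]
    rw [← PiTensorProduct.tprod_prod]
    exact congrArg _ (Finset.univ_prod_mulSingle (fun j : Fin d => b (v j)))
  rw [h1]
  simp only [LinearMap.coe_comp, Function.comp_apply, LinearMap.baseChange_tmul, Dy_apply,
    PiTensorProduct.tprod_mul_tprod, D_tprod, AlgEquiv.toLinearMap_apply,
    Algebra.TensorProduct.rid_tmul]
  rw [Algebra.algebraMap_eq_smul_one]
  rfl

/-- the key identity: `Λ^d` of multiplication by `z` is the norm of `z` -/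
theorem law_eq (b : Module.Basis (Fin d) R R') (y : Fin d → R') (z : P ⊗[R] R') :
    (Dy b y).lTensor P ((SymTen.tpowLaw R R' d).law.toFun' P z) =
      Algebra.norm P z ⊗ₜ[R] b.det y := by
  apply (Algebra.TensorProduct.rid R P P).injective
  have h1 : (Algebra.TensorProduct.rid R P P) ((Dy b y).lTensor P
      ((SymTen.tpowLaw R R' d).law.toFun' P z)) = M₁ P b y (fun _ => z) := by
    simp only [M₁, LinearMap.compMultilinearMap_apply, MultilinearMap.compLinearMap_apply,
      MultilinearMap.mkPiAlgebra_apply, AlgHom.toLinearMap_apply, LinearMap.coe_comp,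
      Function.comp_apply, AlgEquiv.toLinearMap_apply, LinearMap.baseChange_eq_ltensor]
    rfl
  rw [h1, M₁_eq_M₂]
  simp only [M₂, MultilinearMap.compLinearMap_apply, LinearMap.mulRight_apply,
    AlternatingMap.coe_multilinearMap]
  have h2 : (fun j => z * ((1 : P) ⊗ₜ[R] y j)) =
      (Algebra.lmul P (P ⊗[R] R') z) ∘ (fun j => (1 : P) ⊗ₜ[R] y j) := by
    funext j
    simp
  rw [h2, Module.Basis.det_comp, det_basis_tmul, ← Algebra.norm_apply,
    Algebra.TensorProduct.rid_tmul, Algebra.smul_def, mul_comm]

end law

section uniq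

variable {A : Type u} [CommRing A] {B C : Type u} [CommRing B] [Algebra A B] [CommRing C] [Algebra A C]
  {d : ℕ}

/-- linear maps out of a universal target are determined by the composite law -/
theorem linear_ext (γ : PolLaw.MulLaw A B C d) (hγ : PolLaw.IsGammaD γ) {N : Type u} [AddCommGroup N]
    [Module A N] (ℓ₁ ℓ₂ : C →ₗ[A] N)
    (h : PolLaw.postcomp ℓ₁ γ.law = PolLaw.postcomp ℓ₂ γ.law) : ℓ₁ = ℓ₂ := by
  have htop : Submodule.span A (GammaSpan.GenSet γ.law) = ⊤ := by
    have := GammaSpan.Cgen_eq_top γ hγ
    apply top_unique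
    intro c _
    have hc : c ∈ GammaSpan.Cgen γ := by rw [this]; trivial
    exact (GammaSpan.mem_Cgen_iff γ c).mp hc
  apply LinearMap.ext_on_range (v := fun c : GammaSpan.GenSet γ.law => (c : C))
  · rw [Subtype.range_coe, htop]
  · rintro ⟨c, S, _, _, ℓ, x, rfl⟩
    have key : ∀ (g : C →ₗ[A] N) (w : S ⊗[A] C),
        g (GammaSpan.ev ℓ w) =
          (TensorProduct.lid A N) (ℓ.rTensor N (g.lTensor S w)) := by
      intro g w
      induction w using TensorProduct.induction_on with
      | zero => simp
      | tmul s c => simp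
      | add x y hx hy => simp only [map_add, hx, hy]
    simp only [key]
    have := congrArg (fun F => F.toFun' S x) h
    exact congrArg _ (congrArg _ this)

end uniq

end Groth.Agent.Helper4.TopExt
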