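import Groth.Agent.Helper4.AmplePoints
import Groth.Agent.Helper4.AmpleTensor
import Mathlib

set_option autoImplicit false
universe u
open CategoryTheory CategoryTheory.Limits AlgebraicGeometry Opposite TopologicalSpace

namespace Groth.Agent.Helper4.TwistCover

open Groth.Agent.Helper4.GenLoc Groth.Agent.Helper4.TensorInv Groth.Agent.Helper4.TensorGen
  Groth.Agent.Helper4.QAffSec Groth.Agent.Helper4.TensorLift Groth.Agent.Helper4.TwistLocal
  Groth.Agent.Helper4.TwistExt Groth.Agent.Helper4.TensorRes Groth.Agent.Helper4.TensorAssoc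
  Groth.Agent.Helper4.AmpleIso Groth.Agent.Helper4.AmpleBasis Groth.Agent.Helper4.AmpleRestrict
  Groth.Agent.Helper4.AmpleFinite Groth.Agent.Helper4.AmpleLocal Groth.Agent.Helper4.AmplePoints
  Groth.Agent.Helper4.GenLocIso Groth.Agent.Helper4.AmpleTensor

variable {X : Scheme.{u}}

/-- `M ≅ L^i ⊗ N^j` -/
def Bideg (L N M : X.Modules) (i j : ℕ) : Prop :=
  Nonempty (M ≅ CohB1.tensorMod (CohB1.tensorPow L i) (CohB1.tensorPow N j))

namespace Bideg

variable {L N : X.Modules}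

theorem powL (i : ℕ) : Bideg L N (CohB1.tensorPow L i) i 0 :=
  ⟨(SecTwist.unitorR (CohB1.tensorPow L i)).symm⟩

theorem powN (j : ℕ) : Bideg L N (CohB1.tensorPow N j) 0 j :=
  ⟨(unitorL (CohB1.tensorPow N j)).symm⟩

theorem of_iso {A B : X.Modules} {i j : ℕ} (e : A ≅ B) (h : Bideg L N B i j) : Bideg L N A i j := by
  obtain ⟨e'⟩ := h
  exact ⟨e ≪≫ e'⟩

theorem selfL : Bideg L N L 1 0 :=
  of_iso (unitorL L).symm (powL 1)

theorem selfN : Bideg L N N 0 1 :=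
  of_iso (unitorL N).symm (powN 1)

theorem cast {A : X.Modules} {i j i' j' : ℕ} (hi : i = i') (hj : j = j') (h : Bideg L N A i j) :
    Bideg L N A i' j' := by
  subst hi; subst hj; exact h

theorem tensor (hL : PicF.IsInvertible L) (hN : PicF.IsInvertible N) {A B : X.Modules}
    {i j i' j' : ℕ} (hA : Bideg L N A i j) (hB : Bideg L N B i' j') :
    Bideg L N (CohB1.tensorMod A B) (i + i') (j + j') := by
  obtain ⟨eA⟩ := hA
  obtain ⟨eB⟩ := hB
  exact ⟨PicGrp.tensorModIso eA eB ≪≫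
    interchangeIso _ _ _ _ (isInvertible_tensorPow hN j) (isInvertible_tensorPow hL i')
      (isInvertible_tensorPow hN j') ≪≫
    PicGrp.tensorModIso (powAddIso L hL i i') (powAddIso N hN j j')⟩

theorem pow (hL : PicF.IsInvertible L) (hN : PicF.IsInvertible N) {A : X.Modules}
    {i j : ℕ} (hA : Bideg L N A i j) (e : ℕ) :
    Bideg L N (CohB1.tensorPow A e) (i * e) (j * e) := by
  obtain ⟨eA⟩ := hA
  exact ⟨tensorPowIso eA e ≪≫
    (powTensorIso _ _ (isInvertible_tensorPow hL i) (isInvertible_tensorPow hN j) e).symm ≪≫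
    PicGrp.tensorModIso (powMulIso L hL i e) (powMulIso N hN j e)⟩

theorem iso {A B : X.Modules} {i j : ℕ} (hA : Bideg L N A i j) (hB : Bideg L N B i j) :
    Nonempty (A ≅ B) := by
  obtain ⟨eA⟩ := hA
  obtain ⟨eB⟩ := hB
  exact ⟨eA ≪≫ eB.symm⟩

end Bideg

/-- local step of Lemma H -/
theorem exists_affine_nhd_twist [CompactSpace X] [QuasiSeparatedSpace X] {L N : X.Modules}
    (hL : PicF.IsInvertible L) (hN : PicF.IsInvertible N) (x : X) (k : ℕ)
    (σ : Coh.structureModule X ⟶ CohB1.tensorPow N (k + 1)) (hx : x ∈ CohB1.genLocus _ σ)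
    (hamp : CohB1.IsAmple (L.restrict (CohB1.genLocus _ σ).ι)) :
    ∃ (W : X.Opens) (n₁ : ℕ), x ∈ W ∧ IsAffineOpen W ∧ ∀ n, n₁ ≤ n →
      ∃ (m : ℕ) (s : Coh.structureModule X ⟶
        CohB1.tensorPow (CohB1.tensorMod L (CohB1.tensorPow N n)) (m + 1)),
        CohB1.genLocus _ s = W := by
  obtain ⟨G, hG⟩ : ∃ G : X.Opens, G = CohB1.genLocus _ σ := ⟨_, rfl⟩
  obtain ⟨d', τ, hxτ, haff⟩ := hamp.2.2 ⟨x, hx⟩
  let u : Coh.structureModule (CohB1.genLocus _ σ : Scheme.{u}) ⟶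
      (CohB1.tensorPow L (d' + 1)).restrict (CohB1.genLocus _ σ).ι :=
    τ ≫ (resPowIso (CohB1.genLocus _ σ).ι L (d' + 1)).hom
  have hu : CohB1.genLocus _ u = CohB1.genLocus _ τ := genLocus_comp_iso _ _
  have hM := isInvertible_tensorPow hN (k + 1)
  have hE := isInvertible_tensorPow hL (d' + 1)
  obtain ⟨a, ρ, ha, hρ⟩ := exists_extension_genLocus (CohB1.tensorPow N (k + 1))
    (CohB1.tensorPow L (d' + 1)) hM hE σ u
  have hW : CohB1.genLocus _ σ ⊓ CohB1.genLocus _ ρ =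
      (CohB1.genLocus _ σ).ι ''ᵁ (CohB1.genLocus _ τ) := by
    rw [← hu, ← hρ, Scheme.Hom.image_preimage_eq_opensRange_inf, Scheme.Opens.opensRange_ι]
  refine ⟨CohB1.genLocus _ σ ⊓ CohB1.genLocus _ ρ, (a + 1) * (k + 1), ?_, ?_, ?_⟩
  · rw [hW]; exact ⟨⟨x, hx⟩, hxτ, rfl⟩
  · rw [hW]; exact haff.image_of_isOpenImmersion _
  intro n hn
  have hn' : (a + 1) * (k + 1) ≤ n * (d' + 1) :=
    hn.trans (Nat.le_mul_of_pos_right n (Nat.succ_pos d'))
  obtain ⟨b, hb⟩ := Nat.exists_eq_add_of_le hn'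
  obtain ⟨m, hm⟩ : ∃ m, (d' + 1) * (k + 1) = m + 1 :=
    Nat.exists_eq_succ_of_ne_zero (Nat.mul_pos (Nat.succ_pos d') (Nat.succ_pos k)).ne'
  have hρinv : PicF.IsInvertible (CohB1.tensorMod (CohB1.tensorPow L (d' + 1))
      (CohB1.tensorPow (CohB1.tensorPow N (k + 1)) a)) :=
    isInvertible_tensorMod hE (isInvertible_tensorPow hM a)
  let ρσ := SecTwist.tmulHom ρ σ
  have hρσinv := isInvertible_tensorMod hρinv hM
  have hρσ : CohB1.genLocus _ ρσ = CohB1.genLocus _ σ ⊓ CohB1.genLocus _ ρ := by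
    rw [genLocus_tmulHom _ _ hρinv hM, inf_comm]
  let s₀ := SecTwist.tmulHom (SecTwist.powHom ρσ (k + 1)) (SecTwist.powHom σ b)
  have hs₀ : CohB1.genLocus _ s₀ = CohB1.genLocus _ σ ⊓ CohB1.genLocus _ ρ := by
    rw [genLocus_tmulHom _ _ (isInvertible_tensorPow hρσinv _) (isInvertible_tensorPow hM b),
      genLocus_powHom hρσinv, hρσ]
    exact inf_eq_left.mpr (inf_le_left.trans (genLocus_le_genLocus_powHom hM σ b))
  have hB1 : Bideg L N (CohB1.tensorMod (CohB1.tensorPow (CohB1.tensorMod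
      (CohB1.tensorMod (CohB1.tensorPow L (d' + 1))
        (CohB1.tensorPow (CohB1.tensorPow N (k + 1)) a)) (CohB1.tensorPow N (k + 1))) (k + 1))
      (CohB1.tensorPow (CohB1.tensorPow N (k + 1)) b)) ((1 + 0) * (m + 1)) ((0 + n) * (m + 1)) := by
    refine Bideg.cast ?_ ?_ (Bideg.tensor hL hN (Bideg.pow hL hN (Bideg.tensor hL hN
      (Bideg.tensor hL hN (Bideg.powL (d' + 1)) (Bideg.pow hL hN (Bideg.powN (k + 1)) a))
      (Bideg.powN (k + 1))) (k + 1)) (Bideg.pow hL hN (Bideg.powN (k + 1)) b))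
    · rw [← hm]; ring
    · rw [← hm]
      have : (0 + n) * ((d' + 1) * (k + 1)) = (n * (d' + 1)) * (k + 1) := by ring
      rw [this, hb]; ring
  have hB2 : Bideg L N (CohB1.tensorPow (CohB1.tensorMod L (CohB1.tensorPow N n)) (m + 1))
      ((1 + 0) * (m + 1)) ((0 + n) * (m + 1)) :=
    Bideg.pow hL hN (Bideg.tensor hL hN Bideg.selfL (Bideg.powN n)) (m + 1)
  obtain ⟨e⟩ := Bideg.iso hB1 hB2
  exact ⟨m, s₀ ≫ e.hom, by rw [genLocus_comp_iso, hs₀]⟩

/-- Lemma H: if `X` is covered by opens `X_σ` (`σ` sections of positive powers of `N`) over which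
`L` is ample, then `L ⊗ N^n` is ample for all large `n` -/
theorem exists_forall_isAmple_twist [CompactSpace X] [QuasiSeparatedSpace X] {L N : X.Modules}
    (hL : PicF.IsInvertible L) (hN : PicF.IsInvertible N)
    (h : ∀ x : X, ∃ (k : ℕ) (σ : Coh.structureModule X ⟶ CohB1.tensorPow N (k + 1)),
      x ∈ CohB1.genLocus _ σ ∧ CohB1.IsAmple (L.restrict (CohB1.genLocus _ σ).ι)) :
    ∃ n₀ : ℕ, ∀ n, n₀ ≤ n → CohB1.IsAmple (CohB1.tensorMod L (CohB1.tensorPow N n)) := by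
  have key : ∀ x : X, ∃ (W : X.Opens) (n₁ : ℕ), x ∈ W ∧ IsAffineOpen W ∧ ∀ n, n₁ ≤ n →
      ∃ (m : ℕ) (s : Coh.structureModule X ⟶
        CohB1.tensorPow (CohB1.tensorMod L (CohB1.tensorPow N n)) (m + 1)),
        CohB1.genLocus _ s = W := by
    intro x
    obtain ⟨k, σ, hx, hamp⟩ := h x
    exact exists_affine_nhd_twist hL hN x k σ hx hamp
  choose W n₁ hxW hWaff hW using key
  obtain ⟨t, ht⟩ := CompactSpace.elim_nhds_subcover (fun x => (W x : Set X))
    (fun x => (W x).isOpen.mem_nhds (hxW x))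
  refine ⟨t.sup n₁, fun n hn => ⟨isInvertible_tensorMod hL (isInvertible_tensorPow hN n),
    inferInstance, fun y => ?_⟩⟩
  have hy : y ∈ ⋃ x ∈ t, (W x : Set X) := ht ▸ Set.mem_univ y
  obtain ⟨x, hxt, hyx⟩ := Set.mem_iUnion₂.mp hy
  obtain ⟨m, s, hs⟩ := hW x n ((Finset.le_sup hxt).trans hn)
  exact ⟨m, s, hs ▸ hyx, hs ▸ hWaff x⟩

end Groth.Agent.Helper4.TwistCover
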