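import Mathlib
import Groth.Prelude.Def_W4decUnivBdd
import Groth.Agent.Helper4.UB1
import Groth.Agent.Helper4.AlgSpPts
import Groth.Agent.Helper4.AlgSpPtsDesc
import Groth.Agent.Helper4.AlgSpQC2

set_option autoImplicit false
universe u
open CategoryTheory CategoryTheory.Limits AlgebraicGeometry Opposite AlgSp

namespace Groth.Agent.Helper4.UB10

open Groth.Agent.Helper4

variable {S : Scheme.{u}}

/-- an algebraic space has an étale covering by affine schemes indexed in the universe -/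
theorem exists_affine_etale_cover (Z : AlgSp.Space S) :
    ∃ (κ : Type u) (W : κ → Over S) (w : ∀ k, (yon S).obj (W k) ⟶ Z.obj),
      (∀ k, IsAffine (W k).left) ∧ (∀ k, RepWith @Etale (w k)) ∧
      ∀ z : Points Z.obj, ∃ (k : κ) (v : ↥(W k).left), Points.ofPt (w k) v = z := by
  obtain ⟨V, p, hpe, hps⟩ := Z.property.atlas
  let κ : Type u := ↥(V.left.affineOpens)
  let W : κ → Over S := fun k => Over.mk (k.1.ι ≫ V.hom)
  let jk : ∀ k : κ, W k ⟶ V := fun k => Over.homMk k.1.ι rfl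
  refine ⟨κ, W, fun k => (yon S).map (jk k) ≫ p, fun k => k.2, fun k => ?_, fun z => ?_⟩
  · refine (RepWith @Etale).comp_mem _ _ ?_ hpe
    rw [repWith_yon_map_iff]
    change Etale k.1.ι
    infer_instance
  · obtain ⟨y, hy⟩ := AlgSpPts.isSurjectiveMor_of_repWith p hps z
    obtain ⟨v0, rfl⟩ := (Points.schemeHomeo V).surjective y
    obtain ⟨A, hA, hv0, -⟩ := exists_isAffineOpen_mem_and_subset (x := v0)
      (U := (⊤ : V.left.Opens)) trivial
    refine ⟨⟨A, hA⟩, (⟨v0, hv0⟩ : ↥A), ?_⟩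
    rw [AlgSpPtsDesc.ofPt_yon_map_comp, ← hy, AlgSpQC2.ofPt_eq_map_schemeHomeo]
    rfl

end Groth.Agent.Helper4.UB10
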