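import Mathlib
import Groth.Prelude.Def_W4decUnivBdd
import Groth.Agent.Helper4.UB2
import Groth.Agent.Helper4.BddFib5

set_option autoImplicit false
universe u
open CategoryTheory CategoryTheory.Limits AlgebraicGeometry Opposite AlgSp

namespace Groth.Agent.Helper4.UB3

open Groth.Agent.Helper4.UB1 Groth.Agent.Helper4.UB2

variable {S : Scheme.{u}}

theorem degFibresLE_comp (X : AlgSp.Space S) {U V : Over S} (f : V ⟶ U)
    (g : (AlgSp.yon S).obj U ⟶ X.obj) (m n : ℕ) (hf : W4dec.DegFibresLE m ((AlgSp.yon S).map f))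
    (hg : W4dec.DegFibresLE n g) :
    W4dec.DegFibresLE (m * n) ((AlgSp.yon S).map f ≫ g) := by
  intro q T c snd sq
  -- the fibre of `g`
  obtain ⟨T', c', s', h'⟩ := X.property.representable_from_yon g q.toHom
  have hT' := hg q T' c' s' h'.flip
  -- the induced map
  obtain ⟨ρ, rfl⟩ := (yon S).map_surjective snd
  obtain ⟨σ, rfl⟩ := (yon S).map_surjective s'
  have hw : ((yon S).map ρ ≫ (yon S).map f) ≫ g = (yon S).map c ≫ q.toHom := by
    rw [Category.assoc]; exact sq.w.symm
  obtain ⟨l, hl1, hl2⟩ := h'.exists_lift _ _ hw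
  obtain ⟨τ, rfl⟩ := (yon S).map_surjective l
  have hτc : τ ≫ c' = c := by
    apply (yon S).map_injective
    rw [Functor.map_comp]; exact hl2
  -- the upper square is a pullback
  have big : IsPullback ((yon S).map ρ) ((yon S).map τ ≫ (yon S).map c') ((yon S).map f ≫ g)
      q.toHom := by
    rw [hl2]; exact sq.flip
  have up : IsPullback ((yon S).map ρ) ((yon S).map τ) ((yon S).map f) ((yon S).map σ) :=
    IsPullback.of_bot big hl1.symm h'
  have up' : IsPullback ρ.left τ.left f.left σ.left := isPullback_left (isPullback_of_yon_map up)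
  -- scheme-level bounds
  have hS := finiteOfDegLE_of q.K c'.left n hT'
  have hq := Groth.Agent.Helper5.BddBC.s7437 f.left σ.left τ.left ρ.left up' m
    (fibreDegLE_of_degFibresLE f m hf)
  have key := Groth.Agent.Helper4.BddFib5.finiteOfDegLE_comp q.K c'.left τ.left m n hS hq
  have e : τ.left ≫ c'.left = c.left := by rw [← Over.comp_left, hτc]
  rw [e] at key
  exact of_finiteOfDegLE q.K c.left (m * n) key

end Groth.Agent.Helper4.UB3
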