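import Mathlib
import Groth.Prelude.Def_W4decUnivBdd
import Groth.Agent.Helper4.UB2
import Groth.Agent.Helper4.BddFib4

set_option autoImplicit false
universe u
open CategoryTheory CategoryTheory.Limits AlgebraicGeometry Opposite AlgSp

namespace Groth.Agent.Helper4.UB4

open Groth.Agent.Helper4.UB1 Groth.Agent.Helper4.UB2

variable {S : Scheme.{u}}

theorem degFibresLE_of_flat_surjective (X : AlgSp.Space S) {U V : Over S} (f : U ⟶ V)
    [Surjective f.left] [Flat f.left] (h : (AlgSp.yon S).obj V ⟶ X.obj) (n : ℕ)
    (hg : W4dec.DegFibresLE n ((AlgSp.yon S).map f ≫ h)) : W4dec.DegFibresLE n h := by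
  intro q T c snd sq
  obtain ⟨ρ, rfl⟩ := (yon S).map_surjective snd
  -- the pullback of `U ⟶ V` to `T`
  let T'' : Over S := pullback ρ f
  have sq2 : IsPullback (pullback.fst ρ f) (pullback.snd ρ f) ρ f := IsPullback.of_hasPullback ρ f
  have sq2' := isPullback_yon_map sq2
  -- paste
  have big : IsPullback ((yon S).map (pullback.fst ρ f) ≫ (yon S).map c)
      ((yon S).map (pullback.snd ρ f)) q.toHom ((yon S).map f ≫ h) :=
    sq2'.paste_horiz sq
  rw [← Functor.map_comp] at big
  have hT'' := hg q T'' (pullback.fst ρ f ≫ c) ((yon S).map (pullback.snd ρ f)) big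
  have hfs : Surjective (pullback.fst ρ f).left ∧ Flat (pullback.fst ρ f).left := by
    have sq3 := isPullback_left sq2
    exact ⟨MorphismProperty.of_isPullback sq3.flip inferInstance,
      MorphismProperty.of_isPullback sq3.flip inferInstance⟩
  haveI := hfs.1
  haveI := hfs.2
  have hS := finiteOfDegLE_of q.K (pullback.fst ρ f ≫ c).left n hT''
  have key := Groth.Agent.Helper4.BddFib4.finiteOfDegLE_of_flat_surjective q.K
    (pullback.fst ρ f ≫ c).left c.left (pullback.fst ρ f).left (by rw [Over.comp_left]) n hS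
  exact of_finiteOfDegLE q.K c.left n key

end Groth.Agent.Helper4.UB4
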