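import Mathlib
import Groth.Prelude.Def_W4decUnivBdd
import Groth.Agent.Helper4.UB6
import Groth.Agent.Helper4.BddFib3

set_option autoImplicit false
universe u
open CategoryTheory CategoryTheory.Limits AlgebraicGeometry Opposite AlgSp

namespace Groth.Agent.Helper4.UB8

open Groth.Agent.Helper4.UB1 Groth.Agent.Helper4.UB2 Groth.Agent.Helper4.UB6

variable {S : Scheme.{u}}

theorem exists_preimage_of_isPullback {A B C D : Scheme.{u}} {a : A ⟶ B} {b : A ⟶ C} {c : B ⟶ D}
    {d : C ⟶ D} (h : IsPullback a b c d) (x : ↥B) (y : ↥C) (hxy : c x = d y) :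
    ∃ z : ↥A, a z = x ∧ b z = y := by
  obtain ⟨z', hz1, hz2⟩ := Scheme.Pullback.exists_preimage_pullback x y hxy
  refine ⟨h.isoPullback.inv z', ?_, ?_⟩
  · rw [← Scheme.Hom.comp_apply, h.isoPullback_inv_fst]; exact hz1
  · rw [← Scheme.Hom.comp_apply, h.isoPullback_inv_snd]; exact hz2

/-- counting the points of a fibre through a finite jointly surjective family -/
theorem card_fibre_le (X : AlgSp.Space S) {V : Over S} (ψ : (yon S).obj V ⟶ X.obj)
    {J : Type*} [Fintype J]
    (W : J → Over S) (e : ∀ j, W j ⟶ V)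
    (hsurj : ∀ v : ↥V.left, ∃ (j : J) (w : ↥(W j).left), (e j).left w = v)
    (n : J → ℕ) (hn : ∀ j, W4dec.DegFibresLE (n j) ((yon S).map (e j) ≫ ψ))
    (q : FieldPt X.obj) (T : Over S) (c : T ⟶ q.pt) (σ : T ⟶ V)
    (sq : IsPullback ((yon S).map c) ((yon S).map σ) q.toHom ψ) :
    Finite ↥T.left ∧ Nat.card ↥T.left ≤ ∑ j, n j := by
  have pb : ∀ j, IsPullback (pullback.fst σ (e j)) (pullback.snd σ (e j)) σ (e j) :=
    fun j => IsPullback.of_hasPullback σ (e j)
  have big : ∀ j, IsPullback ((yon S).map (pullback.fst σ (e j) ≫ c))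
      ((yon S).map (pullback.snd σ (e j))) q.toHom ((yon S).map (e j) ≫ ψ) := by
    intro j
    rw [Functor.map_comp]
    exact ((isPullback_yon_map (pb j)).flip.paste_vert sq.flip).flip
  have hcount : ∀ j, Finite ↥(pullback σ (e j)).left ∧ Nat.card ↥(pullback σ (e j)).left ≤ n j := by
    intro j
    have h1 := finiteOfDegLE_of q.K (pullback.fst σ (e j) ≫ c).left (n j)
      (hn j q (pullback σ (e j)) (pullback.fst σ (e j) ≫ c) _ (big j))
    obtain ⟨h2, -, h3⟩ := Groth.Agent.Helper4.BddFib3.count q.K _ (n j) h1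
    exact ⟨h2, h3⟩
  haveI : ∀ j, Finite ↥(pullback σ (e j)).left := fun j => (hcount j).1
  let F : (Σ j, ↥(pullback σ (e j)).left) → ↥T.left := fun z => (pullback.fst σ (e z.1)).left z.2
  have hF : Function.Surjective F := by
    intro t
    obtain ⟨j, w, hw⟩ := hsurj (σ.left t)
    obtain ⟨z, hz, -⟩ := exists_preimage_of_isPullback (isPullback_left (pb j)) t w hw.symm
    exact ⟨⟨j, z⟩, hz⟩
  haveI : Finite ↥T.left := Finite.of_surjective F hF
  refine ⟨inferInstance, ?_⟩
  calc Nat.card ↥T.left ≤ Nat.card (Σ j, ↥(pullback σ (e j)).left) :=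
        Nat.card_le_card_of_surjective F hF
    _ = ∑ j, Nat.card ↥(pullback σ (e j)).left := Nat.card_sigma
    _ ≤ ∑ j, n j := Finset.sum_le_sum fun j _ => (hcount j).2

end Groth.Agent.Helper4.UB8
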