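import Mathlib
import Groth.Prelude.Def_W4decUnivBdd
import Groth.Agent.Helper4.UB1

set_option autoImplicit false
universe u
open CategoryTheory CategoryTheory.Limits AlgebraicGeometry Opposite AlgSp

namespace Groth.Agent.Helper4.UB9

variable {S : Scheme.{u}}

theorem mono_of_injective_app {F G : Sp S} (m : F ⟶ G)
    (h : ∀ U : (Over S)ᵒᵖ, Function.Injective (m.hom.app U)) : Mono m := by
  refine (Sheaf.Hom.mono_iff_presheaf_mono _ _ m).2 ?_
  haveI : ∀ U, Mono (m.hom.app U) := fun U => (mono_iff_injective _).2 (h U)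
  exact NatTrans.mono_of_mono_app _

theorem mono_of_forall_yon {F G : Sp S} (m : F ⟶ G)
    (h : ∀ (T : Over S) (a b : (yon S).obj T ⟶ F), a ≫ m = b ≫ m → a = b) : Mono m := by
  apply mono_of_injective_app
  intro U x y hxy
  have := h U.unop ((J S).uliftYonedaEquiv.symm x) ((J S).uliftYonedaEquiv.symm y) (by
    apply (J S).uliftYonedaEquiv.injective
    rw [GrothendieckTopology.uliftYonedaEquiv_comp, GrothendieckTopology.uliftYonedaEquiv_comp,
      Equiv.apply_symm_apply, Equiv.apply_symm_apply]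
    exact hxy)
  exact (J S).uliftYonedaEquiv.symm.injective this

/-- a morphism representable by monomorphisms of schemes is a monomorphism of sheaves -/
theorem mono_of_repWith (P : MorphismProperty Scheme.{u})
    (hP : ∀ {A B : Scheme.{u}} (g : A ⟶ B), P g → Mono g) {F G : Sp S} (m : F ⟶ G)
    (hm : RepWith P m) : Mono m := by
  apply mono_of_forall_yon
  intro T a b hab
  obtain ⟨hrep, hprop⟩ := (repWith_iff P m).mp hm
  obtain ⟨Q, snd, fst, sq⟩ := hrep (a ≫ m)
  haveI : Mono snd.left := hP _ (hprop (a ≫ m) fst snd sq)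
  obtain ⟨la, hla1, hla2⟩ := sq.exists_lift a (𝟙 _) (by rw [Category.id_comp])
  obtain ⟨lb, hlb1, hlb2⟩ := sq.exists_lift b (𝟙 _) (by rw [Category.id_comp, hab])
  obtain ⟨sa, rfl⟩ := (yon S).map_surjective la
  obtain ⟨sb, rfl⟩ := (yon S).map_surjective lb
  have h1 : sa ≫ snd = 𝟙 _ := (yon S).map_injective (by rw [Functor.map_comp, hla2, CategoryTheory.Functor.map_id])
  have h2 : sb ≫ snd = 𝟙 _ := (yon S).map_injective (by rw [Functor.map_comp, hlb2, CategoryTheory.Functor.map_id])
  have h3 : sa = sb := by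
    apply Over.OverMorphism.ext
    rw [← cancel_mono snd.left, ← Over.comp_left, ← Over.comp_left, h1, h2]
  rw [← hla1, ← hlb1, h3]

theorem mono_of_repWith_isOpenImmersion {F G : Sp S} (m : F ⟶ G)
    (hm : RepWith @IsOpenImmersion m) : Mono m :=
  mono_of_repWith @IsOpenImmersion (fun g hg => by haveI : IsOpenImmersion g := hg; infer_instance) m hm

/-- the trivial base change of `ψ ≫ j` along a monomorphism `j` -/
theorem isPullback_of_mono {F G : Sp S} {V : Over S} (ψ : (yon S).obj V ⟶ F) (j : F ⟶ G) [Mono j] :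
    IsPullback (𝟙 _) ψ (ψ ≫ j) j := by
  have top : IsPullback (𝟙 ((yon S).obj V)) ψ ψ (𝟙 F) := IsPullback.of_horiz_isIso ⟨by simp⟩
  have bot : IsPullback (𝟙 F) (𝟙 F) j j := (IsKernelPair.id_of_mono j)
  have := top.paste_vert bot
  simpa using this

end Groth.Agent.Helper4.UB9
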