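import Groth.Agent.Helper4.UCAffine
import Groth.Agent.Helper4.AmpleRestrict
import Groth.Prelude.Def_LCI2
import Mathlib

set_option autoImplicit false
universe u
open CategoryTheory CategoryTheory.Limits AlgebraicGeometry Opposite TopologicalSpace

namespace Groth.Agent.Helper4.UCRel

open Groth.Agent.Helper4.UCAffine Groth.Agent.Helper4.AmpleRestrict

variable {X S : Scheme.{u}}

/-- S9694 -/
theorem isAffineHom_genLocus_of_universallyClosed (f : X ⟶ S) [UniversallyClosed f]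
    (L : X.Modules) (hL : RelAmple.IsRelAmple f L) (s : Coh.structureModule X ⟶ L) :
    IsAffineHom ((CohB1.genLocus L s).ι ≫ f) := by
  constructor
  intro V hV
  haveI : IsAffine (V : Scheme.{u}) := hV
  have hamp := hL.2 ⟨V, hV⟩
  have h1 := isAffineOpen_genLocus_of_universallyClosed (f ∣_ V) (L.restrict (f ⁻¹ᵁ V).ι) hamp
    (resSec (f ⁻¹ᵁ V).ι s)
  rw [genLocus_resSec] at h1
  set U := CohB1.genLocus L s with hU
  have h2 := h1.image_of_isOpenImmersion (f ⁻¹ᵁ V).ι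
  have h3 : (f ⁻¹ᵁ V).ι ''ᵁ ((f ⁻¹ᵁ V).ι ⁻¹ᵁ U) = U.ι ''ᵁ (U.ι ⁻¹ᵁ (f ⁻¹ᵁ V)) := by
    rw [Scheme.Hom.image_preimage_eq_opensRange_inf, Scheme.Hom.image_preimage_eq_opensRange_inf,
      Scheme.Opens.opensRange_ι, Scheme.Opens.opensRange_ι, inf_comm]
  rw [h3, Scheme.Hom.isAffineOpen_iff_of_isOpenImmersion] at h2
  exact h2

end Groth.Agent.Helper4.UCRel
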