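import Mathlib
import Groth.Prelude.Def_SGA1
import Groth.Agent.Helper3.HensFinPartC
import Groth.Agent.Helper4.IsolFib

set_option autoImplicit false
universe u
open CategoryTheory CategoryTheory.Limits AlgebraicGeometry

namespace Groth.Agent.Helper4.UnivSubmA

/-- complete local rings are henselian local rings -/
theorem henselianLocalRing_of_complete (A : Type u) [CommRing A] [IsLocalRing A]
    [IsAdicComplete (IsLocalRing.maximalIdeal A) A] : HenselianLocalRing A := by
  refine ⟨fun f hf a₀ h₁ h₂ => ?_⟩
  exact HenselianRing.is_henselian (I := IsLocalRing.maximalIdeal A) f hf a₀ h₁ (h₂.map _)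

/-- universally closed surjective morphisms are universally submersive -/
theorem univSubmersive_of_comp {W X Y : Scheme.{u}} (p : W ⟶ X) (g : X ⟶ Y)
    [UniversallyClosed (p ≫ g)] [Surjective (p ≫ g)] : SGA1.UnivSubmersive g := by
  intro X' Y' f' i₂ g' sq
  have top : IsPullback (pullback.fst p f') (pullback.snd p f') p f' := IsPullback.of_hasPullback _ _
  have big : IsPullback (pullback.fst p f') (pullback.snd p f' ≫ g') (p ≫ g) i₂ :=
    top.paste_vert sq.flip
  haveI : UniversallyClosed (pullback.snd p f' ≫ g') :=
    MorphismProperty.of_isPullback big inferInstance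
  haveI : Surjective (pullback.snd p f' ≫ g') :=
    MorphismProperty.of_isPullback big inferInstance
  have hq : Topology.IsQuotientMap (pullback.snd p f' ≫ g') :=
    (pullback.snd p f' ≫ g').isClosedMap.isQuotientMap (pullback.snd p f' ≫ g').continuous
      (pullback.snd p f' ≫ g').surjective
  change Topology.IsQuotientMap g'
  refine Topology.IsQuotientMap.of_comp (f := pullback.snd p f') (pullback.snd p f').continuous
    g'.continuous ?_
  have : ⇑g' ∘ ⇑(pullback.snd p f') = ⇑(pullback.snd p f' ≫ g') := by
    ext z; simp
  rw [this]; exact hq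

end Groth.Agent.Helper4.UnivSubmA
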