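import Mathlib
import Groth.Agent.Helper4.UnivSubmA

set_option autoImplicit false
universe u
open CategoryTheory CategoryTheory.Limits AlgebraicGeometry

namespace Groth.Agent.Helper4.UnivSubmB

open Groth.Agent.Helper4.UnivSubmA

theorem main (A : Type u) [CommRing A] [IsLocalRing A]
    [IsAdicComplete (IsLocalRing.maximalIdeal A) A]
    {S' : Scheme.{u}} (g : S' ⟶ Spec (CommRingCat.of A)) [LocallyOfFiniteType g] [QuasiCompact g]
    [Surjective g]
    (hfin : (g ⁻¹' {IsLocalRing.closedPoint A}).Finite)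
    (hsp : ∀ t : S', ∃ s' : S', g s' = IsLocalRing.closedPoint A ∧ t ⤳ s') :
    SGA1.UnivSubmersive g := by
  haveI := henselianLocalRing_of_complete A
  set s := IsLocalRing.closedPoint A with hs
  -- each point of the closed fibre is quasi-finite
  have hqf : ∀ x : S', g x = s → g.QuasiFiniteAt x := by
    intro x hxs
    rw [Scheme.Hom.quasiFiniteAt_iff_isOpen_singleton_asFiber]
    haveI : Finite ↥(g.fiber (g x)) := by
      rw [hxs]
      haveI : Finite ↥(g ⁻¹' {s}) := hfin.to_subtype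
      exact (g.fiberHomeo s).finite_iff.mpr inferInstance
    exact isOpen_discrete _
  have hcov : ∀ i : ↥(g ⁻¹' {s}), ∃ U : S'.Opens, IsAffineOpen U ∧ i.1 ∈ U ∧
      U ≤ g.quasiFiniteLocus := by
    intro i
    obtain ⟨_, ⟨U, hU, rfl⟩, hxU, hUle⟩ := S'.isBasis_affineOpens.exists_subset_of_mem_open
      (show i.1 ∈ (g.quasiFiniteLocus : Set S') from hqf i.1 i.2) g.quasiFiniteLocus.2
    exact ⟨U, hU, hxU, hUle⟩
  choose U hU1 hU2 hU3 using hcov
  haveI : Finite ↥(g ⁻¹' {s}) := hfin.to_subtype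
  haveI : ∀ i, IsAffine ((fun i : ↥(g ⁻¹' {s}) => (U i).toScheme) i) := hU1
  let X : Scheme.{u} := ∐ fun i : ↥(g ⁻¹' {s}) => (U i).toScheme
  let h : X ⟶ S' := Sigma.desc fun i => (U i).ι
  haveI : LocallyOfFiniteType h := IsZariskiLocalAtSource.sigmaDesc (fun i => inferInstance)
  have hhg : h ≫ g = Sigma.desc fun i => (U i).ι ≫ g := by
    apply Sigma.hom_ext
    intro i
    simp [h]
  haveI : LocallyQuasiFinite (h ≫ g) := by
    rw [hhg]
    refine IsZariskiLocalAtSource.sigmaDesc (fun i => ?_)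
    have : (U i).ι ≫ g = S'.homOfLE (hU3 i) ≫ (g.quasiFiniteLocus.ι ≫ g) := by
      rw [← Category.assoc, Scheme.homOfLE_ι]
    rw [this]
    infer_instance
  haveI : IsAffine X := inferInstance
  obtain ⟨W, hWc, hWf, hW⟩ := Groth.Agent.Helper3.HensFinPart.exists_finite_part_local A (h ≫ g)
  let p : (W : Scheme.{u}) ⟶ S' := W.ι ≫ h
  haveI : IsFinite (p ≫ g) := by
    change IsFinite ((W.ι ≫ h) ≫ g)
    rw [Category.assoc]; exact hWf
  haveI : Surjective p := by
    refine ⟨fun t => ?_⟩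
    obtain ⟨s', hs', hts⟩ := hsp t
    let i : ↥(g ⁻¹' {s}) := ⟨s', hs'⟩
    have hs'U : s' ∈ U i := hU2 i
    have htU : t ∈ U i := hts.mem_open (U i).2 hs'U
    let t' : ↥(U i) := ⟨t, htU⟩
    let s'' : ↥(U i) := ⟨s', hs'U⟩
    have hsp' : t' ⤳ s'' := (subtype_specializes_iff t' s'').mpr hts
    let ιi : (U i).toScheme ⟶ X := Sigma.ι (fun i : ↥(g ⁻¹' {s}) => (U i).toScheme) i
    have hιh : ιi ≫ h = (U i).ι := by simp [ιi, h]
    have hxs : ιi s'' ∈ W := by
      apply hW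
      rw [Scheme.Hom.comp_apply, ← Scheme.Hom.comp_apply ιi h, hιh]
      exact hs'
    have hxt : ιi t' ∈ W := (hsp'.map ιi.continuous).mem_open W.2 hxs
    refine ⟨⟨ιi t', hxt⟩, ?_⟩
    change h (W.ι ⟨ιi t', hxt⟩) = t
    change h (ιi t') = t
    rw [← Scheme.Hom.comp_apply, hιh]
    rfl
  exact univSubmersive_of_comp p g

end Groth.Agent.Helper4.UnivSubmB
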