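import Mathlib

/-! Universal first order thickenings of formally unramified algebras. -/

set_option autoImplicit false
universe u
open KaehlerDifferential TensorProduct

namespace Groth.Agent.Helper4.UnivThick

section Key

variable {R P A : Type*} [CommRing R] [CommRing P] [CommRing A] [Algebra R P] [Algebra R A]

/-- Two algebra maps `P → A` that agree modulo a square-zero ideal `I`, with `φ₀ J ⊆ I`, agree on
all `p` with `d p ∈ J Ω_{P/R}`. -/
theorem eq_of_D_mem (J : Ideal P) (I : Ideal A) (hI : I ^ 2 = ⊥) (φ₀ φ₁ : P →ₐ[R] A)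
    (hdiff : ∀ p, φ₁ p - φ₀ p ∈ I) (hJ : ∀ j ∈ J, φ₀ j ∈ I) (p : P)
    (hp : D R P p ∈ J • (⊤ : Submodule P Ω[P⁄R])) : φ₁ p = φ₀ p := by
  have hII : ∀ x ∈ I, ∀ y ∈ I, x * y = 0 := by
    intro x hx y hy
    have : x * y ∈ I ^ 2 := by rw [pow_two]; exact Ideal.mul_mem_mul hx hy
    rw [hI] at this
    exact this
  letI : Module P A := Module.compHom A φ₀.toRingHom
  have hsmul : ∀ (q : P) (x : A), q • x = φ₀ q * x := fun q x => rfl
  haveI : IsScalarTower R P A := ⟨fun r q x => by
    rw [hsmul, hsmul, map_smul, smul_mul_assoc]⟩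
  let E : Derivation R P A :=
    { toLinearMap := φ₁.toLinearMap - φ₀.toLinearMap
      map_one_eq_zero' := by simp
      leibniz' := fun a b => by
        simp only [LinearMap.sub_apply, AlgHom.toLinearMap_apply, map_mul, hsmul]
        have := hII _ (hdiff a) _ (hdiff b)
        linear_combination this }
  have hE : ∀ q, E q = φ₁ q - φ₀ q := fun q => rfl
  let ℓ := E.liftKaehlerDifferential
  have hℓI : ∀ ω : Ω[P⁄R], ℓ ω ∈ I := by
    intro ω
    have hω : ω ∈ Submodule.span P (Set.range (D R P)) := by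
      rw [span_range_derivation]; trivial
    induction hω using Submodule.span_induction with
    | mem x hx =>
      obtain ⟨q, rfl⟩ := hx
      rw [Derivation.liftKaehlerDifferential_comp_D, hE]
      exact hdiff q
    | zero => simp
    | add x y _ _ hx hy => rw [map_add]; exact I.add_mem hx hy
    | smul a x _ hx => rw [map_smul, hsmul]; exact I.mul_mem_left _ hx
  have hℓ0 : ∀ ω ∈ J • (⊤ : Submodule P Ω[P⁄R]), ℓ ω = 0 := by
    intro ω hω
    induction hω using Submodule.smul_induction_on' with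
    | smul j hj ω' _ =>
      rw [map_smul, hsmul]
      exact hII _ (hJ j hj) _ (hℓI ω')
    | add x _ y _ hx hy => rw [map_add, hx, hy, add_zero]
  have := hℓ0 _ hp
  rw [Derivation.liftKaehlerDifferential_comp_D, hE, sub_eq_zero] at this
  exact this

end Key

end Groth.Agent.Helper4.UnivThick

namespace Groth.Agent.Helper4.UnivThick

section Main

variable (R : Type u) [CommRing R] (S : Type u) [CommRing S] [Algebra R S]

/-- The polynomial presentation. -/
noncomputable def π₀ : MvPolynomial S R →ₐ[R] S := MvPolynomial.aeval id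

theorem π₀_X (s : S) : π₀ R S (MvPolynomial.X s) = s := by simp [π₀]

theorem π₀_surj : Function.Surjective (π₀ R S) := fun s => ⟨MvPolynomial.X s, π₀_X R S s⟩

/-- The kernel of the presentation. -/
noncomputable def J : Ideal (MvPolynomial S R) := RingHom.ker (π₀ R S)

theorem mem_J {p : MvPolynomial S R} : p ∈ J R S ↔ π₀ R S p = 0 := RingHom.mem_ker

/-- Polynomials whose differential vanishes modulo `J`. -/
noncomputable def S0 : Subalgebra R (MvPolynomial S R) where
  carrier := {p | D R (MvPolynomial S R) p ∈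
    J R S • (⊤ : Submodule (MvPolynomial S R) Ω[MvPolynomial S R⁄R])}
  mul_mem' := by
    intro a b ha hb
    rw [Set.mem_setOf_eq] at ha hb ⊢
    rw [Derivation.leibniz]
    exact add_mem (Submodule.smul_mem _ _ hb) (Submodule.smul_mem _ _ ha)
  add_mem' := by
    intro a b ha hb
    rw [Set.mem_setOf_eq] at ha hb ⊢
    rw [map_add]
    exact add_mem ha hb
  algebraMap_mem' := by
    intro r
    rw [Set.mem_setOf_eq, Derivation.map_algebraMap]
    exact zero_mem _

theorem mem_S0 {p : MvPolynomial S R} : p ∈ S0 R S ↔ D R (MvPolynomial S R) p ∈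
    J R S • (⊤ : Submodule (MvPolynomial S R) Ω[MvPolynomial S R⁄R]) := Iff.rfl

variable [Algebra.FormallyUnramified R S]

theorem exists_mem_J (p : MvPolynomial S R) : ∃ j ∈ J R S, p - j ∈ S0 R S := by
  let e : S ≃ₐ[R] (MvPolynomial S R ⧸ J R S) :=
    (Ideal.quotientKerAlgEquivOfSurjective (π₀_surj R S)).symm
  haveI : Algebra.FormallyUnramified R (MvPolynomial S R ⧸ J R S) :=
    Algebra.FormallyUnramified.of_equiv e
  have h := KaehlerDifferential.range_kerCotangentToTensor R (MvPolynomial S R)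
    (MvPolynomial S R ⧸ J R S) Ideal.Quotient.mk_surjective
  have hn : ((1 : MvPolynomial S R ⧸ J R S) ⊗ₜ[MvPolynomial S R] D R (MvPolynomial S R) p) ∈
      LinearMap.range (kerCotangentToTensor R (MvPolynomial S R) (MvPolynomial S R ⧸ J R S)) := by
    rw [h]
    rw [Submodule.restrictScalars_mem, LinearMap.mem_ker]
    exact Subsingleton.elim _ _
  obtain ⟨c, hc⟩ := hn
  obtain ⟨⟨j, hj⟩, rfl⟩ := Ideal.toCotangent_surjective _ c
  rw [kerCotangentToTensor_toCotangent] at hc
  have hjJ : j ∈ J R S := by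
    rw [RingHom.mem_ker] at hj
    exact Ideal.Quotient.eq_zero_iff_mem.1 hj
  refine ⟨j, hjJ, ?_⟩
  rw [mem_S0, map_sub]
  have h2 := congrArg (TensorProduct.quotTensorEquivQuotSMul Ω[MvPolynomial S R⁄R] (J R S)) hc
  rw [TensorProduct.quotTensorEquivQuotSMul_mk_one_tmul,
    TensorProduct.quotTensorEquivQuotSMul_mk_one_tmul] at h2
  exact (Submodule.Quotient.eq _).1 h2.symm

end Main

end Groth.Agent.Helper4.UnivThick

namespace Groth.Agent.Helper4.UnivThick

section Main2

variable (R : Type u) [CommRing R] (S : Type u) [CommRing S] [Algebra R S]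
  [Algebra.FormallyUnramified R S]

/-- Chosen corrections of the variables. -/
noncomputable def jX (s : S) : MvPolynomial S R := (exists_mem_J R S (MvPolynomial.X s)).choose

theorem jX_mem (s : S) : jX R S s ∈ J R S := (exists_mem_J R S (MvPolynomial.X s)).choose_spec.1

theorem X_sub_jX_mem (s : S) : MvPolynomial.X s - jX R S s ∈ S0 R S :=
  (exists_mem_J R S (MvPolynomial.X s)).choose_spec.2

/-- The corrected substitution. -/
noncomputable def θ : MvPolynomial S R →ₐ[R] MvPolynomial S R :=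
  MvPolynomial.aeval (fun s => MvPolynomial.X s - jX R S s)

theorem θ_mem (p : MvPolynomial S R) : θ R S p ∈ S0 R S := by
  induction p using MvPolynomial.induction_on with
  | C r =>
    have : θ R S (MvPolynomial.C r) = algebraMap R _ r := by simp [θ]
    rw [this]
    exact (S0 R S).algebraMap_mem r
  | add p q hp hq => rw [map_add]; exact add_mem hp hq
  | mul_X p s hp =>
    rw [map_mul]
    refine mul_mem hp ?_
    have : θ R S (MvPolynomial.X s) = MvPolynomial.X s - jX R S s := by simp [θ]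
    rw [this]
    exact X_sub_jX_mem R S s

theorem π₀_θ (p : MvPolynomial S R) : π₀ R S (θ R S p) = π₀ R S p := by
  have : (π₀ R S).comp (θ R S) = π₀ R S := MvPolynomial.algHom_ext (fun s => by
    simp [θ, π₀_X, (mem_J R S).1 (jX_mem R S s)])
  exact DFunLike.congr_fun this p

theorem θ_sub_mem_J (p : MvPolynomial S R) : θ R S p - p ∈ J R S := by
  rw [mem_J, map_sub, π₀_θ, sub_self]

/-- The first order neighbourhood ring. -/
abbrev Q := MvPolynomial S R ⧸ (J R S) ^ 2

/-- The image of `J` in `Q`. -/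
noncomputable def IQ : Ideal (Q R S) := (J R S).map (Ideal.Quotient.mk ((J R S) ^ 2))

theorem IQ_sq : IQ R S ^ 2 = ⊥ := by
  rw [IQ, ← Ideal.map_pow, Ideal.map_quotient_self]

theorem mk_θ_eq (p : MvPolynomial S R) (hp : p ∈ S0 R S) :
    Ideal.Quotient.mk ((J R S) ^ 2) (θ R S p) = Ideal.Quotient.mk ((J R S) ^ 2) p := by
  have := eq_of_D_mem (R := R) (J R S) (IQ R S) (IQ_sq R S)
    (Ideal.Quotient.mkₐ R ((J R S) ^ 2))
    ((Ideal.Quotient.mkₐ R ((J R S) ^ 2)).comp (θ R S))
    (fun q => by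
      show Ideal.Quotient.mk _ (θ R S q) - Ideal.Quotient.mk _ q ∈ IQ R S
      rw [← map_sub]
      exact Ideal.mem_map_of_mem _ (θ_sub_mem_J R S q))
    (fun j hj => Ideal.mem_map_of_mem _ hj) p hp
  exact this

end Main2

end Groth.Agent.Helper4.UnivThick

namespace Groth.Agent.Helper4.UnivThick

section Main3

variable (R : Type u) [CommRing R] (S : Type u) [CommRing S] [Algebra R S]
  [Algebra.FormallyUnramified R S]

/-- The universal thickening ring. -/
noncomputable def S' : Subalgebra R (Q R S) :=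
  (S0 R S).map (Ideal.Quotient.mkₐ R ((J R S) ^ 2))

/-- The projection `Q → S`. -/
noncomputable def πQ : Q R S →ₐ[R] S :=
  Ideal.Quotient.liftₐ ((J R S) ^ 2) (π₀ R S)
    (fun x hx => (mem_J R S).1 (Ideal.pow_le_self two_ne_zero hx))

theorem πQ_mk (p : MvPolynomial S R) : πQ R S (Ideal.Quotient.mk _ p) = π₀ R S p := rfl

/-- The projection `S' → S`. -/
noncomputable def π' : S' R S →ₐ[R] S := (πQ R S).comp (S' R S).val

/-- Elements of `S'` from elements of `S0`. -/
noncomputable def toS' (p : MvPolynomial S R) (hp : p ∈ S0 R S) : S' R S :=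
  ⟨Ideal.Quotient.mk _ p, ⟨p, hp, rfl⟩⟩

theorem exists_toS' (x : S' R S) : ∃ p hp, x = toS' R S p hp := by
  obtain ⟨p, hp, hpx⟩ := x.2
  exact ⟨p, hp, Subtype.ext hpx.symm⟩

theorem π'_toS' (p : MvPolynomial S R) (hp : p ∈ S0 R S) : π' R S (toS' R S p hp) = π₀ R S p := rfl

theorem π'_surj : Function.Surjective (π' R S) := by
  intro s
  obtain ⟨p, hp⟩ := π₀_surj R S s
  obtain ⟨j, hj, hpj⟩ := exists_mem_J R S p
  refine ⟨toS' R S (p - j) hpj, ?_⟩
  rw [π'_toS', map_sub, hp, (mem_J R S).1 hj, sub_zero]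

theorem ker_π'_sq : RingHom.ker (π' R S).toRingHom ^ 2 = ⊥ := by
  rw [eq_bot_iff, show RingHom.ker (π' R S).toRingHom ^ 2 =
    RingHom.ker (π' R S).toRingHom * RingHom.ker (π' R S).toRingHom from pow_two _, Ideal.mul_le]
  intro x hx y hy
  obtain ⟨p, hp, rfl⟩ := exists_toS' R S x
  obtain ⟨q, hq, rfl⟩ := exists_toS' R S y
  have hpJ : p ∈ J R S := (mem_J R S).2 hx
  have hqJ : q ∈ J R S := (mem_J R S).2 hy
  rw [Ideal.mem_bot]
  apply Subtype.ext
  show Ideal.Quotient.mk _ p * Ideal.Quotient.mk _ q = 0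
  rw [← map_mul, Ideal.Quotient.eq_zero_iff_mem, pow_two]
  exact Ideal.mul_mem_mul hpJ hqJ

theorem univ (A : Type u) [CommRing A] [Algebra R A] (I : Ideal A) (hI : I ^ 2 = ⊥)
    (a : S →ₐ[R] A ⧸ I) :
    ∃! a' : S' R S →ₐ[R] A, (Ideal.Quotient.mkₐ R I).comp a' = a.comp (π' R S) := by
  have hII : ∀ x ∈ I, ∀ y ∈ I, x * y = 0 := by
    intro x hx y hy
    have : x * y ∈ I ^ 2 := by rw [pow_two]; exact Ideal.mul_mem_mul hx hy
    rw [hI] at this
    exact this
  -- any lift `φ` of `a ∘ π₀` induces a map on `S'`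
  have key : ∀ φ : MvPolynomial S R →ₐ[R] A,
      (Ideal.Quotient.mkₐ R I).comp φ = a.comp (π₀ R S) →
      (∀ j ∈ J R S, φ j ∈ I) ∧ ∃ ψ : S' R S →ₐ[R] A, (∀ p hp, ψ (toS' R S p hp) = φ p) ∧
        (Ideal.Quotient.mkₐ R I).comp ψ = a.comp (π' R S) := by
    intro φ hφ
    have hφ' : ∀ p, Ideal.Quotient.mk I (φ p) = a (π₀ R S p) := fun p =>
      DFunLike.congr_fun hφ p
    have hφJ : ∀ j ∈ J R S, φ j ∈ I := by
      intro j hj
      rw [← Ideal.Quotient.eq_zero_iff_mem, hφ', (mem_J R S).1 hj, map_zero]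
    have hφJ2 : ∀ x ∈ (J R S) ^ 2, φ x = 0 := by
      intro x hx
      rw [pow_two] at hx
      induction hx using Submodule.mul_induction_on' with
      | mem_mul_mem j hj j' hj' => rw [map_mul]; exact hII _ (hφJ j hj) _ (hφJ j' hj')
      | add x _ y _ hx hy => rw [map_add, hx, hy, add_zero]
    refine ⟨hφJ, (Ideal.Quotient.liftₐ ((J R S) ^ 2) φ hφJ2).comp (S' R S).val, fun p hp => rfl, ?_⟩
    apply AlgHom.ext
    intro x
    obtain ⟨p, hp, rfl⟩ := exists_toS' R S x
    exact hφ' p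
  -- a lift exists
  have hsurj : ∀ s : S, ∃ x : A, Ideal.Quotient.mk I x = a s := fun s =>
    Ideal.Quotient.mk_surjective (a s)
  choose g hg using hsurj
  let φ₀ : MvPolynomial S R →ₐ[R] A := MvPolynomial.aeval g
  have hφ₀ : (Ideal.Quotient.mkₐ R I).comp φ₀ = a.comp (π₀ R S) :=
    MvPolynomial.algHom_ext (fun s => by simp [φ₀, π₀_X, hg])
  obtain ⟨hφ₀J, ψ₀, hψ₀, hψ₀'⟩ := key φ₀ hφ₀
  refine ⟨ψ₀, hψ₀', fun a'' ha'' => ?_⟩
  -- uniqueness
  have ha''x : ∀ x, Ideal.Quotient.mk I (a'' x) = a (π' R S x) := fun x =>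
    DFunLike.congr_fun ha'' x
  let Θ' : MvPolynomial S R →ₐ[R] S' R S :=
    ((Ideal.Quotient.mkₐ R ((J R S) ^ 2)).comp (θ R S)).codRestrict (S' R S)
      (fun p => ⟨θ R S p, θ_mem R S p, rfl⟩)
  have hΘ' : ∀ p, Θ' p = toS' R S (θ R S p) (θ_mem R S p) := fun p => rfl
  let φ₂ : MvPolynomial S R →ₐ[R] A := a''.comp Θ'
  have hφ₂ : (Ideal.Quotient.mkₐ R I).comp φ₂ = a.comp (π₀ R S) := by
    apply AlgHom.ext
    intro p
    show Ideal.Quotient.mk I (a'' (Θ' p)) = a (π₀ R S p)
    rw [ha''x, hΘ', π'_toS', π₀_θ]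
  have h02 : ∀ p ∈ S0 R S, φ₂ p = φ₀ p := by
    intro p hp
    refine eq_of_D_mem (R := R) (J R S) I hI φ₀ φ₂ (fun q => ?_) hφ₀J p hp
    rw [← Ideal.Quotient.eq]
    exact (DFunLike.congr_fun hφ₂ q).trans (DFunLike.congr_fun hφ₀ q).symm
  apply AlgHom.ext
  intro x
  obtain ⟨p, hp, rfl⟩ := exists_toS' R S x
  rw [hψ₀, ← h02 p hp]
  show a'' (toS' R S p hp) = a'' (Θ' p)
  congr 1
  rw [hΘ']
  exact Subtype.ext (mk_θ_eq R S p hp).symm

end Main3

end Groth.Agent.Helper4.UnivThick
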