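import Groth.Prelude.Def_Omega3
import Mathlib

set_option autoImplicit false
universe u
open OmegaSh

namespace Groth.Agent.Helper4.UnivThick2

variable {A : Type u} [CommRing A] {B : Type u} [CommRing B] [Algebra A B]
  {B' : Type u} [CommRing B'] [Algebra A B'] {π : B' →ₐ[A] B}

/-- Lemma U: two `A`-algebra maps out of a universal thickening `B'` that agree modulo a square-zero
ideal `N` containing the image of `ker π` are equal. -/
theorem lemmaU (h : OmegaSh.IsUnivThickeningRing A B B' π)
    {C : Type u} [CommRing C] [Algebra A C] (N : Ideal C) (hN : N ^ 2 = ⊥)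
    (f₁ f₂ : B' →ₐ[A] C) (hf₁ : ∀ x, π x = 0 → f₁ x ∈ N) (hc : ∀ x, f₂ x - f₁ x ∈ N) :
    f₁ = f₂ := by
  obtain ⟨hsurj, -, huniv⟩ := h
  have H : RingHom.ker π.toRingHom ≤
      RingHom.ker ((Ideal.Quotient.mkₐ A N).comp f₁).toRingHom := by
    intro x hx
    rw [RingHom.mem_ker] at hx ⊢
    change Ideal.Quotient.mk N (f₁ x) = 0
    rw [Ideal.Quotient.eq_zero_iff_mem]
    exact hf₁ x hx
  let a : B →ₐ[A] C ⧸ N := AlgHom.liftOfSurjective π hsurj ((Ideal.Quotient.mkₐ A N).comp f₁) H
  have h1 : (Ideal.Quotient.mkₐ A N).comp f₁ = a.comp π :=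
    (AlgHom.liftOfSurjective_comp π hsurj _ H).symm
  have h2 : (Ideal.Quotient.mkₐ A N).comp f₂ = a.comp π := by
    rw [← h1]
    ext x
    change Ideal.Quotient.mk N (f₂ x) = Ideal.Quotient.mk N (f₁ x)
    rw [Ideal.Quotient.eq]
    exact hc x
  exact (huniv C N hN a).unique h1 h2

theorem formallyUnramified (h : OmegaSh.IsUnivThickeningRing A B B' π) :
    Algebra.FormallyUnramified A B' := by
  rw [Algebra.FormallyUnramified.iff_comp_injective]
  intro C _ _ I hI f₁ f₂ e
  have hker : RingHom.ker π.toRingHom ^ 2 = ⊥ := h.2.1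
  have hcong : ∀ x, f₂ x - f₁ x ∈ I := by
    intro x
    have := DFunLike.congr_fun e x
    change Ideal.Quotient.mk I (f₁ x) = Ideal.Quotient.mk I (f₂ x) at this
    rw [eq_comm, Ideal.Quotient.eq] at this
    exact this
  set N : Ideal C := (RingHom.ker π.toRingHom).map f₁.toRingHom with hNdef
  have hN : N ^ 2 = ⊥ := by
    rw [hNdef, ← Ideal.map_pow, hker, Ideal.map_bot]
  have hf₁N : ∀ x, π x = 0 → f₁ x ∈ N := fun x hx =>
    Ideal.mem_map_of_mem f₁.toRingHom (show x ∈ RingHom.ker π.toRingHom from hx)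
  -- Step 1 : f₂ x - f₁ x ∈ I * N
  have hIN2 : (I ⊔ N) ^ 2 ≤ I * N := by
    rw [pow_two, Ideal.sup_mul, Ideal.mul_sup, Ideal.mul_sup]
    refine sup_le (sup_le ?_ le_rfl) (sup_le ?_ ?_)
    · rw [← pow_two, hI]; exact bot_le
    · rw [mul_comm]
    · rw [← pow_two, hN]; exact bot_le
  have step1 : ∀ x, f₂ x - f₁ x ∈ I * N := by
    let q := Ideal.Quotient.mkₐ A (I * N)
    have hq : Function.Surjective q := Ideal.Quotient.mkₐ_surjective A _
    let M : Ideal (C ⧸ (I * N)) := (I ⊔ N).map q.toRingHom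
    have hM : M ^ 2 = ⊥ := by
      rw [← Ideal.map_pow, eq_bot_iff]
      refine (Ideal.map_mono hIN2).trans ?_
      rw [Ideal.map_le_iff_le_comap]
      intro y hy
      rw [Ideal.mem_comap, Ideal.mem_bot]
      exact Ideal.Quotient.eq_zero_iff_mem.mpr hy
    have := lemmaU h M hM (q.comp f₁) (q.comp f₂)
      (fun x hx => Ideal.mem_map_of_mem q.toRingHom (Ideal.mem_sup_right (hf₁N x hx)))
      (fun x => by
        have : (q.comp f₂) x - (q.comp f₁) x = q (f₂ x - f₁ x) := by simp
        rw [this]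
        exact Ideal.mem_map_of_mem q.toRingHom (Ideal.mem_sup_left (hcong x)))
    intro x
    have hx := DFunLike.congr_fun this x
    change Ideal.Quotient.mk _ (f₁ x) = Ideal.Quotient.mk _ (f₂ x) at hx
    rw [eq_comm, Ideal.Quotient.eq] at hx
    exact hx
  exact lemmaU h N hN f₁ f₂ hf₁N (fun x => Ideal.mul_le_right (I := I) (J := N) (step1 x))


open TrivSqZeroExt in
/-- Lemma G: an "`A`-derivation with values in a `B`-module" extends along the universal
thickening `B'`. -/
theorem exists_derivation_extension (h : OmegaSh.IsUnivThickeningRing A B B' π)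
    (M : Type u) [AddCommGroup M] [Module B M]
    (d : A →+ M) (hd : ∀ x y, d (x * y) = algebraMap A B x • d y + algebraMap A B y • d x) :
    ∃ δ : B' →+ M, (∀ x y, δ (x * y) = π x • δ y + π y • δ x) ∧
      ∀ a, δ (algebraMap A B' a) = d a := by
  letI : Module Bᵐᵒᵖ M := Module.compHom _ ((RingHom.id B).fromOpposite mul_comm)
  haveI : IsCentralScalar B M := ⟨fun r m => rfl⟩
  have hop : ∀ (b : B) (m : M), MulOpposite.op b • m = b • m := fun b m => rfl
  have hd1 : d 1 = 0 := by
    have := hd 1 1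
    simp only [mul_one, map_one, one_smul] at this
    exact left_eq_add.mp this
  let ι : A →+* TrivSqZeroExt B M :=
    { toFun := fun a => inl (algebraMap A B a) + inr (d a)
      map_one' := by simp [hd1]
      map_mul' := by
        intro x y
        ext
        · simp
        · simp [hd, hop, add_comm]
      map_zero' := by simp
      map_add' := by
        intro x y
        ext
        · simp
        · simp }
  letI : Algebra A (TrivSqZeroExt B M) := ι.toAlgebra
  have hι : ∀ a, algebraMap A (TrivSqZeroExt B M) a = inl (algebraMap A B a) + inr (d a) :=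
    fun a => rfl
  let N : Ideal (TrivSqZeroExt B M) := TrivSqZeroExt.kerIdeal B M
  have hN : N ^ 2 = ⊥ := TrivSqZeroExt.kerIdeal_sq B M
  let a : B →ₐ[A] TrivSqZeroExt B M ⧸ N :=
    { toRingHom := (Ideal.Quotient.mk N).comp (inlHom B M)
      commutes' := by
        intro x
        change Ideal.Quotient.mk N (inl (algebraMap A B x)) =
          Ideal.Quotient.mk N (algebraMap A (TrivSqZeroExt B M) x)
        rw [eq_comm, Ideal.Quotient.eq, hι, add_sub_cancel_left]
        change inr (d x) ∈ TrivSqZeroExt.kerIdeal B M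
        rw [TrivSqZeroExt.mem_kerIdeal_iff_inr]
        simp }
  obtain ⟨a', ha', -⟩ := h.2.2 (TrivSqZeroExt B M) N hN a
  have hfst : ∀ x, (a' x).fst = π x := by
    intro x
    have := DFunLike.congr_fun ha' x
    change Ideal.Quotient.mk N (a' x) = Ideal.Quotient.mk N (inl (π x)) at this
    rw [Ideal.Quotient.eq] at this
    change a' x - inl (π x) ∈ TrivSqZeroExt.kerIdeal B M at this
    rw [TrivSqZeroExt.mem_kerIdeal_iff_inr] at this
    have := congrArg TrivSqZeroExt.fst this
    simpa [sub_eq_zero] using this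
  refine ⟨(TrivSqZeroExt.sndHom B M).toAddMonoidHom.comp a'.toAddMonoidHom, ?_, ?_⟩
  · intro x y
    change (a' (x * y)).snd = π x • (a' y).snd + π y • (a' x).snd
    rw [map_mul, TrivSqZeroExt.snd_mul, hfst, hfst, hop]
  · intro x
    change (a' (algebraMap A B' x)).snd = d x
    rw [AlgHom.commutes, hι]
    simp

end Groth.Agent.Helper4.UnivThick2
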