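import Mathlib
import Groth.Prelude.Def_EtModW
import Groth.Prelude.Def_ARSys
import Groth.Agent.Helper4.AdicKer

set_option autoImplicit false

/-!
# Sections over a weakly contractible object of the pro-étale site are exact
-/

universe u

open CategoryTheory CategoryTheory.Limits AlgebraicGeometry Opposite

namespace Groth.Agent.Helper4.WCSections

variable (Λ : Type (u + 1)) [CommRing Λ] {X : Scheme.{u}}

/-- sections over `U` -/
noncomputable abbrev Γ (U : X.ProEt) : EtModW.ModP Λ X ⥤ ModuleCat.{u + 1} Λ :=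
  sheafToPresheaf (Scheme.ProEt.topology X) (ModuleCat.{u + 1} Λ) ⋙ (evaluation _ _).obj (op U)

instance (U : X.ProEt) : (Γ Λ U).Additive where

instance (U : X.ProEt) : (Γ Λ U).Linear Λ where

/-- epimorphisms of sheaves of modules are surjective on sections over a weakly contractible
object -/
theorem surjective_of_epi_of_isWC {F G : EtModW.ModP Λ X} (φ : F ⟶ G) [Epi φ] (U : X.ProEt)
    (hU : ProEtS.IsWC U) : Function.Surjective ((Γ Λ U).map φ).hom := by
  have h1 : Sheaf.IsLocallySurjective φ :=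
    (Sheaf.isLocallySurjective_iff_epi' (ModuleCat.{u + 1} Λ) φ).2 inferInstance
  let φ' := (sheafCompose (Scheme.ProEt.topology X) (forget (ModuleCat.{u + 1} Λ))).map φ
  have h2 : Sheaf.IsLocallySurjective φ' :=
    (Presheaf.isLocallySurjective_iff_whisker_forget (Scheme.ProEt.topology X) φ.hom).1 h1
  have h3 : Epi φ' := (Sheaf.isLocallySurjective_iff_epi φ').1 h2
  intro y
  obtain ⟨x, hx⟩ := hU _ _ φ' h3 y
  exact ⟨x, hx⟩

theorem preservesFiniteColimits_Γ (U : X.ProEt) (hU : ProEtS.IsWC U) :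
    PreservesFiniteColimits (Γ Λ U) := by
  refine ((Γ Λ U).preservesFiniteColimits_tfae.out 0 3).1 ?_
  intro S hS
  haveI := hS.epi_g
  refine ⟨hS.exact.map_of_mono_of_preservesKernel (Γ Λ U) hS.mono_f inferInstance, ?_⟩
  rw [ModuleCat.epi_iff_surjective]
  exact surjective_of_epi_of_isWC Λ S.g U hU

section Quot

instance : HasFiniteBiproducts (EtModW.ModP Λ X) := Abelian.hasFiniteBiproducts

variable {Λ}
variable {F Q : EtModW.ModP Λ X} (p : F ⟶ Q) {I : Ideal Λ} (s : Finset Λ) (hs : Ideal.span (s : Set Λ) = I)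

/-- the map `F^s ⟶ F` given by multiplication by the generators -/
noncomputable def mulMap (F : EtModW.ModP Λ X) (s : Finset Λ) : (⨁ (fun _ : ↥s => F)) ⟶ F :=
  biproduct.desc (fun i : ↥s => (i.1 • 𝟙 F))

include hs in
theorem mulMap_comp (hp : ARSys.IsQuot I p) : mulMap F s ≫ p = 0 := by
  apply biproduct.hom_ext'
  intro i
  rw [mulMap, biproduct.ι_desc_assoc, comp_zero, Linear.smul_comp, Category.id_comp]
  have h1 : i.1 • p = p ≫ (i.1 • 𝟙 Q) := by rw [Linear.comp_smul, Category.comp_id]
  rw [h1, hp.1 i.1 (hs ▸ Ideal.subset_span i.2), comp_zero]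

include hs in
theorem exact_mulMap (hp : ARSys.IsQuot I p) :
    (ShortComplex.mk (mulMap F s) p (mulMap_comp p s hs hp)).Exact := by
  rw [ShortComplex.exact_iff_kernel_ι_comp_cokernel_π_zero]
  show kernel.ι p ≫ cokernel.π (mulMap F s) = 0
  have hk : ARSys.HomKilledBy I (cokernel.π (mulMap F s)) := by
    intro a ha
    rw [← hs] at ha
    induction ha using Submodule.span_induction with
    | mem a ha =>
      have h1 : a • cokernel.π (mulMap F s) = (a • 𝟙 F) ≫ cokernel.π (mulMap F s) := by
        rw [Linear.smul_comp, Category.id_comp]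
      have h2 : (a • 𝟙 F) = biproduct.ι (fun _ : ↥s => F) ⟨a, ha⟩ ≫ mulMap F s := by
        rw [mulMap, biproduct.ι_desc]
      rw [h1, h2, Category.assoc, cokernel.condition, comp_zero]
    | zero => exact zero_smul _ _
    | add a b _ _ ha hb => rw [add_smul, ha, hb, add_zero]
    | smul r a _ ha => rw [smul_eq_mul, mul_smul, ha, smul_zero]
  obtain ⟨ψ, hψ, -⟩ := hp.2 _ _ hk
  rw [← hψ, kernel.condition_assoc, zero_comp]

include hs in
/-- sections over a weakly contractible object commute with the quotient modulo `I` -/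
theorem sections_isQuot (hp : ARSys.IsQuot I p) (U : X.ProEt) (hU : ProEtS.IsWC U) :
    Function.Surjective ((Γ Λ U).map p).hom ∧
      LinearMap.ker ((Γ Λ U).map p).hom = I • (⊤ : Submodule Λ ((Γ Λ U).obj F)) := by
  haveI : Epi p := Groth.Agent.Helper4.AdicKer.epi_of_isQuot p hp
  refine ⟨surjective_of_epi_of_isWC Λ p U hU, le_antisymm ?_ ?_⟩
  · intro x hx
    haveI := preservesFiniteColimits_Γ Λ U hU
    have hex := (exact_mulMap p s hs hp).map (Γ Λ U)
    rw [ShortComplex.moduleCat_exact_iff] at hex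
    obtain ⟨t, ht⟩ := hex x hx
    have ht' : ((Γ Λ U).map (mulMap F s)).hom t = x := ht
    have h1 : (Γ Λ U).map (mulMap F s) =
        ∑ i : ↥s, i.1 • (Γ Λ U).map (biproduct.π (fun _ : ↥s => F) i) := by
      have h2 : mulMap F s = ∑ i : ↥s, biproduct.π (fun _ : ↥s => F) i ≫ (i.1 • 𝟙 F) := by
        apply biproduct.hom_ext'
        intro j
        rw [mulMap, biproduct.ι_desc, Preadditive.comp_sum, Finset.sum_eq_single j]
        · rw [biproduct.ι_π_self_assoc]
        · intro b _ hb
          rw [biproduct.ι_π_ne_assoc _ hb.symm, zero_comp]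
        · intro h
          exact absurd (Finset.mem_univ j) h
      rw [h2, Functor.map_sum]
      refine Finset.sum_congr rfl fun i _ => ?_
      rw [Linear.comp_smul, Category.comp_id, Functor.map_smul]
    rw [← ht', h1, ModuleCat.hom_sum, LinearMap.sum_apply]
    refine Submodule.sum_mem _ fun i _ => ?_
    rw [ModuleCat.hom_smul, LinearMap.smul_apply]
    exact Submodule.smul_mem_smul (hs ▸ Ideal.subset_span i.2) Submodule.mem_top
  · rw [Submodule.smul_le]
    intro a ha x _
    rw [LinearMap.mem_ker, map_smul]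
    have h1 : (Γ Λ U).map (a • 𝟙 Q) = a • 𝟙 ((Γ Λ U).obj Q) := by
      rw [Functor.map_smul]
      exact congrArg (fun g => a • g) ((Γ Λ U).map_id Q)
    have h2 : (a • 𝟙 ((Γ Λ U).obj Q)) = 0 := by rw [← h1, hp.1 a ha, Functor.map_zero]
    have h3 : (a • 𝟙 ((Γ Λ U).obj Q)).hom (((Γ Λ U).map p).hom x) = 0 := by
      rw [h2]; rfl
    rw [ModuleCat.hom_smul, LinearMap.smul_apply] at h3
    exact h3

end Quot

end Groth.Agent.Helper4.WCSections
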