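import Mathlib

/-!
# Weak colimits of algebras

A family `g i : G i →ₐ[A₀] A` is a *weak colimit* if the maps are jointly surjective, any two
indices admit compatible maps to a common third one, and every element in the kernel of some `g i`
is killed by a compatible map.  This is the shape in which directed colimits are encoded in the
statements `S9417`–`S9423`.  We prove that tensoring preserves weak colimits and that maps out of
finitely presented algebras lift.
-/

set_option autoImplicit false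

namespace Groth.Agent.Helper4.WeakColim

open TensorProduct

variable {ι : Type*} {A₀ : Type*} [CommRing A₀] {G : ι → Type*} [∀ i, CommRing (G i)]
  [∀ i, Algebra A₀ (G i)] {A : Type*} [CommRing A] [Algebra A₀ A]

/-- `A` is a weak colimit of the `G i` along `g`. -/
structure IsWeakColimit (g : ∀ i, G i →ₐ[A₀] A) : Prop where
  nonempty : Nonempty ι
  surj : ∀ a : A, ∃ i, ∃ x : G i, g i x = a
  directed : ∀ i j, ∃ k, ∃ (φ : G i →ₐ[A₀] G k) (ψ : G j →ₐ[A₀] G k),
    (g k).comp φ = g i ∧ (g k).comp ψ = g j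
  ker : ∀ i (x : G i), g i x = 0 → ∃ j, ∃ φ : G i →ₐ[A₀] G j, (g j).comp φ = g i ∧ φ x = 0

/-- The hypotheses of the statements give a weak colimit. -/
theorem isWeakColimit_of_directed [Preorder ι] [IsDirected ι (· ≤ ·)] [Nonempty ι]
    (f : ∀ i j, i ≤ j → (G i →ₐ[A₀] G j)) (g : ∀ i, G i →ₐ[A₀] A)
    (hg : ∀ i j (h : i ≤ j), (g j).comp (f i j h) = g i)
    (hsurj : ∀ a : A, ∃ i, ∃ x : G i, g i x = a)
    (hker : ∀ i (x : G i), g i x = 0 → ∃ j, ∃ h : i ≤ j, f i j h x = 0) :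
    IsWeakColimit g where
  nonempty := inferInstance
  surj := hsurj
  directed i j := by
    obtain ⟨k, hik, hjk⟩ := exists_ge_ge i j
    exact ⟨k, f i k hik, f j k hjk, hg _ _ _, hg _ _ _⟩
  ker i x hx := by
    obtain ⟨j, h, hj⟩ := hker i x hx
    exact ⟨j, f i j h, hg _ _ _, hj⟩

variable {g : ∀ i, G i →ₐ[A₀] A}

namespace IsWeakColimit

theorem ker_finset (h : IsWeakColimit g) (i : ι) (T : Finset (G i))
    (hT : ∀ x ∈ T, g i x = 0) :
    ∃ j, ∃ φ : G i →ₐ[A₀] G j, (g j).comp φ = g i ∧ ∀ x ∈ T, φ x = 0 := by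
  classical
  induction T using Finset.induction_on with
  | empty => exact ⟨i, AlgHom.id _ _, by simp, by simp⟩
  | insert a T ha ih =>
    obtain ⟨j, φ, hφ, hφT⟩ := ih (fun x hx => hT x (Finset.mem_insert_of_mem hx))
    have h0 : g j (φ a) = 0 := by
      rw [← AlgHom.comp_apply, hφ]; exact hT a (Finset.mem_insert_self _ _)
    obtain ⟨k, ψ, hψ, hψa⟩ := h.ker j (φ a) h0
    refine ⟨k, ψ.comp φ, by rw [← AlgHom.comp_assoc, hψ, hφ], ?_⟩
    intro x hx
    rcases Finset.mem_insert.mp hx with rfl | hx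
    · exact hψa
    · simp [hφT x hx]

theorem lift_finset (h : IsWeakColimit g) (T : Finset A) :
    ∃ i, ∀ a ∈ T, ∃ x : G i, g i x = a := by
  classical
  induction T using Finset.induction_on with
  | empty => exact ⟨h.nonempty.some, by simp⟩
  | insert a T ha ih =>
    obtain ⟨i, hi⟩ := ih
    obtain ⟨j, x, hx⟩ := h.surj a
    obtain ⟨k, φ, ψ, hφ, hψ⟩ := h.directed i j
    refine ⟨k, fun b hb => ?_⟩
    rcases Finset.mem_insert.mp hb with rfl | hb
    · exact ⟨ψ x, by rw [← AlgHom.comp_apply, hψ, hx]⟩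
    · obtain ⟨y, hy⟩ := hi b hb
      exact ⟨φ y, by rw [← AlgHom.comp_apply, hφ, hy]⟩

theorem lift_finite (h : IsWeakColimit g) {κ : Type*} [Finite κ] (v : κ → A) :
    ∃ i, ∃ w : κ → G i, ∀ k, g i (w k) = v k := by
  classical
  cases nonempty_fintype κ
  obtain ⟨i, hi⟩ := h.lift_finset (Finset.univ.image v)
  choose w hw using fun k => hi (v k) (Finset.mem_image_of_mem v (Finset.mem_univ k))
  exact ⟨i, w, hw⟩

section Tensor

variable (M : Type*) [AddCommGroup M] [Module A₀ M]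

theorem rTensor_comp_apply {i j : ι} (φ : G i →ₐ[A₀] G j) (hφ : (g j).comp φ = g i)
    (z : G i ⊗[A₀] M) :
    (g j).toLinearMap.rTensor M (φ.toLinearMap.rTensor M z) = (g i).toLinearMap.rTensor M z := by
  rw [← LinearMap.comp_apply, ← LinearMap.rTensor_comp, ← AlgHom.comp_toLinearMap, hφ]

theorem tensor_surj (h : IsWeakColimit g) (z : A ⊗[A₀] M) :
    ∃ i, ∃ z' : G i ⊗[A₀] M, (g i).toLinearMap.rTensor M z' = z := by
  induction z using TensorProduct.induction_on with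
  | zero => exact ⟨h.nonempty.some, 0, by simp⟩
  | tmul a m =>
    obtain ⟨i, x, rfl⟩ := h.surj a
    exact ⟨i, x ⊗ₜ m, by simp⟩
  | add z₁ z₂ h₁ h₂ =>
    obtain ⟨i, z₁', rfl⟩ := h₁
    obtain ⟨j, z₂', rfl⟩ := h₂
    obtain ⟨k, φ, ψ, hφ, hψ⟩ := h.directed i j
    refine ⟨k, φ.toLinearMap.rTensor M z₁' + ψ.toLinearMap.rTensor M z₂', ?_⟩
    rw [map_add, rTensor_comp_apply M φ hφ, rTensor_comp_apply M ψ hψ]

theorem tensor_lift_finset (h : IsWeakColimit g) (T : Finset (A ⊗[A₀] M)) :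
    ∃ i, ∀ z ∈ T, ∃ z' : G i ⊗[A₀] M, (g i).toLinearMap.rTensor M z' = z := by
  classical
  induction T using Finset.induction_on with
  | empty => exact ⟨h.nonempty.some, by simp⟩
  | insert a T ha ih =>
    obtain ⟨i, hi⟩ := ih
    obtain ⟨j, x, hx⟩ := h.tensor_surj M a
    obtain ⟨k, φ, ψ, hφ, hψ⟩ := h.directed i j
    refine ⟨k, fun b hb => ?_⟩
    rcases Finset.mem_insert.mp hb with rfl | hb
    · exact ⟨ψ.toLinearMap.rTensor M x, by rw [rTensor_comp_apply M ψ hψ, hx]⟩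
    · obtain ⟨y, hy⟩ := hi b hb
      exact ⟨φ.toLinearMap.rTensor M y, by rw [rTensor_comp_apply M φ hφ, hy]⟩

theorem tensor_lift_finite (h : IsWeakColimit g) {κ : Type*} [Finite κ] (v : κ → A ⊗[A₀] M) :
    ∃ i, ∃ w : κ → G i ⊗[A₀] M, ∀ k, (g i).toLinearMap.rTensor M (w k) = v k := by
  classical
  cases nonempty_fintype κ
  obtain ⟨i, hi⟩ := h.tensor_lift_finset M (Finset.univ.image v)
  choose w hw using fun k => hi (v k) (Finset.mem_image_of_mem v (Finset.mem_univ k))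
  exact ⟨i, w, hw⟩

theorem tensor_ker (h : IsWeakColimit g) (i : ι) (z : G i ⊗[A₀] M)
    (hz : (g i).toLinearMap.rTensor M z = 0) :
    ∃ j, ∃ φ : G i →ₐ[A₀] G j, (g j).comp φ = g i ∧ φ.toLinearMap.rTensor M z = 0 := by
  classical
  obtain ⟨S, rfl⟩ := TensorProduct.exists_finset z
  let x : S → G i := fun k => k.1.1
  let m : S → M := fun k => k.1.2
  have hz' : ∑ k : S, (g i (x k)) ⊗ₜ[A₀] m k = 0 := by
    rw [← hz, map_sum]
    exact Finset.sum_coe_sort S (fun p => (g i).toLinearMap.rTensor M (p.1 ⊗ₜ p.2))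
  let P : Submodule A₀ A := Submodule.span A₀ (Set.range fun k => g i (x k))
  have hP : P.FG := Submodule.fg_span (Set.finite_range _)
  let t : P ⊗[A₀] M := ∑ k : S, (⟨g i (x k), Submodule.subset_span ⟨k, rfl⟩⟩ : P) ⊗ₜ m k
  have ht : P.subtype.rTensor M t = 0 := by
    simp only [t, map_sum, LinearMap.rTensor_tmul, Submodule.subtype_apply]
    exact hz'
  obtain ⟨Q, hPQ, hQ, hQt⟩ := TensorProduct.eq_zero_of_fg_of_subtype_eq_zero hP ht
  obtain ⟨r, q, hq⟩ := Submodule.fg_iff_exists_fin_generating_family.mp hQ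
  subst hq
  let mm : S ⊕ Fin r → Submodule.span A₀ (Set.range q) :=
    Sum.elim (fun k => ⟨g i (x k), hPQ (Submodule.subset_span ⟨k, rfl⟩)⟩)
      (fun l => ⟨q l, Submodule.subset_span ⟨l, rfl⟩⟩)
  let nn : S ⊕ Fin r → M := Sum.elim m (fun _ => 0)
  have hspan : Submodule.span A₀ (Set.range mm) = ⊤ := by
    rw [eq_top_iff, ← Submodule.span_span_coe_preimage (R := A₀) (s := Set.range q)]
    apply Submodule.span_mono
    rintro ⟨y, hy⟩ ⟨l, hl⟩
    exact ⟨Sum.inr l, Subtype.ext hl⟩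
  have hsum : ∑ i', mm i' ⊗ₜ[A₀] nn i' = 0 := by
    rw [Fintype.sum_sum_type]
    simp only [mm, nn, Sum.elim_inl, Sum.elim_inr, tmul_zero, Finset.sum_const_zero, add_zero]
    have hQt' := hQt
    simp only [t, map_sum, LinearMap.rTensor_tmul] at hQt'
    exact hQt'
  obtain ⟨n, a, y, h₁, h₂⟩ := vanishesTrivially_of_sum_tmul_eq_zero A₀ hspan hsum
  have h₂' : ∀ j, ∑ i', a i' j • (mm i' : A) = 0 := fun j => by
    have := congrArg Subtype.val (h₂ j)
    simpa using this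
  obtain ⟨j₀, w, hw⟩ := h.lift_finite (fun i' => (mm i' : A))
  obtain ⟨k₁, φ₁, ψ₁, hφ₁, hψ₁⟩ := h.directed i j₀
  have hψ₁' : ∀ u, g k₁ (ψ₁ u) = g j₀ u := fun u => by rw [← AlgHom.comp_apply, hψ₁]
  have hφ₁' : ∀ u, g k₁ (φ₁ u) = g i u := fun u => by rw [← AlgHom.comp_apply, hφ₁]
  obtain ⟨l, θ, hθ, hθT⟩ := h.ker_finset k₁
    ((Finset.univ.image fun k : S => φ₁ (x k) - ψ₁ (w (Sum.inl k))) ∪
      (Finset.univ.image fun j : Fin n => ∑ i', a i' j • ψ₁ (w i'))) (by
    intro u hu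
    rcases Finset.mem_union.mp hu with hu | hu
    · obtain ⟨k, -, rfl⟩ := Finset.mem_image.mp hu
      rw [map_sub, hφ₁', hψ₁', hw]
      simp [mm]
    · obtain ⟨j, -, rfl⟩ := Finset.mem_image.mp hu
      rw [map_sum, ← h₂' j]
      refine Finset.sum_congr rfl fun i' _ => ?_
      rw [map_smul, hψ₁', hw])
  have hk1 : ∀ k : S, θ (φ₁ (x k)) = θ (ψ₁ (w (Sum.inl k))) := fun k => by
    have := hθT _ (Finset.mem_union_left _ (Finset.mem_image_of_mem _ (Finset.mem_univ k)))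
    rwa [map_sub, sub_eq_zero] at this
  have hk2 : ∀ j : Fin n, ∑ i', a i' j • θ (ψ₁ (w i')) = 0 := fun j => by
    have := hθT _ (Finset.mem_union_right _ (Finset.mem_image_of_mem _ (Finset.mem_univ j)))
    simpa [map_sum] using this
  refine ⟨l, θ.comp φ₁, by rw [← AlgHom.comp_assoc, hθ, hφ₁], ?_⟩
  have hvan : ∑ i', (θ (ψ₁ (w i'))) ⊗ₜ[A₀] nn i' = 0 :=
    sum_tmul_eq_zero_of_vanishesTrivially A₀ ⟨n, a, y, h₁, hk2⟩
  rw [Fintype.sum_sum_type] at hvan
  simp only [nn, Sum.elim_inl, Sum.elim_inr, tmul_zero, Finset.sum_const_zero, add_zero] at hvan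
  rw [map_sum, ← Finset.sum_coe_sort, ← hvan]
  refine Finset.sum_congr rfl fun k _ => ?_
  rw [← hk1 k]
  rfl

theorem tensor_ker_finset (h : IsWeakColimit g) (i : ι) (T : Finset (G i ⊗[A₀] M))
    (hT : ∀ z ∈ T, (g i).toLinearMap.rTensor M z = 0) :
    ∃ j, ∃ φ : G i →ₐ[A₀] G j, (g j).comp φ = g i ∧ ∀ z ∈ T, φ.toLinearMap.rTensor M z = 0 := by
  classical
  induction T using Finset.induction_on with
  | empty => exact ⟨i, AlgHom.id _ _, by simp, by simp⟩
  | insert a T ha ih =>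
    obtain ⟨j, φ, hφ, hφT⟩ := ih (fun x hx => hT x (Finset.mem_insert_of_mem hx))
    have h0 : (g j).toLinearMap.rTensor M (φ.toLinearMap.rTensor M a) = 0 := by
      rw [rTensor_comp_apply M φ hφ]; exact hT a (Finset.mem_insert_self _ _)
    obtain ⟨k, ψ, hψ, hψa⟩ := h.tensor_ker M j _ h0
    refine ⟨k, ψ.comp φ, by rw [← AlgHom.comp_assoc, hψ, hφ], ?_⟩
    intro x hx
    rw [AlgHom.comp_toLinearMap, LinearMap.rTensor_comp, LinearMap.comp_apply]
    rcases Finset.mem_insert.mp hx with rfl | hx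
    · exact hψa
    · simp [hφT x hx]

end Tensor

end IsWeakColimit

end Groth.Agent.Helper4.WeakColim
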