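import Mathlib
import Groth.Agent.Helper4.WeakColim

/-!
# Weak colimits: base change and lifting of maps from finitely presented algebras
-/

set_option autoImplicit false

namespace Groth.Agent.Helper4.WeakColim

open TensorProduct

variable {ι : Type*} {A₀ : Type*} [CommRing A₀] {G : ι → Type*} [∀ i, CommRing (G i)]
  [∀ i, Algebra A₀ (G i)] {A : Type*} [CommRing A] [Algebra A₀ A] {g : ∀ i, G i →ₐ[A₀] A}

theorem comm_lTensor {R M N N' : Type*} [CommRing R] [AddCommGroup M] [Module R M]
    [AddCommGroup N] [Module R N] [AddCommGroup N'] [Module R N'] (f : N →ₗ[R] N')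
    (z : M ⊗[R] N) :
    TensorProduct.comm R M N' (f.lTensor M z) = f.rTensor M (TensorProduct.comm R M N z) := by
  induction z using TensorProduct.induction_on with
  | zero => simp
  | tmul => simp
  | add _ _ h1 h2 => simp [h1, h2]

/-- `Algebra.TensorProduct.map φ id` as a function is `rTensor`. -/
theorem map_id_right_apply {R S T D : Type*} [CommRing R] [CommRing S] [CommRing T] [CommRing D]
    [Algebra R S] [Algebra R T] [Algebra R D] (φ : S →ₐ[R] T) (z : S ⊗[R] D) :
    Algebra.TensorProduct.map φ (AlgHom.id R D) z = φ.toLinearMap.rTensor D z := rfl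

theorem map_id_left_apply {R S T B : Type*} [CommRing R] [CommRing S] [CommRing T] [CommRing B]
    [Algebra R S] [Algebra R T] [Algebra R B] (φ : S →ₐ[R] T) (z : B ⊗[R] S) :
    Algebra.TensorProduct.map (AlgHom.id B B) φ z = φ.toLinearMap.lTensor B z := rfl

namespace IsWeakColimit

/-- Base change on the right: `G i ⊗ D → A ⊗ D` is a weak colimit (of `A₀`-algebras). -/
theorem baseChange_right (h : IsWeakColimit g) (D : Type*) [CommRing D] [Algebra A₀ D] :
    IsWeakColimit (fun i => Algebra.TensorProduct.map (g i) (AlgHom.id A₀ D)) where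
  nonempty := h.nonempty
  surj z := by
    obtain ⟨i, z', hz'⟩ := h.tensor_surj D z
    exact ⟨i, z', hz'⟩
  directed i j := by
    obtain ⟨k, φ, ψ, hφ, hψ⟩ := h.directed i j
    refine ⟨k, Algebra.TensorProduct.map φ (AlgHom.id A₀ D),
      Algebra.TensorProduct.map ψ (AlgHom.id A₀ D), ?_, ?_⟩
    · rw [← hφ]; ext <;> simp
    · rw [← hψ]; ext <;> simp
  ker i z hz := by
    obtain ⟨j, φ, hφ, hz'⟩ := h.tensor_ker D i z hz
    refine ⟨j, Algebra.TensorProduct.map φ (AlgHom.id A₀ D), ?_, hz'⟩
    rw [← hφ]; ext <;> simp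

/-- Base change on the left: `B ⊗ G i → B ⊗ A` is a weak colimit of `B`-algebras. -/
theorem baseChange_left (h : IsWeakColimit g) (B : Type*) [CommRing B] [Algebra A₀ B] :
    IsWeakColimit (fun i => Algebra.TensorProduct.map (AlgHom.id B B) (g i)) where
  nonempty := h.nonempty
  surj z := by
    obtain ⟨i, z', hz'⟩ := h.tensor_surj B (TensorProduct.comm A₀ B A z)
    refine ⟨i, (TensorProduct.comm A₀ B (G i)).symm z', ?_⟩
    apply (TensorProduct.comm A₀ B A).injective
    rw [map_id_left_apply, comm_lTensor, LinearEquiv.apply_symm_apply, hz']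
  directed i j := by
    obtain ⟨k, φ, ψ, hφ, hψ⟩ := h.directed i j
    refine ⟨k, Algebra.TensorProduct.map (AlgHom.id B B) φ,
      Algebra.TensorProduct.map (AlgHom.id B B) ψ, ?_, ?_⟩
    · rw [← hφ]; ext; simp
    · rw [← hψ]; ext; simp
  ker i z hz := by
    have hz1 : (g i).toLinearMap.rTensor B (TensorProduct.comm A₀ B (G i) z) = 0 := by
      rw [← comm_lTensor, ← map_id_left_apply, hz, map_zero]
    obtain ⟨j, φ, hφ, hz'⟩ := h.tensor_ker B i _ hz1
    refine ⟨j, Algebra.TensorProduct.map (AlgHom.id B B) φ, ?_, ?_⟩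
    · rw [← hφ]; ext; simp
    · apply (TensorProduct.comm A₀ B (G j)).injective
      rw [map_id_left_apply, comm_lTensor, hz', map_zero]

end IsWeakColimit

/-- Factor an algebra map through a surjection killing at least as much. -/
theorem exists_algHom_comp_eq_of_surjective {R P C H : Type*} [CommRing R] [CommRing P]
    [CommRing C] [CommRing H] [Algebra R P] [Algebra R C] [Algebra R H]
    (f : P →ₐ[R] C) (hf : Function.Surjective f) (u : P →ₐ[R] H)
    (hk : ∀ p, f p = 0 → u p = 0) : ∃ v : C →ₐ[R] H, v.comp f = u := by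
  let e := Ideal.quotientKerAlgEquivOfSurjective hf
  let v₀ : (P ⧸ RingHom.ker f) →ₐ[R] H :=
    Ideal.Quotient.liftₐ (RingHom.ker f) u (fun a ha => hk a ha)
  refine ⟨v₀.comp e.symm.toAlgHom, ?_⟩
  ext p
  have : e.symm (f p) = Ideal.Quotient.mk _ p := by
    rw [AlgEquiv.symm_apply_eq]
    rfl
  simp [this, v₀]

namespace IsWeakColimit

/-- Maps out of a finitely presented algebra into a weak colimit lift to a finite stage. -/
theorem lift_algHom (h : IsWeakColimit g) (C : Type*) [CommRing C] [Algebra A₀ C]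
    [Algebra.FinitePresentation A₀ C] (τ : C →ₐ[A₀] A) :
    ∃ i, ∃ τ' : C →ₐ[A₀] G i, (g i).comp τ' = τ := by
  classical
  obtain ⟨n, f, hf, T, hT⟩ := Algebra.FinitePresentation.out (R := A₀) (A := C)
  obtain ⟨i, w, hw⟩ := h.lift_finite (fun k : Fin n => τ (f (MvPolynomial.X k)))
  have hcomp : (g i).comp (MvPolynomial.aeval w) = τ.comp f := by
    apply MvPolynomial.algHom_ext
    intro k
    simp [hw]
  obtain ⟨j, φ, hφ, hφT⟩ := h.ker_finset i (T.image (MvPolynomial.aeval w)) (by
    intro x hx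
    obtain ⟨p, hp, rfl⟩ := Finset.mem_image.mp hx
    rw [← AlgHom.comp_apply, hcomp, AlgHom.comp_apply]
    have : p ∈ RingHom.ker f.toRingHom := hT ▸ Ideal.subset_span hp
    have h0 : f p = 0 := this
    rw [h0, map_zero])
  let u : MvPolynomial (Fin n) A₀ →ₐ[A₀] G j := φ.comp (MvPolynomial.aeval w)
  have hu : ∀ p, f p = 0 → u p = 0 := by
    intro p hp
    have hp' : p ∈ Ideal.span (T : Set (MvPolynomial (Fin n) A₀)) := hT ▸ hp
    have : Ideal.span (T : Set (MvPolynomial (Fin n) A₀)) ≤ RingHom.ker u.toRingHom := by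
      rw [Ideal.span_le]
      intro q hq
      exact hφT _ (Finset.mem_image_of_mem _ hq)
    exact this hp'
  obtain ⟨v, hv⟩ := exists_algHom_comp_eq_of_surjective f hf u hu
  refine ⟨j, v, ?_⟩
  apply (AlgHom.cancel_right hf).mp
  rw [AlgHom.comp_assoc, hv, ← hcomp, ← hφ]
  rfl

end IsWeakColimit

end Groth.Agent.Helper4.WeakColim
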