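import Mathlib
import Groth.Agent.Helper4.WeakColim2

/-!
# Descent of properties of base changes along weak colimits

Setting: `(R i → R')` a weak colimit of `B₀`-algebras, `C₀` a `B₀`-algebra of finite type
(or of finite presentation).  If `R' → R' ⊗[B₀] C₀` is surjective / finite / formally unramified /
bijective / formally smooth, then so is `R i → R i ⊗[B₀] C₀` for some `i`.
-/

set_option autoImplicit false

namespace Groth.Agent.Helper4.WeakColim

open TensorProduct

universe u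

variable {ι : Type*} {B₀ : Type u} [CommRing B₀] {R : ι → Type u} [∀ i, CommRing (R i)]
  [∀ i, Algebra B₀ (R i)] {R' : Type u} [CommRing R'] [Algebra B₀ R'] {g : ∀ i, R i →ₐ[B₀] R'}

section Generators

variable {C₀ : Type u} [CommRing C₀] [Algebra B₀ C₀]

theorem subalgebra_eq_top_of_generators {T : Type u} [CommRing T] [Algebra B₀ T] (s : Set C₀)
    (hs : Algebra.adjoin B₀ s = ⊤) (U : Subalgebra T (T ⊗[B₀] C₀))
    (hU : ∀ c ∈ s, (1 : T) ⊗ₜ[B₀] c ∈ U) : U = ⊤ := by
  have h1 : ∀ c : C₀, (1 : T) ⊗ₜ[B₀] c ∈ U := by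
    intro c
    have hc : c ∈ Algebra.adjoin B₀ s := hs ▸ Algebra.mem_top
    induction hc using Algebra.adjoin_induction with
    | mem x hx => exact hU x hx
    | algebraMap b =>
      have : (1 : T) ⊗ₜ[B₀] (algebraMap B₀ C₀ b) =
          algebraMap T (T ⊗[B₀] C₀) (algebraMap B₀ T b) := by
        rw [Algebra.TensorProduct.algebraMap_apply, Algebra.algebraMap_self, RingHom.id_apply,
          Algebra.algebraMap_eq_smul_one (A := C₀) b, Algebra.algebraMap_eq_smul_one (A := T) b,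
          TensorProduct.tmul_smul, TensorProduct.smul_tmul']
      rw [this]
      exact U.algebraMap_mem _
    | add x y _ _ hx hy => rw [TensorProduct.tmul_add]; exact U.add_mem hx hy
    | mul x y _ _ hx hy =>
      have : (1 : T) ⊗ₜ[B₀] (x * y) = (1 ⊗ₜ x) * (1 ⊗ₜ y) := by simp
      rw [this]; exact U.mul_mem hx hy
  rw [eq_top_iff]
  rintro z -
  induction z using TensorProduct.induction_on with
  | zero => exact U.zero_mem
  | tmul r c =>
    have : r ⊗ₜ[B₀] c = r • ((1 : T) ⊗ₜ[B₀] c) := by simp [TensorProduct.smul_tmul']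
    rw [this]; exact U.smul_mem (h1 c) r
  | add x y hx hy => exact U.add_mem hx hy

end Generators

variable (C₀ : Type u) [CommRing C₀] [Algebra B₀ C₀]

namespace IsWeakColimit

/-- Surjectivity descends. -/
theorem exists_surjective (h : IsWeakColimit g) [Algebra.FiniteType B₀ C₀]
    (hs : Function.Surjective (algebraMap R' (R' ⊗[B₀] C₀))) :
    ∃ i, Function.Surjective (algebraMap (R i) (R i ⊗[B₀] C₀)) := by
  classical
  obtain ⟨s, hs'⟩ := (Algebra.FiniteType.out : (⊤ : Subalgebra B₀ C₀).FG)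
  choose r hr using fun c : C₀ => hs (1 ⊗ₜ c)
  obtain ⟨i, w, hw⟩ := h.lift_finite (fun c : s => r c)
  obtain ⟨j, φ, hφ, hφT⟩ := h.tensor_ker_finset C₀ i
    (Finset.univ.image fun c : s => w c ⊗ₜ[B₀] (1 : C₀) - 1 ⊗ₜ c.1) (by
      intro z hz
      obtain ⟨c, -, rfl⟩ := Finset.mem_image.mp hz
      simp only [map_sub, LinearMap.rTensor_tmul, AlgHom.toLinearMap_apply, hw, map_one]
      rw [sub_eq_zero, ← hr c]
      simp [Algebra.TensorProduct.algebraMap_apply])
  refine ⟨j, ?_⟩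
  have : (⊥ : Subalgebra (R j) (R j ⊗[B₀] C₀)) = ⊤ := by
    apply subalgebra_eq_top_of_generators (s : Set C₀) hs'
    intro c hc
    have := hφT _ (Finset.mem_image_of_mem _ (Finset.mem_univ ⟨c, hc⟩))
    simp only [map_sub, LinearMap.rTensor_tmul, AlgHom.toLinearMap_apply, map_one,
      sub_eq_zero] at this
    rw [← this]
    exact Algebra.mem_bot.mpr ⟨φ (w ⟨c, hc⟩), by simp [Algebra.TensorProduct.algebraMap_apply]⟩
  exact Algebra.surjective_algebraMap_iff.mpr this.symm

/-- Finiteness descends. -/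
theorem exists_finite (h : IsWeakColimit g) [Algebra.FiniteType B₀ C₀]
    (hf : Module.Finite R' (R' ⊗[B₀] C₀)) : ∃ i, Module.Finite (R i) (R i ⊗[B₀] C₀) := by
  classical
  obtain ⟨s, hs'⟩ := (Algebra.FiniteType.out : (⊤ : Subalgebra B₀ C₀).FG)
  have hint : ∀ c : C₀, IsIntegral R' ((1 : R') ⊗ₜ[B₀] c) :=
    fun c => Algebra.IsIntegral.isIntegral _
  choose p hpm hp using hint
  obtain ⟨i, hi⟩ := h.lift_finset (s.biUnion fun c => (p c).coeffs)
  have hlift : ∀ c ∈ s, p c ∈ Polynomial.lifts (g i : R i →+* R') := by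
    intro c hc
    rw [Polynomial.lifts_iff_coeff_lifts]
    intro n
    by_cases h0 : (p c).coeff n = 0
    · exact ⟨0, by simp [h0]⟩
    · exact hi _ (Finset.mem_biUnion.mpr ⟨c, hc, Polynomial.coeff_mem_coeffs h0⟩)
  choose! q hq using fun c (hc : c ∈ s) =>
    Polynomial.lifts_and_natDegree_eq_and_monic (hlift c hc) (hpm c)
  have hcomm : ∀ {j k : ι} (φ : R j →ₐ[B₀] R k),
      (algebraMap (R k) (R k ⊗[B₀] C₀)).comp (φ : R j →+* R k) =
        (Algebra.TensorProduct.map φ (AlgHom.id B₀ C₀) : R j ⊗[B₀] C₀ →+* R k ⊗[B₀] C₀).comp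
          (algebraMap (R j) (R j ⊗[B₀] C₀)) := by
    intro j k φ
    ext x
    simp [Algebra.TensorProduct.algebraMap_apply]
  have hcomm' : (algebraMap R' (R' ⊗[B₀] C₀)).comp (g i : R i →+* R') =
        (Algebra.TensorProduct.map (g i) (AlgHom.id B₀ C₀) : R i ⊗[B₀] C₀ →+* R' ⊗[B₀] C₀).comp
          (algebraMap (R i) (R i ⊗[B₀] C₀)) := by
    ext x
    simp [Algebra.TensorProduct.algebraMap_apply]
  obtain ⟨j, φ, hφ, hφT⟩ := h.tensor_ker_finset C₀ i
    (s.image fun c => Polynomial.aeval ((1 : R i) ⊗ₜ[B₀] c) (q c)) (by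
      intro z hz
      obtain ⟨c, hc, rfl⟩ := Finset.mem_image.mp hz
      rw [← map_id_right_apply]
      have := Polynomial.map_aeval_eq_aeval_map hcomm' (q c) ((1 : R i) ⊗ₜ[B₀] c)
      rw [RingHom.coe_coe] at this
      rw [this, (hq c hc).1]
      simpa [Polynomial.aeval_def] using hp c)
  refine ⟨j, ?_⟩
  have hint_j : ∀ c ∈ s, IsIntegral (R j) ((1 : R j) ⊗ₜ[B₀] c) := by
    intro c hc
    refine ⟨(q c).map (φ : R i →+* R j), (hq c hc).2.2.map _, ?_⟩
    have := Polynomial.map_aeval_eq_aeval_map (hcomm φ) (q c) ((1 : R i) ⊗ₜ[B₀] c)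
    rw [RingHom.coe_coe] at this
    have h0 := hφT _ (Finset.mem_image_of_mem _ hc)
    rw [← map_id_right_apply, this] at h0
    simpa [Polynomial.aeval_def] using h0
  have htop : Algebra.adjoin (R j) ((fun c => (1 : R j) ⊗ₜ[B₀] c) '' (s : Set C₀)) = ⊤ := by
    apply subalgebra_eq_top_of_generators (s : Set C₀) hs'
    intro c hc
    exact Algebra.subset_adjoin ⟨c, hc, rfl⟩
  have hfg := fg_adjoin_of_finite (R := R j) ((s.finite_toSet).image _)
    (by rintro _ ⟨c, hc, rfl⟩; exact hint_j c hc)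
  rw [htop, Algebra.top_toSubmodule] at hfg
  exact ⟨hfg⟩

/-- Formal unramifiedness descends. -/
theorem exists_formallyUnramified (h : IsWeakColimit g) [Algebra.FiniteType B₀ C₀]
    (hu : Algebra.FormallyUnramified R' (R' ⊗[B₀] C₀)) :
    ∃ i, Algebra.FormallyUnramified (R i) (R i ⊗[B₀] C₀) := by
  classical
  obtain ⟨s, hs'⟩ := (Algebra.FiniteType.out : (⊤ : Subalgebra B₀ C₀).FG)
  let i := h.nonempty.some
  have hsub : Subsingleton (R' ⊗[B₀] Ω[C₀⁄B₀]) := by
    let _ : Algebra C₀ (R' ⊗[B₀] C₀) := Algebra.TensorProduct.rightAlgebra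
    exact (KaehlerDifferential.tensorKaehlerEquivBase B₀ R' C₀ (R' ⊗[B₀] C₀)).subsingleton
  obtain ⟨j, φ, hφ, hφT⟩ := h.tensor_ker_finset (Ω[C₀⁄B₀]) i
    (s.image fun c => (1 : R i) ⊗ₜ[B₀] KaehlerDifferential.D B₀ C₀ c)
    (fun z _ => Subsingleton.elim _ _)
  refine ⟨j, ?_⟩
  have hD : ∀ c ∈ s, KaehlerDifferential.D (R j) (R j ⊗[B₀] C₀) (1 ⊗ₜ c) = 0 := by
    intro c hc
    have := hφT _ (Finset.mem_image_of_mem _ hc)
    simp only [LinearMap.rTensor_tmul, AlgHom.toLinearMap_apply, map_one] at this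
    let _ : Algebra C₀ (R j ⊗[B₀] C₀) := Algebra.TensorProduct.rightAlgebra
    have h2 := congrArg (KaehlerDifferential.tensorKaehlerEquivBase B₀ (R j) C₀ (R j ⊗[B₀] C₀)) this
    rw [KaehlerDifferential.tensorKaehlerEquivBase_tmul, map_zero, one_smul,
      KaehlerDifferential.map_D] at h2
    exact h2
  let U : Subalgebra (R j) (R j ⊗[B₀] C₀) :=
    { carrier := {x | KaehlerDifferential.D (R j) (R j ⊗[B₀] C₀) x = 0}
      mul_mem' := by
        intro a b ha hb
        simp only [Set.mem_ofPred_eq] at *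
        rw [Derivation.leibniz, ha, hb]; simp
      add_mem' := by
        intro a b ha hb
        simp only [Set.mem_ofPred_eq] at *
        rw [map_add, ha, hb, add_zero]
      algebraMap_mem' := fun r => Derivation.map_algebraMap _ r }
  have hU : U = ⊤ := subalgebra_eq_top_of_generators (s : Set C₀) hs' U (fun c hc => hD c hc)
  have hall : ∀ x, KaehlerDifferential.D (R j) (R j ⊗[B₀] C₀) x = 0 := fun x => by
    have : x ∈ U := hU ▸ Algebra.mem_top
    exact this
  have hbot : (⊤ : Submodule (R j ⊗[B₀] C₀) Ω[(R j ⊗[B₀] C₀)⁄(R j)]) = ⊥ := by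
    rw [← KaehlerDifferential.span_range_derivation, Submodule.span_eq_bot]
    rintro _ ⟨x, rfl⟩
    exact hall x
  have : Subsingleton Ω[(R j ⊗[B₀] C₀)⁄(R j)] :=
    (Submodule.subsingleton_iff _).mp (subsingleton_of_bot_eq_top hbot.symm)
  exact ⟨this⟩

/-- Bijectivity descends. -/
theorem exists_bijective (h : IsWeakColimit g) [Algebra.FinitePresentation B₀ C₀]
    (hb : Function.Bijective (algebraMap R' (R' ⊗[B₀] C₀))) :
    ∃ i, Function.Bijective (algebraMap (R i) (R i ⊗[B₀] C₀)) := by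
  classical
  obtain ⟨s, hs'⟩ := (Algebra.FiniteType.out : (⊤ : Subalgebra B₀ C₀).FG)
  let e : R' ≃ₐ[R'] R' ⊗[B₀] C₀ := AlgEquiv.ofBijective (Algebra.ofId R' _) hb
  let τ : C₀ →ₐ[B₀] R' :=
    (e.symm.toAlgHom.restrictScalars B₀).comp Algebra.TensorProduct.includeRight
  have hτ : ∀ c, algebraMap R' (R' ⊗[B₀] C₀) (τ c) = 1 ⊗ₜ c := fun c => e.apply_symm_apply _
  obtain ⟨i, τ', hτ'⟩ := h.lift_algHom C₀ τ
  obtain ⟨j, φ, hφ, hφT⟩ := h.tensor_ker_finset C₀ i
    (s.image fun c => τ' c ⊗ₜ[B₀] (1 : C₀) - 1 ⊗ₜ c) (by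
      intro z hz
      obtain ⟨c, -, rfl⟩ := Finset.mem_image.mp hz
      simp only [map_sub, LinearMap.rTensor_tmul, AlgHom.toLinearMap_apply, map_one]
      rw [sub_eq_zero, ← AlgHom.comp_apply, hτ', ← hτ c]
      simp [Algebra.TensorProduct.algebraMap_apply])
  refine ⟨j, ?_, ?_⟩
  · let ρ : R j ⊗[B₀] C₀ →ₐ[R j] R j :=
      Algebra.TensorProduct.lift (AlgHom.id (R j) (R j)) (φ.comp τ') (fun _ _ => Commute.all _ _)
    intro a b hab
    have := congrArg ρ hab
    simpa [ρ, Algebra.TensorProduct.algebraMap_apply] using this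
  · have : (⊥ : Subalgebra (R j) (R j ⊗[B₀] C₀)) = ⊤ := by
      apply subalgebra_eq_top_of_generators (s : Set C₀) hs'
      intro c hc
      have := hφT _ (Finset.mem_image_of_mem _ hc)
      simp only [map_sub, LinearMap.rTensor_tmul, AlgHom.toLinearMap_apply, map_one,
        sub_eq_zero] at this
      rw [← this]
      exact Algebra.mem_bot.mpr ⟨φ (τ' c), by simp [Algebra.TensorProduct.algebraMap_apply]⟩
    exact Algebra.surjective_algebraMap_iff.mpr this.symm

end IsWeakColimit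

end Groth.Agent.Helper4.WeakColim
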