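import Mathlib
import Groth.Agent.Helper4.WeakColimDescent

/-!
# Descent of sections and of formal smoothness of base changes along weak colimits
-/

set_option autoImplicit false

namespace Groth.Agent.Helper4.WeakColim

open TensorProduct

universe u

section Smooth

variable {B₀ : Type u} [CommRing B₀] {D₀ C₀ : Type u} [CommRing D₀] [CommRing C₀]
  [Algebra B₀ D₀] [Algebra B₀ C₀]

/-- Base change of a map `D₀ → C₀` to `T`. -/
noncomputable abbrev piMap (T : Type u) [CommRing T] [Algebra B₀ T] (fbar : D₀ →ₐ[B₀] C₀) :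
    T ⊗[B₀] D₀ →ₐ[T] T ⊗[B₀] C₀ := Algebra.TensorProduct.map (AlgHom.id T T) fbar

theorem piMap_surjective (T : Type u) [CommRing T] [Algebra B₀ T] (fbar : D₀ →ₐ[B₀] C₀)
    (hf : Function.Surjective fbar) : Function.Surjective (piMap T fbar) := by
  intro y
  obtain ⟨x, hx⟩ := LinearMap.lTensor_surjective T (g := fbar.toLinearMap) hf y
  exact ⟨x, hx⟩

theorem ker_piMap_sq (T : Type u) [CommRing T] [Algebra B₀ T] (fbar : D₀ →ₐ[B₀] C₀)
    (hf : Function.Surjective fbar) (hsq : RingHom.ker fbar ^ 2 = ⊥) :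
    RingHom.ker (piMap T fbar) ^ 2 = ⊥ := by
  have : RingHom.ker (piMap T fbar) =
      (RingHom.ker fbar).map (Algebra.TensorProduct.includeRight : D₀ →ₐ[B₀] T ⊗[B₀] D₀) := by
    rw [← Algebra.TensorProduct.lTensor_ker fbar hf]
    rfl
  rw [this, ← Ideal.map_pow, hsq, Ideal.map_bot]

theorem piMap_natural {T T' : Type u} [CommRing T] [CommRing T'] [Algebra B₀ T] [Algebra B₀ T']
    (φ : T →ₐ[B₀] T') (fbar : D₀ →ₐ[B₀] C₀) (y : T ⊗[B₀] D₀) :
    Algebra.TensorProduct.map φ (AlgHom.id B₀ C₀) (piMap T fbar y) =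
      piMap T' fbar (Algebra.TensorProduct.map φ (AlgHom.id B₀ D₀) y) := by
  induction y using TensorProduct.induction_on with
  | zero => simp
  | tmul => simp
  | add _ _ h1 h2 => simp only [map_add, h1, h2]


theorem formallySmooth_of_section {P₀ : Type u} [CommRing P₀] [Algebra B₀ P₀]
    [Algebra.FormallySmooth B₀ P₀] (f : P₀ →ₐ[B₀] C₀)
    (T : Type u) [CommRing T] [Algebra B₀ T]
    (s : T ⊗[B₀] C₀ →ₐ[T] T ⊗[B₀] (P₀ ⧸ RingHom.ker f.toRingHom ^ 2))
    (hs : (piMap T f.kerSquareLift).comp s = AlgHom.id T _) :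
    Algebra.FormallySmooth T (T ⊗[B₀] C₀) := by
  let F : T ⊗[B₀] P₀ →ₐ[T] T ⊗[B₀] C₀ := Algebra.TensorProduct.map (AlgHom.id T T) f
  have hle : Ideal.map (Algebra.TensorProduct.includeRight : P₀ →ₐ[B₀] T ⊗[B₀] P₀)
      (RingHom.ker f.toRingHom) ≤ RingHom.ker F.toRingHom := by
    rw [Ideal.map_le_iff_le_comap]
    intro a ha
    have ha' : f a = 0 := ha
    show F (1 ⊗ₜ a) = 0
    simp only [F, Algebra.TensorProduct.map_tmul, ha', tmul_zero]
  have hmem : ∀ a ∈ RingHom.ker f.toRingHom ^ 2,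
      (1 : T) ⊗ₜ[B₀] a ∈ RingHom.ker F.toRingHom ^ 2 := by
    intro a ha
    apply Ideal.pow_right_mono hle 2
    rw [← Ideal.map_pow]
    exact Ideal.mem_map_of_mem _ ha
  let κ₀ : P₀ ⧸ RingHom.ker f.toRingHom ^ 2 →ₐ[B₀]
      (T ⊗[B₀] P₀) ⧸ RingHom.ker F.toRingHom ^ 2 :=
    Ideal.Quotient.liftₐ _
      (((Ideal.Quotient.mkₐ T (RingHom.ker F.toRingHom ^ 2)).restrictScalars B₀).comp
        Algebra.TensorProduct.includeRight) (by
      intro a ha
      exact (Ideal.Quotient.eq_zero_iff_mem).mpr (hmem a ha))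
  have hκ₀ : ∀ a : P₀, κ₀ (Ideal.Quotient.mk _ a) = Ideal.Quotient.mk _ ((1 : T) ⊗ₜ[B₀] a) :=
    fun a => rfl
  let κ : T ⊗[B₀] (P₀ ⧸ RingHom.ker f.toRingHom ^ 2) →ₐ[T]
      (T ⊗[B₀] P₀) ⧸ RingHom.ker F.toRingHom ^ 2 :=
    Algebra.TensorProduct.lift (Algebra.ofId T _) κ₀ (fun _ _ => Commute.all _ _)
  have hκ : F.kerSquareLift.comp κ = piMap T f.kerSquareLift := by
    apply Algebra.TensorProduct.ext
    · ext
    · apply (AlgHom.cancel_right (Ideal.Quotient.mkₐ_surjective B₀ _)).mp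
      ext a
      simp only [AlgHom.comp_apply, AlgHom.coe_restrictScalars', Ideal.Quotient.mkₐ_eq_mk,
        Algebra.TensorProduct.includeRight_apply, κ, Algebra.TensorProduct.lift_tmul, map_one,
        one_mul, hκ₀, AlgHom.kerSquareLift_mk, F, Algebra.TensorProduct.map_tmul]
  have : Algebra.FormallySmooth T (T ⊗[B₀] P₀) := inferInstance
  exact Algebra.FormallySmooth.of_split F (κ.comp s) (by rw [← AlgHom.comp_assoc, hκ, hs])

end Smooth

variable {ι : Type*} {B₀ : Type u} [CommRing B₀] {R : ι → Type u} [∀ i, CommRing (R i)]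
  [∀ i, Algebra B₀ (R i)] {R' : Type u} [CommRing R'] [Algebra B₀ R'] {g : ∀ i, R i →ₐ[B₀] R'}
  (C₀ : Type u) [CommRing C₀] [Algebra B₀ C₀]

/-- Sections of base changes of a fixed map `D₀ → C₀` descend. -/
theorem IsWeakColimit.exists_section (h : IsWeakColimit g) [Algebra.FinitePresentation B₀ C₀]
    {D₀ : Type u} [CommRing D₀] [Algebra B₀ D₀] (fbar : D₀ →ₐ[B₀] C₀)
    (sInf : R' ⊗[B₀] C₀ →ₐ[R'] R' ⊗[B₀] D₀)
    (hsInf : ∀ x, piMap R' fbar (sInf x) = x) :
    ∃ i, ∃ s : R i ⊗[B₀] C₀ →ₐ[R i] R i ⊗[B₀] D₀,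
      (piMap (R i) fbar).comp s = AlgHom.id (R i) _ := by
  classical
  obtain ⟨n, f, hf, -⟩ := Algebra.FinitePresentation.out (R := B₀) (A := C₀)
  let τ : C₀ →ₐ[B₀] R' ⊗[B₀] D₀ :=
    (sInf.restrictScalars B₀).comp Algebra.TensorProduct.includeRight
  obtain ⟨i, τ', hτ'⟩ := (h.baseChange_right D₀).lift_algHom C₀ τ
  have hτ'' : ∀ c, Algebra.TensorProduct.map (g i) (AlgHom.id B₀ D₀) (τ' c) = τ c :=
    fun c => congrArg (fun F => F c) hτ'
  have hτ1 : ∀ c, piMap R' fbar (τ c) = 1 ⊗ₜ c := fun c => hsInf _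
  obtain ⟨j, φ, hφ, hφT⟩ := h.tensor_ker_finset C₀ i
    (Finset.univ.image fun k : Fin n =>
      piMap (R i) fbar (τ' (f (MvPolynomial.X k))) - 1 ⊗ₜ f (MvPolynomial.X k)) (by
      intro z hz
      obtain ⟨k, -, rfl⟩ := Finset.mem_image.mp hz
      rw [← map_id_right_apply, map_sub, sub_eq_zero, piMap_natural, hτ'', hτ1]
      simp)
  let τ'' : C₀ →ₐ[B₀] R j ⊗[B₀] D₀ := (Algebra.TensorProduct.map φ (AlgHom.id B₀ D₀)).comp τ'
  let s : R j ⊗[B₀] C₀ →ₐ[R j] R j ⊗[B₀] D₀ :=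
    Algebra.TensorProduct.lift (Algebra.ofId (R j) _) τ'' (fun _ _ => Commute.all _ _)
  refine ⟨j, s, ?_⟩
  apply Algebra.TensorProduct.ext
  · ext
  · apply (AlgHom.cancel_right hf).mp
    apply MvPolynomial.algHom_ext
    intro k
    have h0 := hφT _ (Finset.mem_image_of_mem _ (Finset.mem_univ k))
    rw [← map_id_right_apply, map_sub, sub_eq_zero, piMap_natural] at h0
    simp only [AlgHom.comp_apply, AlgHom.coe_restrictScalars',
      Algebra.TensorProduct.includeRight_apply, AlgHom.coe_id, id_eq]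
    simp only [s, τ'', Algebra.TensorProduct.lift_tmul, map_one, one_mul, AlgHom.comp_apply]
    rw [h0]
    simp

/-- Formal smoothness descends. -/
theorem IsWeakColimit.exists_formallySmooth (h : IsWeakColimit g)
    [Algebra.FinitePresentation B₀ C₀]
    (hsm : Algebra.FormallySmooth R' (R' ⊗[B₀] C₀)) :
    ∃ i, Algebra.FormallySmooth (R i) (R i ⊗[B₀] C₀) := by
  classical
  obtain ⟨n, f, hf, -⟩ := Algebra.FinitePresentation.out (R := B₀) (A := C₀)
  have hfbar : Function.Surjective f.kerSquareLift := fun c => by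
    obtain ⟨p, rfl⟩ := hf c
    exact ⟨Ideal.Quotient.mk _ p, f.kerSquareLift_mk p⟩
  have hsq : RingHom.ker f.kerSquareLift ^ 2 = ⊥ := by
    have := AlgHom.ker_kerSquareLift f
    rw [show RingHom.ker f.kerSquareLift = RingHom.ker f.kerSquareLift.toRingHom from rfl, this,
      Ideal.cotangentIdeal_square]
  obtain ⟨i, s, hs⟩ := h.exists_section C₀ f.kerSquareLift
    (Algebra.FormallySmooth.liftOfSurjective (AlgHom.id R' _) (piMap R' f.kerSquareLift)
      (piMap_surjective R' _ hfbar) ⟨2, ker_piMap_sq R' _ hfbar hsq⟩)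
    (Algebra.FormallySmooth.liftOfSurjective_apply _ _ _ _)
  exact ⟨i, formallySmooth_of_section f (R i) s hs⟩

end Groth.Agent.Helper4.WeakColim

namespace Groth.Agent.Helper4.WeakColim

open TensorProduct

universe u

section Transfer

variable {B₀ : Type u} [CommRing B₀] (C₀ : Type u) [CommRing C₀] [Algebra B₀ C₀]
  {T T' : Type u} [CommRing T] [CommRing T'] [Algebra B₀ T] [Algebra B₀ T']

theorem formallySmooth_transfer (φ : T →ₐ[B₀] T')
    (hT : Algebra.FormallySmooth T (T ⊗[B₀] C₀)) : Algebra.FormallySmooth T' (T' ⊗[B₀] C₀) := by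
  letI : Algebra T T' := φ.toRingHom.toAlgebra
  haveI : IsScalarTower B₀ T T' := IsScalarTower.of_algebraMap_eq (fun b => (φ.commutes b).symm)
  exact Algebra.FormallySmooth.of_equiv (Algebra.TensorProduct.cancelBaseChange B₀ T T' T' C₀)

theorem formallyUnramified_transfer (φ : T →ₐ[B₀] T')
    (hT : Algebra.FormallyUnramified T (T ⊗[B₀] C₀)) :
    Algebra.FormallyUnramified T' (T' ⊗[B₀] C₀) := by
  letI : Algebra T T' := φ.toRingHom.toAlgebra
  haveI : IsScalarTower B₀ T T' := IsScalarTower.of_algebraMap_eq (fun b => (φ.commutes b).symm)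
  exact Algebra.FormallyUnramified.of_equiv (Algebra.TensorProduct.cancelBaseChange B₀ T T' T' C₀)

end Transfer

variable {ι : Type*} {B₀ : Type u} [CommRing B₀] {R : ι → Type u} [∀ i, CommRing (R i)]
  [∀ i, Algebra B₀ (R i)] {R' : Type u} [CommRing R'] [Algebra B₀ R'] {g : ∀ i, R i →ₐ[B₀] R'}
  (C₀ : Type u) [CommRing C₀] [Algebra B₀ C₀]

/-- Formal étaleness descends. -/
theorem IsWeakColimit.exists_formallyEtale (h : IsWeakColimit g)
    [Algebra.FinitePresentation B₀ C₀]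
    (het : Algebra.FormallyEtale R' (R' ⊗[B₀] C₀)) :
    ∃ i, Algebra.FormallyEtale (R i) (R i ⊗[B₀] C₀) := by
  obtain ⟨i₁, h₁⟩ := h.exists_formallySmooth C₀ inferInstance
  obtain ⟨i₂, h₂⟩ := h.exists_formallyUnramified C₀ inferInstance
  obtain ⟨k, φ, ψ, -, -⟩ := h.directed i₁ i₂
  have h₁' := formallySmooth_transfer C₀ φ h₁
  have h₂' := formallyUnramified_transfer C₀ ψ h₂
  exact ⟨k, Algebra.FormallyEtale.of_formallyUnramified_and_formallySmooth⟩

end Groth.Agent.Helper4.WeakColim
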