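import Mathlib

/-!
# Colimits over "weakly filtered" categories are exact in abelian groups

A category `I` in which spans can be completed to commutative squares and parallel pairs can be
coequalized is a disjoint union of filtered categories; hence colimits of shape `I` of abelian groups
are exact.  We deduce that the left Kan extension along `u.op` is exact on abelian presheaves when
`u` commutes with fibre products and equalizers.
-/

universe u
open CategoryTheory Limits Opposite

namespace Groth.Agent.Helper4.WeakFilt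

/-- spans complete to commutative squares, and parallel pairs can be weakly coequalized. -/
structure WF (I : Type*) [Category I] : Prop where
  span : ∀ {w x y : I} (a : w ⟶ x) (b : w ⟶ y), ∃ (z : I) (c : x ⟶ z) (d : y ⟶ z), a ≫ c = b ≫ d
  coeq : ∀ {x y : I} (a b : x ⟶ y), ∃ (z : I) (c : y ⟶ z), a ≫ c = b ≫ c

theorem WF.of_zigzag {I : Type*} [Category I] (h : WF I) {i j : I} (hz : Zigzag i j) :
    ∃ (k : I), Nonempty (i ⟶ k) ∧ Nonempty (j ⟶ k) := by
  induction hz with
  | refl => exact ⟨i, ⟨𝟙 _⟩, ⟨𝟙 _⟩⟩
  | tail _ hzag ih =>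
    obtain ⟨k, ⟨f⟩, ⟨g⟩⟩ := ih
    rcases hzag with ⟨⟨a⟩⟩ | ⟨⟨a⟩⟩
    · obtain ⟨z, c, d, -⟩ := h.span g a
      exact ⟨z, ⟨f ≫ c⟩, ⟨d⟩⟩
    · exact ⟨k, ⟨f⟩, ⟨a ≫ g⟩⟩

theorem WF.op_of_hasLimits (I : Type*) [Category I] [HasPullbacks I] [HasEqualizers I] :
    WF Iᵒᵖ where
  span {w x y} a b :=
    ⟨op (pullback a.unop b.unop), (pullback.fst a.unop b.unop).op, (pullback.snd a.unop b.unop).op, by
      apply Quiver.Hom.unop_inj
      simpa using pullback.condition⟩
  coeq {x y} a b :=
    ⟨op (equalizer a.unop b.unop), (equalizer.ι a.unop b.unop).op, by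
      apply Quiver.Hom.unop_inj
      simpa using equalizer.condition _ _⟩

theorem WF.of_equivalence {I I' : Type*} [Category I] [Category I'] (e : I ≌ I') (h : WF I) :
    WF I' where
  span {w x y} a b := by
    obtain ⟨z, c, d, hcd⟩ := h.span (e.inverse.map a) (e.inverse.map b)
    refine ⟨e.functor.obj z, e.counitInv.app x ≫ e.functor.map c,
      e.counitInv.app y ≫ e.functor.map d, ?_⟩
    have h1 := congrArg (fun t => e.functor.map t) hcd
    simp only [Functor.map_comp] at h1
    have ha := e.counitInv.naturality a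
    have hb := e.counitInv.naturality b
    simp only [Functor.id_obj, Functor.id_map, Functor.comp_obj, Functor.comp_map] at ha hb
    rw [reassoc_of% ha, reassoc_of% hb, h1]
  coeq {x y} a b := by
    obtain ⟨z, c, hc⟩ := h.coeq (e.inverse.map a) (e.inverse.map b)
    refine ⟨e.functor.obj z, e.counitInv.app y ≫ e.functor.map c, ?_⟩
    have h1 := congrArg (fun t => e.functor.map t) hc
    simp only [Functor.map_comp] at h1
    have ha := e.counitInv.naturality a
    have hb := e.counitInv.naturality b
    simp only [Functor.id_obj, Functor.id_map, Functor.comp_obj, Functor.comp_map] at ha hb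
    rw [reassoc_of% ha, reassoc_of% hb, h1]

/-- the projection to the set of connected components. -/
noncomputable abbrev toComp (I : Type u) [SmallCategory I] : I ⥤ Discrete (ConnectedComponents I) :=
  ConnectedComponents.functorToDiscrete _ id

theorem isFiltered_costructuredArrow {I : Type u} [SmallCategory I] (h : WF I)
    (c : Discrete (ConnectedComponents I)) : IsFiltered (CostructuredArrow (toComp I) c) := by
  have key : ∀ (i : I) (hi : (Quotient.mk'' i : ConnectedComponents I) = c.as),
      Nonempty ((toComp I).obj i ⟶ c) := fun i hi => ⟨eqToHom (by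
        ext
        exact hi)⟩
  have hobj : ∀ X : CostructuredArrow (toComp I) c,
      (Quotient.mk'' X.left : ConnectedComponents I) = c.as := fun X =>
    Discrete.eq_of_hom X.hom
  refine { cocone_objs := ?_, cocone_maps := ?_, nonempty := ?_ }
  · intro X Y
    have hXY : Zigzag X.left Y.left := Quotient.exact ((hobj X).trans (hobj Y).symm)
    obtain ⟨k, ⟨a⟩, ⟨b⟩⟩ := h.of_zigzag hXY
    have hk : (Quotient.mk'' k : ConnectedComponents I) = c.as := by
      rw [← hobj Y]
      exact (Quotient.sound (Zigzag.of_hom b)).symm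
    obtain ⟨fk⟩ := key k hk
    exact ⟨CostructuredArrow.mk fk, CostructuredArrow.homMk a (Subsingleton.elim _ _),
      CostructuredArrow.homMk b (Subsingleton.elim _ _), trivial⟩
  · intro X Y f g
    obtain ⟨z, cc, hc⟩ := h.coeq f.left g.left
    have hk : (Quotient.mk'' z : ConnectedComponents I) = c.as := by
      rw [← hobj Y]
      exact (Quotient.sound (Zigzag.of_hom cc)).symm
    obtain ⟨fk⟩ := key z hk
    refine ⟨CostructuredArrow.mk fk, CostructuredArrow.homMk cc (Subsingleton.elim _ _), ?_⟩
    ext
    exact hc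
  · obtain ⟨i, hi⟩ := Quotient.exists_rep c.as
    obtain ⟨fk⟩ := key i hi
    exact ⟨CostructuredArrow.mk fk⟩

theorem preservesFiniteLimits_colim {I : Type u} [SmallCategory I] (h : WF I) :
    PreservesFiniteLimits (colim : (I ⥤ AddCommGrpCat.{u}) ⥤ AddCommGrpCat.{u}) := by
  have h1 : PreservesFiniteLimits
      ((toComp I).lan : (I ⥤ AddCommGrpCat.{u}) ⥤ (Discrete (ConnectedComponents I) ⥤ _)) := by
    apply preservesFiniteLimits_of_preservesFiniteLimitsOfSize.{u}
    intro J _ _
    apply preservesLimitsOfShape_of_evaluation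
    intro c
    have : IsFiltered (CostructuredArrow (toComp I) c) := isFiltered_costructuredArrow h c
    exact preservesLimitsOfShape_of_natIso (lanEvaluationIsoColim _ _ _).symm
  have h2 : PreservesFiniteLimits
      (colim : (Discrete (ConnectedComponents I) ⥤ AddCommGrpCat.{u}) ⥤ AddCommGrpCat.{u}) :=
    HasExactColimitsOfShape.preservesFiniteLimits
  have h3 := comp_preservesFiniteLimits
    ((toComp I).lan : (I ⥤ AddCommGrpCat.{u}) ⥤ (Discrete (ConnectedComponents I) ⥤ _)) colim
  exact preservesFiniteLimits_of_natIso ((toComp I).lanCompColimIso (H := AddCommGrpCat.{u}))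

/-- left Kan extension of abelian presheaves along `u.op` is exact when `u` commutes with fibre
products and equalizers. -/
theorem preservesFiniteLimits_lan {C D : Type u} [SmallCategory C] [SmallCategory D] (u : C ⥤ D)
    [HasPullbacks C] [HasEqualizers C]
    [PreservesLimitsOfShape WalkingCospan u] [PreservesLimitsOfShape WalkingParallelPair u] :
    PreservesFiniteLimits (u.op.lan : (Cᵒᵖ ⥤ AddCommGrpCat.{u}) ⥤ (Dᵒᵖ ⥤ AddCommGrpCat.{u})) := by
  apply preservesFiniteLimits_of_preservesFiniteLimitsOfSize.{u}
  intro J _ _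
  apply preservesLimitsOfShape_of_evaluation
    (u.op.lan : (Cᵒᵖ ⥤ AddCommGrpCat.{u}) ⥤ Dᵒᵖ ⥤ AddCommGrpCat.{u}) J
  intro K
  have hW : WF (CostructuredArrow u.op K) :=
    WF.of_equivalence (structuredArrowOpEquivalence u (unop K))
      (WF.op_of_hasLimits (StructuredArrow (unop K) u))
  have := preservesFiniteLimits_colim hW
  exact preservesLimitsOfShape_of_natIso (lanEvaluationIsoColim _ _ _).symm

end Groth.Agent.Helper4.WeakFilt
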