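import Groth.Agent.Helper4.ZCNormB

/-!
# Over a field, invariant tensors lift to invariant tensors along a surjection (helper4)
-/

set_option autoImplicit false
universe u
open scoped TensorProduct

namespace Groth.Agent.Helper4.ZCInvB

open Groth.Agent.Helper4.ZCNormB

variable {A : Type u} [CommRing A] {P B : Type u} [CommRing P] [Algebra A P] [CommRing B]
  [Algebra A B] (π : P →ₐ[A] B) {d : ℕ} (k : Type u) [Field k] [Algebra A k]

variable (A) in
/-- the `i`-th coordinate embedding, base changed -/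
noncomputable def inc (Q : Type u) [CommRing Q] [Algebra A Q] (i : Fin d) :
    k ⊗[A] Q →ₐ[k] k ⊗[A] (⨂[A] _ : Fin d, Q) :=
  Algebra.TensorProduct.map (AlgHom.id k k) (PiTensorProduct.singleAlgHom (R := A)
    (A := fun _ : Fin d => Q) i)

theorem inc_tmul (Q : Type u) [CommRing Q] [Algebra A Q] (i : Fin d) (c : k) (p : Q) :
    inc (d := d) A k Q i (c ⊗ₜ[A] p) =
      c ⊗ₜ[A] PiTensorProduct.tprod A (Pi.mulSingle (M := fun _ : Fin d => Q) i p) := rfl

theorem prod_inc_one_tmul (u : Fin d → B) :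
    (∏ i, inc (d := d) A k B i ((1 : k) ⊗ₜ[A] u i)) = (1 : k) ⊗ₜ[A] PiTensorProduct.tprod A u := by
  simp_rw [inc_tmul]
  rw [Groth.Agent.Helper4.FreeLaw.prod_tmul, Finset.prod_const_one, ← PiTensorProduct.tprod_prod,
    Finset.univ_prod_mulSingle]

theorem tmap_inc (i : Fin d) (y : k ⊗[A] P) :
    Algebra.TensorProduct.map (AlgHom.id k k) (SymTen.tmap A d π) (inc A k P i y) =
      inc A k B i (Algebra.TensorProduct.map (AlgHom.id k k) π y) := by
  induction y using TensorProduct.induction_on with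
  | zero => simp
  | tmul c p =>
    rw [inc_tmul, Algebra.TensorProduct.map_tmul, Algebra.TensorProduct.map_tmul, inc_tmul,
      SymTen.tmap_tprod]
    congr 2
    funext j
    exact Pi.apply_mulSingle (fun _ : Fin d => (π : P → B)) (fun _ => map_one π) i p j
  | add x y hx hy => simp only [map_add, hx, hy]

theorem perm_inc (Q : Type u) [CommRing Q] [Algebra A Q] (σ : Equiv.Perm (Fin d)) (i : Fin d)
    (y : k ⊗[A] Q) :
    Algebra.TensorProduct.map (AlgHom.id k k) (SymTen.perm A Q d σ) (inc A k Q i y) =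
      inc A k Q (σ i) y := by
  induction y using TensorProduct.induction_on with
  | zero => simp
  | tmul c p =>
    rw [inc_tmul, Algebra.TensorProduct.map_tmul, inc_tmul, SymTen.perm_tprod]
    congr 2
    funext j
    simp only [Pi.mulSingle_apply, Equiv.symm_apply_eq]
  | add x y hx hy => simp only [map_add, hx, hy]

section section_

variable (s : k ⊗[A] B →ₗ[k] k ⊗[A] P)

/-- the `A`-linear map `b ↦ inc_i (s (1 ⊗ b))` -/
noncomputable def fL (i : Fin d) : B →ₗ[A] k ⊗[A] (⨂[A] _ : Fin d, P) :=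
  ((inc (d := d) A k P i).toLinearMap.restrictScalars A) ∘ₗ (s.restrictScalars A) ∘ₗ
    (TensorProduct.mk A k B 1)

theorem fL_apply (i : Fin d) (b : B) : fL k s i b = inc A k P i (s ((1 : k) ⊗ₜ[A] b)) := rfl

/-- the section on the tensor power, before base change -/
noncomputable def Sec₀ : (⨂[A] _ : Fin d, B) →ₗ[A] k ⊗[A] (⨂[A] _ : Fin d, P) :=
  PiTensorProduct.lift ((MultilinearMap.mkPiAlgebra A (Fin d)
    (k ⊗[A] (⨂[A] _ : Fin d, P))).compLinearMap (fun i => fL k s i))

theorem Sec₀_tprod (u : Fin d → B) :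
    Sec₀ k s (PiTensorProduct.tprod A u) = ∏ i, inc A k P i (s ((1 : k) ⊗ₜ[A] u i)) := by
  rw [Sec₀, PiTensorProduct.lift.tprod, MultilinearMap.compLinearMap_apply,
    MultilinearMap.mkPiAlgebra_apply]
  rfl

/-- the section on the tensor power -/
noncomputable def Sec : k ⊗[A] (⨂[A] _ : Fin d, B) →ₗ[k] k ⊗[A] (⨂[A] _ : Fin d, P) :=
  LinearMap.liftBaseChange k (Sec₀ k s)

theorem Sec_tmul (c : k) (t : ⨂[A] _ : Fin d, B) : Sec k s (c ⊗ₜ[A] t) = c • Sec₀ k s t :=
  LinearMap.liftBaseChange_tmul k _ c t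

/-- induction principle for the base change of the tensor power -/
theorem induction_kT {Q : Type u} [CommRing Q] [Algebra A Q]
    {motive : k ⊗[A] (⨂[A] _ : Fin d, Q) → Prop}
    (h0 : motive 0) (hadd : ∀ x y, motive x → motive y → motive (x + y))
    (hpure : ∀ (c : k) (u : Fin d → Q), motive (c ⊗ₜ[A] PiTensorProduct.tprod A u))
    (x : k ⊗[A] (⨂[A] _ : Fin d, Q)) : motive x := by
  induction x using TensorProduct.induction_on with
  | zero => exact h0
  | tmul c t =>
    induction t using PiTensorProduct.induction_on with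
    | smul_tprod r u =>
      rw [TensorProduct.tmul_smul, TensorProduct.smul_tmul']
      exact hpure _ _
    | add x y hx hy =>
      rw [TensorProduct.tmul_add]
      exact hadd _ _ hx hy
  | add x y hx hy => exact hadd _ _ hx hy

variable (hs : ∀ x, Algebra.TensorProduct.map (AlgHom.id k k) π (s x) = x)

include hs in
theorem tmap_Sec (x : k ⊗[A] (⨂[A] _ : Fin d, B)) :
    Algebra.TensorProduct.map (AlgHom.id k k) (SymTen.tmap A d π) (Sec k s x) = x := by
  induction x using induction_kT k with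
  | h0 => simp
  | hadd x y hx hy => rw [map_add, map_add, hx, hy]
  | hpure c u =>
    rw [Sec_tmul, Sec₀_tprod, map_smul, map_prod]
    simp_rw [tmap_inc, hs]
    rw [prod_inc_one_tmul, TensorProduct.smul_tmul', smul_eq_mul, mul_one]

theorem perm_Sec (σ : Equiv.Perm (Fin d)) (x : k ⊗[A] (⨂[A] _ : Fin d, B)) :
    Algebra.TensorProduct.map (AlgHom.id k k) (SymTen.perm A P d σ) (Sec k s x) =
      Sec k s (Algebra.TensorProduct.map (AlgHom.id k k) (SymTen.perm A B d σ) x) := by
  induction x using induction_kT k with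
  | h0 => simp
  | hadd x y hx hy => rw [map_add, map_add, map_add, map_add, hx, hy]
  | hpure c u =>
    rw [Sec_tmul, Sec₀_tprod, map_smul, map_prod, Algebra.TensorProduct.map_tmul,
      SymTen.perm_tprod, AlgHom.id_apply, Sec_tmul, Sec₀_tprod]
    congr 1
    simp_rw [perm_inc]
    exact (Equiv.prod_comp σ (fun j => inc A k P j (s ((1 : k) ⊗ₜ[A] u (σ.symm j))))).symm.trans
      (by simp) |>.symm

end section_

/-- **Invariant tensors lift to invariant tensors over a field.** -/
theorem exists_invariant_lift (hπ : Function.Surjective π) (x : k ⊗[A] (⨂[A] _ : Fin d, B))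
    (hx : ∀ σ : Equiv.Perm (Fin d), (SymTen.perm A B d σ).toLinearMap.lTensor k x = x) :
    ∃ z : k ⊗[A] (⨂[A] _ : Fin d, P),
      (∀ σ : Equiv.Perm (Fin d), (SymTen.perm A P d σ).toLinearMap.lTensor k z = z) ∧
      (SymTen.tmap A d π).toLinearMap.lTensor k z = x := by
  have hsurj : Function.Surjective (Algebra.TensorProduct.map (AlgHom.id k k) π) := by
    intro y
    obtain ⟨y', rfl⟩ := LinearMap.lTensor_surjective k (g := π.toLinearMap) hπ y
    exact ⟨y', (lT_eq k π y').symm⟩
  obtain ⟨s, hs⟩ := LinearMap.exists_rightInverse_of_surjective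
    (Algebra.TensorProduct.map (AlgHom.id k k) π).toLinearMap (LinearMap.range_eq_top.2 hsurj)
  have hs' : ∀ x, Algebra.TensorProduct.map (AlgHom.id k k) π (s x) = x :=
    fun x => congrArg (fun f => f x) hs
  refine ⟨Sec k s x, fun σ => ?_, ?_⟩
  · rw [lT_eq, perm_Sec, ← lT_eq, hx σ]
  · rw [lT_eq, tmap_Sec π k s hs']

end Groth.Agent.Helper4.ZCInvB
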