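import Groth.Agent.Helper4.ZCNormD
import Groth.Agent.Helper4.ZCInvA
import Groth.Agent.Helper4.ZCInvB

/-!
# Field-valued points of `Γ^d(B)` lift to `TS^d(B)` (helper4)
-/

set_option autoImplicit false
universe u
open scoped TensorProduct

namespace Groth.Agent.Helper4.ZCFieldPt

open Groth.Agent.Helper4.NormExpE Groth.Agent.Helper4.GammaSpan Groth.Agent.Helper4.ZCNormA
  Groth.Agent.Helper4.ZCNormB Groth.Agent.Helper4.ZCNormC Groth.Agent.Helper4.ZCNormD

variable {A : Type u} [CommRing A] {B : Type u} [CommRing B] [Algebra A B]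
  {C : Type u} [CommRing C] [Algebra A C] {d : ℕ} (γ : PolLaw.MulLaw A B C d)
  (k : Type u) [Field k] [Algebra A k] (ψ : C →ₐ[A] k)

local notation "TP" => (⨂[A] _ : Fin d, MvPolynomial B A)
local notation "TB" => (⨂[A] _ : Fin d, B)

/-- the law with values in the field -/
noncomputable def γk : PolLaw.MulLaw A B k d := PolLaw.MulLaw.postcomp ψ γ

theorem γk_toFun' (S : Type u) [CommSemiring S] [Algebra A S] (z : S ⊗[A] B) :
    (γk γ k ψ).law.toFun' S z = ψ.toLinearMap.lTensor S (γ.law.toFun' S z) := rfl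

/-- evaluation of (base changed) symmetric tensors of the free cover at the point -/
noncomputable def Gh : k ⊗[A] CP A B d →+* k :=
  (Algebra.TensorProduct.lmul' A (S := k)).toRingHom.comp
    (Algebra.TensorProduct.map (AlgHom.id k k) (gAlg (γk γ k ψ))).toRingHom

theorem Gh_eq (w : k ⊗[A] CP A B d) :
    Gh γ k ψ w = Algebra.TensorProduct.lmul' A (S := k) (gS (γk γ k ψ) k (ιS A B d k w)) := by
  rw [gS_ιS]
  rfl

theorem Gh_one_tmul (x : CP A B d) :
    Gh γ k ψ ((1 : k) ⊗ₜ[A] x) = gF (γk γ k ψ) (x : TP) := by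
  show Algebra.TensorProduct.lmul' A (S := k) ((1 : k) ⊗ₜ[A] gAlg (γk γ k ψ) x) = _
  rw [Algebra.TensorProduct.lmul'_apply_tmul, one_mul, gAlg_apply]

theorem normLaw_zero : (normLaw A (MvPolynomial B A) d).toFun' k 0 = 0 := by
  have h := normLaw_smul (A := A) (B := MvPolynomial B A) (d := d) k (0 : k) 0
  rw [zero_smul, zero_pow (Nat.factorial_ne_zero d), zero_smul] at h
  exact h

/-- the kernel lemma -/
theorem Gh_eq_zero (w : k ⊗[A] CP A B d) (hw : qS k (ιS A B d k w) = 0) : Gh γ k ψ w = 0 := by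
  have h1 : gS (γk γ k ψ) k (ιS A B d k (w ^ d.factorial)) =
      gS (γk γ k ψ) k (ιS A B d k w) ^ d.factorial := by
    rw [gS_ιS, gS_ιS, map_pow]
  have h2 : gS (γk γ k ψ) k (ιS A B d k (w ^ d.factorial)) = 0 := by
    rw [← normLaw_ιS, ← G_toFun', G_congr (γk γ k ψ) k (ιS A B d k w) 0 (by rw [hw, map_zero]),
      G_toFun', normLaw_zero, map_zero]
  have h3 : Gh γ k ψ w ^ d.factorial = 0 := by
    rw [Gh_eq, ← map_pow, ← h1, h2, map_zero]
  exact pow_eq_zero_iff (Nat.factorial_ne_zero d) |>.1 h3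

theorem exists_w (y : SymTen.TS A B d) :
    ∃ w : k ⊗[A] CP A B d, qS k (ιS A B d k w) = (1 : k) ⊗ₜ[A] (y : TB) := by
  have hx : ∀ σ : Equiv.Perm (Fin d),
      (SymTen.perm A B d σ).toLinearMap.lTensor k ((1 : k) ⊗ₜ[A] (y : TB)) =
        (1 : k) ⊗ₜ[A] (y : TB) := by
    intro σ
    rw [LinearMap.lTensor_tmul, AlgHom.toLinearMap_apply, SymTen.perm_apply]
    congr 1
    exact y.2 σ
  obtain ⟨z, hz1, hz2⟩ := Groth.Agent.Helper4.ZCInvB.exists_invariant_lift (π A B) k π_surj _ hx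
  obtain ⟨w, hw⟩ := Groth.Agent.Helper4.ZCInvA.exists_of_invariant k
    (MvPolynomial.basisMonomials B A) z hz1
  refine ⟨w, ?_⟩
  show qS k ((CP A B d).val.toLinearMap.lTensor k w) = _
  rw [hw]
  exact hz2

/-- the lifted point, as a function -/
noncomputable def chi (y : SymTen.TS A B d) : k := Gh γ k ψ (exists_w k y).choose

theorem chi_eq (y : SymTen.TS A B d) (w : k ⊗[A] CP A B d)
    (hw : qS k (ιS A B d k w) = (1 : k) ⊗ₜ[A] (y : TB)) : chi γ k ψ y = Gh γ k ψ w := by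
  have h := Gh_eq_zero γ k ψ ((exists_w k y).choose - w) (by
    rw [map_sub, map_sub, (exists_w k y).choose_spec, hw, sub_self])
  rw [map_sub, sub_eq_zero] at h
  exact h

/-- the lifted point, as a ring homomorphism -/
noncomputable def chiHom : SymTen.TS A B d →+* k where
  toFun := chi γ k ψ
  map_one' := by
    rw [chi_eq γ k ψ 1 1 (by
      have h1 : ιS A B d k (1 : k ⊗[A] CP A B d) = 1 := by rw [ιS_eq, map_one]
      rw [h1, qS_eq, map_one]
      rfl), map_one]
  map_mul' y y' := by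
    obtain ⟨w, hw⟩ := exists_w k y
    obtain ⟨w', hw'⟩ := exists_w k y'
    rw [chi_eq γ k ψ y w hw, chi_eq γ k ψ y' w' hw', chi_eq γ k ψ (y * y') (w * w') (by
      have h1 : ιS A B d k (w * w') = ιS A B d k w * ιS A B d k w' := by
        rw [ιS_eq, ιS_eq, ιS_eq, map_mul]
      rw [h1, qS_eq, map_mul, ← qS_eq, ← qS_eq, hw, hw', Algebra.TensorProduct.tmul_mul_tmul,
        mul_one]
      rfl), map_mul]
  map_zero' := by
    rw [chi_eq γ k ψ 0 0 (by simp), map_zero]
  map_add' y y' := by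
    obtain ⟨w, hw⟩ := exists_w k y
    obtain ⟨w', hw'⟩ := exists_w k y'
    rw [chi_eq γ k ψ y w hw, chi_eq γ k ψ y' w' hw', chi_eq γ k ψ (y + y') (w + w') (by
      rw [map_add, map_add, hw, hw', ← TensorProduct.tmul_add]
      rfl), map_add]

theorem chiHom_apply (y : SymTen.TS A B d) : chiHom γ k ψ y = chi γ k ψ y := rfl

theorem chiHom_algebraMap (r : A) :
    chiHom γ k ψ (algebraMap A (SymTen.TS A B d) r) = algebraMap A k r := by
  rw [chiHom_apply, chi_eq γ k ψ _ ((algebraMap A k r) ⊗ₜ[A] (1 : CP A B d)) (by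
    rw [ιS_tmul, LinearMap.lTensor_tmul, AlgHom.toLinearMap_apply, Algebra.algebraMap_eq_smul_one,
      TensorProduct.smul_tmul]
    congr 1
    rw [show ((1 : CP A B d) : TP) = 1 from rfl, map_one, ← Algebra.algebraMap_eq_smul_one]
    rfl)]
  show Algebra.TensorProduct.lmul' A (S := k) ((algebraMap A k r) ⊗ₜ[A] gAlg (γk γ k ψ) 1) = _
  rw [Algebra.TensorProduct.lmul'_apply_tmul, map_one, mul_one]

/-- the lifted point lies over the given point -/
theorem chiHom_comp (hγ : PolLaw.IsGammaD γ) (φ : C →ₐ[A] SymTen.TS A B d)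
    (hφ : ∀ (S : Type u) [CommSemiring S] [Algebra A S] (n : ℕ) (s : Fin n → S) (b : Fin n → B),
      ((SymTen.TS A B d).val.comp φ).toLinearMap.lTensor S (γ.law.toFun' S (∑ j, s j ⊗ₜ[A] b j)) =
        ∑ c : Fin d → Fin n, (∏ i, s (c i)) ⊗ₜ[A] PiTensorProduct.tprod A (fun i => b (c i)))
    (c : C) : chiHom γ k ψ (φ c) = ψ c := by
  set Φ : C →ₐ[A] TB := (SymTen.TS A B d).val.comp φ with hΦdef
  have hΦγ := Groth.Agent.Helper4.ZCPowA.Φ_γ γ Φ hφ
  have hc : c ∈ Submodule.span A (GenSet γ.law) := by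
    rw [← mem_Cgen_iff, Cgen_eq_top γ hγ]
    trivial
  induction hc using Submodule.span_induction with
  | mem c hc =>
    obtain ⟨S, _, _, ℓ, z', rfl⟩ := hc
    obtain ⟨z, rfl⟩ := LinearMap.lTensor_surjective S (g := (π A B).toLinearMap) π_surj z'
    set t : TP := ev ℓ ((SymTen.tpowLaw A (MvPolynomial B A) d).law.toFun' S z) with ht
    have htm : t ∈ TSS A B d := Submodule.subset_span ⟨S, inferInstance, inferInstance, ℓ, z, rfl⟩
    have h1 : Φ (ev ℓ (γ.law.toFun' S ((π A B).toLinearMap.lTensor S z))) =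
        SymTen.tmap A d (π A B) t := by
      rw [← gF_ev γ S ℓ z]
      exact Φ_gF γ Φ hΦγ htm
    rw [chiHom_apply, chi_eq γ k ψ _ ((1 : k) ⊗ₜ[A] (⟨t, htm⟩ : CP A B d)) (by
      rw [ιS_tmul, LinearMap.lTensor_tmul, AlgHom.toLinearMap_apply, ← h1]
      rfl), Gh_one_tmul]
    show gF (γk γ k ψ) t = _
    rw [ht, gF_ev (γk γ k ψ) S ℓ z, γk_toFun', Groth.Agent.Helper4.PolarTS.ev_lTensor]
    rfl
  | zero => simp
  | add x y _ _ hx hy => rw [map_add, map_add, map_add, hx, hy]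
  | smul r x _ hx =>
    rw [map_smul φ r x, map_smul ψ r x, Algebra.smul_def, map_mul, hx, chiHom_algebraMap,
      Algebra.smul_def]

/-- **Field-valued points lift.** -/
theorem exists_lift_field_point {A B C : Type u} [CommRing A] [CommRing B] [Algebra A B]
    [CommRing C] [Algebra A C] {d : ℕ} (γ : PolLaw.MulLaw A B C d) (hγ : PolLaw.IsGammaD γ)
    (φ : C →ₐ[A] SymTen.TS A B d)
    (hφ : ∀ (S : Type u) [CommSemiring S] [Algebra A S] (n : ℕ) (s : Fin n → S) (b : Fin n → B),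
      ((SymTen.TS A B d).val.comp φ).toLinearMap.lTensor S (γ.law.toFun' S (∑ j, s j ⊗ₜ[A] b j)) =
        ∑ c : Fin d → Fin n, (∏ i, s (c i)) ⊗ₜ[A] PiTensorProduct.tprod A (fun i => b (c i)))
    (k : Type u) [Field k] (ψ₀ : C →+* k) :
    ∃ χ : SymTen.TS A B d →+* k, ∀ c, χ (φ c) = ψ₀ c := by
  letI : Algebra A k := (ψ₀.comp (algebraMap A C)).toAlgebra
  let ψ : C →ₐ[A] k := { ψ₀ with commutes' := fun r => rfl }
  exact ⟨chiHom γ k ψ, fun c => chiHom_comp γ k ψ hγ φ hφ c⟩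

end Groth.Agent.Helper4.ZCFieldPt
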