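import Groth.Agent.Helper4.ZCNormA
import Groth.Agent.Helper4.ZCPowA

/-!
# `TS^d(B)` as the divided power algebra, assembly from a surjectivity and a kernel property
(helper4)
-/

set_option autoImplicit false
universe u
open scoped TensorProduct

namespace Groth.Agent.Helper4.ZCGamA

open Groth.Agent.Helper4.NormExpB Groth.Agent.Helper4.GammaSpan Groth.Agent.Helper4.ZCNormA
  Groth.Agent.Helper4.ZCPowA Groth.Agent.Helper4.PolarTS

variable (A : Type u) [CommRing A] (B : Type u) [CommRing B] [Algebra A B] (d : ℕ)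

/-- every symmetric tensor of `B` is the image of an element of the span `TSS` over the free cover -/
def Sur : Prop :=
  ∀ t ∈ SymTen.TS A B d, ∃ x ∈ TSS A B d, SymTen.tmap A d (π A B) x = t

/-- elements of `TSS` dying in the tensor power of `B` are killed by every `gF` -/
def Ker : Prop :=
  ∀ (C' : Type u) [CommRing C'] [Algebra A C'] (F : PolLaw.MulLaw A B C' d)
    (x : ⨂[A] _ : Fin d, MvPolynomial B A), x ∈ TSS A B d →
    SymTen.tmap A d (π A B) x = 0 → gF F x = 0

variable {A B d}

theorem descend_lin {M N Q : Type*} [AddCommGroup M] [Module A M] [AddCommGroup N] [Module A N]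
    [AddCommGroup Q] [Module A Q] (q : M →ₗ[A] N) (hq : Function.Surjective q) (g : M →ₗ[A] Q)
    (h : ∀ x, q x = 0 → g x = 0) : ∃ f₀ : N →ₗ[A] Q, ∀ x, f₀ (q x) = g x := by
  have hle : LinearMap.ker q ≤ LinearMap.ker g := fun x hx => h x hx
  refine ⟨(LinearMap.ker q).liftQ g hle ∘ₗ (q.quotKerEquivOfSurjective hq).symm.toLinearMap, ?_⟩
  intro x
  have h1 : (q.quotKerEquivOfSurjective hq).symm (q x) = Submodule.Quotient.mk x := by
    rw [LinearEquiv.symm_apply_eq]
    rfl
  rw [LinearMap.comp_apply, LinearEquiv.coe_coe, h1, Submodule.liftQ_apply]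

theorem eq_of_cf_eq {σ : Type*} {C : Type*} [AddCommGroup C] [Module A C]
    (w w' : MvPolynomial σ A ⊗[A] C) (h : ∀ ν, cf ν w = cf ν w') : w = w' := by
  classical
  obtain ⟨s, hs⟩ := expansion w
  obtain ⟨s', hs'⟩ := expansion w'
  rw [hs (s ∪ s') Finset.subset_union_left, hs' (s ∪ s') Finset.subset_union_right]
  exact Finset.sum_congr rfl fun ν _ => by rw [h ν]

/-- `tmap π` sends the span over the free cover into the span over `B` -/
theorem tmap_mem_span {x : ⨂[A] _ : Fin d, MvPolynomial B A} (hx : x ∈ TSS A B d) :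
    SymTen.tmap A d (π A B) x ∈ Submodule.span A (GenSet (SymTen.tpowLaw A B d).law) := by
  induction hx using Submodule.span_induction with
  | mem x hx =>
    obtain ⟨S, _, _, ℓ, z, rfl⟩ := hx
    have h3 := ev_lTensor ℓ (SymTen.tmap A d (π A B)).toLinearMap
      ((SymTen.tpowLaw A (MvPolynomial B A) d).law.toFun' S z)
    rw [tmap_tpow] at h3
    rw [← AlgHom.toLinearMap_apply, ← h3]
    exact Submodule.subset_span ⟨S, inferInstance, inferInstance, ℓ, _, rfl⟩
  | zero => rw [map_zero]; exact zero_mem _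
  | add x y _ _ hx hy => rw [map_add]; exact add_mem hx hy
  | smul r x _ hx => rw [map_smul]; exact Submodule.smul_mem _ r hx

theorem tmap_mem_TS {x : ⨂[A] _ : Fin d, MvPolynomial B A} (hx : x ∈ TSS A B d) :
    SymTen.tmap A d (π A B) x ∈ SymTen.TS A B d :=
  span_GenSet_le_TS (tmap_mem_span hx)

variable (A B d) in
theorem Cgen_le_TS : Cgen (SymTen.tpowLaw A B d) ≤ SymTen.TS A B d :=
  fun _ ht => span_GenSet_le_TS ht

variable (A B d) in
/-- the tensor power law with values in the symmetric tensors -/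
noncomputable def τ : PolLaw.MulLaw A B (SymTen.TS A B d) d :=
  (mulLaw' (SymTen.tpowLaw A B d)).postcomp (Subalgebra.inclusion (Cgen_le_TS A B d))

theorem val_τ (S : Type u) [CommSemiring S] [Algebra A S] (z : S ⊗[A] B) :
    (SymTen.TS A B d).val.toLinearMap.lTensor S ((τ A B d).law.toFun' S z) =
      (SymTen.tpowLaw A B d).law.toFun' S z := by
  have h1 : (τ A B d).law.toFun' S z =
      (Subalgebra.inclusion (Cgen_le_TS A B d)).toLinearMap.lTensor S
        ((law' (SymTen.tpowLaw A B d)).toFun' S z) := rfl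
  rw [h1, ← LinearMap.comp_apply, ← LinearMap.lTensor_comp]
  have h2 : (SymTen.TS A B d).val.toLinearMap ∘ₗ
      (Subalgebra.inclusion (Cgen_le_TS A B d)).toLinearMap =
      (Cgen (SymTen.tpowLaw A B d)).val.toLinearMap := rfl
  rw [h2, PolLaw.lTensor_algHom_apply]
  exact J_law' (SymTen.tpowLaw A B d) S z

theorem τ_formula (S : Type u) [CommSemiring S] [Algebra A S] (n : ℕ) (s : Fin n → S)
    (b : Fin n → B) :
    (SymTen.TS A B d).val.toLinearMap.lTensor S ((τ A B d).law.toFun' S (∑ j, s j ⊗ₜ[A] b j)) =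
      ∑ c : Fin d → Fin n, (∏ i, s (c i)) ⊗ₜ[A] PiTensorProduct.tprod A (fun i => b (c i)) := by
  rw [val_τ, tpow_sum]

/-- coefficients of `τ` are images of coefficients over the free cover -/
theorem cf_τ (n : ℕ) (ν : Fin n →₀ ℕ) (z' : MvPolynomial (Fin n) A ⊗[A] MvPolynomial B A) :
    ((cf ν ((τ A B d).law.toFun' (MvPolynomial (Fin n) A)
      ((π A B).toLinearMap.lTensor (MvPolynomial (Fin n) A) z')) : SymTen.TS A B d) :
        ⨂[A] _ : Fin d, B) =
      SymTen.tmap A d (π A B) (cf ν ((SymTen.tpowLaw A (MvPolynomial B A) d).law.toFun'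
        (MvPolynomial (Fin n) A) z')) := by
  have h1 := cf_lTensor (A := A) (SymTen.TS A B d).val.toLinearMap ν
    ((τ A B d).law.toFun' (MvPolynomial (Fin n) A)
      ((π A B).toLinearMap.lTensor (MvPolynomial (Fin n) A) z'))
  rw [val_τ] at h1
  have h2 := cf_lTensor (A := A) (SymTen.tmap A d (π A B)).toLinearMap ν
    ((SymTen.tpowLaw A (MvPolynomial B A) d).law.toFun' (MvPolynomial (Fin n) A) z')
  rw [tmap_tpow] at h2
  exact h1.symm.trans h2

section main

variable (hS : Sur A B d) (hK : Ker A B d)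

include hS in
theorem TS_le_Cgen : SymTen.TS A B d ≤ Cgen (SymTen.tpowLaw A B d) := by
  intro t ht
  obtain ⟨x, hx, rfl⟩ := hS t ht
  exact tmap_mem_span hx

/-- the comparison map from `TSS` to the symmetric tensors -/
noncomputable def q : TSS A B d →ₗ[A] SymTen.TS A B d where
  toFun x := ⟨SymTen.tmap A d (π A B) x.1, tmap_mem_TS x.2⟩
  map_add' x y := Subtype.ext (map_add (SymTen.tmap A d (π A B)) x.1 y.1)
  map_smul' r x := Subtype.ext (map_smul (SymTen.tmap A d (π A B)) r x.1)

theorem q_coe (x : TSS A B d) :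
    ((q x : SymTen.TS A B d) : ⨂[A] _ : Fin d, B) = SymTen.tmap A d (π A B) x.1 := rfl

include hS in
theorem q_surj : Function.Surjective (q (A := A) (B := B) (d := d)) := by
  intro t
  obtain ⟨x, hx, hxt⟩ := hS t.1 t.2
  exact ⟨⟨x, hx⟩, Subtype.ext hxt⟩

include hS hK in
/-- existence of the classifying homomorphism -/
theorem exists_hom {C' : Type u} [CommRing C'] [Algebra A C'] (F : PolLaw.MulLaw A B C' d) :
    ∃ f : SymTen.TS A B d →ₐ[A] C', ∀ x : TSS A B d, f (q x) = gF F x.1 := by
  have hq : ∀ t, q (Function.surjInv (q_surj hS) t) = t := Function.surjInv_eq _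
  have key : ∀ x x' : TSS A B d, q x = q x' → gF F x.1 = gF F x'.1 := by
    intro x x' h
    have h0 : SymTen.tmap A d (π A B) (x.1 - x'.1) = 0 := by
      rw [map_sub, ← q_coe, ← q_coe, h, sub_self]
    have := hK C' F (x.1 - x'.1) (sub_mem x.2 x'.2) h0
    rw [map_sub, sub_eq_zero] at this
    exact this
  set f₀ : SymTen.TS A B d → C' := fun t => gF F (Function.surjInv (q_surj hS) t).1 with hf₀def
  have hf₀ : ∀ x : TSS A B d, f₀ (q x) = gF F x.1 := fun x => key _ _ (hq (q x))
  have hone : f₀ 1 = 1 := by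
    have h1 : (1 : SymTen.TS A B d) = q ⟨1, one_mem_TSS⟩ := by
      apply Subtype.ext
      rw [q_coe, map_one]
      rfl
    rw [h1, hf₀]
    exact gF_one F
  have hmul : ∀ t t', f₀ (t * t') = f₀ t * f₀ t' := by
    intro t t'
    obtain ⟨x, rfl⟩ := q_surj hS t
    obtain ⟨x', rfl⟩ := q_surj hS t'
    have h1 : q x * q x' = q ⟨x.1 * x'.1, mul_mem_TSS x.2 x'.2⟩ := by
      apply Subtype.ext
      rw [q_coe, map_mul]
      rfl
    rw [h1, hf₀, hf₀, hf₀]
    exact gF_mul F x.2 x'.2
  have hadd : ∀ t t', f₀ (t + t') = f₀ t + f₀ t' := by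
    intro t t'
    obtain ⟨x, rfl⟩ := q_surj hS t
    obtain ⟨x', rfl⟩ := q_surj hS t'
    rw [← map_add, hf₀, hf₀, hf₀]
    exact map_add (gF F) x.1 x'.1
  have hsmul : ∀ (r : A) t, f₀ (r • t) = r • f₀ t := by
    intro r t
    obtain ⟨x, rfl⟩ := q_surj hS t
    rw [← map_smul, hf₀, hf₀]
    exact map_smul (gF F) r x.1
  have hzero : f₀ 0 = 0 := by
    have := hsmul 0 0
    rw [zero_smul, zero_smul] at this
    exact this
  refine ⟨{ toFun := f₀, map_one' := hone, map_mul' := hmul, map_zero' := hzero,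
            map_add' := hadd, commutes' := ?_ }, fun x => hf₀ x⟩
  intro r
  show f₀ (algebraMap A (SymTen.TS A B d) r) = algebraMap A C' r
  rw [Algebra.algebraMap_eq_smul_one, hsmul, hone, ← Algebra.algebraMap_eq_smul_one]

include hS hK in
/-- **`TS^d(B)` with the tensor power law is the divided power algebra.** -/
theorem isGammaD_τ : PolLaw.IsGammaD (τ A B d) := by
  intro C' _ _ F
  obtain ⟨f, hf⟩ := exists_hom hS hK F
  have key : ∀ (f' : SymTen.TS A B d →ₐ[A] C'),
      (∀ x : TSS A B d, f' (q x) = gF F x.1) ↔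
        PolLaw.postcomp f'.toLinearMap (τ A B d).law = F.law := by
    intro f'
    constructor
    · intro hf'
      apply PolLawExt.ext_of_mv
      intro n
      funext z
      obtain ⟨z', rfl⟩ := LinearMap.lTensor_surjective (MvPolynomial (Fin n) A)
        (g := (π A B).toLinearMap) π_surj z
      show f'.toLinearMap.lTensor (MvPolynomial (Fin n) A)
        ((τ A B d).law.toFun' (MvPolynomial (Fin n) A) _) = _
      apply eq_of_cf_eq
      intro ν
      rw [cf_lTensor]
      have hx : cf ν ((SymTen.tpowLaw A (MvPolynomial B A) d).law.toFun'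
          (MvPolynomial (Fin n) A) z') ∈ TSS A B d :=
        Submodule.subset_span (cf_mem_GenSet _ n ν z')
      have h1 : cf ν ((τ A B d).law.toFun' (MvPolynomial (Fin n) A)
          ((π A B).toLinearMap.lTensor (MvPolynomial (Fin n) A) z')) = q ⟨_, hx⟩ :=
        Subtype.ext (cf_τ n ν z')
      rw [h1, AlgHom.toLinearMap_apply, hf']
      exact gF_ev F (MvPolynomial (Fin n) A) (MvPolynomial.lcoeff A ν) z'
    · intro hf' x
      obtain ⟨x, hx⟩ := x
      have hx0 : x ∈ Submodule.span A (GenSet (SymTen.tpowLaw A (MvPolynomial B A) d).law) := hx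
      revert hx
      induction hx0 using Submodule.span_induction with
      | mem x hx =>
        intro hx'
        obtain ⟨S, _, _, ℓ, z', rfl⟩ := hx
        show f' _ = gF F _
        rw [gF_ev]
        have h1 : (PolLaw.postcomp f'.toLinearMap (τ A B d).law).toFun' S
            ((π A B).toLinearMap.lTensor S z') =
            F.law.toFun' S ((π A B).toLinearMap.lTensor S z') := by rw [hf']
        rw [← h1]
        show _ = ev ℓ (f'.toLinearMap.lTensor S ((τ A B d).law.toFun' S _))
        rw [ev_lTensor, AlgHom.toLinearMap_apply]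
        congr 1
        apply Subtype.ext
        rw [q_coe]
        have h2 := ev_lTensor ℓ (SymTen.TS A B d).val.toLinearMap
          ((τ A B d).law.toFun' S ((π A B).toLinearMap.lTensor S z'))
        rw [val_τ] at h2
        have h3 := ev_lTensor ℓ (SymTen.tmap A d (π A B)).toLinearMap
          ((SymTen.tpowLaw A (MvPolynomial B A) d).law.toFun' S z')
        rw [tmap_tpow] at h3
        exact h3.symm.trans h2
      | zero =>
        intro h
        show f' (q (0 : TSS A B d)) = gF F 0
        rw [map_zero, map_zero, map_zero]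
      | add x y hx hy ihx ihy =>
        intro h
        have hx' : x ∈ TSS A B d := hx
        have hy' : y ∈ TSS A B d := hy
        show f' (q (⟨x, hx'⟩ + ⟨y, hy'⟩)) = gF F (x + y)
        rw [map_add, map_add, map_add, ihx hx', ihy hy']
      | smul r x hx ihx =>
        intro h
        have hx' : x ∈ TSS A B d := hx
        show f' (q (r • ⟨x, hx'⟩)) = gF F (r • x)
        rw [map_smul, map_smul, map_smul, ihx hx']
  refine ⟨f, (key f).1 hf, fun f' hf' => ?_⟩
  have h' := (key f').2 hf'
  apply AlgHom.ext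
  intro t
  obtain ⟨x, rfl⟩ := q_surj hS t
  rw [h', hf]

end main

end Groth.Agent.Helper4.ZCGamA
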