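import Groth.Agent.Helper4.ZCGamA
import Groth.Agent.Helper4.PolarTS
import Groth.Agent.Helper4.TensKer

/-!
# `TS^d(B)` as the divided power algebra when `d!` is invertible (helper4)
-/

set_option autoImplicit false
universe u
open scoped TensorProduct

namespace Groth.Agent.Helper4.ZCGamB

open Groth.Agent.Helper4.NormExpB Groth.Agent.Helper4.GammaSpan Groth.Agent.Helper4.ZCNormA
  Groth.Agent.Helper4.ZCPowA Groth.Agent.Helper4.PolarTS Groth.Agent.Helper4.ZCGamA
  Groth.Agent.Helper4.Polar Groth.Agent.Helper4.PolarComb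

variable {A : Type u} [CommRing A] {B : Type u} [CommRing B] [Algebra A B] {d : ℕ}

/-- the sum of the permutations of a tensor is its polarisation under the tensor power law -/
theorem sum_perm_eq_Pol {P : Type u} [CommRing P] [Algebra A P] (t : ⨂[A] _ : Fin d, P) :
    (∑ σ : Equiv.Perm (Fin d), SymTen.perm A P d σ t) = Pol d (SymTen.tpowLaw A P d).law t := by
  have h := sum_perm_eq (SymTen.tpowLaw A P d) (AlgHom.id A _) (by
    intro S _ _ n s b
    rw [← tpow_sum]
    simp) t
  simpa using h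

theorem Pol_mem_span {P : Type u} [CommRing P] [Algebra A P] (t : ⨂[A] _ : Fin d, P) :
    Pol d (SymTen.tpowLaw A P d).law t ∈
      Submodule.span A (GenSet (SymTen.tpowLaw A P d).law) := by
  induction t using PiTensorProduct.induction_on with
  | smul_tprod r β =>
    rw [map_smul, Pol_tprod]
    exact Submodule.smul_mem _ r (Submodule.subset_span (cf_mem_GenSet _ d (m₁ d) _))
  | add x y hx hy => rw [map_add]; exact add_mem hx hy

theorem tmap_perm {P : Type u} [CommRing P] [Algebra A P] (f : P →ₐ[A] B)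
    (σ : Equiv.Perm (Fin d)) (t : ⨂[A] _ : Fin d, P) :
    SymTen.tmap A d f (SymTen.perm A P d σ t) = SymTen.perm A B d σ (SymTen.tmap A d f t) := by
  rw [SymTen.perm_apply, SymTen.perm_apply, SymTen.tmap_reindex]

theorem sum_perm_of_mem {P : Type u} [CommRing P] [Algebra A P] {t : ⨂[A] _ : Fin d, P}
    (ht : t ∈ SymTen.TS A P d) :
    (∑ σ : Equiv.Perm (Fin d), SymTen.perm A P d σ t) = ((d.factorial : ℕ) : A) • t := by
  rw [Finset.sum_congr rfl (fun σ _ => (SymTen.perm_apply A P d σ t).trans (ht σ)),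
    Finset.sum_const, Finset.card_univ, Fintype.card_perm, Fintype.card_fin,
    Nat.cast_smul_eq_nsmul]

theorem tmap_surj (t : ⨂[A] _ : Fin d, B) :
    ∃ x : ⨂[A] _ : Fin d, MvPolynomial B A, SymTen.tmap A d (π A B) x = t := by
  obtain ⟨n, a, u, rfl⟩ := exists_rep_T t
  refine ⟨∑ k, a k • PiTensorProduct.tprod A (fun i => MvPolynomial.X (u k i)), ?_⟩
  rw [map_sum]
  refine Finset.sum_congr rfl fun k _ => ?_
  rw [map_smul, SymTen.tmap_tprod]
  simp [π]

theorem Sur_of_unit (h : IsUnit ((d.factorial : ℕ) : A)) : Sur A B d := by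
  intro t ht
  obtain ⟨x₀, hx₀⟩ := tmap_surj t
  obtain ⟨v, hv⟩ := h.exists_left_inv
  refine ⟨v • Pol d (SymTen.tpowLaw A (MvPolynomial B A) d).law x₀,
    Submodule.smul_mem _ v (Pol_mem_span x₀), ?_⟩
  rw [map_smul, ← sum_perm_eq_Pol, map_sum]
  simp_rw [tmap_perm, hx₀]
  rw [sum_perm_of_mem ht, smul_smul, hv, one_smul]

theorem gF_Pol_tprod {C' : Type u} [CommRing C'] [Algebra A C'] (F : PolLaw.MulLaw A B C' d)
    (u : Fin d → MvPolynomial B A) (j : Fin d) (hj : π A B (u j) = 0) :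
    gF F (Pol d (SymTen.tpowLaw A (MvPolynomial B A) d).law (PiTensorProduct.tprod A u)) = 0 := by
  rw [Pol_tprod]
  have h1 := gF_ev F (MvPolynomial (Fin d) A) (MvPolynomial.lcoeff A (m₁ d))
    (NormExpB.gen u)
  have h2 : cβ (SymTen.tpowLaw A (MvPolynomial B A) d).law u =
      ev (MvPolynomial.lcoeff A (m₁ d))
        ((SymTen.tpowLaw A (MvPolynomial B A) d).law.toFun' (MvPolynomial (Fin d) A)
          (NormExpB.gen u)) := rfl
  rw [h2, h1, π_gen]
  exact cf_eq_zero_of_kill F.law (fun l => π A B (u l)) j hj (m₁ d) (by simp)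

theorem Ker_of_unit (h : IsUnit ((d.factorial : ℕ) : A)) : Ker A B d := by
  intro C' _ _ F x hx hx0
  obtain ⟨v, hv⟩ := h.exists_left_inv
  have hsym : x ∈ SymTen.TS A (MvPolynomial B A) d := span_GenSet_le_TS hx
  have h1 : ((d.factorial : ℕ) : A) • x =
      Pol d (SymTen.tpowLaw A (MvPolynomial B A) d).law x := by
    rw [← sum_perm_of_mem hsym, sum_perm_eq_Pol]
  have h2 : gF F (Pol d (SymTen.tpowLaw A (MvPolynomial B A) d).law x) = 0 := by
    obtain ⟨n, a, u, hxu, hu⟩ := Groth.Agent.Helper4.TensKer.exists_rep (π A B) π_surj x hx0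
    rw [hxu, map_sum, map_sum]
    refine Finset.sum_eq_zero fun k _ => ?_
    obtain ⟨j, hj⟩ := hu k
    rw [map_smul, map_smul, gF_Pol_tprod F (u k) j hj, smul_zero]
  have h3 : gF F x = v • gF F (((d.factorial : ℕ) : A) • x) := by
    rw [map_smul, smul_smul, hv, one_smul]
  rw [h3, h1, h2, smul_zero]

end Groth.Agent.Helper4.ZCGamB
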