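import Groth.Agent.Helper4.ZCNormA

/-!
# Construction of the degree `d!` multiplicative law `T^d(B) → Γ^d(B)`, part B: base change of the
linear map `g` (helper4)
-/

set_option autoImplicit false
universe u
open scoped TensorProduct

namespace Groth.Agent.Helper4.ZCNormB

open Groth.Agent.Helper4.NormExpA Groth.Agent.Helper4.NormExpB Groth.Agent.Helper4.NormExpC
  Groth.Agent.Helper4.NormExpD Groth.Agent.Helper4.NormExpE Groth.Agent.Helper4.PolLaw1
  Groth.Agent.Helper4.GammaSpan Groth.Agent.Helper4.ZCNormA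

variable {A : Type u} [CommRing A] {B : Type u} [CommRing B] [Algebra A B]
  {Ct : Type u} [CommRing Ct] [Algebra A Ct] {d : ℕ}

local notation "TP" => (⨂[A] _ : Fin d, MvPolynomial B A)

variable (A B d) in
/-- the subalgebra spanned by the values of the tensor power law of the free cover -/
noncomputable abbrev CP : Subalgebra A TP := Cgen (SymTen.tpowLaw A (MvPolynomial B A) d)

theorem mem_CP_iff (t : TP) : t ∈ CP A B d ↔ t ∈ TSS A B d := Iff.rfl

variable (γ : PolLaw.MulLaw A B Ct d)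

/-- `g` restricted to the subalgebra is an algebra map -/
noncomputable def gAlg : CP A B d →ₐ[A] Ct :=
  AlgHom.ofLinearMap ((gF γ).comp (CP A B d).val.toLinearMap) (gF_one γ)
    (fun x y => gF_mul γ x.2 y.2)

theorem gAlg_apply (x : CP A B d) : gAlg γ x = gF γ (x : TP) := rfl

theorem gAlg_surj (hγ : PolLaw.IsGammaD γ) : Function.Surjective (gAlg γ) := by
  intro x
  obtain ⟨t, ht, rfl⟩ := gF_surj γ hγ x
  exact ⟨⟨t, ht⟩, rfl⟩

section S

variable (S : Type u) [CommSemiring S] [Algebra A S]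

variable (A B d) in
/-- base change of the inclusion -/
noncomputable def ιS : S ⊗[A] CP A B d →ₗ[A] S ⊗[A] TP := (CP A B d).val.toLinearMap.lTensor S

omit [CommRing B] [Algebra A B] in
theorem lT_eq {C₁ C₂ : Type u} [Semiring C₁] [Algebra A C₁] [Semiring C₂] [Algebra A C₂]
    (f : C₁ →ₐ[A] C₂) (y : S ⊗[A] C₁) :
    f.toLinearMap.lTensor S y = Algebra.TensorProduct.map (AlgHom.id S S) f y := by
  induction y using TensorProduct.induction_on with
  | zero => simp
  | tmul a b => rfl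
  | add a b ha hb => simp [ha, hb]

theorem ιS_eq (w : S ⊗[A] CP A B d) :
    ιS A B d S w = Algebra.TensorProduct.map (AlgHom.id S S) (CP A B d).val w :=
  lT_eq S _ w

theorem ιS_tmul (s : S) (x : CP A B d) : ιS A B d S (s ⊗ₜ[A] x) = s ⊗ₜ[A] (x : TP) := rfl

/-- base change of `g` -/
noncomputable def gS : S ⊗[A] TP →ₗ[A] S ⊗[A] Ct := (gF γ).lTensor S

theorem gS_tmul (s : S) (t : TP) : gS γ S (s ⊗ₜ[A] t) = s ⊗ₜ[A] gF γ t := rfl

theorem gS_ιS (w : S ⊗[A] CP A B d) :
    gS γ S (ιS A B d S w) = Algebra.TensorProduct.map (AlgHom.id S S) (gAlg γ) w := by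
  induction w using TensorProduct.induction_on with
  | zero => simp
  | tmul s x => rfl
  | add x y hx hy => rw [map_add, map_add, hx, hy, map_add]

theorem gS_smul (s : S) (x : S ⊗[A] TP) : gS γ S (s • x) = s • gS γ S x := by
  induction x using TensorProduct.induction_on with
  | zero => simp
  | tmul s' t => rw [TensorProduct.smul_tmul', gS_tmul, gS_tmul, TensorProduct.smul_tmul']
  | add x y hx hy => rw [smul_add, map_add, hx, hy, map_add, smul_add]

theorem perm_ιS (w : S ⊗[A] CP A B d) (σ : Equiv.Perm (Fin d)) :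
    (SymTen.perm A (MvPolynomial B A) d σ).toLinearMap.lTensor S (ιS A B d S w) = ιS A B d S w := by
  induction w using TensorProduct.induction_on with
  | zero => simp
  | tmul s x =>
    rw [ιS_tmul, LinearMap.lTensor_tmul, AlgHom.toLinearMap_apply, perm_TSS x.2]
  | add x y hx hy => rw [map_add, map_add, hx, hy]

theorem normLaw_ιS (w : S ⊗[A] CP A B d) :
    (normLaw A (MvPolynomial B A) d).toFun' S (ιS A B d S w) = ιS A B d S (w ^ d.factorial) := by
  rw [normLaw_of_invariant S _ (perm_ιS S w), ιS_eq, ιS_eq, map_pow]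

theorem exists_normLaw_eq (z : S ⊗[A] TP) :
    ∃ w : S ⊗[A] CP A B d, (normLaw A (MvPolynomial B A) d).toFun' S z = ιS A B d S w := by
  classical
  obtain ⟨n, s, u, rfl⟩ := exists_rep_ST z
  rw [normLaw_expansion]
  refine ⟨∑ ν ∈ Nu (Fin n) d, coefW (wtW s) ν ⊗ₜ[A] ⟨orb (val u) ν, orb_mem_span _ _⟩, ?_⟩
  rw [map_sum]
  rfl

theorem gS_surj (hγ : PolLaw.IsGammaD γ) (x' : S ⊗[A] Ct) :
    ∃ w : S ⊗[A] CP A B d, gS γ S (ιS A B d S w) = x' := by
  obtain ⟨w, rfl⟩ := LinearMap.lTensor_surjective S (g := (gAlg γ).toLinearMap) (gAlg_surj γ hγ) x'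
  refine ⟨w, ?_⟩
  rw [gS_ιS, ← lT_eq]

theorem Φ_gS (Φ : Ct →ₐ[A] (⨂[A] _ : Fin d, B))
    (hΦ : ∀ (S : Type u) [CommSemiring S] [Algebra A S] (z : S ⊗[A] B),
      Φ.toLinearMap.lTensor S (γ.law.toFun' S z) = (SymTen.tpowLaw A B d).law.toFun' S z)
    (w : S ⊗[A] CP A B d) :
    Φ.toLinearMap.lTensor S (gS γ S (ιS A B d S w)) =
      (SymTen.tmap A d (π A B)).toLinearMap.lTensor S (ιS A B d S w) := by
  induction w using TensorProduct.induction_on with
  | zero => simp
  | tmul s x =>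
    rw [ιS_tmul, gS_tmul, LinearMap.lTensor_tmul, LinearMap.lTensor_tmul, AlgHom.toLinearMap_apply,
      AlgHom.toLinearMap_apply, Φ_gF γ Φ hΦ x.2]
  | add x y hx hy => simp only [map_add, hx, hy]

end S

end Groth.Agent.Helper4.ZCNormB
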