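import Groth.Agent.Helper4.ZCNormB

/-!
# Construction of the degree `d!` multiplicative law `T^d(B) → Γ^d(B)`, part C: the law on the free
cover and its invariance (helper4)
-/

set_option autoImplicit false
universe u
open scoped TensorProduct

namespace Groth.Agent.Helper4.ZCNormC

open Groth.Agent.Helper4.NormExpA Groth.Agent.Helper4.NormExpB Groth.Agent.Helper4.NormExpC
  Groth.Agent.Helper4.NormExpD Groth.Agent.Helper4.NormExpE Groth.Agent.Helper4.PolLaw1
  Groth.Agent.Helper4.GammaSpan Groth.Agent.Helper4.ZCNormA Groth.Agent.Helper4.ZCNormB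

variable {A : Type u} [CommRing A] {B : Type u} [CommRing B] [Algebra A B]
  {Ct : Type u} [CommRing Ct] [Algebra A Ct] {d : ℕ}

local notation "TP" => (⨂[A] _ : Fin d, MvPolynomial B A)

variable (γ : PolLaw.MulLaw A B Ct d)

/-- the law on the free cover -/
noncomputable def G : TP →ₚₗ[A] Ct := PolLaw.postcomp (gF γ) (normLaw A (MvPolynomial B A) d)

section S

variable (S : Type u) [CommSemiring S] [Algebra A S]

theorem G_toFun' (z : S ⊗[A] TP) :
    (G γ).toFun' S z = gS γ S ((normLaw A (MvPolynomial B A) d).toFun' S z) := rfl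

theorem G_one : (G γ).toFun' S 1 = 1 := by
  have h1 : (1 : S ⊗[A] TP) = ιS A B d S 1 := by rw [ιS_eq, map_one]
  rw [G_toFun', normLaw_one, h1, gS_ιS, map_one]

theorem G_mul (x y : S ⊗[A] TP) :
    (G γ).toFun' S (x * y) = (G γ).toFun' S x * (G γ).toFun' S y := by
  obtain ⟨w, hw⟩ := exists_normLaw_eq S x
  obtain ⟨w', hw'⟩ := exists_normLaw_eq S y
  have h1 : ιS A B d S w * ιS A B d S w' = ιS A B d S (w * w') := by
    rw [ιS_eq, ιS_eq, ιS_eq, map_mul]
  rw [G_toFun', G_toFun', G_toFun', normLaw_mul, hw, hw', h1, gS_ιS, gS_ιS, gS_ιS, map_mul]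

theorem G_smul (s : S) (x : S ⊗[A] TP) :
    (G γ).toFun' S (s • x) = s ^ d.factorial • (G γ).toFun' S x := by
  rw [G_toFun', G_toFun', normLaw_smul, gS_smul]

theorem G_sum {K : Type} [Fintype K] [DecidableEq K] (s : K → S)
    (u : K → Fin d → MvPolynomial B A) :
    (G γ).toFun' S (∑ k, s k ⊗ₜ[A] PiTensorProduct.tprod A (u k)) =
      ∑ ν ∈ Nu K d, coefW (wtW s) ν ⊗ₜ[A] gF γ (orb (val u) ν) := by
  rw [G_toFun', normLaw_expansion, map_sum]
  rfl

theorem G_add_single (z : S ⊗[A] TP) (s' : S) (u' : Fin d → MvPolynomial B A)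
    (hu' : ∃ i, π A B (u' i) = 0) :
    (G γ).toFun' S (z + s' ⊗ₜ[A] PiTensorProduct.tprod A u') = (G γ).toFun' S z := by
  classical
  obtain ⟨n, s, u, rfl⟩ := exists_rep_ST z
  let s1 : Option (Fin n) → S := fun o => Option.elim o s' s
  let s0 : Option (Fin n) → S := fun o => Option.elim o 0 s
  let u1 : Option (Fin n) → Fin d → MvPolynomial B A := fun o => Option.elim o u' u
  have h1 : (∑ k, s k ⊗ₜ[A] PiTensorProduct.tprod A (u k)) + s' ⊗ₜ[A] PiTensorProduct.tprod A u' =
      ∑ o, s1 o ⊗ₜ[A] PiTensorProduct.tprod A (u1 o) := by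
    rw [Fintype.sum_option, add_comm]
    rfl
  have h0 : (∑ k, s k ⊗ₜ[A] PiTensorProduct.tprod A (u k)) =
      ∑ o, s0 o ⊗ₜ[A] PiTensorProduct.tprod A (u1 o) := by
    rw [Fintype.sum_option]
    have : s0 none ⊗ₜ[A] PiTensorProduct.tprod A (u1 none) = 0 := TensorProduct.zero_tmul _ _
    rw [this, zero_add]
    rfl
  rw [h1, G_sum]
  conv_rhs => rw [h0, G_sum]
  refine Finset.sum_congr rfl fun ν hν => ?_
  obtain ⟨w, rfl⟩ := exists_of_mem_Nu hν
  by_cases hl : ∃ l, cnt w l ≠ 0 ∧ π A B (val u1 l) = 0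
  · obtain ⟨l, hl1, hl2⟩ := hl
    rw [gF_orb_eq_zero γ _ _ l hl1 hl2, TensorProduct.tmul_zero, TensorProduct.tmul_zero]
  · congr 1
    rw [coefW_eq _ (wtW_act s1), coefW_eq _ (wtW_act s0)]
    refine cwW_congr _ _ _ fun f hf => ?_
    have hsome : ∀ σ, f σ ≠ none := by
      intro σ₀ h0'
      obtain ⟨i, hi⟩ := hu'
      have hmem : u1 (f σ₀) i ∈ RingHom.ker (π A B : MvPolynomial B A →+* B) := by
        rw [h0']
        exact hi
      obtain ⟨l, hl1, hl2⟩ := exists_letter' u1 (RingHom.ker (π A B : MvPolynomial B A →+* B))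
        f σ₀ i hmem
      exact hl ⟨l, by rwa [hf] at hl1, hl2⟩
    unfold wtW
    refine Finset.prod_congr rfl fun σ _ => ?_
    obtain ⟨k, hk⟩ := Option.ne_none_iff_exists'.1 (hsome σ)
    rw [hk]
    rfl

theorem G_add_sum (n : ℕ) (s' : Fin n → S) (u' : Fin n → Fin d → MvPolynomial B A)
    (hu' : ∀ k, ∃ i, π A B (u' k i) = 0) (z : S ⊗[A] TP) :
    (G γ).toFun' S (z + ∑ k, s' k ⊗ₜ[A] PiTensorProduct.tprod A (u' k)) = (G γ).toFun' S z := by
  induction n generalizing z with
  | zero => simp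
  | succ n ih =>
    rw [Fin.sum_univ_castSucc, ← add_assoc, G_add_single γ S _ _ _ (hu' _)]
    exact ih (fun k => s' k.castSucc) (fun k => u' k.castSucc) (fun k => hu' _) z

end S

theorem tmap_surj : Function.Surjective (SymTen.tmap A d (π A B)) := by
  intro t
  induction t using PiTensorProduct.induction_on with
  | smul_tprod r f =>
    refine ⟨r • PiTensorProduct.tprod A (fun i => MvPolynomial.X (f i)), ?_⟩
    rw [map_smul, SymTen.tmap_tprod]
    congr 2
    funext i
    simp [π]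
  | add x y hx hy =>
    obtain ⟨x', rfl⟩ := hx
    obtain ⟨y', rfl⟩ := hy
    exact ⟨x' + y', map_add _ _ _⟩

section ring

variable (S : Type u) [CommRing S] [Algebra A S]

theorem G_add_J (jt : S ⊗[A] LinearMap.ker (SymTen.tmap A d (π A B)).toLinearMap) (z : S ⊗[A] TP) :
    (G γ).toFun' S (z + (LinearMap.ker (SymTen.tmap A d (π A B)).toLinearMap).subtype.lTensor S jt) =
      (G γ).toFun' S z := by
  induction jt using TensorProduct.induction_on generalizing z with
  | zero => simp
  | tmul s j =>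
    obtain ⟨n, a, u, hj, hu⟩ := Groth.Agent.Helper4.TensKer.exists_rep (π A B) π_surj (j : TP)
      (LinearMap.mem_ker.1 j.2)
    rw [LinearMap.lTensor_tmul, Submodule.subtype_apply, hj, TensorProduct.tmul_sum]
    simp_rw [TensorProduct.tmul_smul, TensorProduct.smul_tmul']
    exact G_add_sum γ S n (fun k => a k • s) u hu z
  | add j j' hj hj' => rw [map_add, ← add_assoc, hj', hj]

theorem G_congr_ring (z z' : S ⊗[A] TP)
    (h : (SymTen.tmap A d (π A B)).toLinearMap.lTensor S z =
      (SymTen.tmap A d (π A B)).toLinearMap.lTensor S z') :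
    (G γ).toFun' S z = (G γ).toFun' S z' := by
  have hex := lTensor_exact S
    (LinearMap.exact_subtype_ker_map (SymTen.tmap A d (π A B)).toLinearMap)
    (tmap_surj (A := A) (B := B) (d := d))
  obtain ⟨jt, hjt⟩ := (hex (z' - z)).1 (by rw [map_sub, h, sub_self])
  have : z' = z + (LinearMap.ker (SymTen.tmap A d (π A B)).toLinearMap).subtype.lTensor S jt := by
    rw [hjt]; abel
  rw [this, G_add_J]

end ring

theorem G_congr (S : Type u) [CommSemiring S] [Algebra A S] (z z' : S ⊗[A] TP)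
    (h : (SymTen.tmap A d (π A B)).toLinearMap.lTensor S z =
      (SymTen.tmap A d (π A B)).toLinearMap.lTensor S z') :
    (G γ).toFun' S z = (G γ).toFun' S z' := by
  letI : CommRing S := (algebraMap A S).commSemiringToCommRing
  exact G_congr_ring γ S z z' h

end Groth.Agent.Helper4.ZCNormC
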