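import Groth.Agent.Helper4.ZCNormC

/-!
# Construction of the degree `d!` multiplicative law `T^d(B) → Γ^d(B)`, part D: the descended law
and its two composites (helper4)
-/

set_option autoImplicit false
universe u
open scoped TensorProduct

namespace Groth.Agent.Helper4.ZCNormD

open Groth.Agent.Helper4.NormExpA Groth.Agent.Helper4.NormExpB Groth.Agent.Helper4.NormExpC
  Groth.Agent.Helper4.NormExpD Groth.Agent.Helper4.NormExpE Groth.Agent.Helper4.PolLaw1
  Groth.Agent.Helper4.GammaSpan Groth.Agent.Helper4.ZCNormA Groth.Agent.Helper4.ZCNormB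
  Groth.Agent.Helper4.ZCNormC

variable {A : Type u} [CommRing A] {B : Type u} [CommRing B] [Algebra A B]
  {Ct : Type u} [CommRing Ct] [Algebra A Ct] {d : ℕ}

local notation "TP" => (⨂[A] _ : Fin d, MvPolynomial B A)
local notation "TB" => (⨂[A] _ : Fin d, B)

variable (γ : PolLaw.MulLaw A B Ct d)

theorem exists_F0 : ∃ F' : TB →ₚₗ[A] Ct, ∀ (S : Type u) [CommSemiring S] [Algebra A S]
    (z : S ⊗[A] TP),
    F'.toFun' S ((SymTen.tmap A d (π A B)).toLinearMap.lTensor S z) = (G γ).toFun' S z :=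
  Groth.Agent.Helper4.LawDescend.exists_descend (SymTen.tmap A d (π A B)).toLinearMap tmap_surj
    (G γ) (G_congr γ)

/-- the descended law -/
noncomputable def F0 : TB →ₚₗ[A] Ct := (exists_F0 γ).choose

section S

variable (S : Type u) [CommSemiring S] [Algebra A S]

/-- base change of the quotient map -/
noncomputable abbrev qS : S ⊗[A] TP →ₗ[A] S ⊗[A] TB :=
  (SymTen.tmap A d (π A B)).toLinearMap.lTensor S

theorem F0_q (z : S ⊗[A] TP) : (F0 γ).toFun' S (qS S z) = (G γ).toFun' S z :=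
  (exists_F0 γ).choose_spec S z

theorem qS_surj : Function.Surjective (qS (A := A) (B := B) (d := d) S) :=
  LinearMap.lTensor_surjective S tmap_surj

theorem qS_eq (z : S ⊗[A] TP) :
    qS S z = Algebra.TensorProduct.map (AlgHom.id S S) (SymTen.tmap A d (π A B)) z :=
  lT_eq S _ z

theorem F0_one : (F0 γ).toFun' S 1 = 1 := by
  have h : (1 : S ⊗[A] TB) = qS S 1 := by rw [qS_eq, map_one]
  rw [h, F0_q, G_one]

theorem F0_mul (x y : S ⊗[A] TB) :
    (F0 γ).toFun' S (x * y) = (F0 γ).toFun' S x * (F0 γ).toFun' S y := by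
  obtain ⟨z, rfl⟩ := qS_surj S x
  obtain ⟨z', rfl⟩ := qS_surj S y
  have h : qS S z * qS S z' = qS S (z * z') := by rw [qS_eq, qS_eq, qS_eq, map_mul]
  rw [h, F0_q, F0_q, F0_q, G_mul]

theorem F0_smul (s : S) (x : S ⊗[A] TB) :
    (F0 γ).toFun' S (s • x) = s ^ d.factorial • (F0 γ).toFun' S x := by
  obtain ⟨z, rfl⟩ := qS_surj S x
  have h : s • qS S z = qS S (s • z) := by rw [qS_eq, qS_eq, map_smul]
  rw [h, F0_q, F0_q, G_smul]

end S

/-- the multiplicative law of degree `d!` from the tensor power to `Γ^d` -/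
noncomputable def F : PolLaw.MulLaw A TB Ct d.factorial where
  law := F0 γ
  homog S _ _ s x := F0_smul γ S s x
  mult S _ _ := ⟨F0_one γ S, F0_mul γ S⟩

theorem F_law : (F γ).law = F0 γ := rfl

section composites

variable (S : Type u) [CommSemiring S] [Algebra A S]

/-- (I) the comparison map after the law is the norm law of `B` -/
theorem Φ_F (Φ : Ct →ₐ[A] TB)
    (hΦ : ∀ (S : Type u) [CommSemiring S] [Algebra A S] (z : S ⊗[A] B),
      Φ.toLinearMap.lTensor S (γ.law.toFun' S z) = (SymTen.tpowLaw A B d).law.toFun' S z)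
    (x : S ⊗[A] TB) :
    Φ.toLinearMap.lTensor S ((F γ).law.toFun' S x) = (normLaw A B d).toFun' S x := by
  obtain ⟨z, rfl⟩ := qS_surj S x
  obtain ⟨w, hw⟩ := exists_normLaw_eq S z
  rw [F_law, F0_q, G_toFun', hw, Φ_gS γ S Φ hΦ w, ← hw]
  exact tmap_normLaw S (π A B) z

/-- (II) the law after the comparison map is the `d!`-th power -/
theorem F_Φ (Φ : Ct →ₐ[A] TB)
    (hΦ : ∀ (S : Type u) [CommSemiring S] [Algebra A S] (z : S ⊗[A] B),
      Φ.toLinearMap.lTensor S (γ.law.toFun' S z) = (SymTen.tpowLaw A B d).law.toFun' S z)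
    (hγ : PolLaw.IsGammaD γ) (x' : S ⊗[A] Ct) :
    (F γ).law.toFun' S (Φ.toLinearMap.lTensor S x') = x' ^ d.factorial := by
  obtain ⟨w, rfl⟩ := gS_surj γ S hγ x'
  rw [Φ_gS γ S Φ hΦ w, F_law]
  have h := F0_q γ S (ιS A B d S w)
  rw [h, G_toFun', normLaw_ιS, gS_ιS, gS_ιS, map_pow]

end composites

end Groth.Agent.Helper4.ZCNormD
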