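import Mathlib

/-!
# `A_f` is Jacobson for `f` in the Jacobson radical of a Noetherian ring
-/

set_option autoImplicit false

namespace Groth.Agent.Helper4.ZariskiJacobson

/-- In a Noetherian domain in which every nonzero prime contains a fixed nonzero element,
every nonzero prime is maximal. -/
theorem kl {R : Type*} [CommRing R] [IsDomain R] [IsNoetherianRing R] (h : R) (hh : h ≠ 0)
    (hall : ∀ q : Ideal R, q.IsPrime → q ≠ ⊥ → h ∈ q) :
    ∀ q : Ideal R, q.IsPrime → q ≠ ⊥ → q.IsMaximal := by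
  classical
  intro q hq hq0
  by_contra hqmax
  obtain ⟨m, hm, hqm⟩ := Ideal.exists_le_maximal q hq.ne_top
  have hqm' : q < m := lt_of_le_of_ne hqm (fun e => hqmax (e ▸ hm))
  haveI := hm.isPrime
  haveI := hq
  have hSfin : ((Ideal.span {h}).minimalPrimes).Finite :=
    Ideal.finite_minimalPrimes_of_isNoetherianRing R _
  have hS1 : ∀ p ∈ (Ideal.span {h}).minimalPrimes, p.height ≤ 1 := fun p hp =>
    Ideal.height_le_one_of_isPrincipal_of_mem_minimalPrimes _ p hp
  have hmS : ¬ ((m : Set R) ⊆ ⋃ p ∈ (Ideal.span {h}).minimalPrimes, (p : Set R)) := by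
    intro hsub
    have hsub' : (m : Set R) ⊆ ⋃ p ∈ (↑hSfin.toFinset : Set (Ideal R)), ((id p : Ideal R) : Set R) := by
      intro x hx
      obtain ⟨p, hp, hxp⟩ := Set.mem_iUnion₂.mp (hsub hx)
      exact Set.mem_iUnion₂.mpr ⟨p, by simpa using hp, hxp⟩
    obtain ⟨p, hp, hmp⟩ := (Ideal.subset_union_prime (s := hSfin.toFinset) (f := id) ⊥ ⊥
      (fun p hp _ _ => (hSfin.mem_toFinset.mp hp).1.1)).mp hsub'
    have hpS := hSfin.mem_toFinset.mp hp
    have h1 : (⊥ : Ideal R).height + 1 ≤ q.height :=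
      Ideal.height_add_one_le_of_lt_of_isPrime (bot_lt_iff_ne_bot.mpr hq0)
    have h2 : q.height + 1 ≤ m.height := Ideal.height_add_one_le_of_lt_of_isPrime hqm'
    have h3 : m.height ≤ p.height := Ideal.height_mono hmp
    have h4 := hS1 p hpS
    have h5 : (2 : ℕ∞) ≤ 1 := by
      calc (2 : ℕ∞) = 0 + 1 + 1 := by norm_num
        _ ≤ (⊥ : Ideal R).height + 1 + 1 := by gcongr; exact bot_le
        _ ≤ q.height + 1 := by gcongr
        _ ≤ m.height := h2
        _ ≤ p.height := h3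
        _ ≤ 1 := h4
    norm_num at h5
  obtain ⟨x, hxm, hxS⟩ := Set.not_subset.mp hmS
  have hxS' : ∀ p ∈ (Ideal.span {h}).minimalPrimes, x ∉ p := fun p hp hxp =>
    hxS (Set.mem_biUnion hp hxp)
  obtain ⟨p₀, hp₀S, hp₀q⟩ := Ideal.exists_minimalPrimes_le
    (show Ideal.span {h} ≤ q from (Ideal.span_singleton_le_iff_mem _).mpr (hall q hq hq0))
  have hx0 : x ≠ 0 := fun e => hxS' p₀ hp₀S (e ▸ p₀.zero_mem)
  obtain ⟨q', hq'min, hq'm⟩ := Ideal.exists_minimalPrimes_le
    (show Ideal.span {x} ≤ m from (Ideal.span_singleton_le_iff_mem _).mpr hxm)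
  haveI hq'p : q'.IsPrime := hq'min.1.1
  have hxq' : x ∈ q' := hq'min.1.2 (Ideal.subset_span rfl)
  have hq'0 : q' ≠ ⊥ := by
    intro e
    rw [e, Ideal.mem_bot] at hxq'
    exact hx0 hxq'
  have hhq' : h ∈ q' := hall q' hq'p hq'0
  obtain ⟨p₁, hp₁S, hp₁q'⟩ := Ideal.exists_minimalPrimes_le
    (show Ideal.span {h} ≤ q' from (Ideal.span_singleton_le_iff_mem _).mpr hhq')
  have hq'1 : q'.height ≤ 1 :=
    Ideal.height_le_one_of_isPrincipal_of_mem_minimalPrimes _ q' hq'min
  haveI hp₁p : p₁.IsPrime := hp₁S.1.1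
  have hp₁0 : p₁ ≠ ⊥ := by
    intro e
    have : h ∈ p₁ := hp₁S.1.2 (Ideal.subset_span rfl)
    rw [e, Ideal.mem_bot] at this
    exact hh this
  have hpq : p₁ = q' := by
    refine eq_of_le_of_not_lt hp₁q' (fun hlt => ?_)
    have h1 : (⊥ : Ideal R).height + 1 ≤ p₁.height :=
      Ideal.height_add_one_le_of_lt_of_isPrime (bot_lt_iff_ne_bot.mpr hp₁0)
    have h2 : p₁.height + 1 ≤ q'.height := Ideal.height_add_one_le_of_lt_of_isPrime hlt
    have h5 : (2 : ℕ∞) ≤ 1 := by
      calc (2 : ℕ∞) = 0 + 1 + 1 := by norm_num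
        _ ≤ (⊥ : Ideal R).height + 1 + 1 := by gcongr; exact bot_le
        _ ≤ p₁.height + 1 := by gcongr
        _ ≤ q'.height := h2
        _ ≤ 1 := hq'1
    norm_num at h5
  exact hxS' p₁ hp₁S (hpq ▸ hxq')

theorem exists_max_prime {A : Type*} [CommRing A] [IsNoetherianRing A] (f g : A) (P : Ideal A)
    [hP : P.IsPrime] (hf : f ∉ P) (hg : g ∉ P) (hfJ : f ∈ (⊥ : Ideal A).jacobson) :
    ∃ Q : Ideal A, Q.IsPrime ∧ P ≤ Q ∧ f ∉ Q ∧ g ∉ Q ∧
      ∀ Q' : Ideal A, Q'.IsPrime → Q < Q' → f ∈ Q' := by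
  have hne : ({Q : Ideal A | Q.IsPrime ∧ P ≤ Q ∧ f * g ∉ Q} : Set (Ideal A)).Nonempty :=
    ⟨P, hP, le_rfl, fun h => (hP.mem_or_mem h).elim hf hg⟩
  obtain ⟨Q, ⟨hQ, hPQ, hfgQ⟩, hQmax⟩ :=
    (set_has_maximal_iff_noetherian (R := A) (M := A)).mpr inferInstance _ hne
  have hfQ : f ∉ Q := fun h => hfgQ (Ideal.mul_mem_right g Q h)
  have hgQ : g ∉ Q := fun h => hfgQ (Ideal.mul_mem_left Q f h)
  refine ⟨Q, hQ, hPQ, hfQ, hgQ, ?_⟩
  have hstep : ∀ Q' : Ideal A, Q'.IsPrime → Q < Q' → f * g ∈ Q' := by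
    intro Q' hQ' hlt
    by_contra hcon
    exact hQmax Q' ⟨hQ', le_trans hPQ hlt.le, hcon⟩ hlt
  haveI := hQ
  have hsurj : Function.Surjective (Ideal.Quotient.mk Q) := Ideal.Quotient.mk_surjective
  have hh : (Ideal.Quotient.mk Q (f * g)) ≠ 0 := by
    rw [Ne, Ideal.Quotient.eq_zero_iff_mem]
    exact hfgQ
  have hall : ∀ q : Ideal (A ⧸ Q), q.IsPrime → q ≠ ⊥ → Ideal.Quotient.mk Q (f * g) ∈ q := by
    intro q hq hq0
    haveI := hq
    have hle : Q ≤ q.comap (Ideal.Quotient.mk Q) := by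
      intro a ha
      rw [Ideal.mem_comap, Ideal.Quotient.eq_zero_iff_mem.mpr ha]
      exact q.zero_mem
    have hne' : Q ≠ q.comap (Ideal.Quotient.mk Q) := by
      intro e
      apply hq0
      rw [← Ideal.map_comap_of_surjective _ hsurj q, ← e, Ideal.map_quotient_self]
    exact hstep _ (Ideal.comap_isPrime _ q) (lt_of_le_of_ne hle hne')
  have hkl := kl (Ideal.Quotient.mk Q (f * g)) hh hall
  intro Q' hQ' hlt
  haveI := hQ'
  have hker : RingHom.ker (Ideal.Quotient.mk Q) ≤ Q' := by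
    rw [Ideal.mk_ker]
    exact hlt.le
  have hqprime : (Q'.map (Ideal.Quotient.mk Q)).IsPrime :=
    Ideal.map_isPrime_of_surjective hsurj hker
  have hcm : (Q'.map (Ideal.Quotient.mk Q)).comap (Ideal.Quotient.mk Q) = Q' := by
    rw [Ideal.comap_map_of_surjective _ hsurj, ← RingHom.ker_eq_comap_bot, Ideal.mk_ker]
    exact sup_eq_left.mpr hlt.le
  have hq0 : Q'.map (Ideal.Quotient.mk Q) ≠ ⊥ := by
    intro e
    rw [e, ← RingHom.ker_eq_comap_bot, Ideal.mk_ker] at hcm
    exact hlt.ne hcm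
  haveI hqmax := hkl _ hqprime hq0
  have hQ'max : Q'.IsMaximal := by
    rw [← hcm]
    exact Ideal.comap_isMaximal_of_surjective _ hsurj
  exact (Ideal.mem_sInf.mp hfJ) ⟨bot_le, hQ'max⟩

theorem isJacobsonRing_away {A : Type*} [CommRing A] [IsNoetherianRing A] (f : A)
    (hfJ : f ∈ (⊥ : Ideal A).jacobson) : IsJacobsonRing (Localization.Away f) := by
  rw [isJacobsonRing_iff_prime_eq]
  intro P' hP'
  haveI := hP'
  refine le_antisymm ?_ Ideal.le_jacobson
  intro x' hx'
  by_contra hxP'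
  obtain ⟨g, s, rfl⟩ := IsLocalization.exists_mk'_eq (Submonoid.powers f) x'
  have hfunit : IsUnit (algebraMap A (Localization.Away f) f) :=
    IsLocalization.map_units _ (⟨f, Submonoid.mem_powers f⟩ : Submonoid.powers f)
  have hfP : f ∉ P'.comap (algebraMap A (Localization.Away f)) := by
    intro h
    exact hP'.ne_top (Ideal.eq_top_of_isUnit_mem _ h hfunit)
  have hgP : g ∉ P'.comap (algebraMap A (Localization.Away f)) := by
    intro h
    exact hxP' (IsLocalization.mk'_mem_iff.mpr h)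
  obtain ⟨Q, hQ, hPQ, hfQ, hgQ, hmax⟩ :=
    exists_max_prime f g (P'.comap (algebraMap A (Localization.Away f))) hfP hgP hfJ
  have hdisj : Disjoint (Submonoid.powers f : Set A) (Q : Set A) := by
    rw [Set.disjoint_left]
    rintro _ ⟨n, rfl⟩ hn
    exact hfQ (hQ.mem_of_pow_mem n hn)
  haveI hQ'prime : (Q.map (algebraMap A (Localization.Away f))).IsPrime :=
    IsLocalization.isPrime_of_isPrime_disjoint (Submonoid.powers f) _ Q hQ hdisj
  have hcomap : (Q.map (algebraMap A (Localization.Away f))).comap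
      (algebraMap A (Localization.Away f)) = Q :=
    IsLocalization.under_map_of_isPrime_disjoint (Submonoid.powers f) _ hQ hdisj
  have hQ'max : (Q.map (algebraMap A (Localization.Away f))).IsMaximal := by
    obtain ⟨M', hM', hQM⟩ := Ideal.exists_le_maximal _ hQ'prime.ne_top
    haveI := hM'.isPrime
    have hle : Q ≤ M'.comap (algebraMap A (Localization.Away f)) := by
      rw [← hcomap]
      exact Ideal.comap_mono hQM
    by_cases hlt : Q < M'.comap (algebraMap A (Localization.Away f))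
    · exfalso
      have := hmax _ (Ideal.comap_isPrime _ M') hlt
      exact hM'.ne_top (Ideal.eq_top_of_isUnit_mem _ this hfunit)
    · have heq : M'.comap (algebraMap A (Localization.Away f)) = Q :=
        (eq_of_le_of_not_lt hle hlt).symm
      have hmu := IsLocalization.map_under (Submonoid.powers f) (Localization.Away f) M'
      rw [Ideal.under_def, heq] at hmu
      rw [hmu]
      exact hM'
  have hP'Q' : P' ≤ Q.map (algebraMap A (Localization.Away f)) := by
    have hmu := IsLocalization.map_under (Submonoid.powers f) (Localization.Away f) P'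
    rw [Ideal.under_def] at hmu
    rw [← hmu]
    exact Ideal.map_mono hPQ
  have hmem : IsLocalization.mk' (Localization.Away f) g s ∈
      Q.map (algebraMap A (Localization.Away f)) :=
    (Ideal.mem_sInf.mp hx') ⟨hP'Q', hQ'max⟩
  rw [IsLocalization.mk'_mem_iff] at hmem
  have : g ∈ Q := by
    rw [← hcomap]
    exact hmem
  exact hgQ this

end Groth.Agent.Helper4.ZariskiJacobson
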